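import Cfsg.Agent.KFacts.RgdNodes
import Cfsg.Agent.KFacts.RgdChevCoord
import Cfsg.Agent.Nodes.RGDFoldSL
set_option linter.all false

/-!
# Coordinates of the simple root groups of a folded group

* `coroot_mem` : `T ∩ ⟨X_i, X_{-i}⟩ = {Φ (hS d)}` (abstract);
* `coord` : the simple root groups of a folded group are coordinatised by `Fx φ k` (`Coord`), torus scalars `ch`.
-/

set_option autoImplicit false
set_option linter.unusedSectionVars false
set_option maxHeartbeats 400000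

namespace Cfsg.Agent.KFacts.TwESix.NodeCoord

open CoxeterSystem Cfsg.Agent.ChevalleyStructure.CoxeterGeom Cfsg.Agent.Tits.Roots Cfsg.Agent.Tits.Core
  Cfsg.Agent.Tits.Exchange Cfsg.Agent.Nodes.Reps Cfsg.Agent.Nodes.BNOf Cfsg.Agent.Nodes.StabComb
  Cfsg.Agent.Nodes.Bruhat Cfsg.Agent.Nodes.OppDec Cfsg.Agent.Nodes.RGDTwGen Cfsg.Agent.Nodes.RGDChev Cfsg.Agent.Nodes.RGDFold
  Cfsg.Agent.Nodes.RGDFoldSL
open Cfsg.Agent.KFacts.RgdOpp Cfsg.Agent.KFacts.RgdAut Cfsg.Agent.KFacts.RgdDiag Cfsg.Agent.KFacts.RgdRigid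
  Cfsg.Agent.KFacts.RgdField Cfsg.Agent.KFacts.RgdTau Cfsg.Agent.KFacts.RgdNodes
open Cfsg.Agent.KFacts.RgdChevCoord (closure_sq)
open Cfsg.Lie Cfsg.Agent.ChevalleyStructure Cfsg.Agent.ChevalleyStructure.Elts
  Cfsg.Agent.ChevalleyStructure.TwistedU Cfsg.Agent.ChevalleyStructure.TwistedFix
  Cfsg.Agent.ChevalleyStructure.TwistedFixOrbit
open Cfsg.Agent.ChevalleyStructure.SL2Hom (up lo)

universe u

/-! ### `SL₂` -/

section SL

variable {F : Type*} [Field F]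

theorem eq_of_zero {A : Matrix.SpecialLinearGroup (Fin 2) F} (hA : A.1 1 0 = 0) :
    A.1 0 0 ≠ 0 ∧ A = hS (A.1 0 0) * up (A.1 0 1 / A.1 0 0) := by
  have hd := A.2
  rw [Matrix.det_fin_two, hA, mul_zero, sub_zero] at hd
  have h0 : A.1 0 0 ≠ 0 := left_ne_zero_of_mul_eq_one hd
  have h1 : A.1 1 1 = (A.1 0 0)⁻¹ := eq_inv_of_mul_eq_one_right hd
  refine ⟨h0, ?_⟩
  apply Subtype.ext
  rw [Matrix.SpecialLinearGroup.coe_mul, coe_hS h0]
  show A.1 = !![A.1 0 0, 0; 0, (A.1 0 0)⁻¹] * !![1, A.1 0 1 / A.1 0 0; 0, 1]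
  ext i j
  fin_cases i <;> fin_cases j
  · simp
  · simp
    field_simp
  · simp [hA]
  · simp [h1]

theorem eq_of_ne_zero {A : Matrix.SpecialLinearGroup (Fin 2) F} (hA : A.1 1 0 ≠ 0) :
    A = up (A.1 0 0 / A.1 1 0) * (hS (-(A.1 1 0)⁻¹) * wS 1) * up (A.1 1 1 / A.1 1 0) := by
  have hd := A.2
  rw [Matrix.det_fin_two] at hd
  apply Subtype.ext
  rw [Matrix.SpecialLinearGroup.coe_mul, Matrix.SpecialLinearGroup.coe_mul, Matrix.SpecialLinearGroup.coe_mul,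
    coe_hS (neg_ne_zero.2 (inv_ne_zero hA)), coe_wS one_ne_zero]
  show A.1 = !![1, A.1 0 0 / A.1 1 0; 0, 1] * (!![-(A.1 1 0)⁻¹, 0; 0, (-(A.1 1 0)⁻¹)⁻¹] * !![0, 1; -(1 : F)⁻¹, 0]) *
    !![1, A.1 1 1 / A.1 1 0; 0, 1]
  ext i j
  fin_cases i <;> fin_cases j
  · simp
    field_simp
  · simp
    field_simp
    linear_combination (-1 : F) * hd
  · simp
  · simp
    field_simp

theorem hS_mul {a b : F} (ha : a ≠ 0) (hb : b ≠ 0) : (hS (a * b) : Matrix.SpecialLinearGroup (Fin 2) F) = hS a * hS b := by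
  apply Subtype.ext
  rw [Matrix.SpecialLinearGroup.coe_mul, coe_hS ha, coe_hS hb, coe_hS (mul_ne_zero ha hb)]
  ext i j
  fin_cases i <;> fin_cases j
  · simp
  · simp
  · simp
  · simp [mul_comm]

theorem hS_up {d : F} (hd : d ≠ 0) (a : F) :
    (hS d * up a * (hS d)⁻¹ : Matrix.SpecialLinearGroup (Fin 2) F) = up (d ^ 2 * a) := by
  rw [mul_inv_eq_iff_eq_mul]
  apply Subtype.ext
  rw [Matrix.SpecialLinearGroup.coe_mul, Matrix.SpecialLinearGroup.coe_mul, coe_hS hd]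
  show !![d, 0; 0, d⁻¹] * !![1, a; 0, 1] = !![1, d ^ 2 * a; 0, 1] * !![d, 0; 0, d⁻¹]
  ext i j
  fin_cases i <;> fin_cases j
  · simp
  · simp
    field_simp
  · simp
  · simp

end SL

/-! ### the coroot groups -/

section Coroot

variable {I W Y : Type*} [Fintype I] [DecidableEq I] [Group W] [Group Y] {M : CoxeterMatrix I}
  {cs : CoxeterSystem M W} {A : I → I → ℤ} {h : IsCartan M A} {p : ℕ} {T : Subgroup Y} {n : I → Y}
  {X : (I → ℤ) → Subgroup Y} {F : Type*} [Field F] {Φ : Matrix.SpecialLinearGroup (Fin 2) F →* Y}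

/-- `T ∩ ⟨X_i, X_{-i}⟩` consists of the elements `Φ (hS d)`. -/
theorem coroot_mem [Finite W] (R : RGD cs h p T n X) {i : I} (hX : ∀ g, g ∈ X (sr i) ↔ ∃ a, g = Φ (up a))
    (hw : Φ (wS 1) = n i) (hT : ∀ d, d ≠ 0 → Φ (hS d) ∈ T) {t : Y} (ht : t ∈ T)
    (ht' : t ∈ X (sr i) ⊔ X (-sr i)) : ∃ d, d ≠ 0 ∧ t = Φ (hS d) := by
  have hup : ∀ a, Φ (up a) ∈ X (sr i) := fun a => (hX _).2 ⟨a, rfl⟩
  have hXB : ∀ a, Φ (up a) ∈ RGD.B cs h T X := fun a => RGD.X_le_B (isRoot_sr cs h i) (sr_nonneg i) (hup a)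
  have h1 : X (sr i) ⊔ X (-sr i) ≤ Φ.range := by
    refine sup_le (fun y hy => ?_) (fun y hy => ?_)
    · obtain ⟨a, rfl⟩ := (hX y).1 hy
      exact ⟨_, rfl⟩
    · have h2 : (n i)⁻¹ * y * n i ∈ X (sr i) := by
        have h3 := R.conj i (sr i) (isRoot_sr cs h i)
        rw [rep_simple_sr] at h3
        rw [← h3, mem_cj] at hy
        exact hy
      obtain ⟨a, ha⟩ := (hX _).1 h2
      refine ⟨wS 1 * up a * (wS 1)⁻¹, ?_⟩
      rw [map_mul, map_mul, map_inv, hw, ← ha]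
      group
  obtain ⟨A', hA'⟩ := h1 ht'
  by_cases h0 : A'.1 1 0 = 0
  · obtain ⟨ha, e⟩ := eq_of_zero h0
    refine ⟨A'.1 0 0, ha, ?_⟩
    have e2 : t = Φ (hS (A'.1 0 0)) * Φ (up (A'.1 0 1 / A'.1 0 0)) := by
      rw [← map_mul, ← e, hA']
    have h3 : Φ (up (A'.1 0 1 / A'.1 0 0)) ∈ T := by
      have h4 : Φ (up (A'.1 0 1 / A'.1 0 0)) = (Φ (hS (A'.1 0 0)))⁻¹ * t := by rw [e2]; group
      rw [h4]
      exact mul_mem (inv_mem (hT _ ha)) ht
    have h5 : Φ (up (A'.1 0 1 / A'.1 0 0)) = 1 := by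
      have h6 := X_inf_T R (isRoot_sr cs h i)
      rw [Subgroup.eq_bot_iff_forall] at h6
      exact h6 _ ⟨hup _, h3⟩
    rw [e2, h5, mul_one]
  · exfalso
    have e := eq_of_ne_zero h0
    have e2 : t = Φ (up (A'.1 0 0 / A'.1 1 0)) * (Φ (hS (-(A'.1 1 0)⁻¹)) * n i) * Φ (up (A'.1 1 1 / A'.1 1 0)) := by
      rw [← hw, ← map_mul, ← map_mul, ← map_mul, ← e, hA']
    have h3 : n i ∈ RGD.B cs h T X := by
      have h4 : n i = (Φ (hS (-(A'.1 1 0)⁻¹)))⁻¹ * ((Φ (up (A'.1 0 0 / A'.1 1 0)))⁻¹ * t *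
          (Φ (up (A'.1 1 1 / A'.1 1 0)))⁻¹) := by
        rw [e2]; group
      rw [h4]
      exact mul_mem (inv_mem (RGD.T_le_B (hT _ (neg_ne_zero.2 (inv_ne_zero h0)))))
        (mul_mem (mul_mem (inv_mem (hXB _)) (RGD.T_le_B ht)) (inv_mem (hXB _)))
    exact simple_ne_one i (R.eq_one_of_mem_B (rp_simple cs R.nsys i) h3)

/-- A frame automorphism fixing the node `i` maps `Φ (hS d)` to some `Φ (hS d')`. -/
theorem exists_hS [Finite W] (R : RGD cs h p T n X) {i : I} (hX : ∀ g, g ∈ X (sr i) ↔ ∃ a, g = Φ (up a))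
    (hw : Φ (wS 1) = n i) (hT : ∀ d, d ≠ 0 → Φ (hS d) ∈ T) {β : MulAut Y} (D : Diag T X β 1) {d : F} (hd : d ≠ 0) :
    ∃ d', d' ≠ 0 ∧ β (Φ (hS d)) = Φ (hS d') := by
  apply coroot_mem R hX hw hT
  · exact (D.tor _).2 (hT d hd)
  · have hup : ∀ a, Φ (up a) ∈ X (sr i) := fun a => (hX _).2 ⟨a, rfl⟩
    have hlo : ∀ a, Φ (lo a) ∈ X (-sr i) := by
      intro a
      have h3 := R.conj i (sr i) (isRoot_sr cs h i)
      rw [rep_simple_sr] at h3
      rw [← h3, mem_cj, lo_eq, map_mul, map_mul, map_inv, hw]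
      have h4 : (n i)⁻¹ * (n i * Φ (up (-a)) * (n i)⁻¹) * n i = Φ (up (-a)) := by group
      rw [h4]
      exact hup _
    have h1 : ∀ A' : Matrix.SpecialLinearGroup (Fin 2) F, A' ∈ Subgroup.closure (Set.range (up (F := F)) ∪
        Set.range (lo (F := F))) → β (Φ A') ∈ X (sr i) ⊔ X (-sr i) := by
      intro A' hA'
      have h2 : Subgroup.closure (Set.range (up (F := F)) ∪ Set.range (lo (F := F))) ≤
          (X (sr i) ⊔ X (-sr i)).comap (β.toMonoidHom.comp Φ) := by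
        rw [Subgroup.closure_le]
        rintro _ (⟨a, rfl⟩ | ⟨a, rfl⟩)
        · exact Subgroup.mem_sup_left ((D.pos i _).2 (hup a))
        · exact Subgroup.mem_sup_right ((D.neg i _).2 (hlo a))
      exact h2 hA'
    exact h1 _ (SL2Hom.mem_closure_SL2 _)

end Coroot

/-! ### folded groups -/

section Fold

variable {D : ChevalleyDatum} {l : ℕ} {M' : CoxeterMatrix (Fin l)} {hp : IsType D l M'} {K : Type u} [Field K] {m : ℕ}
  {J : Fin m → List (Fin l)} {L : List (List ℕ)} {σ : GL D.Idx K →* GL D.Idx K} {ρ ρ' : ℕ → ℕ}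
  {f : ℕ → K → K} {G : Subgroup (GL D.Idx K)} {i : Fin m} {r : ℕ} {o : List ℕ} {φ : K →+* K}

theorem conj_lprod {Γ : Type*} [Group Γ] {x : ℕ → K → Γ} {t : Γ} {cc : ℕ → K} {o : List ℕ}
    (h : ∀ s ∈ o, ∀ b, t * x s b * t⁻¹ = x s (cc s * b)) (c : ℕ → K) :
    t * lprod x o c * t⁻¹ = lprod x o fun s => cc s * c s := by
  induction o with
  | nil => rw [lprod_nil, lprod_nil, mul_one, mul_inv_cancel]
  | cons s o ih =>
    rw [lprod_cons, lprod_cons, ← h s List.mem_cons_self, ← ih fun s' hs' => h s' (List.mem_cons_of_mem _ hs')]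
    group

variable (FG : FoldGrp hp K J L σ ρ ρ' f G) (N : NodeOK D J L ρ i r o) (hf : ∀ s ∈ r :: o, ∀ t, f s t = φ t)

/-- The torus acts on a simple root group by scalars. -/
theorem exists_scalar {t : ↥G} (ht : t ∈ (D.diagonalSubgroup K ⊓ G).subgroupOf G) :
    ∃ c : Fx φ (o.length + 1), c ≠ 0 ∧
      (∀ b, (t : GL D.Idx K) * xG hp.inList r b * (t : GL D.Idx K)⁻¹ = xG hp.inList r ((c : K) * b)) ∧
      ∀ a, t * Phi FG N hf (up a) * t⁻¹ = Phi FG N hf (up (c * a)) := by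
  rw [Subgroup.mem_subgroupOf] at ht
  have h1 : ∀ s : ℕ, ∃ c : K, c ≠ 0 ∧ (s ∈ r :: o → ∀ b, (t : GL D.Idx K) * xG hp.inList s b * (t : GL D.Idx K)⁻¹ =
      xG hp.inList s (c * b)) := by
    intro s
    by_cases hs : s ∈ r :: o
    · obtain ⟨c, hc0, hct⟩ := BNChev.diagonal_conj hp.inList (F := K) ht.1 (N.lt s hs)
      exact ⟨c, hc0, fun _ => hct⟩
    · exact ⟨1, one_ne_zero, fun h => absurd h hs⟩
  choose cc hcc0 hcc using h1
  have h2 : ∀ a ∈ Fx φ (o.length + 1), cc r * a ∈ Fx φ (o.length + 1) ∧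
      (t : GL D.Idx K) * yv (xG hp.inList) φ (r :: o) a * (t : GL D.Idx K)⁻¹ =
        yv (xG hp.inList) φ (r :: o) (cc r * a) := by
    intro a ha
    obtain ⟨c, hc, hca⟩ := exists_lprod_yv (x := xG (F := K) hp.inList) (φ := φ) N.nodup a
    have h3 : (t : GL D.Idx K) * yv (xG hp.inList) φ (r :: o) a * (t : GL D.Idx K)⁻¹ =
        lprod (xG hp.inList) (r :: o) fun s => cc s * c s := by
      rw [hc]
      exact conj_lprod (fun s hs b => hcc s hs b) c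
    have hG : (t : GL D.Idx K) * yv (xG hp.inList) φ (r :: o) a * (t : GL D.Idx K)⁻¹ ∈ G :=
      mul_mem (mul_mem t.2 (FG.XG i ((mem_R_iff FG N hf _).2 ⟨a, ha, rfl⟩))) (inv_mem t.2)
    have hR : R D hp K J σ (sr i) = rspan (xG hp.inList) {k | k ∈ r :: o} ⊓ fixS σ := R_eq N.cls N.lt
    have h4 : (t : GL D.Idx K) * yv (xG hp.inList) φ (r :: o) a * (t : GL D.Idx K)⁻¹ ∈ R D hp K J σ (sr i) := by
      rw [hR]
      refine ⟨?_, FG.G_le hG⟩
      rw [h3]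
      exact lprod_mem_rspan _ (fun _ h => h) _
    obtain ⟨b, hb, e⟩ := (mem_R_iff FG N hf _).1 h4
    obtain ⟨c', hc', hcb⟩ := exists_lprod_yv (x := xG (F := K) hp.inList) (φ := φ) N.nodup b
    have h5 : cc r * c r = c' r := by
      refine inj_orbit FG.setup N.mem N.fil (t := fun s => cc s * c s) (t' := c') ?_ r List.mem_cons_self
      rw [← h3, e, hc']
    rw [hca r o rfl, hcb r o rfl] at h5
    rw [h5]
    exact ⟨hb, e⟩
  have h6 := (h2 1 (one_mem _)).1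
  rw [mul_one] at h6
  refine ⟨⟨cc r, h6⟩, fun h => hcc0 r (congrArg Subtype.val h), fun b => hcc r List.mem_cons_self b, fun a => ?_⟩
  apply Subtype.ext
  rw [Subgroup.coe_mul, Subgroup.coe_mul, Subgroup.coe_inv, coe_Phi_up, coe_Phi_up]
  exact (h2 a a.2).2

open Classical in
/-- The scalar of a torus element on the simple root group. -/
noncomputable def ch (t : ↥G) : Fx φ (o.length + 1) :=
  if h : ∃ c : Fx φ (o.length + 1), c ≠ 0 ∧
      (∀ b, (t : GL D.Idx K) * xG hp.inList r b * (t : GL D.Idx K)⁻¹ = xG hp.inList r ((c : K) * b)) ∧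
      ∀ a, t * Phi FG N hf (up a) * t⁻¹ = Phi FG N hf (up (c * a)) then h.choose else 1

theorem ch_spec {t : ↥G} (ht : t ∈ (D.diagonalSubgroup K ⊓ G).subgroupOf G) : ch FG N hf t ≠ 0 ∧
    (∀ b, (t : GL D.Idx K) * xG hp.inList r b * (t : GL D.Idx K)⁻¹ =
      xG hp.inList r ((ch FG N hf t : K) * b)) ∧
    ∀ a, t * Phi FG N hf (up a) * t⁻¹ = Phi FG N hf (up (ch FG N hf t * a)) := by
  have h := exists_scalar FG N hf ht
  unfold ch
  rw [dif_pos h]
  exact h.choose_spec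

theorem ch_eq {t : ↥G} (ht : t ∈ (D.diagonalSubgroup K ⊓ G).subgroupOf G) {c : K}
    (hc : (t : GL D.Idx K) * xG hp.inList r 1 * (t : GL D.Idx K)⁻¹ = xG hp.inList r c) :
    (ch FG N hf t : K) = c := by
  have h1 := (ch_spec FG N hf ht).2.1 1
  rw [hc, mul_one] at h1
  exact (xG_injective hp.inList (N.lt r List.mem_cons_self) h1).symm

theorem ch_hS {d : Fx φ (o.length + 1)} (hd : d ≠ 0) : ch FG N hf (Phi FG N hf (hS d)) = d ^ 2 := by
  have h1 := (ch_spec FG N hf (Phi_hS FG N hf hd)).2.2 1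
  rw [← map_mul, ← map_inv, ← map_mul, hS_up hd, mul_one, mul_one] at h1
  exact (Phi_up_injective FG N hf h1).symm

/-- **The coordinates of the simple root group of a node.** -/
theorem coord [Finite K] : Coord ((D.diagonalSubgroup K ⊓ G).subgroupOf G) ((R D hp K J σ (sr i)).subgroupOf G)
    (fun a => Phi FG N hf (up a)) (ch FG N hf) where
  mem y := by
    rw [mem_X_iff FG N hf]
    exact ⟨fun ⟨a, e⟩ => ⟨a, e.symm⟩, fun ⟨a, e⟩ => ⟨a, e.symm⟩⟩
  inj := Phi_up_injective FG N hf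
  add a b := by
    rw [← map_mul]
    congr 1
    apply Subtype.ext
    rw [Matrix.SpecialLinearGroup.coe_mul]
    show !![1, a + b; 0, 1] = !![1, a; 0, 1] * !![1, b; 0, 1]
    ext i j
    fin_cases i <;> fin_cases j <;> simp [add_comm]
  act t ht a := (ch_spec FG N hf ht).2.2 a
  span := by
    apply closure_sq
    intro c hc
    apply AddSubgroup.subset_closure
    exact ⟨_, Phi_hS FG N hf hc, ch_hS FG N hf hc⟩

end Fold

end Cfsg.Agent.KFacts.TwESix.NodeCoord
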