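import Mathlib
import Cfsg.Agent.OddHalf.SL.Defs
import Cfsg.Agent.KFacts.TwESix.Comb
import Cfsg.Agent.KFacts.RgdEx
import Cfsg.Agent.Lib.Refl
import Cfsg.Agent.KFacts.TwESix.OutTwo
import Cfsg.Agent.KFacts.RgdTor
import Cfsg.Agent.FastGrp
import Cfsg.Agent.Prune
set_option linter.all false

section
prune_inst 0x7ffcfffaaffcbfffffff7e7fffdbdffc19d1dfffefdff943ffe9ebff1fff03ed2fe5fbaf8de410fe9ef7e2bc90ba7853fbffdb3fea6bfe7ffffd5ff45ffbee1fb7efbd8c71febcb41ffe6ffffbf377ce7f3ffffffffffffffffffffffffffffffffdffffffff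

-- part: OddHalf/D7Ex/Setup
section
set_option linter.all false
open scoped Cfsg.Agent.FastGrp

/-!
# Existence of the doubled root group (ODD D7, helper657; text: helper763 #6693, helper118 #7489, helper350)

`t` an involution, `X = Z(Q)` a long root group of `K ≤ C_G(t)`, `P = QL` the group generated by the 2-elements of
`C_K(X)` (or `O²` of it), `H ≤ N_K(X)` a torus.

If some `n` normalising `X` moves `t` to `tz`, `1 ≠ z ∈ X` (and acts on `P/Q` as an inner automorphism if `q = 2`), then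
for every `x ∈ X` there is `b ∈ C_G(P)` with `b t b⁻¹ = t x`.
-/

set_option autoImplicit false

namespace Cfsg.Agent.OddHalf.D7Ex

open Subgroup
open scoped commutatorElement

variable {G : Type*} [Group G]

/-- A 2-element commuting with `P` on `Q/X` is trivial there. -/
def Lin (X Q P : Subgroup G) : Prop :=
  ∀ n : G, IsPGroup 2 (zpowers n) → (∀ q ∈ Q, n * q * n⁻¹ ∈ Q) → (∀ x ∈ X, n * x * n⁻¹ ∈ X) →
    (∀ p ∈ P, n * p * n⁻¹ * p⁻¹ ∈ Q) → ∀ q ∈ Q, n * q * n⁻¹ * q⁻¹ ∈ X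

/-- The local hypotheses. -/
structure Setup (t : G) (X Q P H : Subgroup G) : Prop where
  tt : t * t = 1
  tX : t ∉ X
  X2 : ∀ x ∈ X, x * x = 1
  XQ : X ≤ Q
  QP : Q ≤ P
  tP : ∀ p ∈ P, t * p = p * t
  XP : ∀ x ∈ X, ∀ p ∈ P, x * p = p * x
  PQ : ∀ p ∈ P, ∀ q ∈ Q, p * q * p⁻¹ ∈ Q
  tH : ∀ h ∈ H, t * h = h * t
  HX : ∀ h ∈ H, ∀ x ∈ X, h * x * h⁻¹ ∈ X
  /-- an element normalising `X` and `t X` normalises `P` and `Q` -/
  nP : ∀ n : G, (∀ x ∈ X, n * x * n⁻¹ ∈ X) → t * (n * t * n⁻¹) ∈ X →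
    (∀ p ∈ P, n * p * n⁻¹ ∈ P) ∧ (∀ q ∈ Q, n * q * n⁻¹ ∈ Q)
  XQQ : X ≤ ⁅Q, Q⁆
  QQ : ∀ v ∈ Q, ∀ w ∈ Q, v * w * v⁻¹ * w⁻¹ ∈ X
  ZQ : ∀ q ∈ Q, (∀ v ∈ Q, q * v = v * q) → q ∈ X
  /-- `H^0(P, Hom(Q/X, X) / Inn Q) = 0` -/
  E2 : ∀ f : G → G, (∀ v ∈ Q, f v ∈ X) → (∀ v ∈ Q, ∀ w ∈ Q, f (v * w) = f v * f w) → (∀ x ∈ X, f x = 1) →
    (∀ p ∈ P, ∃ q ∈ Q, ∀ v ∈ Q, f (p * v * p⁻¹) = f v * (q * v * q⁻¹ * v⁻¹)) →
    ∃ q ∈ Q, ∀ v ∈ Q, f v = q * v * q⁻¹ * v⁻¹
  /-- `P` has no homomorphism onto a group of order 2 -/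
  noh : ∀ f : P →* X, ∀ p, f p = 1

namespace Setup

variable {t : G} {X Q P H : Subgroup G}

theorem t_inv (S : Setup t X Q P H) : t⁻¹ = t := inv_eq_of_mul_eq_one_left S.tt

theorem tx (S : Setup t X Q P H) {x : G} (hx : x ∈ X) : t * x = x * t := S.tP x (S.QP (S.XQ hx))

theorem inv_X (S : Setup t X Q P H) {x : G} (hx : x ∈ X) : x⁻¹ = x := inv_eq_of_mul_eq_one_left (S.X2 x hx)

/-- The normaliser of `X` and of `t X`. -/
def N (S : Setup t X Q P H) : Subgroup G where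
  carrier := {n | (∀ x ∈ X, n * x * n⁻¹ ∈ X) ∧ (∀ x ∈ X, n⁻¹ * x * n ∈ X) ∧ t * (n * t * n⁻¹) ∈ X}
  one_mem' := ⟨fun x hx => by simpa using hx, fun x hx => by simpa using hx, by
    rw [one_mul, inv_one, mul_one, S.tt]; exact one_mem _⟩
  mul_mem' := by
    rintro a b ⟨ha1, ha2, ha3⟩ ⟨hb1, hb2, hb3⟩
    refine ⟨fun x hx => ?_, fun x hx => ?_, ?_⟩
    · have := ha1 _ (hb1 x hx)
      have e : a * b * x * (a * b)⁻¹ = a * (b * x * b⁻¹) * a⁻¹ := by group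
      rwa [e]
    · have := hb2 _ (ha2 x hx)
      have e : (a * b)⁻¹ * x * (a * b) = b⁻¹ * (a⁻¹ * x * a) * b := by group
      rwa [e]
    · have h1 := mul_mem ha3 (ha1 _ hb3)
      have e : t * (a * b * t * (a * b)⁻¹) = t * (a * t * a⁻¹) * (a * (t * (b * t * b⁻¹)) * a⁻¹) := by
        calc t * (a * b * t * (a * b)⁻¹) = t * a * 1 * b * t * b⁻¹ * a⁻¹ := by group
          _ = t * a * (t * t) * b * t * b⁻¹ * a⁻¹ := by rw [S.tt]
          _ = _ := by group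
      rwa [e]
  inv_mem' := by
    rintro a ⟨ha1, ha2, ha3⟩
    refine ⟨fun x hx => by simpa using ha2 x hx, fun x hx => by simpa using ha1 x hx, ?_⟩
    have h1 := inv_mem (ha2 _ ha3)
    have e : t * (a⁻¹ * t * a⁻¹⁻¹) = (a⁻¹ * (t * (a * t * a⁻¹)) * a)⁻¹ := by
      calc t * (a⁻¹ * t * a⁻¹⁻¹) = t⁻¹ * (a⁻¹ * t⁻¹ * a) := by rw [S.t_inv, inv_inv]
        _ = _ := by group
    rwa [e]

theorem mem_N (S : Setup t X Q P H) {n : G} :
    n ∈ S.N ↔ (∀ x ∈ X, n * x * n⁻¹ ∈ X) ∧ (∀ x ∈ X, n⁻¹ * x * n ∈ X) ∧ t * (n * t * n⁻¹) ∈ X := Iff.rfl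

theorem N_P (S : Setup t X Q P H) {n : G} (hn : n ∈ S.N) {p : G} (hp : p ∈ P) : n * p * n⁻¹ ∈ P :=
  (S.nP n hn.1 hn.2.2).1 p hp

theorem N_Q (S : Setup t X Q P H) {n : G} (hn : n ∈ S.N) {q : G} (hq : q ∈ Q) : n * q * n⁻¹ ∈ Q :=
  (S.nP n hn.1 hn.2.2).2 q hq

/-- The elements of `N` trivial on `P/Q`. -/
def C4 (S : Setup t X Q P H) : Subgroup G where
  carrier := {n | n ∈ S.N ∧ ∀ p ∈ P, n * p * n⁻¹ * p⁻¹ ∈ Q}
  one_mem' := ⟨one_mem _, fun p _ => by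
    rw [one_mul, inv_one, mul_one, mul_inv_cancel]; exact one_mem _⟩
  mul_mem' := by
    rintro a b ⟨ha, ha2⟩ ⟨hb, hb2⟩
    refine ⟨mul_mem ha hb, fun p hp => ?_⟩
    have h1 := mul_mem (S.N_Q ha (hb2 p hp)) (ha2 p hp)
    have e : a * b * p * (a * b)⁻¹ * p⁻¹ = a * (b * p * b⁻¹ * p⁻¹) * a⁻¹ * (a * p * a⁻¹ * p⁻¹) := by group
    rwa [e]
  inv_mem' := by
    rintro a ⟨ha, ha2⟩
    refine ⟨inv_mem ha, fun p hp => ?_⟩
    have h1 := inv_mem (S.N_Q (inv_mem ha) (ha2 p hp))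
    have e : a⁻¹ * p * a⁻¹⁻¹ * p⁻¹ = (a⁻¹ * (a * p * a⁻¹ * p⁻¹) * a⁻¹⁻¹)⁻¹ := by group
    rwa [e]

theorem C4_le (S : Setup t X Q P H) : S.C4 ≤ S.N := fun _ h => h.1

/-- `C4` is normal in `N`. -/
theorem conj_C4 (S : Setup t X Q P H) {n c : G} (hn : n ∈ S.N) (hc : c ∈ S.C4) : n * c * n⁻¹ ∈ S.C4 := by
  refine ⟨mul_mem (mul_mem hn hc.1) (inv_mem hn), fun p hp => ?_⟩
  have h1 := S.N_Q hn (hc.2 _ (S.N_P (inv_mem hn) hp))
  have e : n * c * n⁻¹ * p * (n * c * n⁻¹)⁻¹ * p⁻¹ =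
    n * (c * (n⁻¹ * p * n⁻¹⁻¹) * c⁻¹ * (n⁻¹ * p * n⁻¹⁻¹)⁻¹) * n⁻¹ := by group
  rwa [e]

/-- The elements of `N` trivial on `P/Q` and on `Q/X`. -/
def D (S : Setup t X Q P H) : Subgroup G where
  carrier := {n | n ∈ S.C4 ∧ ∀ q ∈ Q, n * q * n⁻¹ * q⁻¹ ∈ X}
  one_mem' := ⟨one_mem _, fun p _ => by
    rw [one_mul, inv_one, mul_one, mul_inv_cancel]; exact one_mem _⟩
  mul_mem' := by
    rintro a b ⟨ha, ha2⟩ ⟨hb, hb2⟩
    refine ⟨mul_mem ha hb, fun p hp => ?_⟩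
    have h1 := mul_mem (ha.1.1 _ (hb2 p hp)) (ha2 p hp)
    have e : a * b * p * (a * b)⁻¹ * p⁻¹ = a * (b * p * b⁻¹ * p⁻¹) * a⁻¹ * (a * p * a⁻¹ * p⁻¹) := by group
    rwa [e]
  inv_mem' := by
    rintro a ⟨ha, ha2⟩
    refine ⟨inv_mem ha, fun p hp => ?_⟩
    have h1 := inv_mem (ha.1.2.1 _ (ha2 p hp))
    have e : a⁻¹ * p * a⁻¹⁻¹ * p⁻¹ = (a⁻¹ * (a * p * a⁻¹ * p⁻¹) * a)⁻¹ := by group
    rwa [e]

theorem mem_D (S : Setup t X Q P H) {n : G} : n ∈ S.D ↔ n ∈ S.C4 ∧ ∀ q ∈ Q, n * q * n⁻¹ * q⁻¹ ∈ X := Iff.rfl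

theorem D_le (S : Setup t X Q P H) : S.D ≤ S.C4 := fun _ h => h.1

theorem conj_D (S : Setup t X Q P H) {n c : G} (hn : n ∈ S.N) (hc : c ∈ S.D) : n * c * n⁻¹ ∈ S.D := by
  refine ⟨S.conj_C4 hn hc.1, fun q hq => ?_⟩
  have h1 := hn.1 _ (hc.2 _ (S.N_Q (inv_mem hn) hq))
  have e : n * c * n⁻¹ * q * (n * c * n⁻¹)⁻¹ * q⁻¹ =
    n * (c * (n⁻¹ * q * n⁻¹⁻¹) * c⁻¹ * (n⁻¹ * q * n⁻¹⁻¹)⁻¹) * n⁻¹ := by group
  rwa [e]

/-- A 2-element of `C4` lies in `D`. -/
theorem mem_D_of_two (S : Setup t X Q P H) (hlin : Lin X Q P) {n : G} (hn : n ∈ S.C4)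
    (h2 : IsPGroup 2 (zpowers n)) : n ∈ S.D :=
  ⟨hn, hlin n h2 (fun _ hq => S.N_Q hn.1 hq) hn.1.1 hn.2⟩

/-- `D` centralises `X`. -/
theorem D_X (S : Setup t X Q P H) {n : G} (hn : n ∈ S.D) {x : G} (hx : x ∈ X) : n * x = x * n := by
  have hle : ⁅Q, Q⁆ ≤ centralizer ({n} : Set G) := by
    rw [commutator_le]
    intro a ha b hb
    rw [mem_centralizer_singleton_iff]
    have ha' := hn.2 a ha
    have hb' := hn.2 b hb
    set x := n * a * n⁻¹ * a⁻¹ with hx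
    set y := n * b * n⁻¹ * b⁻¹ with hy
    have ea : n * a * n⁻¹ = x * a := by rw [hx]; group
    have eb : n * b * n⁻¹ = y * b := by rw [hy]; group
    have c1 : ∀ q ∈ Q, x * q = q * x := fun q hq => S.XP x ha' q (S.QP hq)
    have c2 : ∀ q ∈ Q, y * q = q * y := fun q hq => S.XP y hb' q (S.QP hq)
    have e : n * ⁅a, b⁆ * n⁻¹ = ⁅a, b⁆ := by
      have e1 : n * ⁅a, b⁆ * n⁻¹ = (n * a * n⁻¹) * (n * b * n⁻¹) * (n * a * n⁻¹)⁻¹ * (n * b * n⁻¹)⁻¹ := by
        rw [commutatorElement_def]; group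
      rw [e1, ea, eb, commutatorElement_def]
      calc x * a * (y * b) * (x * a)⁻¹ * (y * b)⁻¹
          = x * (a * (y * b)) * (a⁻¹ * x⁻¹) * (b⁻¹ * y⁻¹) := by group
        _ = x * (a * (y * b) * a⁻¹) * x⁻¹ * (b⁻¹ * y⁻¹) := by group
        _ = (a * (y * b) * a⁻¹) * x * x⁻¹ * (b⁻¹ * y⁻¹) := by
          rw [c1 (a * (y * b) * a⁻¹) (mul_mem (mul_mem ha (mul_mem (S.XQ hb') hb)) (inv_mem ha))]
        _ = a * y * (b * a⁻¹ * b⁻¹) * y⁻¹ := by group
        _ = y * (a * (b * a⁻¹ * b⁻¹)) * y⁻¹ := by rw [← c2 a ha]; group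
        _ = a * (b * a⁻¹ * b⁻¹) := by
          rw [c2 _ (mul_mem ha (mul_mem (mul_mem hb (inv_mem ha)) (inv_mem hb)))]; group
        _ = a * b * a⁻¹ * b⁻¹ := by group
    calc ⁅a, b⁆ * n = n * ⁅a, b⁆ * n⁻¹ * n := by rw [e]
      _ = n * ⁅a, b⁆ := by group
  exact (mem_centralizer_singleton_iff.1 (hle (S.XQQ hx))).symm

/-- **Lemma B**: an element of `D` agrees on `t` with an element of `C_G(P)`. -/
theorem exists_cent (S : Setup t X Q P H) {n : G} (hn : n ∈ S.D) :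
    ∃ b : G, (∀ p ∈ P, b * p = p * b) ∧ b * t * b⁻¹ = n * t * n⁻¹ := by
  obtain ⟨q, hq, hf⟩ := S.E2 (fun v => n * v * n⁻¹ * v⁻¹) (fun v hv => hn.2 v hv)
    (by
      intro v hv w hw
      have hx := hn.2 w hw
      have c1 := S.XP _ hx v (S.QP hv)
      calc n * (v * w) * n⁻¹ * (v * w)⁻¹ = (n * v * n⁻¹) * ((n * w * n⁻¹ * w⁻¹) * v⁻¹) := by group
        _ = (n * v * n⁻¹) * (v⁻¹ * (n * w * n⁻¹ * w⁻¹)) := by
          rw [S.XP _ hx v⁻¹ (S.QP (inv_mem hv))]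
        _ = n * v * n⁻¹ * v⁻¹ * (n * w * n⁻¹ * w⁻¹) := by group)
    (by
      intro x hx
      show n * x * n⁻¹ * x⁻¹ = 1
      rw [S.D_X hn hx]; group)
    (by
      intro p hp
      have hq1 := hn.1.2 p hp
      set q1 := n * p * n⁻¹ * p⁻¹ with hq1d
      refine ⟨p⁻¹ * q1 * p, by simpa using S.PQ p⁻¹ (inv_mem hp) q1 hq1, fun v hv => ?_⟩
      have hxv := hn.2 v hv
      set x := n * v * n⁻¹ * v⁻¹ with hxd
      have e1 : n * p = q1 * p * n := by rw [hq1d]; group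
      have e2 : n * v = x * v * n := by rw [hxd]; group
      have c1 : ∀ p ∈ P, x * p = p * x := fun p hp => S.XP x hxv p hp
      have hq1P := S.QP hq1
      calc n * (p * v * p⁻¹) * n⁻¹ * (p * v * p⁻¹)⁻¹
          = (n * p) * v * (n * p)⁻¹ * (p * v * p⁻¹)⁻¹ := by group
        _ = q1 * p * (n * v) * n⁻¹ * p⁻¹ * q1⁻¹ * (p * v * p⁻¹)⁻¹ := by rw [e1]; group
        _ = (q1 * p) * x * v * p⁻¹ * q1⁻¹ * (p * v * p⁻¹)⁻¹ := by rw [e2]; group
        _ = x * (q1 * p) * v * p⁻¹ * q1⁻¹ * (p * v * p⁻¹)⁻¹ := by rw [c1 _ (mul_mem hq1P hp)]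
        _ = x * p * ((p⁻¹ * q1 * p) * v * (p⁻¹ * q1 * p)⁻¹ * v⁻¹) * p⁻¹ := by group
        _ = x * (p * ((p⁻¹ * q1 * p) * v * (p⁻¹ * q1 * p)⁻¹ * v⁻¹) * p⁻¹) := by group
        _ = x * ((p⁻¹ * q1 * p) * v * (p⁻¹ * q1 * p)⁻¹ * v⁻¹) := by
          congr 1
          have h3 : (p⁻¹ * q1 * p) * v * (p⁻¹ * q1 * p)⁻¹ * v⁻¹ ∈ X :=
            S.QQ _ (by simpa using S.PQ p⁻¹ (inv_mem hp) q1 hq1) v hv
          rw [← S.XP _ h3 p hp]; group)
  have hqP := S.QP hq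
  -- `b = q⁻¹ n` centralises `Q`
  have hbQ : ∀ v ∈ Q, (q⁻¹ * n) * v * (q⁻¹ * n)⁻¹ = v := by
    intro v hv
    have h1 : n * v * n⁻¹ = q * v * q⁻¹ := by
      have := hf v hv
      exact mul_right_cancel this
    calc (q⁻¹ * n) * v * (q⁻¹ * n)⁻¹ = q⁻¹ * (n * v * n⁻¹) * q := by group
      _ = v := by rw [h1]; group
  have hbP : ∀ p ∈ P, (q⁻¹ * n) * p * (q⁻¹ * n)⁻¹ * p⁻¹ ∈ X := by
    intro p hp
    have h1 : (q⁻¹ * n) * p * (q⁻¹ * n)⁻¹ * p⁻¹ ∈ Q := by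
      have h2 := hn.1.2 p hp
      have e : (q⁻¹ * n) * p * (q⁻¹ * n)⁻¹ * p⁻¹ = q⁻¹ * (n * p * n⁻¹ * p⁻¹) * (p * q * p⁻¹) := by group
      rw [e]
      exact mul_mem (mul_mem (inv_mem hq) h2) (S.PQ p hp q hq)
    apply S.ZQ _ h1
    intro v hv
    have h2 := hbQ _ (S.PQ p⁻¹ (inv_mem hp) v hv)
    rw [inv_inv] at h2
    have h3 := hbQ v hv
    set b := q⁻¹ * n with hb
    have h4 : b⁻¹ * v * b = v := by
      calc b⁻¹ * v * b = b⁻¹ * (b * v * b⁻¹) * b := by rw [h3]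
        _ = v := by group
    calc b * p * b⁻¹ * p⁻¹ * v = (b * p * b⁻¹) * (p⁻¹ * v * p) * p⁻¹ := by group
      _ = (b * p * b⁻¹) * (b * (p⁻¹ * v * p) * b⁻¹) * p⁻¹ := by rw [h2]
      _ = b * (v * p) * b⁻¹ * p⁻¹ := by group
      _ = (b * v * b⁻¹) * (b * p * b⁻¹ * p⁻¹) := by group
      _ = v * (b * p * b⁻¹ * p⁻¹) := by rw [h3]
  let f : P →* X :=
    { toFun := fun p => ⟨(q⁻¹ * n) * p * (q⁻¹ * n)⁻¹ * (p : G)⁻¹, hbP p p.2⟩
      map_one' := Subtype.ext (by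
        show (q⁻¹ * n) * (1 : G) * (q⁻¹ * n)⁻¹ * (1 : G)⁻¹ = 1
        group)
      map_mul' := by
        rintro ⟨a, ha⟩ ⟨b, hb⟩
        apply Subtype.ext
        show (q⁻¹ * n) * (a * b) * (q⁻¹ * n)⁻¹ * (a * b)⁻¹ =
          ((q⁻¹ * n) * a * (q⁻¹ * n)⁻¹ * a⁻¹) * ((q⁻¹ * n) * b * (q⁻¹ * n)⁻¹ * b⁻¹)
        have h1 := S.XP _ (hbP b hb) a⁻¹ (inv_mem ha)
        calc (q⁻¹ * n) * (a * b) * (q⁻¹ * n)⁻¹ * (a * b)⁻¹
            = ((q⁻¹ * n) * a * (q⁻¹ * n)⁻¹) * (((q⁻¹ * n) * b * (q⁻¹ * n)⁻¹ * b⁻¹) * a⁻¹) := by group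
          _ = _ := by rw [h1]; group }
  refine ⟨q⁻¹ * n, fun p hp => ?_, ?_⟩
  · have h1 := S.noh f ⟨p, hp⟩
    have h2 : (q⁻¹ * n) * p * (q⁻¹ * n)⁻¹ * p⁻¹ = 1 := congrArg Subtype.val h1
    exact eq_of_mul_inv_eq_one (by
      calc q⁻¹ * n * p * (p * (q⁻¹ * n))⁻¹ = (q⁻¹ * n) * p * (q⁻¹ * n)⁻¹ * p⁻¹ := by group
        _ = 1 := h2)
  · have hx : t * (n * t * n⁻¹) ∈ X := hn.1.1.2.2
    have e : n * t * n⁻¹ = t * (t * (n * t * n⁻¹)) := by rw [← mul_assoc, S.tt, one_mul]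
    have c1 : (t * (t * (n * t * n⁻¹))) * q = q * (t * (t * (n * t * n⁻¹))) := by
      rw [mul_assoc, S.XP _ hx q hqP, ← mul_assoc, S.tP q hqP, mul_assoc]
    calc q⁻¹ * n * t * (q⁻¹ * n)⁻¹ = q⁻¹ * ((n * t * n⁻¹) * q) := by group
      _ = q⁻¹ * (q * (n * t * n⁻¹)) := by rw [e, c1]
      _ = n * t * n⁻¹ := by group

end Setup

end Cfsg.Agent.OddHalf.D7Ex
end

-- part: OddHalf/D7Ex/Lin
section
prune_inst 0x5000100000000018000240001e02c2000100002b800120400c0004802d00a04107218ca01400001002100000004000440010000000000000000000000000002210001000a000000000000083180c00000000000000000000000000000000000000000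
set_option linter.all false
open scoped Cfsg.Agent.FastGrp

-- merged: Cfsg.Agent.OddHalf.D7Ex.Roots
section

/-!
# The unipotent radical `Q r = ⟨X b : (b, r) ≥ 1⟩` and `P r = ⟨X b : (b, r) ≥ 0⟩` of a simply laced group

`RG`: the facts on the root groups; `E2`: every `ξ : Q → X r` trivial on `X r` and `P`-invariant modulo `Inn Q` is inner.
-/

set_option autoImplicit false
set_option linter.style.haveILetI false
set_option linter.unusedSectionVars false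
set_option linter.unusedVariables false

namespace Cfsg.Agent.OddHalf.D7Ex

open Subgroup Cfsg.Agent.OddHalf.SL.Defs
open scoped commutatorElement

variable {L : Type*} [AddCommGroup L] {G : Type*} [Group G]

/-- Facts on the root groups. -/
structure RG (B : L → L → ℤ) (Φ : Set L) (X : L → Subgroup G) : Prop where
  roots : Roots B Φ
  X2 : ∀ r ∈ Φ, ∀ x ∈ X r, x * x = 1
  pos : ∀ a ∈ Φ, ∀ b ∈ Φ, 0 ≤ B a b → ∀ x ∈ X a, ∀ y ∈ X b, x * y = y * x
  neg : ∀ a ∈ Φ, ∀ b ∈ Φ, B a b = -1 → ∀ x ∈ X a, ∀ y ∈ X b, x * y * x⁻¹ * y⁻¹ ∈ X (a + b)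
  sur : ∀ a ∈ Φ, ∀ b ∈ Φ, B a b = -1 → ∀ x ∈ X a, x ≠ 1 → ∀ z ∈ X (a + b), ∃ y ∈ X b, x * y * x⁻¹ * y⁻¹ = z
  inj : ∀ a ∈ Φ, ∀ b ∈ Φ, B a b = -1 → ∀ x ∈ X a, ∀ y ∈ X b, x * y = y * x → x = 1 ∨ y = 1
  ne : ∀ r ∈ Φ, ∃ x ∈ X r, x ≠ 1
  /-- every root has a neighbour -/
  one : ∀ r ∈ Φ, ∃ b ∈ Φ, B b r = 1

/-- The roots `b` with `(b, r) = 1`. -/
def Ph1 (B : L → L → ℤ) (Φ : Set L) (r : L) : Set L := {b | b ∈ Φ ∧ B b r = 1}

/-- `⟨X b : b ∈ S⟩ X r` -/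
def QS (X : L → Subgroup G) (S : Set L) (r : L) : Subgroup G := (⨆ b ∈ S, X b) ⊔ X r

/-- `⟨X b : (b, r) ≥ 0⟩` -/
def PR (B : L → L → ℤ) (Φ : Set L) (X : L → Subgroup G) (r : L) : Subgroup G := ⨆ b ∈ {b | b ∈ Φ ∧ 0 ≤ B b r}, X b

theorem X_le_QS (X : L → Subgroup G) (S : Set L) (r : L) : X r ≤ QS X S r := le_sup_right

theorem le_QS (X : L → Subgroup G) {S : Set L} (r : L) {b : L} (hb : b ∈ S) : X b ≤ QS X S r :=
  le_trans (le_iSup₂ (f := fun b (_ : b ∈ S) => X b) b hb) le_sup_left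

theorem QS_mono (X : L → Subgroup G) {S S' : Set L} (r : L) (h : S ⊆ S') : QS X S r ≤ QS X S' r :=
  sup_le_sup_right (biSup_mono fun _ hb => h hb) _

theorem QS_le {X : L → Subgroup G} {S : Set L} {r : L} {D : Subgroup G} (h1 : X r ≤ D) (h2 : ∀ b ∈ S, X b ≤ D) :
    QS X S r ≤ D := sup_le (iSup₂_le h2) h1

theorem le_PR {B : L → L → ℤ} {Φ : Set L} (X : L → Subgroup G) {r b : L} (hb : b ∈ Φ) (h : 0 ≤ B b r) :
    X b ≤ PR B Φ X r := le_iSup₂ (f := fun b (_ : b ∈ {b | b ∈ Φ ∧ 0 ≤ B b r}) => X b) b ⟨hb, h⟩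

theorem PR_le {B : L → L → ℤ} {Φ : Set L} {X : L → Subgroup G} {r : L} {D : Subgroup G}
    (h : ∀ b ∈ Φ, 0 ≤ B b r → X b ≤ D) : PR B Φ X r ≤ D := iSup₂_le fun b hb => h b hb.1 hb.2

namespace RG

variable {B : L → L → ℤ} {Φ : Set L} {X : L → Subgroup G}

theorem inv_X (h : RG B Φ X) {r : L} (hr : r ∈ Φ) {x : G} (hx : x ∈ X r) : x⁻¹ = x :=
  inv_eq_of_mul_eq_one_left (h.X2 r hr x hx)

/-- the possible values of the form -/
theorem cases (h : RG B Φ X) {a b : L} (ha : a ∈ Φ) (hb : b ∈ Φ) :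
    0 ≤ B a b ∨ B a b = -1 ∨ a = -b := by
  have h1 := h.roots.ge ha hb
  by_cases h2 : B a b = -2
  · exact Or.inr (Or.inr (h.roots.eq_neg ha hb h2))
  · omega

theorem add_eq (h : RG B Φ X) {r a b : L} (hr : r ∈ Φ) (ha : a ∈ Ph1 B Φ r) (hb : b ∈ Ph1 B Φ r) (hab : B a b = -1) :
    a + b = r := by
  apply h.roots.eq _ (h.roots.add a ha.1 b hb.1 hab) _ hr
  rw [h.roots.add_left, ha.2, hb.2]; norm_num

theorem sub_mem1 (h : RG B Φ X) {r b : L} (hr : r ∈ Φ) (hb : b ∈ Ph1 B Φ r) : r - b ∈ Ph1 B Φ r := by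
  have h1 : B r b = 1 := by rw [h.roots.symm]; exact hb.2
  refine ⟨h.roots.sub_mem hr hb.1 h1, ?_⟩
  rw [h.roots.sub_left, h.roots.two r hr, hb.2]; norm_num

/-- `X a` and `X b` commute for `a, b ∈ Ph1`, `b ≠ r - a`. -/
theorem comm1 (h : RG B Φ X) {r a b : L} (hr : r ∈ Φ) (ha : a ∈ Ph1 B Φ r) (hb : b ∈ Ph1 B Φ r) (hab : a + b ≠ r)
    {x y : G} (hx : x ∈ X a) (hy : y ∈ X b) : x * y = y * x := by
  rcases h.cases ha.1 hb.1 with h1 | h1 | h1
  · exact h.pos a ha.1 b hb.1 h1 x hx y hy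
  · exact absurd (h.add_eq hr ha hb h1) hab
  · exfalso
    have h2 := ha.2
    rw [h1, h.roots.neg_left, hb.2] at h2
    omega

/-- `X r` centralises `P r`. -/
theorem XP (h : RG B Φ X) {r : L} (hr : r ∈ Φ) {x p : G} (hx : x ∈ X r) (hp : p ∈ PR B Φ X r) : x * p = p * x := by
  have hle : PR B Φ X r ≤ centralizer ({x} : Set G) := PR_le fun b hb h0 y hy => by
    rw [mem_centralizer_singleton_iff]
    exact h.pos b hb r hr h0 y hy x hx
  exact (mem_centralizer_singleton_iff.1 (hle hp)).symm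

theorem QS_le_PR (h : RG B Φ X) {r : L} (hr : r ∈ Φ) {S : Set L} (hS : S ⊆ Ph1 B Φ r) : QS X S r ≤ PR B Φ X r :=
  QS_le (le_PR X hr (by rw [h.roots.two r hr]; norm_num)) fun b hb => le_PR X (hS hb).1 (by
    rw [(hS hb).2]; norm_num)

/-- A generator of `P r` normalises `QS X S r` if `S` is stable. -/
theorem conj_QS (h : RG B Φ X) {r a : L} (hr : r ∈ Φ) (ha : a ∈ Φ) (ha0 : 0 ≤ B a r) {S : Set L}
    (hS : S ⊆ Ph1 B Φ r) (hst : ∀ b ∈ S, B a b = -1 → a + b ∈ S ∨ a + b = r) {x q : G} (hx : x ∈ X a)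
    (hq : q ∈ QS X S r) : x * q * x⁻¹ ∈ QS X S r := by
  have hle : QS X S r ≤ (QS X S r).comap (MulAut.conj x).toMonoidHom := by
    refine QS_le ?_ fun b hb y hy => ?_
    · intro y hy
      show x * y * x⁻¹ ∈ QS X S r
      rw [h.pos a ha r hr ha0 x hx y hy, mul_inv_cancel_right]
      exact X_le_QS X S r hy
    · show x * y * x⁻¹ ∈ QS X S r
      rcases h.cases ha (hS hb).1 with h1 | h1 | h1
      · rw [h.pos a ha b (hS hb).1 h1 x hx y hy, mul_inv_cancel_right]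
        exact le_QS X r hb hy
      · have h2 := h.neg a ha b (hS hb).1 h1 x hx y hy
        have e : x * y * x⁻¹ = (x * y * x⁻¹ * y⁻¹) * y := by group
        rw [e]
        refine mul_mem ?_ (le_QS X r hb hy)
        rcases hst b hb h1 with h3 | h3
        · exact le_QS X r h3 h2
        · rw [h3] at h2; exact X_le_QS X S r h2
      · exfalso
        have h2 := (hS hb).2
        rw [h1, h.roots.neg_left, h2] at ha0
        omega
  exact hle hq

/-- `P r` normalises `Q r`. -/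
theorem PQ (h : RG B Φ X) {r : L} (hr : r ∈ Φ) {p q : G} (hp : p ∈ PR B Φ X r) (hq : q ∈ QS X (Ph1 B Φ r) r) :
    p * q * p⁻¹ ∈ QS X (Ph1 B Φ r) r := by
  have hst : ∀ a ∈ Φ, 0 ≤ B a r → ∀ b ∈ Ph1 B Φ r, B a b = -1 → a + b ∈ Ph1 B Φ r ∨ a + b = r := by
    intro a ha ha0 b hb hab
    have h1 := h.roots.add a ha b hb.1 hab
    have h2 := h.roots.le _ h1 r hr
    have h3 : B (a + b) r = B a r + 1 := by rw [h.roots.add_left, hb.2]
    by_cases h4 : B a r = 0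
    · left; exact ⟨h1, by rw [h3, h4]; norm_num⟩
    · right
      exact h.roots.eq _ h1 _ hr (by omega)
  have key : ∀ a ∈ Φ, 0 ≤ B a r → ∀ x ∈ X a, x ∈ normalizer (QS X (Ph1 B Φ r) r : Set G) := by
    intro a ha ha0 x hx
    rw [mem_normalizer_iff]
    intro q
    constructor
    · exact fun hq => h.conj_QS hr ha ha0 subset_rfl (hst a ha ha0) hx hq
    · intro hq
      have := h.conj_QS hr ha ha0 subset_rfl (hst a ha ha0) (inv_mem hx) hq
      have e : x⁻¹ * (x * q * x⁻¹) * x⁻¹⁻¹ = q := by group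
      rwa [e] at this
  have hle : PR B Φ X r ≤ normalizer (QS X (Ph1 B Φ r) r : Set G) := PR_le fun a ha ha0 x hx => key a ha ha0 x hx
  exact (mem_normalizer_iff.1 (hle hp) q).1 hq

/-- The elements of `Q` commuting with `g` modulo `X r`. -/
def TT (h : RG B Φ X) {r : L} (hr : r ∈ Φ) {g : G} (hg : g ∈ QS X (Ph1 B Φ r) r) : Subgroup G where
  carrier := {w | w ∈ QS X (Ph1 B Φ r) r ∧ g * w * g⁻¹ * w⁻¹ ∈ X r}
  one_mem' := ⟨one_mem _, by
    rw [mul_one, mul_inv_cancel, inv_one, mul_one]; exact one_mem _⟩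
  mul_mem' := by
    rintro a b ⟨ha, ha2⟩ ⟨hb, hb2⟩
    refine ⟨mul_mem ha hb, ?_⟩
    have cen := h.XP hr hb2 (h.QS_le_PR hr subset_rfl ha)
    have e : g * (a * b) * g⁻¹ * (a * b)⁻¹ = (g * a * g⁻¹ * a⁻¹) * (a * (g * b * g⁻¹ * b⁻¹) * a⁻¹) := by group
    rw [e, ← cen, mul_inv_cancel_right]
    exact mul_mem ha2 hb2
  inv_mem' := by
    rintro a ⟨ha, ha2⟩
    refine ⟨inv_mem ha, ?_⟩
    have cen := h.XP hr (inv_mem ha2) (h.QS_le_PR hr subset_rfl ha)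
    have e : g * a⁻¹ * g⁻¹ * a⁻¹⁻¹ = a⁻¹ * ((g * a * g⁻¹ * a⁻¹)⁻¹ * a) := by
      group
    rw [e, cen, inv_mul_cancel_left]
    exact inv_mem ha2

/-- `[Q, Q] ≤ X r`. -/
theorem QQ (h : RG B Φ X) {r : L} (hr : r ∈ Φ) {v w : G} (hv : v ∈ QS X (Ph1 B Φ r) r)
    (hw : w ∈ QS X (Ph1 B Φ r) r) : v * w * v⁻¹ * w⁻¹ ∈ X r := by
  have hQP := h.QS_le_PR hr (subset_rfl : Ph1 B Φ r ⊆ Ph1 B Φ r)
  have hc1 : ∀ x ∈ X r, ∀ w ∈ QS X (Ph1 B Φ r) r, x * w * x⁻¹ * w⁻¹ ∈ X r := fun x hx w hw => by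
    have e : x * w * x⁻¹ * w⁻¹ = 1 := by rw [h.XP hr hx (hQP hw)]; group
    rw [e]; exact one_mem _
  have hc2 : ∀ x ∈ X r, ∀ w ∈ QS X (Ph1 B Φ r) r, w * x * w⁻¹ * x⁻¹ ∈ X r := fun x hx w hw => by
    have e : w * x * w⁻¹ * x⁻¹ = 1 := by rw [← h.XP hr hx (hQP hw)]; group
    rw [e]; exact one_mem _
  have hgen : ∀ a ∈ Ph1 B Φ r, ∀ b ∈ Ph1 B Φ r, ∀ x ∈ X a, ∀ y ∈ X b, x * y * x⁻¹ * y⁻¹ ∈ X r := by
    intro a ha b hb x hx y hy
    by_cases hab : a + b = r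
    · have h1 : B a b = -1 := by
        have h2 := h.roots.add_left a b b
        rw [hab, h.roots.symm, hb.2, h.roots.two b hb.1] at h2
        omega
      rw [← hab]
      exact h.neg a ha.1 b hb.1 h1 x hx y hy
    · have e : x * y * x⁻¹ * y⁻¹ = 1 := by rw [h.comm1 hr ha hb hab hx hy]; group
      rw [e]; exact one_mem _
  have step1 : ∀ a ∈ Ph1 B Φ r, ∀ x ∈ X a, ∀ w ∈ QS X (Ph1 B Φ r) r, x * w * x⁻¹ * w⁻¹ ∈ X r := by
    intro a ha x hx w hw
    have hxQ := le_QS X r ha hx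
    have hle : QS X (Ph1 B Φ r) r ≤ h.TT hr hxQ :=
      QS_le (fun y hy => ⟨X_le_QS X _ r hy, hc2 y hy x hxQ⟩)
        fun b hb y hy => ⟨le_QS X r hb hy, hgen a ha b hb x hx y hy⟩
    exact (hle hw).2
  have hle : QS X (Ph1 B Φ r) r ≤ h.TT hr hw := by
    refine QS_le (fun y hy => ⟨X_le_QS X _ r hy, hc2 y hy w hw⟩) fun b hb y hy => ⟨le_QS X r hb hy, ?_⟩
    have h1 := inv_mem (step1 b hb y hy w hw)
    have e : (y * w * y⁻¹ * w⁻¹)⁻¹ = w * y * w⁻¹ * y⁻¹ := by group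
    rwa [e] at h1
  have h1 := inv_mem (hle hv).2
  have e : (w * v * w⁻¹ * v⁻¹)⁻¹ = v * w * v⁻¹ * w⁻¹ := by group
  rwa [e] at h1

/-- `X r ≤ [Q, Q]`. -/
theorem XQQ (h : RG B Φ X) {r : L} (hr : r ∈ Φ) : X r ≤ ⁅QS X (Ph1 B Φ r) r, QS X (Ph1 B Φ r) r⁆ := by
  intro x hx
  obtain ⟨b, hb, hbr⟩ := h.one r hr
  have hb1 : b ∈ Ph1 B Φ r := ⟨hb, hbr⟩
  have hs := h.sub_mem1 hr hb1
  obtain ⟨v, hv, hv1⟩ := h.ne b hb
  have h1 : B b (r - b) = -1 := by
    rw [h.roots.sub_right, hbr, h.roots.two b hb]; norm_num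
  obtain ⟨y, hy, e⟩ := h.sur b hb _ hs.1 h1 v hv hv1 x (by rwa [add_sub_cancel])
  rw [← e, ← commutatorElement_def]
  exact commutator_mem_commutator (le_QS X r hb1 hv) (le_QS X r hs hy)

/-- `QS X S r` is normalised by `Q`. -/
theorem Q_norm (h : RG B Φ X) {r : L} (hr : r ∈ Φ) (S : Set L) {v q : G}
    (hv : v ∈ QS X (Ph1 B Φ r) r) (hS : S ⊆ Ph1 B Φ r) (hq : q ∈ QS X S r) : v * q * v⁻¹ ∈ QS X S r := by
  have hqQ := QS_mono X r hS hq
  have e : v * q * v⁻¹ = (v * q * v⁻¹ * q⁻¹) * q := by group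
  rw [e]
  exact mul_mem (X_le_QS X S r (h.QQ hr hv hqQ)) hq

/-- Splitting off one root. -/
theorem split (h : RG B Φ X) {r : L} (hr : r ∈ Φ) {S : Set L} (hS : S ⊆ Ph1 B Φ r) {b : L} (hb : b ∈ S) {q : G}
    (hq : q ∈ QS X S r) : ∃ x ∈ X b, ∃ q' ∈ QS X (S \ {b}) r, q = x * q' := by
  have hS' : S \ {b} ⊆ Ph1 B Φ r := fun a ha => hS ha.1
  have hle : X b ≤ normalizer (QS X (S \ {b}) r : Set G) := by
    intro v hv
    have hvQ : v ∈ QS X (Ph1 B Φ r) r := le_QS X r (hS hb) hv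
    rw [mem_normalizer_iff]
    intro q
    constructor
    · exact fun hq => h.Q_norm hr _ hvQ hS' hq
    · intro hq
      have := h.Q_norm hr _ (inv_mem hvQ) hS' hq
      have e : v⁻¹ * (v * q * v⁻¹) * v⁻¹⁻¹ = q := by group
      rwa [e] at this
  have h1 : QS X S r ≤ X b ⊔ QS X (S \ {b}) r := by
    refine QS_le (le_trans (X_le_QS X _ r) le_sup_right) fun a ha => ?_
    by_cases hab : a = b
    · rw [hab]; exact le_sup_left
    · exact le_trans (le_QS X r (⟨ha, hab⟩ : a ∈ S \ {b})) le_sup_right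
  have h2 := h1 hq
  rw [← SetLike.mem_coe, coe_mul_of_left_le_normalizer_right _ _ hle] at h2
  obtain ⟨x, hx, q', hq', e⟩ := h2
  exact ⟨x, hx, q', hq', e.symm⟩

/-- `QS X S r` commutes with `X (r - b)` for `b ∉ S`. -/
theorem comm_of_not_mem (h : RG B Φ X) {r : L} (hr : r ∈ Φ) {S : Set L} (hS : S ⊆ Ph1 B Φ r) {b : L}
    (hb : b ∈ Ph1 B Φ r) (hbS : b ∉ S) {q y : G} (hq : q ∈ QS X S r) (hy : y ∈ X (r - b)) : q * y = y * q := by
  have hs := h.sub_mem1 hr hb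
  have hle : QS X S r ≤ centralizer ({y} : Set G) := by
    refine QS_le (fun x hx => ?_) fun a ha x hx => ?_
    · rw [mem_centralizer_singleton_iff]
      exact h.XP hr hx (le_PR X hs.1 (by rw [hs.2]; norm_num) hy)
    · rw [mem_centralizer_singleton_iff]
      refine h.comm1 hr (hS ha) hs ?_ hx hy
      intro h1
      apply hbS
      have : a = b := by rw [← sub_eq_zero]; rw [← add_sub_assoc, add_sub_right_comm, add_comm, add_eq_left] at h1; exact h1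
      rwa [← this]
  exact (mem_centralizer_singleton_iff.1 (hle hq))

/-- If `q ∈ QS X S r` commutes with `X (r - b)`, then `q` has no component in `X b`. -/
theorem drop (h : RG B Φ X) {r : L} (hr : r ∈ Φ) {S : Set L} (hS : S ⊆ Ph1 B Φ r) {b : L} (hb : b ∈ S) {q : G}
    (hq : q ∈ QS X S r) (hc : ∀ y ∈ X (r - b), q * y = y * q) : q ∈ QS X (S \ {b}) r := by
  obtain ⟨x, hx, q', hq', rfl⟩ := h.split hr hS hb hq
  have hb1 := hS hb
  have hs := h.sub_mem1 hr hb1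
  have hS' : S \ {b} ⊆ Ph1 B Φ r := fun a ha => hS ha.1
  have h1 : B b (r - b) = -1 := by
    rw [h.roots.sub_right, hb1.2, h.roots.two b hb1.1]; norm_num
  obtain ⟨y, hy, hy1⟩ := h.ne (r - b) hs.1
  have h2 : q' * y = y * q' := h.comm_of_not_mem hr hS' hb1 (fun h => h.2 rfl) hq' hy
  have h3 : x * y = y * x := by
    have h4 := hc y hy
    have h5 : x * y * q' = y * x * q' := by
      rw [mul_assoc x, ← h2, ← mul_assoc, h4, mul_assoc y x q']
    exact mul_right_cancel h5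
  rcases h.inj b hb1.1 _ hs.1 h1 x hx y hy h3 with h6 | h6
  · rw [h6, one_mul]; exact hq'
  · exact absurd h6 hy1

/-- An element of `Q` lies in `QS X S r` iff it commutes with `X (r - b)`, `b ∉ S`. -/
theorem mem_QS (h : RG B Φ X) {r : L} (hr : r ∈ Φ) {S : Set L} {q : G}
    (hq : q ∈ QS X (Ph1 B Φ r) r) (hc : ∀ b ∈ Ph1 B Φ r, b ∉ S → ∀ y ∈ X (r - b), q * y = y * q) :
    q ∈ QS X (Ph1 B Φ r ∩ S) r := by
  classical
  have hfin : (Ph1 B Φ r).Finite := h.roots.fin.subset fun _ hb => hb.1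
  suffices H : ∀ F : Finset L, (F : Set L) ⊆ Ph1 B Φ r \ S → q ∈ QS X (Ph1 B Φ r \ F) r by
    have hfin2 : (Ph1 B Φ r \ S).Finite := hfin.subset Set.sdiff_subset
    have := H hfin2.toFinset (by rw [Set.Finite.coe_toFinset])
    rw [Set.Finite.coe_toFinset] at this
    rwa [Set.sdiff_sdiff_right_self] at this
  intro F
  induction F using Finset.induction_on with
  | empty => intro _; simpa using hq
  | insert b F hbF ih =>
    intro hF
    rw [Finset.coe_insert, Set.insert_subset_iff] at hF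
    have h1 := h.drop hr (S := Ph1 B Φ r \ F) Set.sdiff_subset (b := b) ⟨hF.1.1, hbF⟩ (ih hF.2)
      (hc b hF.1.1 hF.1.2)
    have e : (Ph1 B Φ r \ (F : Set L)) \ {b} = Ph1 B Φ r \ ((insert b F : Finset L) : Set L) := by
      rw [Finset.coe_insert, Set.sdiff_sdiff]
      congr 1
      exact Set.union_singleton
    rwa [e] at h1

/-- `Z(Q) = X r`. -/
theorem ZQ (h : RG B Φ X) {r : L} (hr : r ∈ Φ) {q : G} (hq : q ∈ QS X (Ph1 B Φ r) r)
    (hc : ∀ v ∈ QS X (Ph1 B Φ r) r, q * v = v * q) : q ∈ X r := by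
  have h1 := h.mem_QS hr (S := ∅) hq fun b hb _ y hy => hc y (le_QS X r (h.sub_mem1 hr hb) hy)
  rw [Set.inter_empty] at h1
  have h2 : QS X (∅ : Set L) r ≤ X r := QS_le le_rfl fun b hb => absurd hb (Set.notMem_empty b)
  exact h2 h1

/-- `X b ∩ X r = 1` -/
theorem inf_eq (h : RG B Φ X) {r : L} (hr : r ∈ Φ) {b : L} (hb : b ∈ Ph1 B Φ r) {x : G} (hx : x ∈ X b)
    (hxr : x ∈ X r) : x = 1 := by
  have hs := h.sub_mem1 hr hb
  have h1 : B b (r - b) = -1 := by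
    rw [h.roots.sub_right, hb.2, h.roots.two b hb.1]; norm_num
  obtain ⟨y, hy, hy1⟩ := h.ne (r - b) hs.1
  have h3 : x * y = y * x := h.XP hr hxr (le_PR X hs.1 (by rw [hs.2]; norm_num) hy)
  exact (h.inj b hb.1 _ hs.1 h1 x hx y hy h3).resolve_right hy1

end RG

/-- A subgroup `Q ≤ P ≤ ⟨X b : (b, r) ≥ 0⟩` containing enough root groups. -/
structure PG (B : L → L → ℤ) (Φ : Set L) (X : L → Subgroup G) (r : L) (P : Subgroup G) : Prop where
  QP : QS X (Ph1 B Φ r) r ≤ P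
  PPR : P ≤ PR B Φ X r
  ex : ∀ b ∈ Ph1 B Φ r, ∃ d ∈ Φ, X d ≤ P ∧ B d r = 0 ∧ B b d = 1

namespace RG

variable {B : L → L → ℤ} {Φ : Set L} {X : L → Subgroup G}

/-- `ξ` is inner on each root group. -/
theorem E2_aux (h : RG B Φ X) {r : L} (hr : r ∈ Φ) {P : Subgroup G} (hP : PG B Φ X r P) {f : G → G}
    (hfX : ∀ v ∈ QS X (Ph1 B Φ r) r, f v ∈ X r)
    (hfm : ∀ v ∈ QS X (Ph1 B Φ r) r, ∀ w ∈ QS X (Ph1 B Φ r) r, f (v * w) = f v * f w)
    (hfP : ∀ p ∈ P, ∃ q ∈ QS X (Ph1 B Φ r) r, ∀ v ∈ QS X (Ph1 B Φ r) r,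
      f (p * v * p⁻¹) = f v * (q * v * q⁻¹ * v⁻¹)) {b : L} (hb : b ∈ Ph1 B Φ r) :
    ∃ c ∈ X (r - b), ∀ u ∈ X b, f u = c * u * c⁻¹ * u⁻¹ := by
  obtain ⟨d, hd, hdP, hdr, hbd⟩ := hP.ex b hb
  obtain ⟨p, hp, hp1⟩ := h.ne d hd
  have R := h.roots
  -- the root `a = b - d`
  have ha : b - d ∈ Φ := R.sub_mem hb.1 hd hbd
  have har : B (b - d) r = 1 := by rw [R.sub_left, hb.2, hdr]; norm_num
  have ha1 : b - d ∈ Ph1 B Φ r := ⟨ha, har⟩
  have hda : B d (b - d) = -1 := by rw [R.sub_right, R.symm d b, hbd, R.two d hd]; norm_num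
  have hrb := h.sub_mem1 hr hb
  have hra := h.sub_mem1 hr ha1
  have hdrb : B d (r - b) = -1 := by rw [R.sub_right, hdr, R.symm d b, hbd]; norm_num
  obtain ⟨q, hq, hf⟩ := hfP p (hdP hp)
  -- the component of `q` in `X (r - a)`
  obtain ⟨y, hy, q', hq', rfl⟩ := h.split hr (subset_rfl) hra hq
  have e1 : d + (r - b) = r - (b - d) := by abel
  obtain ⟨c, hc, e⟩ := h.sur d hd _ hrb.1 hdrb p hp hp1 y (by rw [e1]; exact hy)
  refine ⟨c, hc, fun u hu => ?_⟩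
  obtain ⟨x, hx, eu⟩ := h.sur d hd _ ha hda p hp hp1 u (by rw [add_sub_cancel]; exact hu)
  have hxQ : x ∈ QS X (Ph1 B Φ r) r := le_QS X r ha1 hx
  have huQ : u ∈ QS X (Ph1 B Φ r) r := le_QS X r hb hu
  -- `f u = ⁅y q', x⁆ = ⁅y, x⁆`
  have h1 := hf x hxQ
  have e2 : p * x * p⁻¹ = u * x := by rw [← eu]; group
  rw [e2, hfm u huQ x hxQ] at h1
  have hfc : f u * f x = f x * f u := h.XP hr (hfX u huQ) (h.QS_le_PR hr subset_rfl (X_le_QS X _ r (hfX x hxQ)))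
  rw [hfc] at h1
  have h2 : f u = (y * q') * x * (y * q')⁻¹ * x⁻¹ := mul_left_cancel h1
  have h3 : q' * x = x * q' := by
    refine h.comm_of_not_mem hr (S := Ph1 B Φ r \ {r - (b - d)}) Set.sdiff_subset hra (fun h => h.2 rfl) hq' ?_
    rwa [sub_sub_cancel]
  have h4 : f u = y * x * y⁻¹ * x⁻¹ := by
    rw [h2]
    calc (y * q') * x * (y * q')⁻¹ * x⁻¹ = y * (q' * x) * q'⁻¹ * y⁻¹ * x⁻¹ := by group
      _ = _ := by rw [h3]; group
  -- `⁅y, x⁆ = ⁅c, u⁆`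
  have hcx : c * x = x * c := by
    refine h.pos _ hrb.1 _ ha ?_ c hc x hx
    rw [R.sub_left, R.symm r, har, R.sub_right, R.two b hb.1, hbd]; norm_num
  have hyu : y * u = u * y := by
    refine h.pos _ hra.1 _ hb.1 ?_ y hy u hu
    rw [R.sub_left, R.symm r, hb.2, R.sub_left, R.two b hb.1, R.symm d b, hbd]; norm_num
  have epc : p * c * p⁻¹ = y * c := by rw [← e]; group
  have h5 : y * c * (u * x) = u * x * (y * c) := by
    rw [← e2, ← epc]
    calc p * c * p⁻¹ * (p * x * p⁻¹) = p * (c * x) * p⁻¹ := by group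
      _ = p * (x * c) * p⁻¹ := by rw [hcx]
      _ = _ := by group
  -- central elements
  have hcu : c * u * c⁻¹ * u⁻¹ ∈ X r := h.QQ hr (le_QS X r hrb hc) huQ
  have hxy : x * y * x⁻¹ * y⁻¹ ∈ X r := h.QQ hr hxQ (le_QS X r hra hy)
  have hy' : y ∈ PR B Φ X r := h.QS_le_PR hr subset_rfl (le_QS X r hra hy)
  have hu' : u ∈ PR B Φ X r := h.QS_le_PR hr subset_rfl (le_QS X r hb hu)
  have h6 : (c * u * c⁻¹ * u⁻¹) * (y * u * c * x) = (x * y * x⁻¹ * y⁻¹) * (u * y * c * x) := by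
    calc (c * u * c⁻¹ * u⁻¹) * (y * u * c * x) = ((c * u * c⁻¹ * u⁻¹) * y) * u * c * x := by group
      _ = y * (c * u * x) := by rw [h.XP hr hcu hy']; group
      _ = y * c * (u * x) := by group
      _ = u * x * (y * c) := h5
      _ = u * (x * y * x⁻¹ * y⁻¹) * (y * x * c) := by group
      _ = (x * y * x⁻¹ * y⁻¹) * u * (y * (c * x)) := by rw [← h.XP hr hxy hu', hcx]; group
      _ = _ := by group
  rw [hyu] at h6
  have h7 := mul_right_cancel h6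
  rw [h4, h7]
  have h8 := h.inv_X hr hxy
  rw [← h8]; group

/-- Every `P`-invariant class of homomorphisms `Q/X → X` modulo inner ones is trivial. -/
theorem E2 (h : RG B Φ X) {r : L} (hr : r ∈ Φ) {P : Subgroup G} (hP : PG B Φ X r P) (f : G → G)
    (hfX : ∀ v ∈ QS X (Ph1 B Φ r) r, f v ∈ X r)
    (hfm : ∀ v ∈ QS X (Ph1 B Φ r) r, ∀ w ∈ QS X (Ph1 B Φ r) r, f (v * w) = f v * f w)
    (hf1 : ∀ x ∈ X r, f x = 1)
    (hfP : ∀ p ∈ P, ∃ q ∈ QS X (Ph1 B Φ r) r, ∀ v ∈ QS X (Ph1 B Φ r) r,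
      f (p * v * p⁻¹) = f v * (q * v * q⁻¹ * v⁻¹)) :
    ∃ q ∈ QS X (Ph1 B Φ r) r, ∀ v ∈ QS X (Ph1 B Φ r) r, f v = q * v * q⁻¹ * v⁻¹ := by
  classical
  have R := h.roots
  have hfin : (Ph1 B Φ r).Finite := h.roots.fin.subset fun _ hb => hb.1
  have H : ∀ F : Finset L, (F : Set L) ⊆ Ph1 B Φ r → ∃ q ∈ QS X (Ph1 B Φ r) r,
      (∀ b ∈ F, ∀ v ∈ X b, f v = q * v * q⁻¹ * v⁻¹) ∧
      (∀ b ∈ Ph1 B Φ r, b ∉ F → ∀ v ∈ X b, q * v * q⁻¹ * v⁻¹ = 1) := by
    intro F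
    induction F using Finset.induction_on with
    | empty =>
      intro _
      exact ⟨1, one_mem _, fun b hb => absurd hb (Finset.notMem_empty b), fun b _ _ v _ => by group⟩
    | insert b F hbF ih =>
      intro hF
      rw [Finset.coe_insert, Set.insert_subset_iff] at hF
      obtain ⟨q, hq, h1, h2⟩ := ih hF.2
      obtain ⟨c, hc, h3⟩ := h.E2_aux hr hP hfX hfm hfP hF.1
      have hrb := h.sub_mem1 hr hF.1
      -- `c` commutes with `X b'`, `b' ≠ b`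
      have hcc : ∀ b' ∈ Ph1 B Φ r, b' ≠ b → ∀ v ∈ X b', c * v = v * c := by
        intro b' hb' hne v hv
        refine h.comm1 hr hrb hb' ?_ hc hv
        intro h4
        apply hne
        have h6 : b' = r - (r - b) := eq_sub_of_add_eq (by rw [add_comm]; exact h4)
        rw [h6, sub_sub_cancel]
      have hcom : ∀ v ∈ QS X (Ph1 B Φ r) r, (c * q) * v * (c * q)⁻¹ * v⁻¹ =
          (q * v * q⁻¹ * v⁻¹) * (c * v * c⁻¹ * v⁻¹) := by
        intro v hv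
        have h4 := h.QQ hr hq hv
        have hcP : c ∈ PR B Φ X r := h.QS_le_PR hr subset_rfl (le_QS X r hrb hc)
        calc (c * q) * v * (c * q)⁻¹ * v⁻¹ = c * (q * v * q⁻¹ * v⁻¹) * (v * c⁻¹ * v⁻¹) := by group
          _ = _ := by rw [← h.XP hr h4 hcP]; group
      refine ⟨c * q, mul_mem (le_QS X r hrb hc) hq, fun b' hb' v hv => ?_, fun b' hb' hn v hv => ?_⟩
      · rcases Finset.mem_insert.1 hb' with rfl | hb'
        · rw [hcom v (le_QS X r hF.1 hv), h2 b' hF.1 hbF v hv, one_mul]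
          exact h3 v hv
        · have hne : b' ≠ b := fun h => hbF (h ▸ hb')
          have hb1 := hF.2 hb'
          rw [hcom v (le_QS X r hb1 hv), ← h1 b' hb' v hv, hcc b' hb1 hne v hv]
          group
      · have hne : b' ≠ b := fun h => hn (h ▸ Finset.mem_insert_self _ _)
        have hn' : b' ∉ F := fun h => hn (Finset.mem_insert_of_mem h)
        rw [hcom v (le_QS X r hb' hv), h2 b' hb' hn' v hv, hcc b' hb' hne v hv]
        group
  obtain ⟨q, hq, h1, -⟩ := H hfin.toFinset (by rw [Set.Finite.coe_toFinset])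
  refine ⟨q, hq, fun v hv => ?_⟩
  -- the elements where `f` and the inner map agree
  have hqP : q ∈ PR B Φ X r := h.QS_le_PR hr subset_rfl hq
  have hf1' : f 1 = 1 := hf1 1 (one_mem _)
  let D : Subgroup G :=
    { carrier := {v | v ∈ QS X (Ph1 B Φ r) r ∧ f v = q * v * q⁻¹ * v⁻¹}
      one_mem' := ⟨one_mem _, by rw [hf1']; group⟩
      mul_mem' := by
        rintro a b ⟨ha, ha2⟩ ⟨hb, hb2⟩
        refine ⟨mul_mem ha hb, ?_⟩
        have h3 := h.XP hr (h.QQ hr hq hb) (h.QS_le_PR hr subset_rfl ha)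
        rw [hfm a ha b hb, ha2, hb2]
        calc q * a * q⁻¹ * a⁻¹ * (q * b * q⁻¹ * b⁻¹) = q * a * q⁻¹ * a⁻¹ * ((q * b * q⁻¹ * b⁻¹) * a) * a⁻¹ := by
              group
          _ = _ := by rw [h3]; group
      inv_mem' := by
        rintro a ⟨ha, ha2⟩
        refine ⟨inv_mem ha, ?_⟩
        have h4 := hfm a ha a⁻¹ (inv_mem ha)
        rw [mul_inv_cancel, hf1', ha2] at h4
        have h3 := h.XP hr (h.QQ hr hq ha) (h.QS_le_PR hr subset_rfl (inv_mem ha))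
        have h5 : f a⁻¹ = (q * a * q⁻¹ * a⁻¹)⁻¹ := eq_inv_of_mul_eq_one_right h4.symm
        rw [h5]
        calc (q * a * q⁻¹ * a⁻¹)⁻¹ = (a⁻¹ * (q * a * q⁻¹ * a⁻¹) * a)⁻¹ := by rw [← h3]; group
          _ = _ := by group }
  have hle : QS X (Ph1 B Φ r) r ≤ D := by
    refine QS_le (fun x hx => ⟨X_le_QS X _ r hx, ?_⟩) fun b hb x hx => ⟨le_QS X r hb hx, ?_⟩
    · rw [hf1 x hx, ← h.XP hr hx hqP]; group
    · exact h1 b (by rw [Set.Finite.mem_toFinset]; exact hb) x hx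
  exact (hle hv).2

end RG

end Cfsg.Agent.OddHalf.D7Ex

end

-- merged: Cfsg.Agent.OddHalf.D7Ex.Lin
section

/-!
# A 2-element commuting with `P` on `Q/X` is trivial there
-/

set_option autoImplicit false
set_option linter.style.haveILetI false
set_option linter.unusedSectionVars false
set_option linter.unusedVariables false

namespace Cfsg.Agent.OddHalf.D7Ex

open Subgroup Cfsg.Agent.OddHalf.SL.Defs
open scoped commutatorElement

section Fix

variable {G : Type*} [Group G]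

/-- A 2-element normalising `A Z` and `Z` fixes a nontrivial coset `a Z`. -/
theorem exists_fix {A Z : Subgroup G} [Finite A] {n : G} {k : ℕ} (hn : n ^ 2 ^ k = 1)
    (hA : 2 ∣ Nat.card A) (hAZ : ∀ x ∈ A, x ∈ Z → x = 1) (hZn : ∀ z ∈ Z, n * z * n⁻¹ ∈ Z)
    (hdec : ∀ u ∈ A, ∃ u' ∈ A, ∃ z ∈ Z, n * u * n⁻¹ = u' * z) :
    ∃ u ∈ A, u ≠ 1 ∧ u⁻¹ * (n * u * n⁻¹) ∈ Z := by
  classical
  haveI : Fintype A := Fintype.ofFinite A
  haveI : Fact (Nat.Prime 2) := ⟨Nat.prime_two⟩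
  choose! g hgA z hz hg using hdec
  let f : Function.End A := fun u => ⟨g u, hgA u u.2⟩
  have huniq : ∀ u ∈ A, ∀ v ∈ A, ∀ z ∈ Z, u = v * z → u = v := by
    intro u hu v hv z hz e
    have h1 : v⁻¹ * u = 1 := hAZ _ (mul_mem (inv_mem hv) hu) (by rw [e, inv_mul_cancel_left]; exact hz)
    exact (inv_mul_eq_one.1 h1).symm
  have hpow : ∀ j : ℕ, ∀ u : A, ∃ z ∈ Z, n ^ j * (u : G) * (n ^ j)⁻¹ = ((f ^ j) u : A) * z := by
    intro j
    induction j with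
    | zero =>
      intro u
      refine ⟨1, one_mem _, ?_⟩
      have e0 : ((f ^ 0) u : A) = u := by rw [pow_zero]; rfl
      rw [e0, pow_zero]; group
    | succ j ih =>
      intro u
      obtain ⟨z1, hz1, e1⟩ := ih u
      have e2 := hg ((f ^ j) u : A) ((f ^ j) u).2
      refine ⟨z ((f ^ j) u : A) * (n * z1 * n⁻¹), mul_mem (hz _ ((f ^ j) u).2) (hZn z1 hz1), ?_⟩
      have e3 : ((f ^ (j + 1)) u : A) = f ((f ^ j) u) := by
        rw [pow_succ' f j]; rfl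
      rw [e3]
      show n ^ (j + 1) * (u : G) * (n ^ (j + 1))⁻¹ = g ((f ^ j) u : A) * (z ((f ^ j) u : A) * (n * z1 * n⁻¹))
      calc n ^ (j + 1) * (u : G) * (n ^ (j + 1))⁻¹ = n * (n ^ j * (u : G) * (n ^ j)⁻¹) * n⁻¹ := by
            rw [pow_succ' n j]; group
        _ = (n * ((f ^ j) u : A) * n⁻¹) * (n * z1 * n⁻¹) := by rw [e1]; group
        _ = _ := by rw [e2]; group
  have hf : f ^ 2 ^ k = 1 := by
    funext u
    obtain ⟨z1, hz1, e1⟩ := hpow (2 ^ k) u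
    rw [hn, one_mul, inv_one, mul_one] at e1
    exact Subtype.ext (huniq _ u.2 _ ((f ^ 2 ^ k) u).2 z1 hz1 e1).symm
  have hf1 : f 1 = 1 := by
    have e1 := hg 1 (one_mem _)
    rw [mul_one, mul_inv_cancel] at e1
    exact Subtype.ext (huniq 1 (one_mem _) _ (hgA 1 (one_mem _)) _ (hz 1 (one_mem _)) e1).symm
  have hcard := Equiv.Perm.card_fixedPoints_modEq hf
  rw [Nat.card_eq_fintype_card] at hA
  have h2 : 2 ∣ Fintype.card f.fixedPoints := (Nat.modEq_zero_iff_dvd.1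
    (hcard.symm.trans (Nat.modEq_zero_iff_dvd.2 hA)))
  have h1mem : (1 : A) ∈ f.fixedPoints := hf1
  have h3 : 1 < Fintype.card f.fixedPoints := by
    have : 0 < Fintype.card f.fixedPoints := Fintype.card_pos_iff.2 ⟨⟨1, h1mem⟩⟩
    omega
  obtain ⟨⟨u, hu⟩, hne⟩ := Fintype.exists_ne_of_one_lt_card h3 ⟨1, h1mem⟩
  have hu' : f u = u := hu
  refine ⟨u, u.2, fun h => hne (Subtype.ext (Subtype.ext h)), ?_⟩
  have e1 := hg u u.2
  have e2 : g u = u := congrArg Subtype.val hu'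
  rw [e1, e2, inv_mul_cancel_left]
  exact hz u u.2

end Fix

variable {L : Type*} [AddCommGroup L] {G : Type*} [Group G]

/-- The subgroup `⟨X b : (b, r) = 1 = (b, d)⟩ X r`. -/
def Rd (B : L → L → ℤ) (Φ : Set L) (X : L → Subgroup G) (r d : L) : Subgroup G :=
  QS X {b | b ∈ Ph1 B Φ r ∧ B b d = 1} r

/-- Enough root groups in `P` to separate, and enough torus. -/
structure PT (B : L → L → ℤ) (Φ : Set L) (X : L → Subgroup G) (r : L) (P : Subgroup G) : Prop where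
  sep : ∀ b ∈ Ph1 B Φ r, ∀ b' ∈ Ph1 B Φ r, b' ≠ b → ∃ d ∈ Φ, X d ≤ P ∧ B d r = 0 ∧ B b d = 1 ∧ B b' d ≠ 1
  tor : ∀ b ∈ Ph1 B Φ r, ∀ x ∈ X b, ∀ y ∈ X b, x ≠ 1 → y ≠ 1 → ∃ p ∈ P, p * x * p⁻¹ = y

namespace RG

variable {B : L → L → ℤ} {Φ : Set L} {X : L → Subgroup G}

/-- `[X d, Q] ≤ Rd`. -/
theorem comm_mem_Rd (h : RG B Φ X) {r d : L} (hr : r ∈ Φ) (hd : d ∈ Φ) (hdr : B d r = 0) {p q : G} (hp : p ∈ X d)
    (hq : q ∈ QS X (Ph1 B Φ r) r) : p * q * p⁻¹ * q⁻¹ ∈ Rd B Φ X r d := by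
  have hS : {b | b ∈ Ph1 B Φ r ∧ B b d = 1} ⊆ Ph1 B Φ r := fun b hb => hb.1
  let D : Subgroup G :=
    { carrier := {q | q ∈ QS X (Ph1 B Φ r) r ∧ p * q * p⁻¹ * q⁻¹ ∈ Rd B Φ X r d}
      one_mem' := ⟨one_mem _, by rw [mul_one, mul_inv_cancel, inv_one, mul_one]; exact one_mem _⟩
      mul_mem' := by
        rintro a b ⟨ha, ha2⟩ ⟨hb, hb2⟩
        refine ⟨mul_mem ha hb, ?_⟩
        have e : p * (a * b) * p⁻¹ * (a * b)⁻¹ = (p * a * p⁻¹ * a⁻¹) * (a * (p * b * p⁻¹ * b⁻¹) * a⁻¹) := by group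
        rw [e]
        exact mul_mem ha2 (h.Q_norm hr _ ha hS hb2)
      inv_mem' := by
        rintro a ⟨ha, ha2⟩
        refine ⟨inv_mem ha, ?_⟩
        have e : p * a⁻¹ * p⁻¹ * a⁻¹⁻¹ = a⁻¹ * (p * a * p⁻¹ * a⁻¹)⁻¹ * a⁻¹⁻¹ := by group
        rw [e]
        exact h.Q_norm hr _ (inv_mem ha) hS (inv_mem ha2) }
  have hle : QS X (Ph1 B Φ r) r ≤ D := by
    refine QS_le (fun x hx => ⟨X_le_QS X _ r hx, ?_⟩) fun b hb x hx => ⟨le_QS X r hb hx, ?_⟩
    · have e : p * x * p⁻¹ * x⁻¹ = 1 := by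
        rw [h.pos d hd r hr (by rw [hdr]) p hp x hx]; group
      rw [e]; exact one_mem _
    · rcases h.cases hd hb.1 with h1 | h1 | h1
      · have e : p * x * p⁻¹ * x⁻¹ = 1 := by
          rw [h.pos d hd b hb.1 h1 p hp x hx]; group
        rw [e]; exact one_mem _
      · have h2 := h.roots.add d hd b hb.1 h1
        refine le_QS X (S := {b | b ∈ Ph1 B Φ r ∧ B b d = 1}) r ⟨⟨h2, ?_⟩, ?_⟩ (h.neg d hd b hb.1 h1 p hp x hx)
        · rw [h.roots.add_left, hdr, hb.2]; norm_num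
        · rw [h.roots.add_left, h.roots.two d hd, h.roots.symm b d, h1]; norm_num
      · exfalso
        rw [h1, h.roots.neg_left, hb.2] at hdr
        omega
  exact (hle hq).2

/-- An element trivial on `P/Q` normalises `Rd`. -/
theorem conj_mem_Rd (h : RG B Φ X) {r d : L} (hr : r ∈ Φ) (hd : d ∈ Φ) (hdr : B d r = 0) {P : Subgroup G}
    (hdP : X d ≤ P) {n : G} (hnQ : ∀ q ∈ QS X (Ph1 B Φ r) r, n * q * n⁻¹ ∈ QS X (Ph1 B Φ r) r)
    (hnP : ∀ p ∈ P, n * p * n⁻¹ * p⁻¹ ∈ QS X (Ph1 B Φ r) r) {b : L} (hb : b ∈ Ph1 B Φ r) (hbd : B b d = 1)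
    {u : G} (hu : u ∈ X b) : n * u * n⁻¹ ∈ Rd B Φ X r d := by
  have R := h.roots
  have hS : {b | b ∈ Ph1 B Φ r ∧ B b d = 1} ⊆ Ph1 B Φ r := fun b hb => hb.1
  have ha : b - d ∈ Φ := R.sub_mem hb.1 hd hbd
  have ha1 : b - d ∈ Ph1 B Φ r := ⟨ha, by rw [R.sub_left, hb.2, hdr]; norm_num⟩
  have hda : B d (b - d) = -1 := by rw [R.sub_right, R.symm d b, hbd, R.two d hd]; norm_num
  obtain ⟨p, hp, hp1⟩ := h.ne d hd
  obtain ⟨x, hx, eu⟩ := h.sur d hd _ ha hda p hp hp1 u (by rw [add_sub_cancel]; exact hu)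
  have hx' := hnQ x (le_QS X r ha1 hx)
  have hq1 := hnP p (hdP hp)
  set x' := n * x * n⁻¹ with hx'd
  set q1 := n * p * n⁻¹ * p⁻¹ with hq1d
  have e : n * u * n⁻¹ = q1 * (p * x' * p⁻¹ * x'⁻¹) * q1⁻¹ * (q1 * x' * q1⁻¹ * x'⁻¹) := by
    rw [← eu, hq1d, hx'd]; group
  rw [e]
  exact mul_mem (h.Q_norm hr _ hq1 hS (h.comm_mem_Rd hr hd hdr hp hx'))
    (X_le_QS X _ r (h.QQ hr hq1 hx'))

/-- An element trivial on `P/Q` normalises `X b X r`. -/
theorem conj_mem_b (h : RG B Φ X) {r : L} (hr : r ∈ Φ) {P : Subgroup G} (hT : PT B Φ X r P) {n : G}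
    (hnQ : ∀ q ∈ QS X (Ph1 B Φ r) r, n * q * n⁻¹ ∈ QS X (Ph1 B Φ r) r)
    (hnP : ∀ p ∈ P, n * p * n⁻¹ * p⁻¹ ∈ QS X (Ph1 B Φ r) r) {b : L} (hb : b ∈ Ph1 B Φ r)
    {u : G} (hu : u ∈ X b) : ∃ u' ∈ X b, ∃ z ∈ X r, n * u * n⁻¹ = u' * z := by
  have h1 : n * u * n⁻¹ ∈ QS X (Ph1 B Φ r ∩ {b}) r := by
    refine h.mem_QS hr (hnQ u (le_QS X r hb hu)) fun b' hb' hne y hy => ?_
    obtain ⟨d, hd, hdP, hdr, hbd, hbd'⟩ := hT.sep b hb b' hb' hne
    exact h.comm_of_not_mem hr (S := {b | b ∈ Ph1 B Φ r ∧ B b d = 1}) (fun b hb => hb.1) hb'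
      (fun h => hbd' h.2) (h.conj_mem_Rd hr hd hdr hdP hnQ hnP hb hbd hu) hy
  have hbm : b ∈ Ph1 B Φ r ∩ {b} := ⟨hb, rfl⟩
  have hsub : Ph1 B Φ r ∩ {b} ⊆ Ph1 B Φ r := Set.inter_subset_left
  obtain ⟨u', hu', z, hz, e⟩ := h.split hr hsub hbm h1
  have h2 : QS X ((Ph1 B Φ r ∩ {b}) \ {b}) r ≤ X r := QS_le le_rfl fun c hc => absurd hc.1.2 hc.2
  exact ⟨u', hu', z, h2 hz, e⟩

/-- A 2-element commuting with `P` on `Q/X` is trivial there. -/
theorem lin (h : RG B Φ X) [Finite G] {r : L} (hr : r ∈ Φ) {P : Subgroup G} (hPP : P ≤ PR B Φ X r)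
    (hT : PT B Φ X r P) {n : G}
    (hn2 : IsPGroup 2 (zpowers n))
    (hnQ : ∀ q ∈ QS X (Ph1 B Φ r) r, n * q * n⁻¹ ∈ QS X (Ph1 B Φ r) r) (hnX : ∀ x ∈ X r, n * x * n⁻¹ ∈ X r)
    (hnP : ∀ p ∈ P, n * p * n⁻¹ * p⁻¹ ∈ QS X (Ph1 B Φ r) r) {q : G} (hq : q ∈ QS X (Ph1 B Φ r) r) :
    n * q * n⁻¹ * q⁻¹ ∈ X r := by
  obtain ⟨k, hk⟩ := hn2 ⟨n, mem_zpowers n⟩
  have hk' : n ^ 2 ^ k = 1 := congrArg Subtype.val hk
  -- on `X b`
  have hb : ∀ b ∈ Ph1 B Φ r, ∀ u ∈ X b, n * u * n⁻¹ * u⁻¹ ∈ X r := by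
    intro b hb u hu
    by_cases hu1 : u = 1
    · rw [hu1, mul_one, mul_inv_cancel, inv_one, mul_one]; exact one_mem _
    have hcard : 2 ∣ Nat.card (X b) := by
      have h1 : orderOf u = 2 := orderOf_eq_prime (by rw [pow_two]; exact h.X2 b hb.1 u hu) hu1
      rw [← h1, ← Subgroup.orderOf_mk u hu]
      exact orderOf_dvd_natCard _
    obtain ⟨u0, hu0, hu01, hfix⟩ := exists_fix (Z := X r) hk' hcard (fun x hx hx' => h.inf_eq hr hb hx hx') hnX
      (fun u hu => h.conj_mem_b hr hT hnQ hnP hb hu)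
    obtain ⟨p, hp, e⟩ := hT.tor b hb u0 hu0 u hu hu01 hu1
    have hq1 := hnP p hp
    set q1 := n * p * n⁻¹ * p⁻¹ with hq1d
    set z := u0⁻¹ * (n * u0 * n⁻¹) with hzd
    have huQ : u ∈ QS X (Ph1 B Φ r) r := le_QS X r hb hu
    have hzu := h.XP hr hfix (h.QS_le_PR hr subset_rfl huQ)
    have hzp := h.XP hr hfix (inv_mem (hPP hp))
    have e2 : n * u * n⁻¹ * u⁻¹ = (q1 * u * q1⁻¹ * u⁻¹) * z := by
      calc n * u * n⁻¹ * u⁻¹ = (q1 * p) * (u0 * z) * (q1 * p)⁻¹ * u⁻¹ := by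
            rw [← e, hq1d, hzd]; group
        _ = q1 * p * u0 * (z * p⁻¹) * q1⁻¹ * u⁻¹ := by group
        _ = q1 * (p * u0 * p⁻¹) * (z * q1⁻¹) * u⁻¹ := by rw [hzp]; group
        _ = q1 * u * q1⁻¹ * (z * u⁻¹) := by
          rw [e, h.XP hr hfix (h.QS_le_PR hr subset_rfl (inv_mem hq1))]; group
        _ = _ := by rw [h.XP hr hfix (h.QS_le_PR hr subset_rfl (inv_mem huQ))]; group
    rw [e2]
    exact mul_mem (h.QQ hr hq1 huQ) hfix
  let D : Subgroup G :=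
    { carrier := {q | q ∈ QS X (Ph1 B Φ r) r ∧ n * q * n⁻¹ * q⁻¹ ∈ X r}
      one_mem' := ⟨one_mem _, by rw [mul_one, mul_inv_cancel, inv_one, mul_one]; exact one_mem _⟩
      mul_mem' := by
        rintro a b ⟨ha, ha2⟩ ⟨hb, hb2⟩
        refine ⟨mul_mem ha hb, ?_⟩
        have e : n * (a * b) * n⁻¹ * (a * b)⁻¹ = (n * a * n⁻¹ * a⁻¹) * (a * (n * b * n⁻¹ * b⁻¹) * a⁻¹) := by group
        rw [e, ← h.XP hr hb2 (h.QS_le_PR hr subset_rfl ha), mul_inv_cancel_right]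
        exact mul_mem ha2 hb2
      inv_mem' := by
        rintro a ⟨ha, ha2⟩
        refine ⟨inv_mem ha, ?_⟩
        have e : n * a⁻¹ * n⁻¹ * a⁻¹⁻¹ = a⁻¹ * ((n * a * n⁻¹ * a⁻¹)⁻¹ * a) := by group
        rw [e, h.XP hr (inv_mem ha2) (h.QS_le_PR hr subset_rfl ha), inv_mul_cancel_left]
        exact inv_mem ha2 }
  have hle : QS X (Ph1 B Φ r) r ≤ D := by
    refine QS_le (fun x hx => ⟨X_le_QS X _ r hx, mul_mem (hnX x hx) (inv_mem hx)⟩) fun b hb' x hx =>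
      ⟨le_QS X r hb' hx, hb b hb' x hx⟩
  exact (hle hq).2

end RG

end Cfsg.Agent.OddHalf.D7Ex

end
end

-- part: KFacts/TwESix/Facts
section
prune_inst 0x40001000000000000000000000000000000200400000004000000140000080400000002000100000041000000000020800100000000000000000000404010002100010000000000000000082000000000000000000000000000000000000200000000
set_option linter.all false
open scoped Cfsg.Agent.FastGrp

-- part: KFacts/TwESix/CombRho
section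
/-!
# Combinatorics of `F₄` at the highest root (packet [B])

`rho = (2,3,4,2)`, `⟨x, ρ^∨⟩ = x 0`; the statements on `{x | x 0 = 1}` and `{x | x 0 = 0}` used for the unipotent
radical `Q` of the stabiliser of `X ρ`; `btwn_orth`, `btwn_135`: the roots between two short orthogonal roots, resp.
between a long and a short root at 135 degrees.
-/

set_option autoImplicit false
set_option linter.unusedSectionVars false

namespace Cfsg.Agent.KFacts.TwESix.CombRho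

open CoxeterSystem Cfsg.Agent.ChevalleyStructure.CoxeterGeom Cfsg.Agent.Tits.Roots Cfsg.Agent.Tits.Core
  Cfsg.Agent.Tits.RootComb Cfsg.Agent.Nodes.Reps Cfsg.Agent.Nodes.BNOf Cfsg.Agent.Nodes.Coroot
  Cfsg.Agent.KFacts.RgdSL Cfsg.Agent.Nodes.RGDTwE6 Cfsg.Agent.KFacts.TwESix.Comb

variable {W : Type*} [Group W] (cs : CoxeterSystem CoxeterMatrix.F₄ W)

set_option maxRecDepth 20000

/-! ### Roots between two roots -/

/-- The root between two orthogonal short roots is the sum. -/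
theorem btwn_orth {x y z : Fin 4 → ℤ} (hx : bf x x = 2) (hy : bf y y = 2) (hxy : bf x y = 0)
    (hz : Btwn cs isCartan x y z) : z = x + y := by
  obtain ⟨hzr, m, a, b, hm, ha, hb, he⟩ := hz
  have e1 : m * bf z x = 2 * a := by
    have := congrArg (fun v => bf v x) he
    simp only [bf_add_left, bf_smul_left] at this
    rw [this, bf_comm y x, hx, hxy]; ring
  have e2 : m * bf z y = 2 * b := by
    have := congrArg (fun v => bf v y) he
    simp only [bf_add_left, bf_smul_left] at this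
    rw [this, hxy, hy]; ring
  have e3 : m * bf z z = a * bf z x + b * bf z y := by
    have h2 := congrArg (fun v => bf v z) he
    simp only [bf_add_left, bf_smul_left] at h2
    rw [h2, bf_comm x z, bf_comm y z]
  set c := bf z x with hc
  set d := bf z y with hd
  have hc0 : 0 < c := by
    by_contra h
    have : m * c ≤ 0 := mul_nonpos_of_nonneg_of_nonpos hm.le (not_lt.1 h)
    omega
  have hd0 : 0 < d := by
    by_contra h
    have : m * d ≤ 0 := mul_nonpos_of_nonneg_of_nonpos hm.le (not_lt.1 h)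
    omega
  have e4 : 2 * bf z z = c * c + d * d := by
    have h2 : m * (2 * bf z z) = m * (c * c + d * d) := by linear_combination 2 * e3 - c * e1 - d * e2
    exact mul_left_cancel₀ hm.ne' h2
  have hcd : c = 2 ∧ d = 2 := by
    have hN : bf z z ≤ 4 := by rcases _root_.Cfsg.Agent.KFacts.TwESix.Comb.norm cs hzr with h | h <;> omega
    have b1 : c ≤ 2 := by nlinarith only [hm, ha, hb, e1, e3, hd0, hN]
    have b2 : d ≤ 2 := by nlinarith only [hm, ha, hb, e2, e3, hc0, hN]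
    rcases _root_.Cfsg.Agent.KFacts.TwESix.Comb.norm cs hzr with h | h <;> rw [h] at e4 <;> clear_value c d <;> interval_cases c <;>
      interval_cases d <;> omega
  have ha' : a = m := by rw [hcd.1] at e1; omega
  have hb' : b = m := by rw [hcd.2] at e2; omega
  rw [ha', hb', ← smul_add] at he
  exact smul_right_injective _ hm.ne' he

/-- The roots between a long root `x` and a short root `y` at 135 degrees are `x + y` and `x + 2 y`. -/
theorem btwn_135 {x y z : Fin 4 → ℤ} (hx : bf x x = 4) (hy : bf y y = 2) (hxy : bf x y = -2)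
    (hz : Btwn cs isCartan x y z) : z = x + y ∨ z = x + (2 : ℤ) • y := by
  obtain ⟨hzr, m, a, b, hm, ha, hb, he⟩ := hz
  have e1 : m * bf z x = 4 * a - 2 * b := by
    have := congrArg (fun v => bf v x) he
    simp only [bf_add_left, bf_smul_left] at this
    rw [this, bf_comm y x, hx, hxy]; ring
  have e2 : m * bf z y = -2 * a + 2 * b := by
    have := congrArg (fun v => bf v y) he
    simp only [bf_add_left, bf_smul_left] at this
    rw [this, hxy, hy]; ring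
  have e3 : m * bf z z = a * bf z x + b * bf z y := by
    have h2 := congrArg (fun v => bf v z) he
    simp only [bf_add_left, bf_smul_left] at h2
    rw [h2, bf_comm x z, bf_comm y z]
  obtain ⟨c, hc⟩ : ∃ c, c = bf z x + bf z y := ⟨_, rfl⟩
  obtain ⟨d, hd⟩ : ∃ d, d = bf z x + 2 * bf z y := ⟨_, rfl⟩
  have f1 : m * c = 2 * a := by rw [hc]; linear_combination e1 + e2
  have f2 : m * d = 2 * b := by rw [hd]; linear_combination e1 + 2 * e2
  have hc0 : 0 < c := by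
    by_contra h
    have : m * c ≤ 0 := mul_nonpos_of_nonneg_of_nonpos hm.le (not_lt.1 h)
    omega
  have hd0 : 0 < d := by
    by_contra h
    have : m * d ≤ 0 := mul_nonpos_of_nonneg_of_nonpos hm.le (not_lt.1 h)
    omega
  have e4 : 2 * bf z z = c * c + (c - d) * (c - d) := by
    have hzx : bf z x = 2 * c - d := by rw [hc, hd]; ring
    have hzy : bf z y = d - c := by rw [hc, hd]; ring
    have h2 : m * (2 * bf z z) = m * (c * c + (c - d) * (c - d)) := by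
      have e5 := e3
      rw [hzx, hzy] at e5
      linear_combination 2 * e5 - (2 * c - d) * f1 - (d - c) * f2
    exact mul_left_cancel₀ hm.ne' h2
  have hcd : c = 2 ∧ (d = 2 ∨ d = 4) := by
    have hN : bf z z ≤ 4 := by rcases _root_.Cfsg.Agent.KFacts.TwESix.Comb.norm cs hzr with h | h <;> omega
    have b1 : c ≤ 2 := by nlinarith only [e4, hN]
    have b2 : d ≤ 5 := by nlinarith only [hm, ha, hb, e2, e3, hc, hd, f2, hc0, hN, b1]
    rcases _root_.Cfsg.Agent.KFacts.TwESix.Comb.norm cs hzr with h | h <;> rw [h] at e4 <;> clear hc hd <;> interval_cases c <;>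
      interval_cases d <;> (clear * - e4; omega)
  have ha' : a = m := by rw [hcd.1] at f1; omega
  rcases hcd.2 with h2 | h2
  · left
    have hb' : b = m := by rw [h2] at f2; omega
    rw [ha', hb', ← smul_add] at he
    exact smul_right_injective _ hm.ne' he
  · right
    have hb' : b = m * 2 := by rw [h2] at f2; omega
    rw [ha', hb', mul_smul, ← smul_add] at he
    exact smul_right_injective _ hm.ne' he

/-! ### Kernel checks -/

theorem zero_le : ∀ b ∈ rts, b 0 ≤ 2 := by decide +kernel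

theorem eq_rho : ∀ b ∈ rts, b 0 = 2 → b = rho := by decide +kernel

theorem op_mem : ∀ b ∈ rts, b 0 = 1 → rho - b ∈ rts ∧ (rho - b) 0 = 1 ∧ bf (rho - b) (rho - b) = bf b b ∧
    2 * bf b (rho - b) = (if bf b b = 4 then -4 else 0) := by decide +kernel

/-- commuting pairs in `Φ₁` -/
theorem comm1 : ∀ a ∈ rts, a 0 = 1 → ∀ b ∈ rts, b 0 = 1 → b ≠ rho - a →
    (bf a a = 4 ∧ 0 ≤ bf b a) ∨ (bf b b = 4 ∧ 0 ≤ bf a b) ∨ (bf a a = 2 ∧ bf b b = 2 ∧ (a = b ∨ bf a b = 1)) := by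
  (delta Cfsg.Agent.KFacts.TwESix.Comb.bf; set_option synthInstance.maxSize 100000 in exact Cfsg.Agent.Lib.Refl.of (by decide +kernel))

/-- `b = d + (b - d)`, an `A₂`-pair with `d ⟂ ρ` -/
theorem ex : ∀ b ∈ rts, b 0 = 1 → ∃ d ∈ rts, d 0 = 0 ∧ b - d ∈ rts ∧ bf d d = bf b b ∧
    bf (b - d) (b - d) = bf b b ∧ 2 * bf d (b - d) = - bf b b ∧ 2 * bf d (rho - b) = - bf b b ∧ b - d ≠ b := by
  (delta Cfsg.Agent.KFacts.TwESix.Comb.bf; set_option synthInstance.maxSize 100000 in exact Cfsg.Agent.Lib.Refl.of (by decide +kernel))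

/-- separation -/
theorem sep : ∀ b ∈ rts, b 0 = 1 → bf b b = 4 → ∀ b' ∈ rts, b' 0 = 1 → b' ≠ b → ∃ d ∈ rts, d 0 = 0 ∧
    bf d d = 4 ∧ bf b d = 2 ∧ bf b' d ≠ 2 ∧ b - d ∈ rts := by
  (delta Cfsg.Agent.KFacts.TwESix.Comb.bf; set_option synthInstance.maxSize 100000 in exact Cfsg.Agent.Lib.Refl.of (by decide +kernel))

/-- the commutators `[X d, X c]`, `d` long, `d ⟂ ρ`, `c ∈ Φ₁` -/
theorem sep_comm : ∀ d ∈ rts, d 0 = 0 → bf d d = 4 → ∀ c ∈ rts, c 0 = 1 → 0 ≤ bf c d ∨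
    (bf c c = 4 ∧ bf c d = -2 ∧ bf (d + c) d = 2 ∧ d + c ∈ rts ∧ (d + c) 0 = 1) ∨
    (bf c c = 2 ∧ bf d c = -2 ∧ bf (d + c) d = 2 ∧ d + c ∈ rts ∧ (d + c) 0 = 1 ∧ d + (2 : ℤ) • c = rho) := by
  (delta Cfsg.Agent.KFacts.TwESix.Comb.bf; set_option synthInstance.maxSize 100000 in exact Cfsg.Agent.Lib.Refl.of (by decide +kernel))

/-- a torus moving `X b` inside `P` -/
theorem tor : ∀ b ∈ rts, b 0 = 1 → bf b b = 4 → ∃ d ∈ rts, d 0 = 0 ∧ bf d d = 4 ∧ 2 * bf d b = -4 := by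
  decide +kernel

/-- short roots of `Φ₁` from long ones -/
theorem short : ∀ b ∈ rts, b 0 = 1 → bf b b = 2 → ∃ c ∈ rts, c 0 = 1 ∧ bf c c = 4 ∧ ∃ d ∈ rts, d 0 = 0 ∧
    bf d d = 2 ∧ bf c d = -2 ∧ c + d = b ∧ c + (2 : ℤ) • d ∈ rts ∧ bf (c + (2 : ℤ) • d) (c + (2 : ℤ) • d) = 4 ∧
    (c + (2 : ℤ) • d) 0 = 1 := by
  decide +kernel

/-- the root number `k` -/
def rhoRt (k : ℕ) : Fin 4 → ℤ := rts.getD k 0

theorem exists_rhoRt {x : Fin 4 → ℤ} (hx : x ∈ rts) : ∃ k < 48, rhoRt k = x := by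
  obtain ⟨k, hk, h⟩ := List.mem_iff_getElem.1 hx
  refine ⟨k, hk, ?_⟩
  rw [rhoRt, List.getD_eq_getElem _ _ hk, h]

theorem rhoRt_mem {k : ℕ} (hk : k < 48) : rhoRt k ∈ rts := by
  rw [rhoRt, List.getD_eq_getElem _ _ (show k < rts.length from hk)]
  exact List.getElem_mem _

/-- the two summands of the root number `k` in `perf` -/
def perfTab : List (ℕ × ℕ) := [
  (15, 37), (2, 24), (0, 1), (13, 15), (1, 3), (12, 18), (0, 4), (1, 5), (0, 7), (3, 7), (0, 9), (1, 10),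
  (14, 37), (14, 36), (12, 13), (16, 36), (12, 15), (19, 36), (13, 16), (12, 17), (13, 19), (15, 19), (13, 21),
  (12, 22), (13, 39), (0, 0), (0, 0), (12, 42), (0, 0), (36, 42), (0, 0), (0, 0), (0, 0), (0, 0), (0, 0),
  (0, 0), (13, 38), (12, 38), (15, 42), (12, 40), (13, 42), (0, 0), (37, 40), (0, 0), (0, 0), (0, 0), (0, 0),
  (0, 0)]

theorem perf_tab : ∀ k < 48, 0 ≤ rhoRt k 0 → (perfTab.getD k (0, 0)).1 < 48 ∧ (perfTab.getD k (0, 0)).2 < 48 ∧
    0 ≤ rhoRt (perfTab.getD k (0, 0)).1 0 ∧ 0 ≤ rhoRt (perfTab.getD k (0, 0)).2 0 ∧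
    rhoRt (perfTab.getD k (0, 0)).1 + rhoRt (perfTab.getD k (0, 0)).2 = rhoRt k ∧
    ((bf (rhoRt (perfTab.getD k (0, 0)).1) (rhoRt (perfTab.getD k (0, 0)).1) =
        bf (rhoRt (perfTab.getD k (0, 0)).2) (rhoRt (perfTab.getD k (0, 0)).2) ∧
      2 * bf (rhoRt (perfTab.getD k (0, 0)).1) (rhoRt (perfTab.getD k (0, 0)).2) =
        - bf (rhoRt (perfTab.getD k (0, 0)).1) (rhoRt (perfTab.getD k (0, 0)).1)) ∨
     (bf (rhoRt k) (rhoRt k) = 4 ∧ bf (rhoRt (perfTab.getD k (0, 0)).1) (rhoRt (perfTab.getD k (0, 0)).1) = 2 ∧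
      bf (rhoRt (perfTab.getD k (0, 0)).2) (rhoRt (perfTab.getD k (0, 0)).2) = 2 ∧
      bf (rhoRt (perfTab.getD k (0, 0)).1) (rhoRt (perfTab.getD k (0, 0)).2) = 0)) := by
  decide +kernel

/-- every root of `P` is a commutator inside `P` -/
theorem perf : ∀ b ∈ rts, 0 ≤ b 0 → (∃ c ∈ rts, 0 ≤ c 0 ∧ ∃ d ∈ rts, 0 ≤ d 0 ∧ bf c c = bf d d ∧
    2 * bf c d = - bf c c ∧ c + d = b) ∨ (bf b b = 4 ∧ ∃ c ∈ rts, 0 ≤ c 0 ∧ ∃ d ∈ rts, 0 ≤ d 0 ∧ bf c c = 2 ∧
    bf d d = 2 ∧ bf c d = 0 ∧ c + d = b) := by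
  intro b hb h0
  obtain ⟨k, hk, rfl⟩ := exists_rhoRt hb
  obtain ⟨h1, h2, h3, h4, h5, h6⟩ := perf_tab k hk h0
  rcases h6 with ⟨h7, h8⟩ | ⟨h7, h8, h9, h10⟩
  · exact Or.inl ⟨_, rhoRt_mem h1, h3, _, rhoRt_mem h2, h4, h7, h8, h5⟩
  · exact Or.inr ⟨h7, _, rhoRt_mem h1, h3, _, rhoRt_mem h2, h4, h8, h9, h10, h5⟩

/-- every root lies in an `A₂`-pair -/
theorem nbr : ∀ b ∈ rts, ∃ x ∈ rts, bf x x = bf b b ∧ 2 * bf x b = - bf x x := by decide +kernel

/-- the sum of two orthogonal short roots is a long root -/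
theorem orth_add : ∀ x ∈ rts, bf x x = 2 → ∀ y ∈ rts, bf y y = 2 → bf x y = 0 → x + y ∈ rts ∧
    bf (x + y) (x + y) = 4 := by
  (delta Cfsg.Agent.KFacts.TwESix.Comb.bf; set_option synthInstance.maxSize 100000 in exact Cfsg.Agent.Lib.Refl.of (by decide +kernel))

/-! ### Transitivity on the orthogonal pairs of short roots -/

/-- One step of the descent of `(x, y)`. -/
def stp (z : (Fin 4 → ℤ) × (Fin 4 → ℤ)) : (Fin 4 → ℤ) × (Fin 4 → ℤ) :=
  match (List.finRange 4).find? fun i => decide (0 < pairing A i z.1 ∨ (pairing A i z.1 = 0 ∧ 0 < pairing A i z.2)) with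
  | none => z
  | some i => (Cfsg.Agent.Nodes.RGDFold.refl A i z.1, Cfsg.Agent.Nodes.RGDFold.refl A i z.2)

/-- the lowest pair -/
def lowp : (Fin 4 → ℤ) × (Fin 4 → ℤ) := stp^[30] (![0, 0, 1, 0], ![0, 1, 1, 0])

/-- the ordered pairs of orthogonal short roots, by their positions in `rts` -/
def stpPrs : List (ℕ × ℕ) := [
  (12, 18), (12, 20), (12, 21), (12, 42), (12, 44), (12, 45), (13, 15), (13, 17), (13, 23), (13, 39), (13, 41),
  (13, 47), (14, 16), (14, 19), (14, 22), (14, 40), (14, 43), (14, 46), (15, 13), (15, 17), (15, 23), (15, 37),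
  (15, 41), (15, 47), (16, 14), (16, 19), (16, 22), (16, 38), (16, 43), (16, 46), (17, 13), (17, 15), (17, 23),
  (17, 37), (17, 39), (17, 47), (18, 12), (18, 20), (18, 21), (18, 36), (18, 44), (18, 45), (19, 14), (19, 16),
  (19, 22), (19, 38), (19, 40), (19, 46), (20, 12), (20, 18), (20, 21), (20, 36), (20, 42), (20, 45), (21, 12),
  (21, 18), (21, 20), (21, 36), (21, 42), (21, 44), (22, 14), (22, 16), (22, 19), (22, 38), (22, 40), (22, 43),
  (23, 13), (23, 15), (23, 17), (23, 37), (23, 39), (23, 41), (36, 18), (36, 20), (36, 21), (36, 42), (36, 44),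
  (36, 45), (37, 15), (37, 17), (37, 23), (37, 39), (37, 41), (37, 47), (38, 16), (38, 19), (38, 22), (38, 40),
  (38, 43), (38, 46), (39, 13), (39, 17), (39, 23), (39, 37), (39, 41), (39, 47), (40, 14), (40, 19), (40, 22),
  (40, 38), (40, 43), (40, 46), (41, 13), (41, 15), (41, 23), (41, 37), (41, 39), (41, 47), (42, 12), (42, 20),
  (42, 21), (42, 36), (42, 44), (42, 45), (43, 14), (43, 16), (43, 22), (43, 38), (43, 40), (43, 46), (44, 12),
  (44, 18), (44, 21), (44, 36), (44, 42), (44, 45), (45, 12), (45, 18), (45, 20), (45, 36), (45, 42), (45, 44),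
  (46, 14), (46, 16), (46, 19), (46, 38), (46, 40), (46, 43), (47, 13), (47, 15), (47, 17), (47, 37), (47, 39),
  (47, 41)]

/-- the positions of the images of `stpPrs` under `stp` -/
def stpNxt : List ℕ := [
  72, 0, 1, 4, 5, 77, 78, 6, 80, 10, 82, 83, 0, 12, 2, 16, 4, 5, 6, 7, 8, 9, 10, 11, 12, 13, 14, 15, 16, 17,
  18, 19, 20, 21, 22, 23, 24, 25, 37, 27, 41, 29, 24, 25, 26, 27, 28, 29, 36, 37, 38, 39, 40, 41, 48, 49, 55,
  51, 59, 53, 54, 60, 61, 64, 65, 59, 69, 66, 67, 70, 71, 65, 84, 72, 73, 76, 77, 89, 90, 78, 92, 82, 94, 95,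
  96, 84, 98, 88, 100, 101, 102, 103, 104, 105, 106, 107, 114, 115, 116, 117, 118, 119, 105, 102, 116, 106,
  118, 119, 120, 121, 122, 123, 124, 125, 120, 114, 122, 118, 124, 125, 126, 127, 128, 129, 130, 131, 132, 133,
  127, 135, 131, 137, 138, 132, 133, 136, 137, 143, 141, 138, 139, 142, 143, 143]

/-- the pair number `i` -/
def stpPr (i : ℕ) : (Fin 4 → ℤ) × (Fin 4 → ℤ) := (rhoRt (stpPrs.getD i (0, 0)).1, rhoRt (stpPrs.getD i (0, 0)).2)

/-- the position after `n` steps -/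
def stpIt (n i : ℕ) : ℕ := (fun j => stpNxt.getD j 0)^[n] i

theorem stpPrs_chk : ((List.range 48).all fun a => !decide (bf (rhoRt a) (rhoRt a) = 2) ||
    (List.range 48).all fun b => !decide (bf (rhoRt b) (rhoRt b) = 2) || !decide (bf (rhoRt a) (rhoRt b) = 0) ||
      decide ((a, b) ∈ stpPrs)) = true := by
  (delta Cfsg.Agent.KFacts.TwESix.Comb.bf; set_option synthInstance.maxSize 100000 in exact Cfsg.Agent.Lib.Refl.of (by decide +kernel))

theorem stpPrs_mem (a : ℕ) (ha : a < 48) (haa : bf (rhoRt a) (rhoRt a) = 2) (b : ℕ) (hb : b < 48)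
    (h : bf (rhoRt b) (rhoRt b) = 2 ∧ bf (rhoRt a) (rhoRt b) = 0) : (a, b) ∈ stpPrs := by
  have h1 := List.all_eq_true.1 stpPrs_chk a (List.mem_range.2 ha)
  rw [Bool.or_eq_true, Bool.not_eq_true', decide_eq_false_iff_not] at h1
  have h2 := List.all_eq_true.1 (h1.resolve_left (not_not.2 haa)) b (List.mem_range.2 hb)
  rw [Bool.or_eq_true, Bool.or_eq_true, Bool.not_eq_true', Bool.not_eq_true', decide_eq_false_iff_not,
    decide_eq_false_iff_not, decide_eq_true_iff] at h2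
  rcases h2 with (h2 | h2) | h2
  · exact absurd h.1 h2
  · exact absurd h.2 h2
  · exact h2

theorem stpPr_step : ∀ i < 144, stpNxt.getD i 0 < 144 ∧ stp (stpPr i) = stpPr (stpNxt.getD i 0) := by
  decide +kernel

theorem stpIt_last : ∀ i < 144, stpIt 30 i = 143 := by decide +kernel

theorem stpPr_start : ((![0, 0, 1, 0], ![0, 1, 1, 0]) : (Fin 4 → ℤ) × (Fin 4 → ℤ)) = stpPr 6 := by decide +kernel

theorem stpPr_iter (n : ℕ) : ∀ i < 144, stp^[n] (stpPr i) = stpPr (stpIt n i) := by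
  induction n with
  | zero => exact fun i _ => rfl
  | succ n ih =>
    intro i hi
    obtain ⟨h1, h2⟩ := stpPr_step i hi
    rw [Function.iterate_succ_apply, h2, ih _ h1]
    rfl

theorem stpPr_low (i : ℕ) (hi : i < 144) : stp^[30] (stpPr i) = stpPr 143 := by
  rw [stpPr_iter 30 i hi, stpIt_last i hi]

theorem stp_all : ∀ x ∈ rts, bf x x = 2 → ∀ y ∈ rts, bf y y = 2 → bf x y = 0 → stp^[30] (x, y) = lowp := by
  intro x hx hxx y hy hyy hxy
  obtain ⟨a, ha, rfl⟩ := exists_rhoRt hx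
  obtain ⟨b, hb, rfl⟩ := exists_rhoRt hy
  obtain ⟨i, hi, h⟩ := List.mem_iff_getElem.1 (stpPrs_mem a ha hxx b hb ⟨hyy, hxy⟩)
  have h1 : (rhoRt a, rhoRt b) = stpPr i := by
    rw [stpPr, List.getD_eq_getElem _ _ hi, h]
  rw [h1, stpPr_low i hi, lowp, stpPr_start, stpPr_low 6 (by norm_num)]

theorem exists_stp (z : (Fin 4 → ℤ) × (Fin 4 → ℤ)) : ∃ w : W, rep cs isCartan w (stp z).1 = z.1 ∧
    rep cs isCartan w (stp z).2 = z.2 := by
  unfold stp
  cases h : (List.finRange 4).find? fun i =>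
      decide (0 < pairing A i z.1 ∨ (pairing A i z.1 = 0 ∧ 0 < pairing A i z.2)) with
  | none => exact ⟨1, by rw [map_one]; exact ⟨rfl, rfl⟩⟩
  | some i =>
    refine ⟨cs.simple i, ?_, ?_⟩
    · show rep cs isCartan (cs.simple i) (Cfsg.Agent.Nodes.RGDFold.refl A i z.1) = z.1
      rw [← rep_simple_refl cs i, ← rep_mul_apply, cs.simple_mul_simple_self, map_one]; rfl
    · show rep cs isCartan (cs.simple i) (Cfsg.Agent.Nodes.RGDFold.refl A i z.2) = z.2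
      rw [← rep_simple_refl cs i, ← rep_mul_apply, cs.simple_mul_simple_self, map_one]; rfl

theorem exists_stp_iter (n : ℕ) (z : (Fin 4 → ℤ) × (Fin 4 → ℤ)) : ∃ w : W,
    rep cs isCartan w (stp^[n] z).1 = z.1 ∧ rep cs isCartan w (stp^[n] z).2 = z.2 := by
  induction n generalizing z with
  | zero => exact ⟨1, by rw [map_one]; exact ⟨rfl, rfl⟩⟩
  | succ n ih =>
    obtain ⟨w, h1, h2⟩ := ih (stp z)
    obtain ⟨v, h3, h4⟩ := exists_stp cs z
    refine ⟨v * w, ?_, ?_⟩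
    · rw [Function.iterate_succ_apply, rep_mul_apply, h1, h3]
    · rw [Function.iterate_succ_apply, rep_mul_apply, h2, h4]

/-- `W` is transitive on the ordered pairs of orthogonal short roots. -/
theorem exists_rep_pair {x y x' y' : Fin 4 → ℤ} (hx : IsRoot cs isCartan x) (hy : IsRoot cs isCartan y)
    (hxx : bf x x = 2) (hyy : bf y y = 2) (hxy : bf x y = 0) (hx' : IsRoot cs isCartan x')
    (hy' : IsRoot cs isCartan y') (hxx' : bf x' x' = 2) (hyy' : bf y' y' = 2) (hxy' : bf x' y' = 0) :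
    ∃ w : W, rep cs isCartan w x = x' ∧ rep cs isCartan w y = y' := by
  obtain ⟨w, h1, h2⟩ := exists_stp_iter cs 30 (x, y)
  obtain ⟨v, h3, h4⟩ := exists_stp_iter cs 30 (x', y')
  rw [stp_all x ((mem_rts cs).1 hx) hxx y ((mem_rts cs).1 hy) hyy hxy] at h1 h2
  rw [stp_all x' ((mem_rts cs).1 hx') hxx' y' ((mem_rts cs).1 hy') hyy' hxy'] at h3 h4
  refine ⟨v * w⁻¹, ?_, ?_⟩
  · rw [rep_mul_apply]
    have : rep cs isCartan w⁻¹ x = lowp.1 := by
      have h5 : x = rep cs isCartan w lowp.1 := h1.symm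
      rw [h5, rep_inv_apply]
    rw [this]; exact h3
  · rw [rep_mul_apply]
    have : rep cs isCartan w⁻¹ y = lowp.2 := by
      have h5 : y = rep cs isCartan w lowp.2 := h2.symm
      rw [h5, rep_inv_apply]
    rw [this]; exact h4

end Cfsg.Agent.KFacts.TwESix.CombRho
end

-- part: KFacts/TwESix/Facts
section
-- merged: Cfsg.Agent.KFacts.TwESix.Grp
section

/-!
# `²E₆(q)`: the long root groups (packet [B])

* `lr_long` : `LR` (of `RgdTI`) for every long root `a`: `X a` is centralised by all `X x` with `⟨x, a^∨⟩ ≥ 0`;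
  every characteristic, every `q`.
-/

set_option autoImplicit false
set_option linter.unusedSectionVars false

namespace Cfsg.Agent.KFacts.TwESix.Grp

open CoxeterSystem Cfsg.Agent.ChevalleyStructure.CoxeterGeom Cfsg.Agent.Tits.Roots Cfsg.Agent.Tits.Core
  Cfsg.Agent.Tits.RootComb Cfsg.Agent.Nodes.Reps Cfsg.Agent.Nodes.BNOf Cfsg.Agent.Nodes.Coroot
  Cfsg.Agent.Nodes.RGDTwGen
  Cfsg.Agent.KFacts.RgdSL Cfsg.Agent.KFacts.RgdTI Cfsg.Agent.Nodes.RGDTwE6 Cfsg.Agent.Nodes.RGDFold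
  Cfsg.Agent.KFacts.TwESix.Comb
open Cfsg.Lie Cfsg.Agent.ChevalleyStructure Cfsg.Agent.ChevalleyStructure.Elts
  Cfsg.Agent.ChevalleyStructure.TwistedU Cfsg.Agent.ChevalleyStructure.TwistedFix
open Cfsg.Agent.ChevalleyStructure.TwE6Basic (sg)
open scoped commutatorElement

universe u

variable {K : Type u} [Field K] {q : ℕ} {φ : K →+* K}
variable {W : Type*} [Group W] (cs : CoxeterSystem CoxeterMatrix.F₄ W)

theorem commute_long {s : ℕ} (hs : s < chevE6.nroots) (hl : bf (V chevE6 J s) (V chevE6 J s) = 4) {r : ℕ}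
    (hr : r < chevE6.nroots) (hrs : 0 ≤ bf (V chevE6 J r) (V chevE6 J s)) (t u : K) :
    Commute (xG (F := K) hp.inList r t) (xG hp.inList s u) := by
  rcases nil_of_nonneg s hs hl r hr hrs with h | ⟨h1, h2⟩
  · subst h
    show xG (F := K) hp.inList s t * xG hp.inList s u = xG hp.inList s u * xG hp.inList s t
    rw [xG_add, xG_add, add_comm]
  · by_cases h3 : s = r
    · subst h3
      show xG (F := K) hp.inList s t * xG hp.inList s u = xG hp.inList s u * xG hp.inList s t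
      rw [xG_add, xG_add, add_comm]
    · exact commute_of_nil hp hr hs h3 h1 h2 t u

/-- **`LR` for long roots.** -/
theorem lr_long [Fintype K] (hφ : ∀ x, φ x = x ^ q) (hqq : ∀ t : K, (t ^ q) ^ q = t) (p : ℕ) [Fact p.Prime]
    [CharP K p] {a : Fin 4 → ℤ} (ha : IsRoot cs isCartan a) (hl : bf a a = 4) :
    LR (_root_.Cfsg.Agent.Nodes.RGDTwE6.rgd cs hφ hqq p) a := by
  have : Finite W := finiteW cs
  refine ⟨ha, fun x hx hc u hu v hv => ?_⟩
  have hc' : 0 ≤ bf x a := (ge_iff cs ha hl).1 hc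
  have hu' : (u : GL chevE6.Idx K) ∈ rspan (xG (F := K) hp.inList) {k | k < chevE6.nroots ∧ V chevE6 J k = x} :=
    (show (u : GL chevE6.Idx K) ∈ R chevE6 hp K J (sg φ) x from hu).1
  have hv' : (v : GL chevE6.Idx K) ∈ rspan (xG (F := K) hp.inList) {k | k < chevE6.nroots ∧ V chevE6 J k = a} :=
    (show (v : GL chevE6.Idx K) ∈ R chevE6 hp K J (sg φ) a from hv).1
  have step : ∀ s ∈ {k | k < chevE6.nroots ∧ V chevE6 J k = a}, ∀ t : K,
      rspan (xG (F := K) hp.inList) {k | k < chevE6.nroots ∧ V chevE6 J k = x} ≤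
        Subgroup.centralizer ({xG (F := K) hp.inList s t} : Set (GL chevE6.Idx K)) := by
    rintro s ⟨hs, hsa⟩ t
    refine rspan_le _ fun r hr w => ?_
    rw [Subgroup.mem_centralizer_singleton_iff]
    exact (commute_long hs (by rw [hsa]; exact hl) hr.1 (by rw [hr.2, hsa]; exact hc') w t).eq
  have h1 : rspan (xG (F := K) hp.inList) {k | k < chevE6.nroots ∧ V chevE6 J k = a} ≤
      Subgroup.centralizer ({(u : GL chevE6.Idx K)} : Set (GL chevE6.Idx K)) := by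
    refine rspan_le _ fun s hs t => ?_
    rw [Subgroup.mem_centralizer_singleton_iff]
    exact (Subgroup.mem_centralizer_singleton_iff.1 (step s hs t hu')).symm
  exact Subtype.ext (Subgroup.mem_centralizer_singleton_iff.1 (h1 hv')).symm

end Cfsg.Agent.KFacts.TwESix.Grp

end

-- merged: Cfsg.Agent.KFacts.TwESix.Facts
section

/-!
# Root groups of `²E₆(q)`: commutators of short roots (packet [B])

`Dat R`: `R` is a root group datum of type `F₄` in characteristic 2 whose long root groups are central in the sense of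
`LR`, and two orthogonal short root groups do not commute (`nc`).

* `sq`, `abel` : root groups are elementary abelian;
* `comm_long`, `comm_60` : commuting pairs;
* `orth_mem`, `orth_nd`, `orth_surj` : `[X x, X y] = X (x + y)`, nondegenerate, for `x ⟂ y` short;
* `surj_135` : for `x` long, `y` short at 135 degrees, `1 ≠ u ∈ X x`: every `w ∈ X (x + y)` is `[u, v]` modulo
  `X (x + 2y)`.
-/

set_option autoImplicit false
set_option linter.unusedSectionVars false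

namespace Cfsg.Agent.KFacts.TwESix.Facts

open CoxeterSystem Cfsg.Agent.ChevalleyStructure.CoxeterGeom Cfsg.Agent.Tits.Roots Cfsg.Agent.Tits.Core
  Cfsg.Agent.Tits.RootComb Cfsg.Agent.Tits.Exchange Cfsg.Agent.Nodes.Reps Cfsg.Agent.Nodes.BNOf
  Cfsg.Agent.Nodes.StabComb Cfsg.Agent.Nodes.Bruhat Cfsg.Agent.Nodes.OppDec
  Cfsg.Agent.Nodes.Coroot Cfsg.Agent.KFacts.RgdSL Cfsg.Agent.KFacts.RgdTI Cfsg.Agent.KFacts.RgdOdd
  Cfsg.Agent.KFacts.RgdEx
  Cfsg.Agent.Nodes.RGDTwE6 Cfsg.Agent.KFacts.TwESix.Comb Cfsg.Agent.KFacts.TwESix.CombRho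
open scoped commutatorElement

variable {W Y : Type*} [Group W] [Group Y] {cs : CoxeterSystem CoxeterMatrix.F₄ W} {T : Subgroup Y} {n : Fin 4 → Y}
  {X : (Fin 4 → ℤ) → Subgroup Y}

/-- The facts on the root group datum used below. -/
structure Dat (R : RGD cs isCartan 2 T n X) : Prop where
  lr : ∀ a, IsRoot cs isCartan a → bf a a = 4 → LR R a
  nc : ∃ x y, IsRoot cs isCartan x ∧ IsRoot cs isCartan y ∧ bf x x = 2 ∧ bf y y = 2 ∧ bf x y = 0 ∧
    ∃ u ∈ X x, ∃ v ∈ X y, u * v ≠ v * u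

variable (R : RGD cs isCartan 2 T n X)

include R

/-- Root groups are elementary abelian. -/
theorem sq {b : Fin 4 → ℤ} (hb : IsRoot cs isCartan b) {v : Y} (hv : v ∈ X b) : v * v = 1 := by
  have : Finite W := finiteW cs
  have : Fact (Nat.Prime 2) := ⟨Nat.prime_two⟩
  obtain ⟨x, hx, h1, h2⟩ := nbr b ((mem_rts cs).1 hb)
  have hA := a2 cs ((mem_rts cs).2 hx) hb h1 h2
  rw [← pow_two]
  exact elementary R hA hv

theorem inv_eq {b : Fin 4 → ℤ} (hb : IsRoot cs isCartan b) {v : Y} (hv : v ∈ X b) : v⁻¹ = v :=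
  inv_eq_of_mul_eq_one_left (sq R hb hv)

theorem abel {b : Fin 4 → ℤ} (hb : IsRoot cs isCartan b) {u v : Y} (hu : u ∈ X b) (hv : v ∈ X b) : u * v = v * u := by
  have h1 := sq R hb (mul_mem hu hv)
  have h2 : (u * v)⁻¹ = v * u := by rw [mul_inv_rev, inv_eq R hb hu, inv_eq R hb hv]
  rw [← h2]
  exact (inv_eq_of_mul_eq_one_left h1).symm

/-- Two short root groups at 60 degrees commute. -/
theorem comm_60 {x y : Fin 4 → ℤ} (hx : IsRoot cs isCartan x) (hy : IsRoot cs isCartan y) (hxx : bf x x = 2)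
    (hyy : bf y y = 2) (hxy : bf x y = 1) {u v : Y} (hu : u ∈ X x) (hv : v ∈ X y) : u * v = v * u := by
  have : Finite W := finiteW cs
  refine comm_of_not_btwn R hx hy ?_ ?_ (fun z => not_btwn_60 cs hx hy (by rw [hxx, hyy]) (by rw [hxx, hxy]; norm_num))
    hu hv
  · rintro rfl
    omega
  · rintro rfl
    rw [bf_neg_left] at hxy
    omega

/-- A nontrivial element of a root group can be moved to any other one by the torus. -/
theorem exists_tor {b : Fin 4 → ℤ} (hb : IsRoot cs isCartan b) {v v' : Y} (hv : v ∈ X b) (hv1 : v ≠ 1) (hv' : v' ∈ X b)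
    (hv1' : v' ≠ 1) : ∃ t ∈ T, t * v * t⁻¹ = v' := by
  have : Finite W := finiteW cs
  obtain ⟨x, hx, h1, h2⟩ := nbr b ((mem_rts cs).1 hb)
  have hA := a2 cs ((mem_rts cs).2 hx) hb h1 h2
  obtain ⟨t, ht, e⟩ := hA.tor_trans R hv hv1 hv' hv1'
  exact ⟨t, ht.1, e⟩

theorem tor_mem {b : Fin 4 → ℤ} (hb : IsRoot cs isCartan b) {t v : Y} (ht : t ∈ T) (hv : v ∈ X b) :
    t * v * t⁻¹ ∈ X b := by
  rw [← R.tor b hb t ht]
  exact conj_mem_cj.2 hv

/-- `[X x, X y] ≤ X (x + y)` for `x ⟂ y` short. -/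
theorem orth_mem {x y : Fin 4 → ℤ} (hx : IsRoot cs isCartan x) (hy : IsRoot cs isCartan y) (hxx : bf x x = 2)
    (hyy : bf y y = 2) (hxy : bf x y = 0) {u v : Y} (hu : u ∈ X x) (hv : v ∈ X y) : ⁅u, v⁆ ∈ X (x + y) := by
  have hne : x ≠ y := by rintro rfl; omega
  have hne' : x ≠ -y := by
    rintro rfl
    rw [bf_neg_left] at hxy
    omega
  exact btw_le_of (fun z hz => btwn_orth cs hxx hyy hxy hz) (R.comm x y hx hy hne hne' u hu v hv)

theorem exists_ne_one {b : Fin 4 → ℤ} (hb : IsRoot cs isCartan b) : ∃ u ∈ X b, u ≠ 1 := by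
  have := X_ne_bot R hb
  rw [Subgroup.ne_bot_iff_exists_ne_one] at this
  obtain ⟨⟨a, ha⟩, h1⟩ := this
  exact ⟨a, ha, fun h2 => h1 (Subtype.ext h2)⟩

/-- `[X x, X y] ≤ X (x + y) X (x + 2 y)`, `x` long, `y` short at 135 degrees. -/
theorem btw_135 {x y : Fin 4 → ℤ} (hx : IsRoot cs isCartan x) (hy : IsRoot cs isCartan y) (hxx : bf x x = 4)
    (hyy : bf y y = 2) (hxy : bf x y = -2) {u v : Y} (hu : u ∈ X x) (hv : v ∈ X y) :
    ⁅u, v⁆ ∈ X (x + y) ⊔ X (x + (2 : ℤ) • y) := by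
  have h1 := R.comm x y hx hy (by rintro rfl; omega) (by
    rintro rfl
    rw [bf_neg_left, bf_neg_right] at hxx
    omega) u hu v hv
  have h2 : _root_.Cfsg.Agent.Nodes.Reps.btw cs isCartan X x y ≤ X (x + y) ⊔ X (x + (2 : ℤ) • y) := by
    refine iSup_le fun z => ?_
    rcases btwn_135 cs hxx hyy hxy z.2 with h3 | h3
    · rw [h3]; exact le_sup_left
    · rw [h3]; exact le_sup_right
  exact h2 h1

variable {R} (D : Dat R)

include D

/-- A long root group commutes with every root group at an angle ≤ 90 degrees. -/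
theorem comm_long {x a : Fin 4 → ℤ} (hx : IsRoot cs isCartan x) (ha : IsRoot cs isCartan a) (haa : bf a a = 4)
    (hxa : 0 ≤ bf x a) {u v : Y} (hu : u ∈ X x) (hv : v ∈ X a) : u * v = v * u :=
  (D.lr a ha haa).comm x hx ((ge_iff cs ha haa).2 hxa) u hu v hv

/-- The pairing of two orthogonal short root groups is nondegenerate. -/
theorem orth_nd {x y : Fin 4 → ℤ} (hx : IsRoot cs isCartan x) (hy : IsRoot cs isCartan y) (hxx : bf x x = 2)
    (hyy : bf y y = 2) (hxy : bf x y = 0) {u : Y} (hu : u ∈ X x) (hu1 : u ≠ 1) : ∃ v ∈ X y, u * v ≠ v * u := by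
  obtain ⟨x0, y0, hx0, hy0, hxx0, hyy0, hxy0, u0, hu0, v0, hv0, hne⟩ := D.nc
  obtain ⟨w, hwx, hwy⟩ := exists_rep_pair cs hx0 hy0 hxx0 hyy0 hxy0 hx hy hxx hyy hxy
  obtain ⟨k, hk⟩ := exists_rp cs R.nsys w
  have h1 : k * u0 * k⁻¹ ∈ X x := by
    have := R.conj_mem hk hx0 hu0
    rwa [hwx] at this
  have h2 : k * v0 * k⁻¹ ∈ X y := by
    have := R.conj_mem hk hy0 hv0
    rwa [hwy] at this
  have hne' : (k * u0 * k⁻¹) * (k * v0 * k⁻¹) ≠ (k * v0 * k⁻¹) * (k * u0 * k⁻¹) := by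
    intro h
    apply hne
    have h3 : k * (u0 * v0) * k⁻¹ = k * (v0 * u0) * k⁻¹ := by
      calc k * (u0 * v0) * k⁻¹ = (k * u0 * k⁻¹) * (k * v0 * k⁻¹) := by group
        _ = (k * v0 * k⁻¹) * (k * u0 * k⁻¹) := h
        _ = _ := by group
    exact mul_left_cancel (mul_right_cancel h3)
  have h11 : k * u0 * k⁻¹ ≠ 1 := by
    intro h
    apply hne'
    rw [h, one_mul, mul_one]
  obtain ⟨t, ht, e⟩ := exists_tor R hx h1 h11 hu hu1
  refine ⟨t * (k * v0 * k⁻¹) * t⁻¹, tor_mem R hy ht h2, fun h => hne' ?_⟩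
  rw [← e] at h
  have h3 : t * ((k * u0 * k⁻¹) * (k * v0 * k⁻¹)) * t⁻¹ = t * ((k * v0 * k⁻¹) * (k * u0 * k⁻¹)) * t⁻¹ := by
    calc t * ((k * u0 * k⁻¹) * (k * v0 * k⁻¹)) * t⁻¹
        = t * (k * u0 * k⁻¹) * t⁻¹ * (t * (k * v0 * k⁻¹) * t⁻¹) := by group
      _ = t * (k * v0 * k⁻¹) * t⁻¹ * (t * (k * u0 * k⁻¹) * t⁻¹) := h
      _ = _ := by group
  exact mul_left_cancel (mul_right_cancel h3)

/-- `X (x + y)` consists of commutators. -/
theorem orth_surj {x y : Fin 4 → ℤ} (hx : IsRoot cs isCartan x) (hy : IsRoot cs isCartan y) (hxx : bf x x = 2)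
    (hyy : bf y y = 2) (hxy : bf x y = 0) {w : Y} (hw : w ∈ X (x + y)) : ∃ u ∈ X x, ∃ v ∈ X y, ⁅u, v⁆ = w := by
  by_cases hw1 : w = 1
  · exact ⟨1, one_mem _, 1, one_mem _, by rw [hw1]; simp⟩
  obtain ⟨u, hu, hu1⟩ := exists_ne_one R hx
  obtain ⟨v, hv, hne⟩ := orth_nd D hx hy hxx hyy hxy hu hu1
  have hxyr : IsRoot cs isCartan (x + y) :=
    (mem_rts cs).2 (orth_add x ((mem_rts cs).1 hx) hxx y ((mem_rts cs).1 hy) hyy hxy).1
  have h1 := orth_mem R hx hy hxx hyy hxy hu hv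
  have h2 : ⁅u, v⁆ ≠ 1 := fun h => hne (commutatorElement_eq_one_iff_mul_comm.1 h)
  obtain ⟨t, ht, e⟩ := exists_tor R hxyr h1 h2 hw hw1
  refine ⟨t * u * t⁻¹, tor_mem R hx ht hu, t * v * t⁻¹, tor_mem R hy ht hv, ?_⟩
  rw [← e, commutatorElement_def, commutatorElement_def]; group

/-- For `x` long, `y` short at 135 degrees, `1 ≠ u ∈ X x`: every `w ∈ X (x + y)` is `[u, v]` modulo `X (x + 2 y)`. -/
theorem surj_135 {x y : Fin 4 → ℤ} (hx : IsRoot cs isCartan x) (hy : IsRoot cs isCartan y) (hxx : bf x x = 4)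
    (hyy : bf y y = 2) (hxy : bf x y = -2) (hs : IsRoot cs isCartan (x + y)) (hl : IsRoot cs isCartan (x + (2 : ℤ) • y))
    {u : Y} (hu : u ∈ X x) (hu1 : u ≠ 1) {w : Y} (hw : w ∈ X (x + y)) :
    ∃ v ∈ X y, ∃ z ∈ X (x + (2 : ℤ) • y), ⁅u, v⁆ = w * z := by
  have : Finite W := finiteW cs
  have n1 : bf (x + y) (x + y) = 2 := by
    rw [bf_add_left, bf_add_right, bf_add_right, bf_comm y x, hxx, hyy, hxy]; norm_num
  have n2 : bf (x + (2 : ℤ) • y) (x + (2 : ℤ) • y) = 4 := by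
    rw [bf_add_left, bf_add_right, bf_add_right, bf_smul_left, bf_smul_left, bf_smul_right, bf_smul_right,
      bf_comm y x, hxx, hyy, hxy]; norm_num
  obtain ⟨s, hs', a, ha, b, hb, m, hm, he⟩ := exists_mu R hx hu hu1
  have hcyx : cpr cs isCartan y x = -1 := by
    have := cpr_long cs y hx hxx
    rw [bf_comm, hxy] at this
    omega
  have hsy : rep cs isCartan s y = x + y := by rw [hs', hcyx, neg_one_smul, sub_neg_eq_add, add_comm]
  have h1 : rep cs isCartan s⁻¹ (x + y) = y := by rw [← hsy, rep_inv_apply]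
  set v := m⁻¹ * w * m with hv'
  have hv : v ∈ X y := by
    have := R.conj_mem' hm hs hw
    rwa [h1] at this
  -- `⁅u, v⁆ = w' z`
  have hcomm : ∀ c ∈ X (x + y), ∀ d ∈ X (x + (2 : ℤ) • y), c * d = d * c := fun c hc d hd =>
    comm_long D hs hl n2 (by
      rw [bf_add_left, bf_add_right, bf_add_right, bf_smul_right, bf_smul_right, bf_comm y x, hxx, hyy, hxy]
      norm_num) hc hd
  have hdec : ∀ c ∈ X (x + y) ⊔ X (x + (2 : ℤ) • y), ∃ w' ∈ X (x + y), ∃ z ∈ X (x + (2 : ℤ) • y), c = w' * z := by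
    intro c hc
    have hle : X (x + y) ≤ Subgroup.normalizer (X (x + (2 : ℤ) • y) : Set Y) := by
      intro c hc
      rw [Subgroup.mem_normalizer_iff]
      intro d
      constructor
      · intro hd
        rw [hcomm c hc d hd, mul_inv_cancel_right]; exact hd
      · intro hd
        have h2 := hcomm c hc _ hd
        have e : d = c⁻¹ * (c * d * c⁻¹ * c) := by group
        rw [← h2] at e
        rw [e, inv_mul_cancel_left]; exact hd
    rw [← SetLike.mem_coe, Subgroup.coe_mul_of_left_le_normalizer_right _ _ hle] at hc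
    obtain ⟨w', hw', z, hz, e⟩ := hc
    exact ⟨w', hw', z, hz, e.symm⟩
  obtain ⟨w', hw', z, hz, e1⟩ := hdec _ (btw_135 R hx hy hxx hyy hxy hu hv)
  -- `a` commutes with `v` and `z`
  have hxn := hx.neg
  have hav : v * a = a * v := comm_long D hy hxn (by rw [bf_neg_left, bf_neg_right]; omega) (by
    rw [bf_neg_right, bf_comm]; omega) hv ha
  have hbv : v * b = b * v := comm_long D hy hxn (by rw [bf_neg_left, bf_neg_right]; omega) (by
    rw [bf_neg_right, bf_comm]; omega) hv hb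
  have haz : z * a = a * z := comm_long D hl hxn (by rw [bf_neg_left, bf_neg_right]; omega) (by
    rw [bf_neg_right, bf_add_left, bf_smul_left, bf_comm y x, hxx, hxy]; norm_num) hz ha
  -- `⁅a, w'⁆ = y1 z1`
  have hbf : bf (-x) (x + y) = -2 := by
    rw [bf_neg_left, bf_add_right, hxx, hxy]; norm_num
  have h3 := btw_135 R hxn hs (by rw [bf_neg_left, bf_neg_right]; omega) n1 hbf ha hw'
  have e2 : -x + (x + y) = y := by abel
  have e3 : -x + (2 : ℤ) • (x + y) = x + (2 : ℤ) • y := by module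
  rw [e2, e3] at h3
  have hyz : ∀ c ∈ X y, ∀ d ∈ X (x + (2 : ℤ) • y), c * d = d * c := fun c hc d hd =>
    comm_long D hy hl n2 (by rw [bf_add_right, bf_smul_right, bf_comm y x, hyy, hxy]; norm_num) hc hd
  obtain ⟨y1, hy1, z1, hz1, e4⟩ : ∃ y1 ∈ X y, ∃ z1 ∈ X (x + (2 : ℤ) • y), ⁅a, w'⁆ = y1 * z1 := by
    have hle : X y ≤ Subgroup.normalizer (X (x + (2 : ℤ) • y) : Set Y) := by
      intro c hc
      rw [Subgroup.mem_normalizer_iff]
      intro d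
      constructor
      · intro hd
        rw [hyz c hc d hd, mul_inv_cancel_right]; exact hd
      · intro hd
        have h2 := hyz c hc _ hd
        have e : d = c⁻¹ * (c * d * c⁻¹ * c) := by group
        rw [← h2] at e
        rw [e, inv_mul_cancel_left]; exact hd
    rw [← SetLike.mem_coe, Subgroup.coe_mul_of_left_le_normalizer_right _ _ hle] at h3
    obtain ⟨y1, hy1, z1, hz1, e⟩ := h3
    exact ⟨y1, hy1, z1, hz1, e.symm⟩
  -- `w = m v m⁻¹ = y1 z1 w' z v`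
  have e5 : w = y1 * z1 * w' * z * v := by
    have h4 : m * v * m⁻¹ = w := by rw [hv']; group
    have h5 : b * v * b⁻¹ = v := by rw [← hbv]; group
    calc w = m * v * m⁻¹ := h4.symm
      _ = a * u * (b * v * b⁻¹) * u⁻¹ * a⁻¹ := by rw [he]; group
      _ = a * (u * v * u⁻¹ * v⁻¹) * (v * a⁻¹) := by rw [h5]; group
      _ = a * ⁅u, v⁆ * (a⁻¹ * v) := by
          rw [← commutatorElement_def, show v * a⁻¹ = a⁻¹ * v from by
            rw [eq_inv_mul_iff_mul_eq, ← mul_assoc, ← hav, mul_inv_cancel_right]]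
      _ = a * w' * (z * a⁻¹) * v := by rw [e1]; group
      _ = a * w' * (a⁻¹ * z) * v := by
          rw [show z * a⁻¹ = a⁻¹ * z from by
            rw [eq_inv_mul_iff_mul_eq, ← mul_assoc, ← haz, mul_inv_cancel_right]]
      _ = (a * w' * a⁻¹ * w'⁻¹) * w' * z * v := by group
      _ = ⁅a, w'⁆ * w' * z * v := by rw [← commutatorElement_def]
      _ = _ := by rw [e4]
  -- compare
  have h6 : y1 * v = 1 ∧ w = w' := by
    -- `c = w w'⁻¹`
    have hvw : ⁅v, w'⁆ ∈ X (y + (x + y)) := orth_mem R hy hs hyy n1 (by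
      rw [bf_add_right, bf_comm y x, hyy, hxy]; norm_num) hv hw'
    have e6 : y + (x + y) = x + (2 : ℤ) • y := by module
    rw [e6] at hvw
    set k := ⁅v, w'⁆ with hk
    have e7 : v * w' = k * (w' * v) := by rw [hk, commutatorElement_def]; group
    have e8 : w' * v = k⁻¹ * (v * w') := by rw [e7, inv_mul_cancel_left]
    -- `w = y1 v · (z1 z k⁻¹) · w'`
    have e9 : w = (y1 * v) * (z1 * z * k⁻¹) * w' := by
      have c1 := hyz v hv _ (mul_mem (mul_mem hz1 hz) (inv_mem hvw))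
      calc w = y1 * z1 * w' * z * v := e5
        _ = y1 * z1 * (w' * z) * v := by group
        _ = y1 * z1 * (z * w') * v := by rw [hcomm w' hw' z hz]
        _ = y1 * z1 * z * (w' * v) := by group
        _ = y1 * z1 * z * (k⁻¹ * (v * w')) := by rw [e8]
        _ = y1 * ((z1 * z * k⁻¹) * v) * w' := by group
        _ = y1 * (v * (z1 * z * k⁻¹)) * w' := by rw [c1]
        _ = _ := by group
    set y2 := y1 * v with hy2
    set z2 := z1 * z * k⁻¹ with hz2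
    have hy2m : y2 ∈ X y := mul_mem hy1 hv
    have hz2m : z2 ∈ X (x + (2 : ℤ) • y) := mul_mem (mul_mem hz1 hz) (inv_mem hvw)
    have hc : y2 * z2 ∈ X (x + y) := by
      have : y2 * z2 = w * w'⁻¹ := by rw [e9]; group
      rw [this]
      exact mul_mem hw (inv_mem hw')
    have hy21 : y2 = 1 := by
      by_contra hne
      obtain ⟨d, hd, hd2⟩ := orth_nd D hy hs hyy n1 (by rw [bf_add_right, bf_comm y x, hyy, hxy]; norm_num) hy2m hne
      apply hd2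
      have a1 := abel R hs hc hd
      have a2 := hcomm d hd z2 hz2m
      have a3 : y2 * z2 * d = d * y2 * z2 := by rw [a1]; group
      have a4 : y2 * z2 * d = y2 * d * z2 := by rw [mul_assoc, ← a2]; group
      rw [a4] at a3
      exact mul_right_cancel a3
    have hz21 : z2 = 1 := by
      rw [hy21, one_mul] at hc
      have := X_inf_X R hs hl (by
        intro h0
        rw [← h0] at n2
        omega)
      have h7 : z2 ∈ X (x + y) ⊓ X (x + (2 : ℤ) • y) := ⟨hc, hz2m⟩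
      rwa [this, Subgroup.mem_bot] at h7
    refine ⟨hy21, ?_⟩
    rw [e9, hy21, hz21, one_mul, one_mul]
  refine ⟨v, hv, z, hz, ?_⟩
  rw [e1, h6.2]

end Cfsg.Agent.KFacts.TwESix.Facts

end
end

private theorem dce_fd34e0ac88d6 : _root_.True := by
  try have : _root_.True := by simp only [_root_.Cfsg.Agent.KFacts.TwESix.CombRho.stpPr.eq_1]
  try have : _root_.True := by simp only [_root_.Cfsg.Agent.KFacts.TwESix.CombRho.lowp.eq_1]
  try have : _root_.True := by simp only [_root_.Cfsg.Agent.KFacts.TwESix.CombRho.rhoRt.eq_1]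
  exact _root_.True.intro
end

-- part: KFacts/TwESix/QRho
section
prune_inst 0x500010000000001800024000020000000102006080010140060002000500a04501010c2014100010021000000000020000100010000000000000000000000020100010000000000000000083180c00000000000000000000000000000000000000000
set_option linter.all false
open scoped Cfsg.Agent.FastGrp

-- merged: Cfsg.Agent.OddHalf.D7Tw.Loc
section

/-!
# The unipotent radical of the stabiliser of a long root group, any type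

`Q = ⟨X b⟩ Z`, `b` in a finite set with an involution `op` (`b ↦ r - b`), `[X b, X (op b)] ≤ Z = X r`, all other pairs
commute. `g` = the good (long) indices.

* `Loc.QQ`, `Loc.ZQ`, `Loc.XQQ`, `Loc.PQ`, `Loc.E2`, `Loc.lin` = fields of `D7Ex.Setup`.
-/

set_option autoImplicit false
set_option linter.style.haveILetI false
set_option linter.unusedSectionVars false
set_option linter.unusedVariables false

namespace Cfsg.Agent.OddHalf.D7Tw

open Subgroup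
open scoped commutatorElement

variable {G : Type*} [Group G] {ι : Type*}

/-- `⟨X b : b ∈ S⟩ Z` -/
def QS (X : ι → Subgroup G) (Z : Subgroup G) (S : Set ι) : Subgroup G := (⨆ b ∈ S, X b) ⊔ Z

theorem Z_le_QS (X : ι → Subgroup G) (Z : Subgroup G) (S : Set ι) : Z ≤ QS X Z S := le_sup_right

theorem le_QS (X : ι → Subgroup G) (Z : Subgroup G) {S : Set ι} {b : ι} (hb : b ∈ S) : X b ≤ QS X Z S :=
  le_trans (le_iSup₂ (f := fun b (_ : b ∈ S) => X b) b hb) le_sup_left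

theorem QS_le {X : ι → Subgroup G} {Z : Subgroup G} {S : Set ι} {D : Subgroup G} (h1 : Z ≤ D)
    (h2 : ∀ b ∈ S, X b ≤ D) : QS X Z S ≤ D := sup_le (iSup₂_le h2) h1

theorem QS_mono (X : ι → Subgroup G) (Z : Subgroup G) {S S' : Set ι} (h : S ⊆ S') : QS X Z S ≤ QS X Z S' :=
  QS_le (Z_le_QS X Z S') fun _ hb => le_QS X Z (h hb)

/-- The local structure at a long root group `Z`. -/
structure Loc (X : ι → Subgroup G) (Z P : Subgroup G) (op : ι → ι) (g : Set ι) : Prop where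
  Z2 : ∀ z ∈ Z, z * z = 1
  opop : ∀ b, op (op b) = b
  ZP : Z ≤ P
  cen : ∀ z ∈ Z, ∀ p ∈ P, z * p = p * z
  XP : ∀ b, X b ≤ P
  comm : ∀ a b, b ≠ op a → ∀ x ∈ X a, ∀ y ∈ X b, x * y = y * x
  brk : ∀ a, ∀ x ∈ X a, ∀ y ∈ X (op a), x * y * x⁻¹ * y⁻¹ ∈ Z
  nd : ∀ a, ∀ x ∈ X a, (∀ y ∈ X (op a), x * y = y * x) → x = 1
  onto : ∃ a, Z ≤ ⁅X a, X (op a)⁆
  norm : ∀ p ∈ P, ∀ a, ∀ x ∈ X a, p * x * p⁻¹ ∈ QS X Z Set.univ
  ex : ∀ b, ∃ p ∈ P, ∃ a, a ≠ b ∧ (∀ u ∈ X b, ∃ x ∈ X a, ∃ z ∈ Z, p * x * p⁻¹ * x⁻¹ = u * z) ∧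
    (∀ y ∈ X (op a), ∃ c ∈ X (op b), ∃ z ∈ Z, p * c * p⁻¹ * c⁻¹ = y * z)
  sep : ∀ b ∈ g, ∀ b', b' ≠ b → ∃ p ∈ P, ∃ S : Set ι, b' ∉ S ∧ (∀ c, ∀ x ∈ X c, p * x * p⁻¹ * x⁻¹ ∈ QS X Z S) ∧
    ∀ u ∈ X b, ∃ x ∈ QS X Z Set.univ, ∃ z ∈ Z, p * x * p⁻¹ * x⁻¹ = u * z
  tor : ∀ b ∈ g, ∀ x ∈ X b, ∀ y ∈ X b, x ≠ 1 → y ≠ 1 → ∃ p ∈ P, p * x * p⁻¹ = y
  sq : ∀ b ∈ g, ∀ x ∈ X b, x * x = 1
  short : ∀ b, b ∉ g → ∀ u ∈ X b, ∃ p ∈ P, ∃ x ∈ QS X Z g, ∃ y ∈ QS X Z g, ∃ z ∈ QS X Z g,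
    u = x * (p * y * p⁻¹) * z

namespace Loc

variable {X : ι → Subgroup G} {Z P : Subgroup G} {op : ι → ι} {g : Set ι}

theorem inv_Z (h : Loc X Z P op g) {z : G} (hz : z ∈ Z) : z⁻¹ = z := inv_eq_of_mul_eq_one_left (h.Z2 z hz)

theorem QS_le_P (h : Loc X Z P op g) (S : Set ι) : QS X Z S ≤ P := QS_le h.ZP fun b _ => h.XP b

/-- The elements of `Q` commuting with `v` modulo `Z`. -/
def TT (h : Loc X Z P op g) {v : G} (hv : v ∈ P) : Subgroup G where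
  carrier := {w | w ∈ P ∧ v * w * v⁻¹ * w⁻¹ ∈ Z}
  one_mem' := ⟨one_mem _, by
    rw [mul_one, mul_inv_cancel, inv_one, mul_one]; exact one_mem _⟩
  mul_mem' := by
    rintro a b ⟨ha, ha2⟩ ⟨hb, hb2⟩
    refine ⟨mul_mem ha hb, ?_⟩
    have c := h.cen _ hb2 a ha
    have e : v * (a * b) * v⁻¹ * (a * b)⁻¹ = (v * a * v⁻¹ * a⁻¹) * (a * (v * b * v⁻¹ * b⁻¹) * a⁻¹) := by group
    rw [e, ← c, mul_inv_cancel_right]
    exact mul_mem ha2 hb2
  inv_mem' := by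
    rintro a ⟨ha, ha2⟩
    refine ⟨inv_mem ha, ?_⟩
    have c := h.cen _ (inv_mem ha2) a ha
    have e : v * a⁻¹ * v⁻¹ * a⁻¹⁻¹ = a⁻¹ * ((v * a * v⁻¹ * a⁻¹)⁻¹ * a) := by group
    rw [e, c, inv_mul_cancel_left]
    exact inv_mem ha2

theorem brk' (h : Loc X Z P op g) (a b : ι) {x y : G} (hx : x ∈ X a) (hy : y ∈ X b) : x * y * x⁻¹ * y⁻¹ ∈ Z := by
  by_cases hab : b = op a
  · subst hab; exact h.brk a x hx y hy
  · have e : x * y * x⁻¹ * y⁻¹ = 1 := by rw [h.comm a b hab x hx y hy]; group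
    rw [e]; exact one_mem _

/-- `[Q, Q] ≤ Z`. -/
theorem QQ (h : Loc X Z P op g) {v w : G} (hv : v ∈ QS X Z Set.univ) (hw : w ∈ QS X Z Set.univ) :
    v * w * v⁻¹ * w⁻¹ ∈ Z := by
  have hc1 : ∀ x ∈ Z, ∀ w ∈ P, x * w * x⁻¹ * w⁻¹ ∈ Z := fun x hx w hw => by
    have e : x * w * x⁻¹ * w⁻¹ = 1 := by rw [h.cen x hx w hw]; group
    rw [e]; exact one_mem _
  have hc2 : ∀ x ∈ Z, ∀ w ∈ P, w * x * w⁻¹ * x⁻¹ ∈ Z := fun x hx w hw => by
    have e : w * x * w⁻¹ * x⁻¹ = 1 := by rw [← h.cen x hx w hw]; group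
    rw [e]; exact one_mem _
  have step1 : ∀ a, ∀ x ∈ X a, ∀ w ∈ QS X Z Set.univ, x * w * x⁻¹ * w⁻¹ ∈ Z := by
    intro a x hx w hw
    have hxP := h.XP a hx
    have hle : QS X Z Set.univ ≤ h.TT hxP :=
      QS_le (fun y hy => ⟨h.ZP hy, hc2 y hy x hxP⟩) fun b _ y hy => ⟨h.XP b hy, h.brk' a b hx hy⟩
    exact (hle hw).2
  have hwP := h.QS_le_P _ hw
  have hle : QS X Z Set.univ ≤ h.TT hwP := by
    refine QS_le (fun y hy => ⟨h.ZP hy, hc2 y hy w hwP⟩) fun b _ y hy => ⟨h.XP b hy, ?_⟩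
    have h1 := inv_mem (step1 b y hy w hw)
    have e : (y * w * y⁻¹ * w⁻¹)⁻¹ = w * y * w⁻¹ * y⁻¹ := by group
    rwa [e] at h1
  have h1 := inv_mem (hle hv).2
  have e : (w * v * w⁻¹ * v⁻¹)⁻¹ = v * w * v⁻¹ * w⁻¹ := by group
  rwa [e] at h1

/-- `Z ≤ [Q, Q]`. -/
theorem XQQ (h : Loc X Z P op g) : Z ≤ ⁅QS X Z Set.univ, QS X Z Set.univ⁆ := by
  obtain ⟨a, ha⟩ := h.onto
  exact ha.trans (commutator_mono (le_QS X Z (Set.mem_univ a)) (le_QS X Z (Set.mem_univ _)))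

/-- `QS S` is normalised by `Q`. -/
theorem Q_norm (h : Loc X Z P op g) (S : Set ι) {v q : G} (hv : v ∈ QS X Z Set.univ) (hq : q ∈ QS X Z S) :
    v * q * v⁻¹ ∈ QS X Z S := by
  have hqQ := QS_mono X Z (Set.subset_univ S) hq
  have e : v * q * v⁻¹ = (v * q * v⁻¹ * q⁻¹) * q := by group
  rw [e]
  exact mul_mem (Z_le_QS X Z S (h.QQ hv hqQ)) hq

/-- `P` normalises `Q`. -/
theorem PQ (h : Loc X Z P op g) {p q : G} (hp : p ∈ P) (hq : q ∈ QS X Z Set.univ) :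
    p * q * p⁻¹ ∈ QS X Z Set.univ := by
  have hle : QS X Z Set.univ ≤ (QS X Z Set.univ).comap (MulAut.conj p).toMonoidHom := by
    refine QS_le (fun y hy => ?_) fun b _ y hy => ?_
    · show p * y * p⁻¹ ∈ QS X Z Set.univ
      rw [← h.cen y hy p hp, mul_inv_cancel_right]
      exact Z_le_QS X Z _ hy
    · exact h.norm p hp b y hy
  exact hle hq

/-- Splitting off one root. -/
theorem split (h : Loc X Z P op g) {S : Set ι} {b : ι} (hb : b ∈ S) {q : G} (hq : q ∈ QS X Z S) :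
    ∃ x ∈ X b, ∃ q' ∈ QS X Z (S \ {b}), q = x * q' := by
  have hle : X b ≤ normalizer (QS X Z (S \ {b}) : Set G) := by
    intro v hv
    have hvQ : v ∈ QS X Z Set.univ := le_QS X Z (Set.mem_univ b) hv
    rw [mem_normalizer_iff]
    intro q
    constructor
    · exact fun hq => h.Q_norm _ hvQ hq
    · intro hq
      have := h.Q_norm _ (inv_mem hvQ) hq
      have e : v⁻¹ * (v * q * v⁻¹) * v⁻¹⁻¹ = q := by group
      rwa [e] at this
  have h1 : QS X Z S ≤ X b ⊔ QS X Z (S \ {b}) := by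
    refine QS_le (le_trans (Z_le_QS X Z _) le_sup_right) fun a ha => ?_
    by_cases hab : a = b
    · rw [hab]; exact le_sup_left
    · exact le_trans (le_QS X Z (⟨ha, hab⟩ : a ∈ S \ {b})) le_sup_right
  have h2 := h1 hq
  rw [← SetLike.mem_coe, coe_mul_of_left_le_normalizer_right _ _ hle] at h2
  obtain ⟨x, hx, q', hq', e⟩ := h2
  exact ⟨x, hx, q', hq', e.symm⟩

/-- `QS S` commutes with `X (op b)` for `b ∉ S`. -/
theorem comm_of_not_mem (h : Loc X Z P op g) {S : Set ι} {b : ι} (hbS : b ∉ S) {q y : G} (hq : q ∈ QS X Z S)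
    (hy : y ∈ X (op b)) : q * y = y * q := by
  have hle : QS X Z S ≤ centralizer ({y} : Set G) := by
    refine QS_le (fun x hx => ?_) fun a ha x hx => ?_
    · rw [mem_centralizer_singleton_iff]
      exact h.cen x hx y (h.XP _ hy)
    · rw [mem_centralizer_singleton_iff]
      refine h.comm a (op b) ?_ x hx y hy
      intro h1
      apply hbS
      have : a = b := by rw [← h.opop a, ← h1, h.opop]
      rwa [← this]
  exact (mem_centralizer_singleton_iff.1 (hle hq))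

/-- If `q ∈ QS S` commutes with `X (op b)`, then `q` has no component in `X b`. -/
theorem drop (h : Loc X Z P op g) {S : Set ι} {b : ι} (hb : b ∈ S) {q : G} (hq : q ∈ QS X Z S)
    (hc : ∀ y ∈ X (op b), q * y = y * q) : q ∈ QS X Z (S \ {b}) := by
  obtain ⟨x, hx, q', hq', rfl⟩ := h.split hb hq
  have h3 : ∀ y ∈ X (op b), x * y = y * x := by
    intro y hy
    have h2 : q' * y = y * q' := h.comm_of_not_mem (fun h => h.2 rfl) hq' hy
    have h4 := hc y hy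
    have h5 : x * y * q' = y * x * q' := by
      rw [mul_assoc x, ← h2, ← mul_assoc, h4, mul_assoc y x q']
    exact mul_right_cancel h5
  rw [h.nd b x hx h3, one_mul]
  exact hq'

/-- An element of `Q` lies in `QS S` if it commutes with `X (op b)`, `b ∉ S`. -/
theorem mem_QS [Finite ι] (h : Loc X Z P op g) {S : Set ι} {q : G} (hq : q ∈ QS X Z Set.univ)
    (hc : ∀ b, b ∉ S → ∀ y ∈ X (op b), q * y = y * q) : q ∈ QS X Z S := by
  classical
  suffices H : ∀ F : Finset ι, (F : Set ι) ⊆ Sᶜ → q ∈ QS X Z (F : Set ι)ᶜ by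
    have hfin2 : (Sᶜ).Finite := Set.toFinite _
    have := H hfin2.toFinset (by rw [Set.Finite.coe_toFinset])
    rwa [Set.Finite.coe_toFinset, compl_compl] at this
  intro F
  induction F using Finset.induction_on with
  | empty => intro _; simpa using hq
  | insert b F hbF ih =>
    intro hF
    rw [Finset.coe_insert, Set.insert_subset_iff] at hF
    have h1 := h.drop (S := (F : Set ι)ᶜ) (b := b) hbF (ih hF.2) (hc b hF.1)
    have e : (F : Set ι)ᶜ \ {b} = ((insert b F : Finset ι) : Set ι)ᶜ := by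
      rw [Finset.coe_insert]
      ext c
      simp only [Set.mem_sdiff, Set.mem_compl_iff, Set.mem_insert_iff, Set.mem_singleton_iff, not_or]
      tauto
    rwa [e] at h1

/-- `Z(Q) = Z`. -/
theorem ZQ [Finite ι] (h : Loc X Z P op g) {q : G} (hq : q ∈ QS X Z Set.univ)
    (hc : ∀ v ∈ QS X Z Set.univ, q * v = v * q) : q ∈ Z := by
  have h1 := h.mem_QS (S := ∅) hq fun b _ y hy => hc y (le_QS X Z (Set.mem_univ _) hy)
  have h2 : QS X Z (∅ : Set ι) ≤ Z := QS_le le_rfl fun b hb => absurd hb (Set.notMem_empty b)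
  exact h2 h1

/-- `X b ∩ Z = 1` -/
theorem inf_eq (h : Loc X Z P op g) {b : ι} {x : G} (hx : x ∈ X b) (hxr : x ∈ Z) : x = 1 :=
  h.nd b x hx fun y hy => h.cen x hxr y (h.XP _ hy)

/-- `ξ` is inner on each root group. -/
theorem E2_aux (h : Loc X Z P op g) {f : G → G}
    (hfX : ∀ v ∈ QS X Z Set.univ, f v ∈ Z)
    (hfm : ∀ v ∈ QS X Z Set.univ, ∀ w ∈ QS X Z Set.univ, f (v * w) = f v * f w)
    (hf1 : ∀ x ∈ Z, f x = 1)
    (hfP : ∀ p ∈ P, ∃ q ∈ QS X Z Set.univ, ∀ v ∈ QS X Z Set.univ,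
      f (p * v * p⁻¹) = f v * (q * v * q⁻¹ * v⁻¹)) (b : ι) :
    ∃ c ∈ X (op b), ∀ u ∈ X b, f u = c * u * c⁻¹ * u⁻¹ := by
  obtain ⟨p, hp, a, hab, h1, h2⟩ := h.ex b
  obtain ⟨q, hq, hf⟩ := hfP p hp
  obtain ⟨y, hy, q', hq', rfl⟩ := h.split (Set.mem_univ (op a)) hq
  obtain ⟨c, hc, zc, hzc, ec⟩ := h2 y hy
  refine ⟨c, hc, fun u hu => ?_⟩
  obtain ⟨x, hx, zx, hzx, ex⟩ := h1 u hu
  have hxQ : x ∈ QS X Z Set.univ := le_QS X Z (Set.mem_univ _) hx
  have huQ : u ∈ QS X Z Set.univ := le_QS X Z (Set.mem_univ _) hu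
  have hyQ : y ∈ QS X Z Set.univ := le_QS X Z (Set.mem_univ _) hy
  have hcQ : c ∈ QS X Z Set.univ := le_QS X Z (Set.mem_univ _) hc
  have hxP := h.QS_le_P _ hxQ
  have huP := h.QS_le_P _ huQ
  have hyP := h.QS_le_P _ hyQ
  have hcP := h.QS_le_P _ hcQ
  have epx : p * x * p⁻¹ = u * zx * x := by rw [← ex]; group
  have epc : p * c * p⁻¹ = y * zc * c := by rw [← ec]; group
  have hzxQ : zx ∈ QS X Z Set.univ := Z_le_QS X Z _ hzx
  -- `f u = [y, x]`
  have h3 := hf x hxQ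
  rw [epx, hfm _ (mul_mem huQ hzxQ) x hxQ, hfm u huQ zx hzxQ, hf1 zx hzx, mul_one] at h3
  have hfc : f u * f x = f x * f u := h.cen (f u) (hfX u huQ) (f x) (h.ZP (hfX x hxQ))
  rw [hfc] at h3
  have h4 : f u = (y * q') * x * (y * q')⁻¹ * x⁻¹ := mul_left_cancel h3
  have h5 : q' * x = x * q' := by
    refine h.comm_of_not_mem (S := Set.univ \ {op a}) (b := op a) (fun h => h.2 rfl) hq' ?_
    rwa [h.opop]
  have h6 : f u = y * x * y⁻¹ * x⁻¹ := by
    rw [h4]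
    calc (y * q') * x * (y * q')⁻¹ * x⁻¹ = y * (q' * x) * q'⁻¹ * y⁻¹ * x⁻¹ := by group
      _ = _ := by rw [h5]; group
  have hcx : c * x = x * c := h.comm (op b) a (by rw [h.opop]; exact hab) c hc x hx
  have hyu : y * u = u * y := h.comm (op a) b (by rw [h.opop]; exact hab.symm) y hy u hu
  -- conjugate `c x = x c` by `p`
  have h7 : (y * zc * c) * (u * zx * x) = (u * zx * x) * (y * zc * c) := by
    rw [← epx, ← epc]
    calc p * c * p⁻¹ * (p * x * p⁻¹) = p * (c * x) * p⁻¹ := by group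
      _ = p * (x * c) * p⁻¹ := by rw [hcx]
      _ = _ := by group
  have h8 : y * c * u * x * (zc * zx) = u * x * y * c * (zc * zx) := by
    have a1 : (y * zc * c) * (u * zx * x) = y * c * u * x * (zc * zx) := by
      calc (y * zc * c) * (u * zx * x) = y * (zc * (c * u)) * (zx * x) := by group
        _ = y * (c * u) * (zc * (zx * x)) := by rw [h.cen zc hzc _ (mul_mem hcP huP)]; group
        _ = y * (c * u) * (zc * (x * zx)) := by rw [h.cen zx hzx x hxP]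
        _ = y * (c * u) * ((zc * x) * zx) := by group
        _ = _ := by rw [h.cen zc hzc x hxP]; group
    have a2 : (u * zx * x) * (y * zc * c) = u * x * y * c * (zc * zx) := by
      calc (u * zx * x) * (y * zc * c) = u * (zx * (x * y)) * (zc * c) := by group
        _ = u * (x * y) * (zx * (zc * c)) := by rw [h.cen zx hzx _ (mul_mem hxP hyP)]; group
        _ = u * (x * y) * (zx * (c * zc)) := by rw [h.cen zc hzc c hcP]
        _ = u * (x * y) * ((zx * c) * zc) := by group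
        _ = u * (x * y) * (c * (zx * zc)) := by rw [h.cen zx hzx c hcP]; group
        _ = _ := by rw [h.cen zx hzx zc (h.ZP hzc)]; group
    rw [← a1, h7, a2]
  have h9 := mul_right_cancel h8
  have hcu : c * u * c⁻¹ * u⁻¹ ∈ Z := h.QQ hcQ huQ
  have hxy : x * y * x⁻¹ * y⁻¹ ∈ Z := h.QQ hxQ hyQ
  have h10 : (c * u * c⁻¹ * u⁻¹) * (y * u * c * x) = (x * y * x⁻¹ * y⁻¹) * (u * y * c * x) := by
    calc (c * u * c⁻¹ * u⁻¹) * (y * u * c * x) = ((c * u * c⁻¹ * u⁻¹) * y) * u * c * x := by group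
      _ = y * (c * u * x) := by rw [h.cen _ hcu y hyP]; group
      _ = y * c * u * x := by group
      _ = u * x * y * c := h9
      _ = u * (x * y * x⁻¹ * y⁻¹) * (y * x * c) := by group
      _ = (x * y * x⁻¹ * y⁻¹) * u * (y * (c * x)) := by rw [← h.cen _ hxy u huP, hcx]; group
      _ = _ := by group
  rw [hyu] at h10
  have h11 := mul_right_cancel h10
  rw [h6, h11]
  have h12 := h.inv_Z hxy
  rw [← h12]; group

/-- Every `P`-invariant class of homomorphisms `Q/Z → Z` modulo inner ones is trivial. -/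
theorem E2 [Finite ι] (h : Loc X Z P op g) (f : G → G)
    (hfX : ∀ v ∈ QS X Z Set.univ, f v ∈ Z)
    (hfm : ∀ v ∈ QS X Z Set.univ, ∀ w ∈ QS X Z Set.univ, f (v * w) = f v * f w)
    (hf1 : ∀ x ∈ Z, f x = 1)
    (hfP : ∀ p ∈ P, ∃ q ∈ QS X Z Set.univ, ∀ v ∈ QS X Z Set.univ,
      f (p * v * p⁻¹) = f v * (q * v * q⁻¹ * v⁻¹)) :
    ∃ q ∈ QS X Z Set.univ, ∀ v ∈ QS X Z Set.univ, f v = q * v * q⁻¹ * v⁻¹ := by
  classical
  have H : ∀ F : Finset ι, ∃ q ∈ QS X Z Set.univ,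
      (∀ b ∈ F, ∀ v ∈ X b, f v = q * v * q⁻¹ * v⁻¹) ∧
      (∀ b, b ∉ F → ∀ v ∈ X b, q * v * q⁻¹ * v⁻¹ = 1) := by
    intro F
    induction F using Finset.induction_on with
    | empty =>
      exact ⟨1, one_mem _, fun b hb => absurd hb (Finset.notMem_empty b), fun b _ v _ => by group⟩
    | insert b F hbF ih =>
      obtain ⟨q, hq, h1, h2⟩ := ih
      obtain ⟨c, hc, h3⟩ := h.E2_aux hfX hfm hf1 hfP b
      have hcQ : c ∈ QS X Z Set.univ := le_QS X Z (Set.mem_univ _) hc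
      have hcc : ∀ b', b' ≠ b → ∀ v ∈ X b', c * v = v * c := by
        intro b' hne v hv
        exact h.comm (op b) b' (by rw [h.opop]; exact hne) c hc v hv
      have hcom : ∀ v ∈ QS X Z Set.univ, (c * q) * v * (c * q)⁻¹ * v⁻¹ =
          (q * v * q⁻¹ * v⁻¹) * (c * v * c⁻¹ * v⁻¹) := by
        intro v hv
        have h4 := h.QQ hq hv
        calc (c * q) * v * (c * q)⁻¹ * v⁻¹ = c * (q * v * q⁻¹ * v⁻¹) * (v * c⁻¹ * v⁻¹) := by group
          _ = _ := by rw [← h.cen _ h4 c (h.QS_le_P _ hcQ)]; group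
      refine ⟨c * q, mul_mem hcQ hq, fun b' hb' v hv => ?_, fun b' hn v hv => ?_⟩
      · rcases Finset.mem_insert.1 hb' with rfl | hb'
        · rw [hcom v (le_QS X Z (Set.mem_univ _) hv), h2 b' hbF v hv, one_mul]
          exact h3 v hv
        · have hne : b' ≠ b := fun h => hbF (h ▸ hb')
          rw [hcom v (le_QS X Z (Set.mem_univ _) hv), ← h1 b' hb' v hv, hcc b' hne v hv]
          group
      · have hne : b' ≠ b := fun h => hn (h ▸ Finset.mem_insert_self _ _)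
        have hn' : b' ∉ F := fun h => hn (Finset.mem_insert_of_mem h)
        rw [hcom v (le_QS X Z (Set.mem_univ _) hv), h2 b' hn' v hv, hcc b' hne v hv]
        group
  obtain ⟨q, hq, h1, -⟩ := H (Set.toFinite (Set.univ : Set ι)).toFinset
  refine ⟨q, hq, fun v hv => ?_⟩
  have hqP := h.QS_le_P _ hq
  have hf1' : f 1 = 1 := hf1 1 (one_mem _)
  let D : Subgroup G :=
    { carrier := {v | v ∈ QS X Z Set.univ ∧ f v = q * v * q⁻¹ * v⁻¹}
      one_mem' := ⟨one_mem _, by rw [hf1']; group⟩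
      mul_mem' := by
        rintro a b ⟨ha, ha2⟩ ⟨hb, hb2⟩
        refine ⟨mul_mem ha hb, ?_⟩
        have h3 := h.cen _ (h.QQ hq hb) a (h.QS_le_P _ ha)
        rw [hfm a ha b hb, ha2, hb2]
        calc q * a * q⁻¹ * a⁻¹ * (q * b * q⁻¹ * b⁻¹) = q * a * q⁻¹ * a⁻¹ * ((q * b * q⁻¹ * b⁻¹) * a) * a⁻¹ := by
              group
          _ = _ := by rw [h3]; group
      inv_mem' := by
        rintro a ⟨ha, ha2⟩
        refine ⟨inv_mem ha, ?_⟩
        have h4 := hfm a ha a⁻¹ (inv_mem ha)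
        rw [mul_inv_cancel, hf1', ha2] at h4
        have h3 := h.cen _ (h.QQ hq ha) a⁻¹ (h.QS_le_P _ (inv_mem ha))
        have h5 : f a⁻¹ = (q * a * q⁻¹ * a⁻¹)⁻¹ := eq_inv_of_mul_eq_one_right h4.symm
        rw [h5]
        have h6 := h.cen _ (h.QQ hq ha) a (h.QS_le_P _ ha)
        calc (q * a * q⁻¹ * a⁻¹)⁻¹ = a⁻¹ * (a * (q * a * q⁻¹ * a⁻¹)⁻¹) := by group
          _ = a⁻¹ * ((q * a * q⁻¹ * a⁻¹)⁻¹ * a) := by
            rw [h.cen _ (inv_mem (h.QQ hq ha)) a (h.QS_le_P _ ha)]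
          _ = _ := by group }
  have hle : QS X Z Set.univ ≤ D := by
    refine QS_le (fun x hx => ⟨Z_le_QS X Z _ hx, ?_⟩) fun b _ x hx => ⟨le_QS X Z (Set.mem_univ _) hx, ?_⟩
    · rw [hf1 x hx, ← h.cen x hx q hqP]; group
    · exact h1 b (by rw [Set.Finite.mem_toFinset]; exact Set.mem_univ b) x hx
  exact (hle hv).2

/-- `[p, Q] ≤ QS S` from the generators. -/
theorem comm_mem (h : Loc X Z P op g) {p : G} (hp : p ∈ P) {S : Set ι}
    (hS : ∀ c, ∀ x ∈ X c, p * x * p⁻¹ * x⁻¹ ∈ QS X Z S) {q : G} (hq : q ∈ QS X Z Set.univ) :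
    p * q * p⁻¹ * q⁻¹ ∈ QS X Z S := by
  let D : Subgroup G :=
    { carrier := {q | q ∈ QS X Z Set.univ ∧ p * q * p⁻¹ * q⁻¹ ∈ QS X Z S}
      one_mem' := ⟨one_mem _, by rw [mul_one, mul_inv_cancel, inv_one, mul_one]; exact one_mem _⟩
      mul_mem' := by
        rintro a b ⟨ha, ha2⟩ ⟨hb, hb2⟩
        refine ⟨mul_mem ha hb, ?_⟩
        have e : p * (a * b) * p⁻¹ * (a * b)⁻¹ = (p * a * p⁻¹ * a⁻¹) * (a * (p * b * p⁻¹ * b⁻¹) * a⁻¹) := by group
        rw [e]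
        exact mul_mem ha2 (h.Q_norm _ ha hb2)
      inv_mem' := by
        rintro a ⟨ha, ha2⟩
        refine ⟨inv_mem ha, ?_⟩
        have e : p * a⁻¹ * p⁻¹ * a⁻¹⁻¹ = a⁻¹ * (p * a * p⁻¹ * a⁻¹)⁻¹ * a⁻¹⁻¹ := by group
        rw [e]
        exact h.Q_norm _ (inv_mem ha) (inv_mem ha2) }
  have hle : QS X Z Set.univ ≤ D := by
    refine QS_le (fun x hx => ⟨Z_le_QS X Z _ hx, ?_⟩) fun b _ x hx => ⟨le_QS X Z (Set.mem_univ _) hx, hS b x hx⟩
    have e : p * x * p⁻¹ * x⁻¹ = 1 := by rw [← h.cen x hx p hp]; group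
    rw [e]; exact one_mem _
  exact (hle hq).2

/-- An element trivial on `P/Q` normalises `X b Z`, `b` good. -/
theorem conj_mem_b [Finite ι] (h : Loc X Z P op g) {n : G}
    (hnQ : ∀ q ∈ QS X Z Set.univ, n * q * n⁻¹ ∈ QS X Z Set.univ) (hnZ : ∀ x ∈ Z, n * x * n⁻¹ ∈ Z)
    (hnP : ∀ p ∈ P, n * p * n⁻¹ * p⁻¹ ∈ QS X Z Set.univ) {b : ι} (hb : b ∈ g)
    {u : G} (hu : u ∈ X b) : ∃ u' ∈ X b, ∃ z ∈ Z, n * u * n⁻¹ = u' * z := by
  have h1 : n * u * n⁻¹ ∈ QS X Z {b} := by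
    refine h.mem_QS (hnQ u (le_QS X Z (Set.mem_univ _) hu)) fun b' hne y hy => ?_
    obtain ⟨p, hp, S, hbS, hS, hsur⟩ := h.sep b hb b' hne
    refine h.comm_of_not_mem (S := S) hbS ?_ hy
    obtain ⟨x, hx, z, hz, e⟩ := hsur u hu
    have hx' := hnQ x hx
    have hq1 := hnP p hp
    set x' := n * x * n⁻¹ with hx'd
    set q1 := n * p * n⁻¹ * p⁻¹ with hq1d
    have hzP := h.ZP hz
    have e2 : n * u * n⁻¹ = q1 * (p * x' * p⁻¹ * x'⁻¹) * q1⁻¹ * (q1 * x' * q1⁻¹ * x'⁻¹) * (n * z⁻¹ * n⁻¹) := by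
      have e3 : u = p * x * p⁻¹ * x⁻¹ * z⁻¹ := by rw [e]; group
      rw [e3, hq1d, hx'd]; group
    rw [e2]
    exact mul_mem (mul_mem (h.Q_norm _ hq1 (h.comm_mem hp hS hx')) (Z_le_QS X Z _ (h.QQ hq1 hx')))
      (Z_le_QS X Z _ (hnZ _ (inv_mem hz)))
  obtain ⟨u', hu', z, hz, e⟩ := h.split (Set.mem_singleton b) h1
  have h2 : QS X Z (({b} : Set ι) \ {b}) ≤ Z := QS_le le_rfl fun c hc => absurd hc.1 hc.2
  exact ⟨u', hu', z, h2 hz, e⟩

/-- the elements of `Q` on which `n` is trivial modulo `Z` -/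
def FF (h : Loc X Z P op g) {n : G} (hnZ : ∀ x ∈ Z, n * x * n⁻¹ ∈ Z) : Subgroup G where
  carrier := {q | q ∈ P ∧ n * q * n⁻¹ * q⁻¹ ∈ Z}
  one_mem' := ⟨one_mem _, by rw [mul_one, mul_inv_cancel, inv_one, mul_one]; exact one_mem _⟩
  mul_mem' := by
    rintro a b ⟨ha, ha2⟩ ⟨hb, hb2⟩
    refine ⟨mul_mem ha hb, ?_⟩
    have e : n * (a * b) * n⁻¹ * (a * b)⁻¹ = (n * a * n⁻¹ * a⁻¹) * (a * (n * b * n⁻¹ * b⁻¹) * a⁻¹) := by group
    rw [e, ← h.cen _ hb2 a ha, mul_inv_cancel_right]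
    exact mul_mem ha2 hb2
  inv_mem' := by
    rintro a ⟨ha, ha2⟩
    refine ⟨inv_mem ha, ?_⟩
    have e : n * a⁻¹ * n⁻¹ * a⁻¹⁻¹ = a⁻¹ * ((n * a * n⁻¹ * a⁻¹)⁻¹ * a) := by group
    rw [e, h.cen _ (inv_mem ha2) a ha, inv_mul_cancel_left]
    exact inv_mem ha2

/-- A 2-element commuting with `P` on `Q/Z` is trivial there. -/
theorem lin [Finite ι] [Finite G] (h : Loc X Z P op g) {n : G}
    (hn2 : IsPGroup 2 (zpowers n))
    (hnQ : ∀ q ∈ QS X Z Set.univ, n * q * n⁻¹ ∈ QS X Z Set.univ) (hnZ : ∀ x ∈ Z, n * x * n⁻¹ ∈ Z)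
    (hnP : ∀ p ∈ P, n * p * n⁻¹ * p⁻¹ ∈ QS X Z Set.univ) {q : G} (hq : q ∈ QS X Z Set.univ) :
    n * q * n⁻¹ * q⁻¹ ∈ Z := by
  obtain ⟨k, hk⟩ := hn2 ⟨n, mem_zpowers n⟩
  have hk' : n ^ 2 ^ k = 1 := congrArg Subtype.val hk
  -- on `X b`, `b` good
  have hb : ∀ b ∈ g, ∀ u ∈ X b, n * u * n⁻¹ * u⁻¹ ∈ Z := by
    intro b hb u hu
    by_cases hu1 : u = 1
    · rw [hu1, mul_one, mul_inv_cancel, inv_one, mul_one]; exact one_mem _
    have hcard : 2 ∣ Nat.card (X b) := by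
      have h1 : orderOf u = 2 := orderOf_eq_prime (by rw [pow_two]; exact h.sq b hb u hu) hu1
      rw [← h1, ← Subgroup.orderOf_mk u hu]
      exact orderOf_dvd_natCard _
    obtain ⟨u0, hu0, hu01, hfix⟩ := D7Ex.exists_fix (Z := Z) hk' hcard (fun x hx hx' => h.inf_eq hx hx') hnZ
      (fun u hu => h.conj_mem_b hnQ hnZ hnP hb hu)
    obtain ⟨p, hp, e⟩ := h.tor b hb u0 hu0 u hu hu01 hu1
    have hq1 := hnP p hp
    set q1 := n * p * n⁻¹ * p⁻¹ with hq1d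
    set z := u0⁻¹ * (n * u0 * n⁻¹) with hzd
    have huQ : u ∈ QS X Z Set.univ := le_QS X Z (Set.mem_univ _) hu
    have hzu := h.cen z hfix u (h.QS_le_P _ huQ)
    have hzp := h.cen z hfix _ (inv_mem hp)
    have e2 : n * u * n⁻¹ * u⁻¹ = (q1 * u * q1⁻¹ * u⁻¹) * z := by
      calc n * u * n⁻¹ * u⁻¹ = (q1 * p) * (u0 * z) * (q1 * p)⁻¹ * u⁻¹ := by
            rw [← e, hq1d, hzd]; group
        _ = q1 * p * u0 * (z * p⁻¹) * q1⁻¹ * u⁻¹ := by group
        _ = q1 * (p * u0 * p⁻¹) * (z * q1⁻¹) * u⁻¹ := by rw [hzp]; group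
        _ = q1 * u * q1⁻¹ * (z * u⁻¹) := by
          rw [e, h.cen z hfix _ (h.QS_le_P _ (inv_mem hq1))]; group
        _ = _ := by rw [h.cen z hfix _ (h.QS_le_P _ (inv_mem huQ))]; group
    rw [e2]
    exact mul_mem (h.QQ hq1 huQ) hfix
  have hg : QS X Z g ≤ h.FF hnZ := by
    refine QS_le (fun x hx => ⟨h.ZP hx, mul_mem (hnZ x hx) (inv_mem hx)⟩) fun b hb' x hx =>
      ⟨h.XP b hx, hb b hb' x hx⟩
  -- the other indices
  have hb2 : ∀ b, ∀ u ∈ X b, n * u * n⁻¹ * u⁻¹ ∈ Z := by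
    intro b u hu
    by_cases hbg : b ∈ g
    · exact hb b hbg u hu
    obtain ⟨p, hp, x, hx, y, hy, z, hz, e⟩ := h.short b hbg u hu
    obtain ⟨hyP, hy2⟩ := hg hy
    have hyQ := QS_mono X Z (Set.subset_univ g) hy
    have hq1 := hnP p hp
    set q1 := n * p * n⁻¹ * p⁻¹ with hq1d
    set z1 := n * y * n⁻¹ * y⁻¹ with hz1d
    have enp : n * p * n⁻¹ = q1 * p := by rw [hq1d]; group
    have eny : n * y * n⁻¹ = z1 * y := by rw [hz1d]; group
    have hw : p * y * p⁻¹ ∈ QS X Z Set.univ := h.PQ hp hyQ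
    have hwF : p * y * p⁻¹ ∈ h.FF hnZ := by
      refine ⟨h.QS_le_P _ hw, ?_⟩
      have hq3 : q1 * (p * y * p⁻¹) * q1⁻¹ * (p * y * p⁻¹)⁻¹ ∈ Z := h.QQ hq1 hw
      have e1 : n * (p * y * p⁻¹) * n⁻¹ * (p * y * p⁻¹)⁻¹ =
          z1 * (q1 * (p * y * p⁻¹) * q1⁻¹ * (p * y * p⁻¹)⁻¹) := by
        calc n * (p * y * p⁻¹) * n⁻¹ * (p * y * p⁻¹)⁻¹
            = (n * p * n⁻¹) * (n * y * n⁻¹) * (n * p * n⁻¹)⁻¹ * (p * y * p⁻¹)⁻¹ := by group
          _ = (q1 * p) * z1 * y * (q1 * p)⁻¹ * (p * y * p⁻¹)⁻¹ := by rw [enp, eny]; group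
          _ = z1 * (q1 * p) * y * (q1 * p)⁻¹ * (p * y * p⁻¹)⁻¹ := by
              rw [h.cen z1 hy2 _ (mul_mem (h.QS_le_P _ hq1) hp)]
          _ = _ := by group
      rw [e1]
      exact mul_mem hy2 hq3
    have hu' : u ∈ h.FF hnZ := by
      rw [e]
      exact mul_mem (mul_mem (hg hx) hwF) (hg hz)
    exact hu'.2
  have hle : QS X Z Set.univ ≤ h.FF hnZ :=
    QS_le (fun x hx => ⟨h.ZP hx, mul_mem (hnZ x hx) (inv_mem hx)⟩) fun b _ x hx => ⟨h.XP b hx, hb2 b x hx⟩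
  exact (hle hq).2

/-- A perfect group has no nontrivial homomorphism to the abelian group `Z`. -/
theorem noh (h : Loc X Z P op g) (hP : ⁅P, P⁆ = P) (f : P →* Z) (p : P) : f p = 1 := by
  have h1 : commutator P = ⊤ := by
    have h3 : (commutator P).map P.subtype = P := by
      rw [_root_.commutator_def, map_commutator, ← MonoidHom.range_eq_map, P.range_subtype, hP]
    have h4 : (⊤ : Subgroup P).map P.subtype = P := by
      rw [← MonoidHom.range_eq_map, P.range_subtype]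
    exact map_injective P.subtype_injective (h3.trans h4.symm)
  have h2 : commutator P ≤ f.ker := by
    rw [_root_.commutator_def, commutator_le]
    intro a _ b _
    rw [MonoidHom.mem_ker, map_commutatorElement, commutatorElement_eq_one_iff_mul_comm]
    exact Subtype.ext (h.cen _ (f a).2 _ (h.ZP (f b).2))
  have h3 : p ∈ f.ker := h2 (by rw [h1]; exact mem_top p)
  exact h3

/-- **All fields of `D7Ex.Setup`** -/
theorem setup [Finite ι] [Finite G] (h : Loc X Z P op g) {t : G} {H : Subgroup G} (tt : t * t = 1) (tZ : t ∉ Z)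
    (tP : ∀ p ∈ P, t * p = p * t) (tH : ∀ h ∈ H, t * h = h * t) (HZ : ∀ h ∈ H, ∀ x ∈ Z, h * x * h⁻¹ ∈ Z)
    (hP : ⁅P, P⁆ = P)
    (nP : ∀ n : G, (∀ x ∈ Z, n * x * n⁻¹ ∈ Z) → t * (n * t * n⁻¹) ∈ Z →
      (∀ p ∈ P, n * p * n⁻¹ ∈ P) ∧ (∀ q ∈ QS X Z Set.univ, n * q * n⁻¹ ∈ QS X Z Set.univ)) :
    D7Ex.Setup t Z (QS X Z Set.univ) P H where
  tt := tt
  tX := tZ
  X2 := h.Z2
  XQ := Z_le_QS X Z _
  QP := h.QS_le_P _
  tP := tP
  XP := h.cen
  PQ := fun p hp q hq => h.PQ hp hq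
  tH := tH
  HX := HZ
  nP := nP
  XQQ := h.XQQ
  QQ := fun v hv w hw => h.QQ hv hw
  ZQ := fun q hq hc => h.ZQ hq hc
  E2 := fun f h1 h2 h3 h4 => h.E2 f h1 h2 h3 h4
  noh := fun f p => h.noh hP f p

/-- the hypothesis `Lin` of `exists_cent_of_big` -/
theorem linD [Finite ι] [Finite G] (h : Loc X Z P op g) : D7Ex.Lin Z (QS X Z Set.univ) P :=
  fun _ hn2 hnQ hnZ hnP _ hq => h.lin hn2 hnQ hnZ hnP hq

end Loc

end Cfsg.Agent.OddHalf.D7Tw

end

-- merged: Cfsg.Agent.KFacts.TwESix.QRho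
section

/-!
# `²E₆(q)`: the stabiliser of the highest root group (packet [B1])

`P = ⟨X b : b 0 ≥ 0⟩` (`= RGD.Sup X (Ge ρ)`), `Q = ⟨X b : b 0 ≥ 1⟩` (`= RGD.Sup X (Rad ρ)`), `Z = X ρ`.

* `loc` : the local structure `D7Tw.Loc` at `ρ`;
* `perfect` : `⁅P, P⁆ = P`;
* `QS_eq` : the group `Q` of `Loc` is `RGD.Sup X (Rad ρ)`.
-/

set_option autoImplicit false
set_option linter.unusedSectionVars false

namespace Cfsg.Agent.KFacts.TwESix.QRho

open CoxeterSystem Cfsg.Agent.ChevalleyStructure.CoxeterGeom Cfsg.Agent.Tits.Roots Cfsg.Agent.Tits.Core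
  Cfsg.Agent.Tits.RootComb Cfsg.Agent.Tits.Exchange Cfsg.Agent.Nodes.Reps Cfsg.Agent.Nodes.BNOf
  Cfsg.Agent.Nodes.StabComb Cfsg.Agent.Nodes.Bruhat Cfsg.Agent.Nodes.OppDec
  Cfsg.Agent.Nodes.Coroot Cfsg.Agent.KFacts.RgdSL Cfsg.Agent.KFacts.RgdTI Cfsg.Agent.KFacts.RgdOdd
  Cfsg.Agent.KFacts.RgdEx
  Cfsg.Agent.Nodes.RGDTwE6 Cfsg.Agent.KFacts.TwESix.Comb Cfsg.Agent.KFacts.TwESix.CombRho
  Cfsg.Agent.KFacts.TwESix.Facts Cfsg.Agent.OddHalf.D7Tw
open scoped commutatorElement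

/-- The roots `b` with `⟨b, ρ^∨⟩ = 1`. -/
abbrev Ix := {b : Fin 4 → ℤ // b ∈ rts ∧ b 0 = 1}

instance : Finite Ix := by
  have h1 : {b : Fin 4 → ℤ | b ∈ rts}.Finite := List.finite_toSet rts
  exact (h1.subset (fun b (hb : b ∈ rts ∧ b 0 = 1) => hb.1)).to_subtype

/-- `b ↦ ρ - b` -/
def op (b : Ix) : Ix := ⟨rho - b.1, (op_mem b.1 b.2.1 b.2.2).1, (op_mem b.1 b.2.1 b.2.2).2.1⟩

/-- the long ones -/
def gd : Set Ix := {b | bf b.1 b.1 = 4}

theorem op_val (b : Ix) : (op b).1 = rho - b.1 := rfl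

theorem add_op (b : Ix) : b.1 + (op b).1 = rho := by rw [op_val]; abel

variable {W Y : Type*} [Group W] [Group Y] {cs : CoxeterSystem CoxeterMatrix.F₄ W} {T : Subgroup Y} {n : Fin 4 → Y}
  {X : (Fin 4 → ℤ) → Subgroup Y}

theorem root (b : Ix) : IsRoot cs isCartan b.1 := (mem_rts cs).2 b.2.1

theorem Ge_eq : Ge cs isCartan rho = {b | IsRoot cs isCartan b ∧ 0 ≤ b 0} := by
  ext b
  simp only [Ge, Set.mem_ofPred_eq, cpr_rho]

theorem Rad_eq : Rad cs isCartan rho = {b | IsRoot cs isCartan b ∧ 1 ≤ b 0} := by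
  ext b
  simp only [Rad, Set.mem_ofPred_eq, cpr_rho]

/-- `P = ⟨X b : b 0 ≥ 0⟩` -/
abbrev PP (cs : CoxeterSystem CoxeterMatrix.F₄ W) (X : (Fin 4 → ℤ) → Subgroup Y) : Subgroup Y :=
  RGD.Sup X (Ge cs isCartan rho)

/-- `Q = ⟨X b : b 0 ≥ 1⟩` -/
abbrev QQ (cs : CoxeterSystem CoxeterMatrix.F₄ W) (X : (Fin 4 → ℤ) → Subgroup Y) : Subgroup Y :=
  RGD.Sup X (Rad cs isCartan rho)

theorem le_PP {b : Fin 4 → ℤ} (hb : IsRoot cs isCartan b) (h0 : 0 ≤ b 0) : X b ≤ PP cs X :=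
  RGD.le_Sup (by rw [Ge_eq]; exact ⟨hb, h0⟩)

theorem le_QQ {b : Fin 4 → ℤ} (hb : IsRoot cs isCartan b) (h0 : 1 ≤ b 0) : X b ≤ QQ cs X :=
  RGD.le_Sup (by rw [Rad_eq]; exact ⟨hb, h0⟩)

theorem PP_le {D : Subgroup Y} (h : ∀ b, IsRoot cs isCartan b → 0 ≤ b 0 → X b ≤ D) : PP cs X ≤ D :=
  RGD.Sup_le fun b hb => by
    rw [Ge_eq] at hb
    exact h b hb.1 hb.2

theorem QQ_le {D : Subgroup Y} (h : ∀ b, IsRoot cs isCartan b → 1 ≤ b 0 → X b ≤ D) : QQ cs X ≤ D :=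
  RGD.Sup_le fun b hb => by
    rw [Rad_eq] at hb
    exact h b hb.1 hb.2

theorem QS_eq : QS (fun b : Ix => X b.1) (X rho) Set.univ = QQ cs X := by
  apply le_antisymm
  · refine QS_le (le_QQ (rho_root cs) (by decide)) fun b _ => le_QQ (root b) (by rw [b.2.2])
  · refine QQ_le fun b hb h1 => ?_
    have h2 := zero_le b ((mem_rts cs).1 hb)
    by_cases h3 : b 0 = 2
    · rw [eq_rho b ((mem_rts cs).1 hb) h3]
      exact Z_le_QS _ _ _
    · exact le_QS (fun b : Ix => X b.1) (X rho) (b := ⟨b, (mem_rts cs).1 hb, by omega⟩) (Set.mem_univ _)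

theorem QQ_le_PP : QQ cs X ≤ PP cs X := QQ_le fun _ hb h1 => le_PP hb (by omega)

section RR

variable (R : RGD cs isCartan 2 T n X)

include R

/-- `P` normalises `Q`. -/
theorem PP_normalizer : PP cs X ≤ Subgroup.normalizer (QQ cs X : Set Y) := by
  have key : ∀ c, IsRoot cs isCartan c → 0 ≤ c 0 → ∀ v ∈ X c, ∀ q ∈ QQ cs X, v * q * v⁻¹ ∈ QQ cs X := by
    intro c hc hc0 v hv
    have hle : QQ cs X ≤ (QQ cs X).comap (MulAut.conj v).toMonoidHom := by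
      refine QQ_le fun a ha ha1 x hx => ?_
      show v * x * v⁻¹ ∈ QQ cs X
      by_cases hca : c = a
      · subst hca
        exact mul_mem (mul_mem (le_QQ ha ha1 hv) (le_QQ ha ha1 hx)) (inv_mem (le_QQ ha ha1 hv))
      have hne : c ≠ -a := by
        rintro rfl
        rw [Pi.neg_apply] at hc0
        omega
      have h1 := R.comm c a hc ha hca hne v hv x hx
      have h2 : btw cs isCartan X c a ≤ QQ cs X := by
        refine iSup_le fun z => ?_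
        obtain ⟨hz, m, s, t, hm, hs, ht, he⟩ := z.2
        refine le_QQ hz ?_
        have h3 := congrFun he 0
        simp only [Pi.add_apply, Pi.smul_apply, smul_eq_mul] at h3
        have h4 : 0 < m * z.1 0 := by rw [h3]; nlinarith
        exact (pos_iff_pos_of_mul_pos h4).1 hm
      have e : v * x * v⁻¹ = ⁅v, x⁆ * x := by rw [commutatorElement_def]; group
      rw [e]
      exact mul_mem (h2 h1) (le_QQ ha ha1 hx)
    intro q hq
    exact hle hq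
  refine PP_le fun c hc hc0 v hv => ?_
  rw [Subgroup.mem_normalizer_iff]
  intro q
  constructor
  · exact key c hc hc0 v hv q
  · intro hq
    have := key c hc hc0 v⁻¹ (inv_mem hv) _ hq
    have e : v⁻¹ * (v * q * v⁻¹) * v⁻¹⁻¹ = q := by group
    rwa [e] at this

variable {R}
variable (D : Dat R)

include D

theorem comm1' {a b : Ix} (hab : b ≠ op a) {x y : Y} (hx : x ∈ X a.1) (hy : y ∈ X b.1) : x * y = y * x := by
  have hab' : b.1 ≠ rho - a.1 := fun h => hab (Subtype.ext h)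
  rcases comm1 a.1 a.2.1 a.2.2 b.1 b.2.1 b.2.2 hab' with ⟨h1, h2⟩ | ⟨h1, h2⟩ | ⟨h1, h2, h3⟩
  · exact (comm_long D (root b) (root a) h1 h2 hy hx).symm
  · exact comm_long D (root a) (root b) h1 h2 hx hy
  · rcases h3 with h3 | h3
    · rw [← h3] at hy
      exact abel R (root a) hx hy
    · exact comm_60 R (root a) (root b) h1 h2 h3 hx hy

/-- `ρ` and `Φ₁`, `b` long -/
theorem a2_op {b : Ix} (hb : bf b.1 b.1 = 4) : A2 cs isCartan b.1 (op b).1 := by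
  obtain ⟨h1, h2, h3, h4⟩ := op_mem b.1 b.2.1 b.2.2
  rw [if_pos hb] at h4
  exact a2 cs (root b) (root (op b)) h3.symm (by rw [op_val, h4, hb])

theorem orth_op {b : Ix} (hb : bf b.1 b.1 ≠ 4) : bf b.1 b.1 = 2 ∧ bf (op b).1 (op b).1 = 2 ∧ bf b.1 (op b).1 = 0 := by
  obtain ⟨h1, h2, h3, h4⟩ := op_mem b.1 b.2.1 b.2.2
  rw [if_neg hb] at h4
  have h5 := (norm cs (root b)).resolve_left hb
  refine ⟨h5, by rw [op_val, h3, h5], by rw [op_val]; omega⟩

theorem cen_PP {z p : Y} (hz : z ∈ X rho) (hp : p ∈ PP cs X) : z * p = p * z := by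
  have : Finite W := finiteW cs
  exact ((D.lr rho (rho_root cs) rho_long).comm' hp hz).symm

/-- the commutators with a long root group orthogonal to `ρ` -/
theorem sep_mem {d : Fin 4 → ℤ} (hd : IsRoot cs isCartan d) (hd0 : d 0 = 0) (hdd : bf d d = 4) {p : Y} (hp : p ∈ X d)
    (c : Ix) {x : Y} (hx : x ∈ X c.1) :
    p * x * p⁻¹ * x⁻¹ ∈ QS (fun b : Ix => X b.1) (X rho) {b : Ix | bf b.1 d = 2} := by
  rw [← commutatorElement_def]
  rcases sep_comm d ((mem_rts cs).1 hd) hd0 hdd c.1 c.2.1 c.2.2 with h1 | ⟨h1, h2, h3, h4, h5⟩ |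
    ⟨h1, h2, h3, h4, h5, h6⟩
  · have h2 := comm_long D (root c) hd hdd h1 hx hp
    rw [commutatorElement_eq_one_iff_mul_comm.2 h2.symm]
    exact one_mem _
  · have hA : A2 cs isCartan d c.1 := a2 cs hd (root c) (by rw [hdd, h1]) (by rw [bf_comm, h2, hdd]; norm_num)
    have : Finite W := finiteW cs
    exact le_QS (fun b : Ix => X b.1) (X rho) (S := {b : Ix | bf b.1 d = 2}) (b := ⟨d + c.1, h4, h5⟩) h3
      (hA.comm_mem R hp hx)
  · have h7 := btw_135 R hd (root c) hdd h1 h2 hp hx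
    rw [h6] at h7
    refine (sup_le ?_ (Z_le_QS _ _ _)) h7
    exact le_QS (fun b : Ix => X b.1) (X rho) (S := {b : Ix | bf b.1 d = 2}) (b := ⟨d + c.1, h4, h5⟩) h3

/-- **The local structure at `X ρ`.** -/
theorem loc : Loc (fun b : Ix => X b.1) (X rho) (PP cs X) op gd := by
  have : Finite W := finiteW cs
  refine
    { Z2 := fun z hz => sq R (rho_root cs) hz
      opop := fun b => Subtype.ext (by rw [op_val, op_val]; abel)
      ZP := le_PP (rho_root cs) (by decide)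
      cen := fun z hz p hp => cen_PP D hz hp
      XP := fun b => le_PP (root b) (by rw [b.2.2]; norm_num)
      comm := fun a b hab x hx y hy => comm1' D hab hx hy
      brk := ?_
      nd := ?_
      onto := ?_
      norm := ?_
      ex := ?_
      sep := ?_
      tor := ?_
      sq := fun b _ x hx => sq R (root b) hx
      short := ?_ }
  · -- brk
    intro a x hx y hy
    rw [← commutatorElement_def, ← add_op a]
    by_cases ha : bf a.1 a.1 = 4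
    · exact (a2_op D ha).comm_mem R hx hy
    · obtain ⟨h1, h2, h3⟩ := orth_op D ha
      exact orth_mem R (root a) (root (op a)) h1 h2 h3 hx hy
  · -- nd
    intro a x hx hc
    by_contra hx1
    by_cases ha : bf a.1 a.1 = 4
    · obtain ⟨y, hy, hy1⟩ := exists_ne_one R (root (cs := cs) (op a))
      exact (a2_op D ha).comm_ne_one R hx hx1 hy hy1 (commutatorElement_eq_one_iff_mul_comm.2 (hc y hy))
    · obtain ⟨h1, h2, h3⟩ := orth_op D ha
      obtain ⟨y, hy, hne⟩ := orth_nd D (root a) (root (op a)) h1 h2 h3 hx hx1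
      exact hne (hc y hy)
  · -- onto
    have hb : (![1, 2, 2, 0] : Fin 4 → ℤ) ∈ rts ∧ (![1, 2, 2, 0] : Fin 4 → ℤ) 0 = 1 := by decide +kernel
    refine ⟨⟨![1, 2, 2, 0], hb⟩, fun z hz => ?_⟩
    have ha : bf (![1, 2, 2, 0] : Fin 4 → ℤ) ![1, 2, 2, 0] = 4 := by decide +kernel
    obtain ⟨x, hx, hx1⟩ := exists_ne_one R (root (cs := cs) ⟨![1, 2, 2, 0], hb⟩)
    rw [← add_op ⟨![1, 2, 2, 0], hb⟩] at hz
    obtain ⟨v, hv, e⟩ := (a2_op D (b := ⟨![1, 2, 2, 0], hb⟩) ha).comm_surj R hx hx1 hz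
    rw [← e]
    exact Subgroup.commutator_mem_commutator hx hv
  · -- norm
    intro p hp a x hx
    rw [QS_eq (cs := cs)]
    exact (Subgroup.mem_normalizer_iff.1 (PP_normalizer R hp) x).1 (le_QQ (root a) (by rw [a.2.2]) hx)
  · -- ex
    intro b
    obtain ⟨d, hd, hd0, ha, h1, h2, h3, h4, h5⟩ := ex b.1 b.2.1 b.2.2
    have hdr := (mem_rts cs).2 hd
    obtain ⟨p, hp, hp1⟩ := exists_ne_one R hdr
    have ha0 : (b.1 - d) 0 = 1 := by rw [Pi.sub_apply, b.2.2, hd0]; norm_num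
    refine ⟨p, le_PP hdr (by rw [hd0]) hp, ⟨b.1 - d, ha, ha0⟩, fun h => h5 (congrArg Subtype.val h), ?_, ?_⟩
    · intro u hu
      have hA : A2 cs isCartan d (b.1 - d) := a2 cs hdr ((mem_rts cs).2 ha) (by rw [h1, h2]) (by rw [h3, h1])
      obtain ⟨x, hx, e⟩ := hA.comm_surj R hp hp1 (w := u) (by rw [add_sub_cancel]; exact hu)
      exact ⟨x, hx, 1, one_mem _, by rw [mul_one, ← e, commutatorElement_def]⟩
    · intro y hy
      have hop := op_mem b.1 b.2.1 b.2.2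
      have hA : A2 cs isCartan d (rho - b.1) := a2 cs hdr ((mem_rts cs).2 hop.1) (by rw [h1, hop.2.2.1])
        (by rw [h4, h1])
      have e0 : rho - (b.1 - d) = d + (rho - b.1) := by abel
      have hy' : y ∈ X (d + (rho - b.1)) := by
        rw [← e0]; exact hy
      obtain ⟨c, hc, e⟩ := hA.comm_surj R hp hp1 hy'
      exact ⟨c, hc, 1, one_mem _, by rw [mul_one, ← e, commutatorElement_def]⟩
  · -- sep
    intro b hb b' hne
    obtain ⟨d, hd, hd0, hdd, h1, h2, h3⟩ := sep b.1 b.2.1 b.2.2 hb b'.1 b'.2.1 b'.2.2 fun h => hne (Subtype.ext h)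
    have hdr := (mem_rts cs).2 hd
    obtain ⟨p, hp, hp1⟩ := exists_ne_one R hdr
    have ha0 : (b.1 - d) 0 = 1 := by rw [Pi.sub_apply, b.2.2, hd0]; norm_num
    refine ⟨p, le_PP hdr (by rw [hd0]) hp, {b : Ix | bf b.1 d = 2}, h2, fun c x hx => sep_mem D hdr hd0 hdd hp c hx,
      fun u hu => ?_⟩
    have hb' : bf b.1 b.1 = 4 := hb
    have hA : A2 cs isCartan d (b.1 - d) := by
      refine a2 cs hdr ((mem_rts cs).2 h3) ?_ ?_
      · rw [bf_sub_left, bf_sub_right, bf_sub_right, bf_comm d b.1, h1, hdd, hb']; norm_num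
      · rw [bf_sub_right, bf_comm d b.1, h1, hdd]; norm_num
    obtain ⟨x, hx, e⟩ := hA.comm_surj R hp hp1 (w := u) (by rw [add_sub_cancel]; exact hu)
    exact ⟨x, le_QS (fun b : Ix => X b.1) (X rho) (b := ⟨b.1 - d, h3, ha0⟩) (Set.mem_univ _) hx, 1, one_mem _,
      by rw [mul_one, ← e, commutatorElement_def]⟩
  · -- tor
    intro b hb x hx y hy hx1 hy1
    have hb' : bf b.1 b.1 = 4 := hb
    obtain ⟨d, hd, hd0, hdd, h1⟩ := tor b.1 b.2.1 b.2.2 hb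
    have hdr := (mem_rts cs).2 hd
    have hA : A2 cs isCartan d b.1 := a2 cs hdr (root b) (by rw [hdd, hb']) (by rw [h1, hdd])
    obtain ⟨t, ht, e⟩ := hA.tor_trans R hx hx1 hy hy1
    refine ⟨t, ?_, e⟩
    refine (sup_le (le_PP hdr (by rw [hd0])) (le_PP hdr.neg ?_)) ht.2
    rw [Pi.neg_apply, hd0]; norm_num
  · -- short
    intro b hb u hu
    have hb' : bf b.1 b.1 = 2 := (norm cs (root b)).resolve_left hb
    obtain ⟨c, hc, hc0, hcc, d, hd, hd0, hdd, hcd, hs, hl, hll, hl0⟩ := short b.1 b.2.1 b.2.2 hb'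
    have hcr := (mem_rts cs).2 hc
    have hdr := (mem_rts cs).2 hd
    obtain ⟨x, hx, hx1⟩ := exists_ne_one R hcr
    obtain ⟨v, hv, z, hz, e⟩ := surj_135 D hcr hdr hcc hdd hcd (by rw [hs]; exact root b) ((mem_rts cs).2 hl) hx hx1
      (w := u) (by rw [hs]; exact hu)
    have hxg : x ∈ QS (fun b : Ix => X b.1) (X rho) gd :=
      le_QS (fun b : Ix => X b.1) (X rho) (b := ⟨c, hc, hc0⟩) hcc hx
    have hzg : z ∈ QS (fun b : Ix => X b.1) (X rho) gd :=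
      le_QS (fun b : Ix => X b.1) (X rho) (b := ⟨c + (2 : ℤ) • d, hl, hl0⟩) hll hz
    refine ⟨v, le_PP hdr (by rw [hd0]) hv, x, hxg, x⁻¹, inv_mem hxg, z⁻¹, inv_mem hzg, ?_⟩
    rw [eq_mul_inv_iff_mul_eq, ← e, commutatorElement_def]
    group

/-- **`P` is perfect.** -/
theorem perfect : ⁅PP cs X, PP cs X⁆ = PP cs X := by
  have : Finite W := finiteW cs
  refine le_antisymm (Subgroup.commutator_le_self _) (PP_le fun b hb hb0 w hw => ?_)
  rcases perf b ((mem_rts cs).1 hb) hb0 with ⟨c, hc, hc0, d, hd, hd0, h1, h2, h3⟩ | ⟨h0, c, hc, hc0, d, hd, hd0, h1, h2, h3, h4⟩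
  · have hcr := (mem_rts cs).2 hc
    have hdr := (mem_rts cs).2 hd
    have hA : A2 cs isCartan c d := a2 cs hcr hdr h1 h2
    obtain ⟨u, hu, hu1⟩ := exists_ne_one R hcr
    obtain ⟨v, hv, e⟩ := hA.comm_surj R hu hu1 (w := w) (by rw [h3]; exact hw)
    rw [← e]
    exact Subgroup.commutator_mem_commutator (le_PP hcr hc0 hu) (le_PP hdr hd0 hv)
  · have hcr := (mem_rts cs).2 hc
    have hdr := (mem_rts cs).2 hd
    obtain ⟨u, hu, v, hv, e⟩ := orth_surj D hcr hdr h1 h2 h3 (w := w) (by rw [h4]; exact hw)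
    rw [← e]
    exact Subgroup.commutator_mem_commutator (le_PP hcr hc0 hu) (le_PP hdr hd0 hv)

end RR

end Cfsg.Agent.KFacts.TwESix.QRho

end

private theorem dce_7077d6e67de1 : _root_.True := by
  try have : _root_.True := by simp only [_root_.Cfsg.Agent.KFacts.RgdTI.Ge.eq_1]
  try have : _root_.True := by simp only [_root_.Cfsg.Agent.KFacts.RgdOdd.Rad.eq_1]
  exact _root_.True.intro
end

-- part: KFacts/TwESix/NonComm
section
prune_inst 0x30005100140000000018000000000200200000020040800061400e0002402000a00000010c0004100010040008000000024c00100010000000000000000404010020100010000000000000000083180c00000000000000000000000000000000200000000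
set_option linter.all false
open scoped Cfsg.Agent.FastGrp

/-!
# `²E₆(q)`: orthogonal short root groups do not commute

`nc`: if the long root groups satisfy `LR` and short root groups are larger than the long ones, then some orthogonal
short root groups do not commute.
-/

set_option autoImplicit false
set_option linter.unusedSectionVars false

namespace Cfsg.Agent.KFacts.TwESix.NonComm

open CoxeterSystem Cfsg.Agent.ChevalleyStructure.CoxeterGeom Cfsg.Agent.Tits.Roots Cfsg.Agent.Tits.Core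
  Cfsg.Agent.Tits.RootComb Cfsg.Agent.Tits.Exchange Cfsg.Agent.Nodes.Reps Cfsg.Agent.Nodes.BNOf
  Cfsg.Agent.Nodes.StabComb Cfsg.Agent.Nodes.Bruhat Cfsg.Agent.Nodes.OppDec
  Cfsg.Agent.Nodes.Coroot Cfsg.Agent.KFacts.RgdSL Cfsg.Agent.KFacts.RgdTI Cfsg.Agent.KFacts.RgdOdd
  Cfsg.Agent.KFacts.RgdEx
  Cfsg.Agent.Nodes.RGDTwE6 Cfsg.Agent.KFacts.TwESix.Comb Cfsg.Agent.KFacts.TwESix.CombRho
  Cfsg.Agent.KFacts.TwESix.Facts
open Cfsg.Lie
open scoped commutatorElement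

variable {W Y : Type*} [Group W] [Group Y] {cs : CoxeterSystem CoxeterMatrix.F₄ W} {T : Subgroup Y} {n : Fin 4 → Y}
  {X : (Fin 4 → ℤ) → Subgroup Y}

/-- `α₁` -/
def a1 : Fin 4 → ℤ := ![0, 1, 0, 0]
/-- `α₂` -/
def x1 : Fin 4 → ℤ := ![0, 0, 1, 0]
/-- `α₁ + α₂` -/
def y1 : Fin 4 → ℤ := ![0, 1, 1, 0]
/-- `α₁ + 2 α₂` -/
def l1 : Fin 4 → ℤ := ![0, 1, 2, 0]

theorem mem1 : a1 ∈ rts ∧ x1 ∈ rts ∧ y1 ∈ rts ∧ l1 ∈ rts := by decide +kernel

theorem bf1 : bf a1 a1 = 4 ∧ bf x1 x1 = 2 ∧ bf y1 y1 = 2 ∧ bf l1 l1 = 4 ∧ bf a1 x1 = -2 ∧ bf x1 y1 = 0 ∧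
    bf x1 l1 = 2 ∧ bf y1 l1 = 2 ∧ bf y1 a1 = 2 ∧ bf a1 (-x1) = 2 ∧ bf (-x1) y1 = 0 ∧ bf (-x1) a1 = 2 := by
  decide +kernel

theorem add1 : a1 + x1 = y1 ∧ a1 + (2 : ℤ) • x1 = l1 ∧ -x1 + y1 = a1 := by decide +kernel

theorem card_rep [Finite W] (R : RGD cs isCartan 2 T n X) (w : W) {x : Fin 4 → ℤ} (hx : IsRoot cs isCartan x) :
    Nat.card (X (rep cs isCartan w x)) = Nat.card (X x) := by
  obtain ⟨k, hk⟩ := exists_rp cs R.nsys w
  rw [← R.conj_rp hk hx]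
  exact Nat.card_congr ((X x).equivMapOfInjective (MulAut.conj k).toMonoidHom (MulAut.conj k).injective).symm.toEquiv

/-- **(NC)** -/
theorem nc [Finite Y] (R : RGD cs isCartan 2 T n X) (lr : ∀ a, IsRoot cs isCartan a → bf a a = 4 → LR R a)
    (hcard : Nat.card (X (sr 0)) < Nat.card (X (sr 3))) :
    ∃ x y, IsRoot cs isCartan x ∧ IsRoot cs isCartan y ∧ bf x x = 2 ∧ bf y y = 2 ∧ bf x y = 0 ∧
      ∃ u ∈ X x, ∃ v ∈ X y, u * v ≠ v * u := by
  have : Finite W := finiteW cs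
  by_contra hno
  push Not at hno
  obtain ⟨ma, mx, my, ml⟩ := mem1
  have ha := (mem_rts cs).2 ma
  have hx := (mem_rts cs).2 mx
  have hy := (mem_rts cs).2 my
  have hl := (mem_rts cs).2 ml
  obtain ⟨naa, nxx, nyy, nll, nax, nxy, nxl, nyl, nya, -, nxy', nxa'⟩ := bf1
  obtain ⟨e1, e2, e3⟩ := add1
  -- cards
  have hc : Nat.card (X l1) < Nat.card (X x1) := by
    obtain ⟨w, hw⟩ := exists_rep_long cs hl nll
    obtain ⟨v, hv⟩ := exists_rep_short cs hx nxx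
    rw [← hw, ← hv, card_rep R w (isRoot_sr cs isCartan 0), card_rep R v (isRoot_sr cs isCartan 3)]
    exact hcard
  obtain ⟨a, haX, ha1⟩ := _root_.Cfsg.Agent.KFacts.TwESix.Facts.exists_ne_one R ha
  have hcyl : ∀ c ∈ X y1, ∀ d ∈ X l1, c * d = d * c := fun c hc d hd =>
    (lr l1 hl nll).comm y1 hy ((ge_iff cs hl nll).2 (by rw [nyl]; norm_num)) c hc d hd
  have hcxl : ∀ c ∈ X x1, ∀ d ∈ X l1, c * d = d * c := fun c hc d hd =>
    (lr l1 hl nll).comm x1 hx ((ge_iff cs hl nll).2 (by rw [nxl]; norm_num)) c hc d hd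
  have hcxy : ∀ c ∈ X x1, ∀ d ∈ X y1, c * d = d * c := fun c hc d hd =>
    hno x1 y1 hx hy nxx nyy nxy c hc d hd
  have hdec : ∀ u ∈ X x1, ∃ c ∈ X y1, ∃ f ∈ X l1, ⁅a, u⁆ = c * f := by
    intro u hu
    have h1 := btw_135 R ha hx naa nxx nax haX hu
    rw [e1, e2] at h1
    have hle : X y1 ≤ Subgroup.normalizer (X l1 : Set Y) := by
      intro c hc
      rw [Subgroup.mem_normalizer_iff]
      intro d
      constructor
      · intro hd
        rw [hcyl c hc d hd, mul_inv_cancel_right]; exact hd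
      · intro hd
        have h2 := hcyl c hc _ hd
        have e : d = c⁻¹ * (c * d * c⁻¹ * c) := by group
        rw [← h2] at e
        rw [e, inv_mul_cancel_left]; exact hd
    rw [← SetLike.mem_coe, Subgroup.coe_mul_of_left_le_normalizer_right _ _ hle] at h1
    obtain ⟨w', hw', z, hz, e⟩ := h1
    exact ⟨w', hw', z, hz, e.symm⟩
  choose! c hcm f hfm hcf using hdec
  -- pigeonhole
  obtain ⟨u, u', hne, hf⟩ : ∃ u u' : X x1, u ≠ u' ∧ f u = f u' := by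
    by_contra h
    push Not at h
    have hinj : Function.Injective (fun u : X x1 => (⟨f u, hfm u u.2⟩ : X l1)) := by
      intro u u' huu
      by_contra hne
      exact h u u' hne (congrArg Subtype.val huu)
    exact absurd (Nat.card_le_card_of_injective _ hinj) (not_le.2 hc)
  -- `v = u u'`
  set v : Y := (u : Y) * (u' : Y) with hv
  have hvX : v ∈ X x1 := mul_mem u.2 u'.2
  have hv1 : v ≠ 1 := by
    intro h
    apply hne
    apply Subtype.ext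
    have h2 := inv_eq R hx u'.2
    rw [← h2]
    exact eq_inv_of_mul_eq_one_left h
  have hav : ⁅a, v⁆ ∈ X y1 := by
    have h1 : ⁅a, v⁆ = ⁅a, (u : Y)⁆ * ((u : Y) * ⁅a, (u' : Y)⁆ * (u : Y)⁻¹) := by
      rw [hv, commutatorElement_def, commutatorElement_def, commutatorElement_def]; group
    rw [h1, hcf u u.2, hcf u' u'.2]
    have h2 : (u : Y) * (c u' * f u') * (u : Y)⁻¹ = c u' * f u' := by
      have k1 := hcxy u u.2 _ (hcm u' u'.2)
      have k2 := hcxl u u.2 _ (hfm u' u'.2)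
      calc (u : Y) * (c u' * f u') * (u : Y)⁻¹ = ((u : Y) * c u') * f u' * (u : Y)⁻¹ := by group
        _ = c u' * ((u : Y) * f u') * (u : Y)⁻¹ := by rw [k1]; group
        _ = _ := by rw [k2]; group
    rw [h2, hf]
    have k3 := hcyl _ (hcm u' u'.2) _ (hfm u' u'.2)
    have h3 : c u * f u' * (c u' * f u') = c u * c u' := by
      rw [k3]
      calc c u * f u' * (f u' * c u') = c u * (f u' * f u') * c u' := by group
        _ = _ := by rw [sq R hl (hfm u' u'.2), mul_one]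
    rw [h3]
    exact mul_mem (hcm u u.2) (hcm u' u'.2)
  -- `m a m⁻¹ ∈ X l1 ∩ X a1 X y1`
  obtain ⟨s, hs', p, hp, p', hp', m, hm, he⟩ := exists_mu R hx hvX hv1
  have hcax : cpr cs isCartan a1 x1 = -2 := by
    have := cpr_short cs a1 hx nxx
    rw [this, nax]
  have hsa : rep cs isCartan s a1 = l1 := by
    rw [hs', hcax, ← e2]; module
  have h1 : m * a * m⁻¹ ∈ X l1 := by
    have := R.conj_mem hm ha haX
    rwa [hsa] at this
  have hpa : ∀ g ∈ X (-x1), g * a = a * g := fun g hg =>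
    (lr a1 ha naa).comm (-x1) hx.neg ((ge_iff cs ha naa).2 (by rw [nxa']; norm_num)) g hg a haX
  have h2 : m * a * m⁻¹ ∈ X a1 ⊔ X y1 := by
    have k1 : p' * a * p'⁻¹ = a := by rw [hpa p' hp']; group
    have k2 : m * a * m⁻¹ = ⁅p, ⁅a, v⁆⁻¹⁆ * ⁅a, v⁆⁻¹ * (p * a * p⁻¹) := by
      have : m * a * m⁻¹ = p * v * (p' * a * p'⁻¹) * v⁻¹ * p⁻¹ := by rw [he]; group
      rw [this, k1, commutatorElement_def, commutatorElement_def]; group
    rw [k2, hpa p hp, mul_inv_cancel_right]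
    have k3 : ⁅p, ⁅a, v⁆⁻¹⁆ ∈ X (-x1 + y1) :=
      orth_mem R hx.neg hy (by rw [bf_neg_left, bf_neg_right, neg_neg]; exact nxx) nyy nxy' hp (inv_mem hav)
    rw [e3] at k3
    exact mul_mem (mul_mem (Subgroup.mem_sup_left k3) (Subgroup.mem_sup_right (inv_mem hav)))
      (Subgroup.mem_sup_left haX)
  -- the two closed sets
  have hinf := Nodes.Unique.inf_eq R (S := {z | IsRoot cs isCartan z ∧ 0 ≤ z ∧ z 1 < z 2})
    (S' := {z | IsRoot cs isCartan z ∧ 0 ≤ z ∧ z 2 ≤ z 1}) (fun z hz => ⟨hz.1, hz.2.1⟩) (fun z hz => ⟨hz.1, hz.2.1⟩)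
    (by
      rintro x ⟨-, hx0, hx1⟩ y ⟨-, hy0, hy1⟩ z ⟨hz, m, a, b, hm, ha, hb, he⟩
      refine ⟨hz, fun i => ?_, ?_⟩
      · have h3 := congrFun he i
        simp only [Pi.add_apply, Pi.smul_apply, smul_eq_mul] at h3
        have h4 : 0 ≤ m * z i := by
          rw [h3]
          exact add_nonneg (mul_nonneg ha.le (hx0 i)) (mul_nonneg hb.le (hy0 i))
        exact nonneg_of_mul_nonneg_right h4 hm
      · have h3 := congrFun he 1
        have h4 := congrFun he 2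
        simp only [Pi.add_apply, Pi.smul_apply, smul_eq_mul] at h3 h4
        have h5 : m * z 1 < m * z 2 := by rw [h3, h4]; nlinarith only [hx1, hy1, ha, hb]
        exact lt_of_mul_lt_mul_left h5 hm.le)
    (by
      rintro x ⟨-, hx0, hx1⟩ y ⟨-, hy0, hy1⟩ z ⟨hz, m, a, b, hm, ha, hb, he⟩
      refine ⟨hz, fun i => ?_, ?_⟩
      · have h3 := congrFun he i
        simp only [Pi.add_apply, Pi.smul_apply, smul_eq_mul] at h3
        have h4 : 0 ≤ m * z i := by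
          rw [h3]
          exact add_nonneg (mul_nonneg ha.le (hx0 i)) (mul_nonneg hb.le (hy0 i))
        exact nonneg_of_mul_nonneg_right h4 hm
      · have h3 := congrFun he 1
        have h4 := congrFun he 2
        simp only [Pi.add_apply, Pi.smul_apply, smul_eq_mul] at h3 h4
        have h5 : m * z 2 ≤ m * z 1 := by rw [h3, h4]; nlinarith only [hx1, hy1, ha, hb]
        exact le_of_mul_le_mul_left h5 hm)
  have hpos : (0 : Fin 4 → ℤ) ≤ a1 ∧ (0 : Fin 4 → ℤ) ≤ y1 ∧ (0 : Fin 4 → ℤ) ≤ l1 := by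
    refine ⟨?_, ?_, ?_⟩ <;> intro i <;> (revert i; decide +kernel)
  have h3 : m * a * m⁻¹ ∈ RGD.Sup X {z | IsRoot cs isCartan z ∧ 0 ≤ z ∧ z 1 < z 2} :=
    RGD.le_Sup (S := {z | IsRoot cs isCartan z ∧ 0 ≤ z ∧ z 1 < z 2}) ⟨hl, hpos.2.2, by decide⟩ h1
  have h4 : m * a * m⁻¹ ∈ RGD.Sup X {z | IsRoot cs isCartan z ∧ 0 ≤ z ∧ z 2 ≤ z 1} := by
    have k1 : X a1 ≤ RGD.Sup X {z | IsRoot cs isCartan z ∧ 0 ≤ z ∧ z 2 ≤ z 1} :=
      RGD.le_Sup (S := {z | IsRoot cs isCartan z ∧ 0 ≤ z ∧ z 2 ≤ z 1}) ⟨ha, hpos.1, by decide⟩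
    have k2 : X y1 ≤ RGD.Sup X {z | IsRoot cs isCartan z ∧ 0 ≤ z ∧ z 2 ≤ z 1} :=
      RGD.le_Sup (S := {z | IsRoot cs isCartan z ∧ 0 ≤ z ∧ z 2 ≤ z 1}) ⟨hy, hpos.2.1, by decide⟩
    exact (sup_le k1 k2) h2
  have h5 : m * a * m⁻¹ ∈ RGD.Sup X ({z | IsRoot cs isCartan z ∧ 0 ≤ z ∧ z 1 < z 2} ∩
      {z | IsRoot cs isCartan z ∧ 0 ≤ z ∧ z 2 ≤ z 1}) := by
    rw [← hinf]; exact ⟨h3, h4⟩
  have h6 : RGD.Sup X ({z | IsRoot cs isCartan z ∧ 0 ≤ z ∧ z 1 < z 2} ∩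
      {z | IsRoot cs isCartan z ∧ 0 ≤ z ∧ z 2 ≤ z 1}) ≤ ⊥ := by
    refine RGD.Sup_le ?_
    rintro z ⟨hz, hz'⟩
    have := hz.2.2
    have := hz'.2.2
    omega
  have h7 := Subgroup.mem_bot.1 (h6 h5)
  apply ha1
  have : a = m⁻¹ * (m * a * m⁻¹) * m := by group
  rw [this, h7]; group

end Cfsg.Agent.KFacts.TwESix.NonComm
end

-- part: KFacts/TwESix/Dat
section
set_option linter.all false
open scoped Cfsg.Agent.FastGrp

/-!
# `²E₆(q)`, `q` even: the facts `Dat`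

* `dat` : `Facts.Dat` for `RGDTwE6.rgd`, every even `q`.
-/

set_option autoImplicit false
set_option linter.unusedSectionVars false
set_option maxHeartbeats 400000

namespace Cfsg.Agent.KFacts.TwESix.Dat

open CoxeterSystem Cfsg.Agent.ChevalleyStructure.CoxeterGeom Cfsg.Agent.Tits.Roots Cfsg.Agent.Tits.Core
  Cfsg.Agent.Tits.RootComb Cfsg.Agent.Tits.Exchange Cfsg.Agent.Nodes.Reps Cfsg.Agent.Nodes.BNOf
  Cfsg.Agent.Nodes.Coroot Cfsg.Agent.KFacts.RgdSL Cfsg.Agent.KFacts.RgdTI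
  Cfsg.Agent.Nodes.RGDTwE6 Cfsg.Agent.KFacts.TwESix.Comb Cfsg.Agent.KFacts.TwESix.CombRho
  Cfsg.Agent.KFacts.TwESix.Facts Cfsg.Agent.KFacts.RgdField
  Cfsg.Agent.Nodes.RGDTwGen Cfsg.Agent.Nodes.RGDFold Cfsg.Agent.Nodes.RGDFoldSL
open Cfsg.Agent.ChevalleyStructure.SL2Hom (up lo)
open Cfsg.Agent.Nodes.RGDTwNode.E6
open Cfsg.Lie
open scoped commutatorElement

universe u

variable {K : Type u} [Field K] [Fintype K] {q : ℕ} {φ : K →+* K}
variable {W : Type*} [Group W] (cs : CoxeterSystem CoxeterMatrix.F₄ W)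

theorem card_lt (hφ : ∀ x, φ x = x ^ q) (hqq : ∀ t : K, (t ^ q) ^ q = t) (hK : Fintype.card K = q ^ 2)
    (hq1 : 1 < q) : Nat.card ↥(X φ q (sr 0)) < Nat.card ↥(X φ q (sr 3)) := by
  refine lt_of_le_of_ne ?_ (OutTwo.card_ne hφ hqq hK hq1).symm
  rw [OutTwo.card_of_coord (Out.coordE hφ hqq 3), OutTwo.card_of_coord (Out.coordE hφ hqq 0)]
  have h1 : (Fx φ 2 : Subfield K) = ⊤ := Out.F2_eq_top hφ hqq
  have h2 : Nat.card (Out.KF φ 3) = Nat.card K := by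
    show Nat.card ↥(Fx φ 2) = _
    rw [h1]
    exact Nat.card_congr Subfield.topEquiv.toEquiv
  rw [h2]
  exact Nat.card_le_card_of_injective _ (Out.KF φ 0).subtype_injective

/-- **`Dat` for `²E₆(q)`, every even `q`.** -/
theorem dat [CharP K 2] (hφ : ∀ x, φ x = x ^ q) (hqq : ∀ t : K, (t ^ q) ^ q = t) (hK : Fintype.card K = q ^ 2)
    (hq1 : 1 < q) : Facts.Dat (rgd cs hφ hqq 2) :=
  ⟨fun _ ha hl => Grp.lr_long cs hφ hqq 2 ha hl, NonComm.nc (rgd cs hφ hqq 2)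
    (fun _ ha hl => Grp.lr_long cs hφ hqq 2 ha hl) (card_lt hφ hqq hK hq1)⟩

end Cfsg.Agent.KFacts.TwESix.Dat
end

-- part: KFacts/TwESix/Tor
section
prune_inst 0x30005100240000000018000240003e62e2000002006b800141000a0007c12d002001072136e0121000d0225400784040024c00400018000000008200411c0481042200000000a00000000000c800000000000000000000000000000000000000200000000
set_option linter.all false
open scoped Cfsg.Agent.FastGrp

/-!
# `²E₆(q)`, `q` even: transport of `Dat`, and the torus of a root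

* `Dat.map` : `Dat` along an injective homomorphism;
* `T_comm` : the torus of `RGDTwE6.rgd` is abelian;
* `tor_self` : `T ⊓ ⟨X r, X (-r)⟩` is transitive on the nontrivial elements of `X r`, every root `r`;
* `exists_hne` : if `X r` has more than two elements, some `t ∈ T ⊓ ⟨X r, X (-r)⟩` fixes no nontrivial element of `X r`;
* `tor_orth` : elements of `T ⊓ ⟨X r, X (-r)⟩` commute with `X b`, `b ⟂ r`, `r` long.
-/

set_option autoImplicit false
set_option linter.unusedSectionVars false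
set_option maxHeartbeats 400000

namespace Cfsg.Agent.KFacts.TwESix.Tor

open CoxeterSystem Cfsg.Agent.ChevalleyStructure.CoxeterGeom Cfsg.Agent.Tits.Roots Cfsg.Agent.Tits.Core
  Cfsg.Agent.Tits.RootComb Cfsg.Agent.Tits.Exchange Cfsg.Agent.Nodes.Reps Cfsg.Agent.Nodes.BNOf
  Cfsg.Agent.Nodes.Coroot Cfsg.Agent.KFacts.RgdSL Cfsg.Agent.KFacts.RgdTI
  Cfsg.Agent.Nodes.RGDTwE6 Cfsg.Agent.KFacts.TwESix.Comb Cfsg.Agent.KFacts.TwESix.CombRho
  Cfsg.Agent.KFacts.TwESix.Facts Cfsg.Agent.KFacts.RgdField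
  Cfsg.Agent.Nodes.RGDTwGen Cfsg.Agent.Nodes.RGDFold Cfsg.Agent.Nodes.RGDFoldSL Cfsg.Agent.Nodes.RGDLib
open Cfsg.Agent.Nodes.RGDTwNode.E6
open Cfsg.Lie
open scoped commutatorElement

section Map

variable {W Y Y' : Type*} [Group W] [Group Y] [Group Y'] {cs : CoxeterSystem CoxeterMatrix.F₄ W} {T : Subgroup Y}
  {n : Fin 4 → Y} {X : (Fin 4 → ℤ) → Subgroup Y}

theorem lr_map (R : RGD cs isCartan 2 T n X) (f : Y →* Y') (R' : RGD cs isCartan 2 (T.map f) (fun i => f (n i))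
    (fun x => (X x).map f)) {a : Fin 4 → ℤ} (h : LR R a) : LR R' a where
  root := h.root
  comm := by
    rintro x hx h0 _ ⟨u, hu, rfl⟩ _ ⟨v, hv, rfl⟩
    rw [← map_mul, ← map_mul, h.comm x hx h0 u hu v hv]

/-- **`Dat` along an injective homomorphism.** -/
theorem map {R : RGD cs isCartan 2 T n X} (D : Dat R) (f : Y →* Y') (hf : Function.Injective f) :
    Dat (rgd_map_of_injective R f hf) where
  lr a ha hl := lr_map R f _ (D.lr a ha hl)
  nc := by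
    obtain ⟨x, y, hx, hy, hxx, hyy, hxy, u, hu, v, hv, hne⟩ := D.nc
    refine ⟨x, y, hx, hy, hxx, hyy, hxy, f u, Subgroup.mem_map_of_mem f hu, f v, Subgroup.mem_map_of_mem f hv, ?_⟩
    intro he
    rw [← map_mul, ← map_mul] at he
    exact hne (hf he)

end Map

section Self

variable {W Y : Type*} [Group W] [Group Y] {cs : CoxeterSystem CoxeterMatrix.F₄ W} {T : Subgroup Y}
  {n : Fin 4 → Y} {X : (Fin 4 → ℤ) → Subgroup Y}

theorem neg_root {b : Fin 4 → ℤ} (hb : b ∈ rts) : -b ∈ rts := by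
  revert b
  decide +kernel

/-- **`T ⊓ ⟨X r, X (-r)⟩` is transitive on the nontrivial elements of `X r`.** -/
theorem tor_self [Finite T] (R : RGD cs isCartan 2 T n X) (hab : ∀ s ∈ T, ∀ t ∈ T, s * t = t * s) {r : Fin 4 → ℤ}
    (hr : IsRoot cs isCartan r) {u v : Y} (hu : u ∈ X r) (hu1 : u ≠ 1) (hv : v ∈ X r) (hv1 : v ≠ 1) :
    ∃ t ∈ T ⊓ (X r ⊔ X (-r)), t * u * t⁻¹ = v := by
  have : Finite W := finiteW cs
  obtain ⟨x, hx, h1, h2⟩ := nbr r ((mem_rts cs).1 hr)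
  have hA := a2 cs hr ((mem_rts cs).2 hx) h1.symm (by rw [bf_comm, ← h1]; exact h2)
  exact RgdTor.tor_self hA R hab hu hu1 hv hv1

/-- **Some `t ∈ T ⊓ ⟨X r, X (-r)⟩` fixes no nontrivial element of `X r`.** -/
theorem exists_hne [Finite T] (R : RGD cs isCartan 2 T n X) (hab : ∀ s ∈ T, ∀ t ∈ T, s * t = t * s) {r : Fin 4 → ℤ}
    (hr : IsRoot cs isCartan r) {u v : Y} (hu : u ∈ X r) (hu1 : u ≠ 1) (hv : v ∈ X r) (hv1 : v ≠ 1) (huv : u ≠ v) :
    ∃ t ∈ T ⊓ (X r ⊔ X (-r)), ∀ w ∈ X r, w ≠ 1 → t * w * t⁻¹ ≠ w := by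
  obtain ⟨t, ht, e⟩ := tor_self R hab hr hu hu1 hv hv1
  refine ⟨t, ht, fun w hw hw1 he => ?_⟩
  obtain ⟨k, hk, e2⟩ := tor_self R hab hr hw hw1 hu hu1
  have h1 := hab t ht.1 k hk.1
  apply huv
  rw [← e, ← e2]
  symm
  calc t * (k * w * k⁻¹) * t⁻¹ = (t * k) * w * (t * k)⁻¹ := by group
    _ = k * (t * w * t⁻¹) * k⁻¹ := by rw [h1]; group
    _ = k * w * k⁻¹ := by rw [he]

/-- If `r` is long, `⟨X r, X (-r)⟩` commutes with `X b` for `b ⟂ r`. -/
theorem orth_comm (R : RGD cs isCartan 2 T n X) (lr : ∀ a, IsRoot cs isCartan a → bf a a = 4 → LR R a)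
    {r : Fin 4 → ℤ} (hr : IsRoot cs isCartan r) (hl : bf r r = 4) {b : Fin 4 → ℤ} (hb : IsRoot cs isCartan b)
    (hbr : bf b r = 0) {t x : Y} (ht : t ∈ X r ⊔ X (-r)) (hx : x ∈ X b) : t * x = x * t := by
  have : Finite W := finiteW cs
  have hr' : IsRoot cs isCartan (-r) := (mem_rts cs).2 (neg_root ((mem_rts cs).1 hr))
  have hc : ∀ s, IsRoot cs isCartan s → bf s s = 4 → bf b s = 0 → 0 ≤ cpr cs isCartan b s := by
    intro s hs hs4 hbs
    have h1 := two_bf cs b hs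
    rw [hbs, hs4] at h1
    omega
  have h1 : X r ⊔ X (-r) ≤ Subgroup.centralizer {x} := by
    refine sup_le (fun y hy => ?_) fun y hy => ?_
    · rw [Subgroup.mem_centralizer_singleton_iff]
      exact ((lr r hr hl).comm b hb (hc r hr hl hbr) x hx y hy).symm
    · rw [Subgroup.mem_centralizer_singleton_iff]
      have hl' : bf (-r) (-r) = 4 := by rw [bf_neg_left, bf_neg_right, neg_neg, hl]
      exact ((lr (-r) hr' hl').comm b hb (hc (-r) hr' hl' (by rw [bf_neg_right, hbr, neg_zero])) x hx y hy).symm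
  exact Subgroup.mem_centralizer_singleton_iff.1 (h1 ht)

end Self

section Model

universe u

variable {K : Type u} [Field K] [Fintype K] {q : ℕ} {φ : K →+* K}
variable {W : Type*} [Group W] (cs : CoxeterSystem CoxeterMatrix.F₄ W)

omit [Fintype K] in
/-- the torus is abelian -/
theorem T_comm : ∀ s ∈ T K q, ∀ t ∈ T K q, s * t = t * s := by
  intro s hs t ht
  have hs' : (s : GL chevE6.Idx K) ∈ chevE6.diagonalSubgroup K := (Subgroup.mem_subgroupOf.1 hs).1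
  have ht' : (t : GL chevE6.Idx K) ∈ chevE6.diagonalSubgroup K := (Subgroup.mem_subgroupOf.1 ht).1
  obtain ⟨χ, hχ⟩ := ChevalleyStructure.HMatDiagAll.mem_torus.1
    (ChevalleyStructure.HMatDiagAll.diagonalSubgroup_le_torus hp.inList hs')
  obtain ⟨ψ, hψ⟩ := ChevalleyStructure.HMatDiagAll.mem_torus.1
    (ChevalleyStructure.HMatDiagAll.diagonalSubgroup_le_torus hp.inList ht')
  apply Subtype.ext
  apply Units.ext
  rw [Subgroup.coe_mul, Subgroup.coe_mul, Units.val_mul, Units.val_mul, hχ, hψ, Matrix.diagonal_mul_diagonal,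
    Matrix.diagonal_mul_diagonal]
  congr 1
  funext i
  exact mul_comm _ _

/-- a long root group has `q` elements -/
theorem card_long [CharP K 2] (hφ : ∀ x, φ x = x ^ q) (hqq : ∀ t : K, (t ^ q) ^ q = t)
    (hK : Fintype.card K = q ^ 2) (hq1 : 1 < q) {r : Fin 4 → ℤ} (hr : IsRoot cs isCartan r) (hl : bf r r = 4) :
    Nat.card ↥(X φ q r) = q := by
  have : Finite W := finiteW cs
  obtain ⟨w, rfl⟩ := exists_rep_long cs hr hl
  rw [NonComm.card_rep (rgd cs hφ hqq 2) w (isRoot_sr cs isCartan 0), OutTwo.card_of_coord (Out.coordE hφ hqq 0),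
    ← ChevalleyStructure.FixedCard.card_fixed hq1 hK]
  refine Nat.card_congr (Equiv.subtypeEquivRight fun x => ?_)
  show x ∈ Fx φ 1 ↔ _
  rw [mem_Fx, Function.iterate_one, hφ]

/-- a short root group has `q²` elements -/
theorem card_short [CharP K 2] (hφ : ∀ x, φ x = x ^ q) (hqq : ∀ t : K, (t ^ q) ^ q = t)
    (hK : Fintype.card K = q ^ 2) {r : Fin 4 → ℤ} (hr : IsRoot cs isCartan r) (hl : bf r r = 2) :
    Nat.card ↥(X φ q r) = q ^ 2 := by
  have : Finite W := finiteW cs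
  obtain ⟨w, rfl⟩ := exists_rep_short cs hr hl
  rw [NonComm.card_rep (rgd cs hφ hqq 2) w (isRoot_sr cs isCartan 3), OutTwo.card_of_coord (Out.coordE hφ hqq 3)]
  have h1 : (Fx φ 2 : Subfield K) = ⊤ := Out.F2_eq_top hφ hqq
  show Nat.card ↥(Fx φ 2) = _
  rw [h1, Nat.card_congr Subfield.topEquiv.toEquiv, Nat.card_eq_fintype_card, hK]

/-- **`q > 2`: some element of `T ⊓ ⟨X r, X (-r)⟩` fixes no nontrivial element of `X r`.** -/
theorem hne [CharP K 2] (hφ : ∀ x, φ x = x ^ q) (hqq : ∀ t : K, (t ^ q) ^ q = t)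
    (hK : Fintype.card K = q ^ 2) (hq2 : 2 < q) {r : Fin 4 → ℤ} (hr : IsRoot cs isCartan r) (hl : bf r r = 4) :
    ∃ t ∈ T K q ⊓ (X φ q r ⊔ X φ q (-r)), ∀ w ∈ X φ q r, w ≠ 1 → t * w * t⁻¹ ≠ w := by
  classical
  have h1 := card_long cs hφ hqq hK (by omega) hr hl
  have : Fintype ↥(X φ q r) := Fintype.ofFinite _
  have h2 : 2 < Fintype.card ↥(X φ q r) := by rw [← Nat.card_eq_fintype_card, h1]; exact hq2
  obtain ⟨u, v, w, huv, huw, hvw⟩ := Fintype.two_lt_card_iff.1 h2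
  have key : ∃ a b : ↥(X φ q r), a ≠ 1 ∧ b ≠ 1 ∧ a ≠ b := by
    by_cases hu : u = 1
    · subst hu
      exact ⟨v, w, huv.symm, huw.symm, hvw⟩
    · by_cases hv : v = 1
      · subst hv
        exact ⟨u, w, hu, hvw.symm, huw⟩
      · exact ⟨u, v, hu, hv, huv⟩
  obtain ⟨a, b, ha, hb, hab⟩ := key
  exact exists_hne (rgd cs hφ hqq 2) T_comm hr a.2 (fun h => ha (Subtype.ext h)) b.2 (fun h => hb (Subtype.ext h))
    (fun h => hab (Subtype.ext h))

end Model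

end Cfsg.Agent.KFacts.TwESix.Tor
end
end
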