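import Cfsg.Agent.KFacts.TwESix.Comb
import Cfsg.Agent.KFacts.TwESix.Tor
import Cfsg.Agent.OddHalf.Quat.KTwoOf_m3
import Cfsg.Agent.Lib.Refl
import Cfsg.Agent.KFacts.Unit.GLAct
import Cfsg.Agent.OddHalf.SpN.Start_m3
import Mathlib
import Cfsg.Agent.KFacts.Unit.Point
import Cfsg.Agent.KFacts.TwF4.Torus
import Cfsg.Agent.KFacts.TwF4.TorFix
import Cfsg.Agent.KFacts.TwF4.Perf
import Cfsg.Agent.ThreePrime.SzAut
import Cfsg.Agent.Octagon.FieldAut171
import Cfsg.Agent.KFacts.TwF4.Inv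
import Cfsg.Agent.KFacts.TwF4.CentR
import Cfsg.Agent.OddHalf.D5.Defs
import Cfsg.Agent.UGT.I34.OnCode_m3
import Cfsg.Agent.OddHalf.D8.Rows
import Cfsg.Agent.OddHalf.Front.FE
import Cfsg.Agent.S0215
import Cfsg.Agent.S1180
import Cfsg.Agent.Cit.ElevenFact
import Cfsg.Agent.RuD.IdxNetW_m3
import Cfsg.Agent.OddHalf.D5.EightCleanSwp_m3
import Cfsg.Agent.OddHalf.D9.FFour.Out_m3
import Cfsg.Agent.KFacts.RgdOwn_m3
import Cfsg.Agent.KFacts.RgdAutFacts
import Cfsg.Agent.HexModel.Main_m3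
import Cfsg.Agent.OddHalf.Quat.NoThreeTools
import Cfsg.Agent.FastGrp
import Cfsg.Agent.Prune
set_option linter.all false

section
prune_inst 0x7fbcfcf8adb8addfdfff7e7ffedddffc39d15fffe6dff943ffe0e1ff0bdf030809c52b8d8de010fe1ef6629410b87813fbfff67fea6bdc7ffffd5ff41ffbee0fe5f7b508519688340fbc0ff703f07f8e7f3fffffffffffffffffffffffffffbeffffffffffff

-- part: KFacts/TwESix/Cent
section
prune_inst 0x4303061247522020000180012200000202800019200200001b0e00542084f5320ad0321014e201c1018028a80200400000098001002000000000004000005012080a85206936c010426008f803007180c00000000000000000000000000041000000000000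
set_option linter.all false
open scoped Cfsg.Agent.FastGrp

-- part: KFacts/TwESix/CentComb
section
/-!
# Finite checks for the centralisers in `²E₆(q)` (helper469; packet [C])

The Gram matrix of the 48 roots is coded by the number `big`.
-/

set_option autoImplicit false
set_option linter.unusedSectionVars false

namespace Cfsg.Agent.KFacts.TwESix.CentComb

open Cfsg.Agent.KFacts.TwESix.Comb

/-- The Gram matrix: `bf + 4` in base 16. -/
def big : ℕ := 7761620399598382375985040383912434723655302828406112572912600093065271450968940447815992155574035557718371215622847041010241149436891267431823585730313584456604543094248926459677295066417403183477575486590112431699902144232149450682515182842366204437593414265634369641656409004864480331657713600528139781649116623353837567596085186605051095792694384307045428877799715594219749672294680847458824013667627633580519693109187640817140641916851592735087252143420142958207080762735759956915040257149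0118807357671368257976419319079653248550111403767687267498601440058198870833120501532536386885793708002241665737910269327107355197410391628586012563480779423025723990042581959929983699479440675528084883988975772426402129467608289669631990829628006416800603652256590153075616587374001022425773397336102239101243300654815924972734038813713807647386773127246925728449535376535235868331851644663162269901929802252414439038423623538118146254576429798429125017920010370506739915591768692139202640027340747003526882296094202872533267599216570967927393249841633909539648022469248628183054213243254506106818385171634584887802934507181523714419067222717159996160947255656221199064343339775455987791515383319419613848424105887066417397215926207826912944328269416447679799111213881701416999778481516551087393550760789137562200108269625680608725975224688548713815640463070959263342245897291461826371965664828248288338900857913503787362756661451935871383645874449919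390550726498313933046647704052564436475786489999513291214309252659904824545769458146401194874627078945515965162883120733115352505576683673365312468467443347162180660206115760852324802567539800574099959858669817245285507404671712099460322061696649663883067795446133977433477722768587397728866097911384565179640028411526002445540533387538090220804787783000118529460628941280193707408881514192651531259010491917339927957620724660711901996371265316222580336256576830266446194572632637675647385235818545704806311122303280372289083534109136133781250120818555432467444009990062092905045475851074257473353042968239892634890180060153176694202720629484641456493770782201086944181979336184539458784408394618455237844991572902298184608494737229222355997970816892555467507072581490922427825782443118325417704836954425665126059001848241377952963290663318763837249011665892069111508556275096421007432940400058489509949187093155975753328535188471412282565172764654207423367953526891365189971410467675789030419348304916862490015621500506325900102192002850926344540714429013169511433279670887542580042108960550195041997330970164680275251562538081109227124854382256810838052174289208611249538829545878592552589513576022453908194284793551779251504038149308657488289935347259980971584488837300170791572036797173915912489764438728110089279420963636776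

/-- `bf + 4` -/
def gg (i j : ℕ) : ℕ := big / 16 ^ (48 * i + j) % 16

set_option maxRecDepth 20000 in
theorem gg_spec : ∀ i < 48, ∀ j < 48, bf (rts.getD i 0) (rts.getD j 0) = (gg i j : ℤ) - 4 := by (delta Cfsg.Agent.KFacts.TwESix.Comb.bf Cfsg.Agent.KFacts.TwESix.CentComb.gg; set_option synthInstance.maxSize 100000 in exact Cfsg.Agent.Lib.Refl.of (by decide +kernel))

theorem exists_idx {x : Fin 4 → ℤ} (hx : x ∈ rts) : ∃ i < 48, rts.getD i 0 = x := by
  obtain ⟨i, hi, e⟩ := List.mem_iff_getElem.1 hx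
  refine ⟨i, hi, ?_⟩
  rw [List.getD_eq_getElem _ _ hi]
  exact e

theorem idx_mem {i : ℕ} (hi : i < 48) : rts.getD i 0 ∈ rts := by
  rw [List.getD_eq_getElem _ _ (show i < rts.length from hi)]
  exact List.getElem_mem _

theorem all_spec {P : ℕ → Bool} (h : (List.range 48).all P = true) {i : ℕ} (hi : i < 48) : P i = true :=
  List.all_eq_true.1 h i (List.mem_range.2 hi)

theorem any_spec {P : ℕ → Bool} (h : (List.range 48).any P = true) : ∃ i < 48, P i = true := by
  obtain ⟨i, hi, h1⟩ := List.any_eq_true.1 h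
  exact ⟨i, List.mem_range.1 hi, h1⟩

/-! ### one long root -/

def c1 : Bool := (List.range 48).all fun r => (gg r r != 8) || (List.range 48).all fun b =>
  ((List.range 48).any fun a => (gg a a == 8) && Nat.blt 4 (gg a r) && Nat.blt (gg b a) 4) ||
    (b == r) || ((gg b b == 6) && (gg b r == 6))

theorem c1_true : c1 = true := by (delta Cfsg.Agent.KFacts.TwESix.CentComb.c1 Cfsg.Agent.KFacts.TwESix.CentComb.gg; set_option synthInstance.maxSize 100000 in exact Cfsg.Agent.Lib.Refl.of (by decide +kernel))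

/-- roots in the closed half spaces of the long roots `a` with `(a, r) > 0` -/
theorem f1 : ∀ r ∈ rts, bf r r = 4 → ∀ b ∈ rts, (∀ a ∈ rts, bf a a = 4 → 0 < bf a r → 0 ≤ bf b a) →
    b = r ∨ (bf b b = 2 ∧ bf b r = 2) := by
  intro r hr hl b hb hc
  obtain ⟨i, hi, rfl⟩ := exists_idx hr
  obtain ⟨j, hj, rfl⟩ := exists_idx hb
  have h1 := all_spec c1_true hi
  rw [gg_spec i hi i hi] at hl
  have e1 : gg i i = 8 := by omega
  simp only [e1, bne_self_eq_false, Bool.false_or] at h1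
  have h2 := all_spec h1 hj
  simp only [Bool.or_eq_true] at h2
  rcases h2 with (h2 | h2) | h2
  · exfalso
    obtain ⟨k, hk, h3⟩ := any_spec h2
    simp only [Bool.and_eq_true, beq_iff_eq, Nat.blt_eq] at h3
    have h4 := hc _ (idx_mem hk) (by rw [gg_spec k hk k hk, h3.1.1]; norm_num) (by
      rw [gg_spec k hk i hi]; omega)
    rw [gg_spec j hj k hk] at h4
    omega
  · left
    rw [beq_iff_eq] at h2
    rw [h2]
  · right
    simp only [Bool.and_eq_true, beq_iff_eq] at h2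
    rw [gg_spec j hj j hj, gg_spec j hj i hi, h2.1, h2.2]
    norm_num

def c3 : Bool := (List.range 48).all fun r => (gg r r != 8) || (List.range 48).all fun b => (gg b r != 4) ||
  (List.range 48).any fun a => Nat.blt 4 (gg a r) && (gg b a != 4)

theorem c3_true : c3 = true := by decide +kernel

/-- a root orthogonal to `r` is not orthogonal to all roots of the radical -/
theorem f3 : ∀ r ∈ rts, bf r r = 4 → ∀ b ∈ rts, bf b r = 0 → ∃ a ∈ rts, 0 < bf a r ∧ bf b a ≠ 0 := by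
  intro r hr hl b hb hbr
  obtain ⟨i, hi, rfl⟩ := exists_idx hr
  obtain ⟨j, hj, rfl⟩ := exists_idx hb
  have h1 := all_spec c3_true hi
  rw [gg_spec i hi i hi] at hl
  have e1 : gg i i = 8 := by omega
  simp only [e1, bne_self_eq_false, Bool.false_or] at h1
  have h2 := all_spec h1 hj
  rw [gg_spec j hj i hi] at hbr
  have e2 : gg j i = 4 := by omega
  simp only [e2, bne_self_eq_false, Bool.false_or] at h2
  obtain ⟨k, hk, h3⟩ := any_spec h2
  simp only [Bool.and_eq_true, Nat.blt_eq, bne_iff_ne, ne_eq] at h3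
  refine ⟨_, idx_mem hk, ?_, ?_⟩
  · rw [gg_spec k hk i hi]; omega
  · rw [gg_spec j hj k hk]; omega

/-! ### two long roots at 60 degrees -/

def d1 : Bool := (List.range 48).all fun r => (gg r r != 8) || (List.range 48).all fun s => (gg s s != 8) ||
  (gg r s != 6) || (List.range 48).all fun b =>
  ((List.range 48).any fun a => (gg a a == 8) && Nat.blt 8 (gg a r + gg a s) && Nat.blt (gg b a) 4) ||
    (b == r) || (b == s) || ((gg b b == 6) && (gg b r == 6) && (gg b s == 6))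

theorem d1_true : d1 = true := by (delta Cfsg.Agent.KFacts.TwESix.CentComb.d1 Cfsg.Agent.KFacts.TwESix.CentComb.gg; set_option synthInstance.maxSize 100000 in exact Cfsg.Agent.Lib.Refl.of (by decide +kernel))

theorem g1 : ∀ r ∈ rts, bf r r = 4 → ∀ s ∈ rts, bf s s = 4 → bf r s = 2 → ∀ b ∈ rts,
    (∀ a ∈ rts, bf a a = 4 → 0 < bf a r + bf a s → 0 ≤ bf b a) →
    b = r ∨ b = s ∨ (bf b b = 2 ∧ bf b r = 2 ∧ bf b s = 2) := by
  intro r hr hl s hs hls hrs b hb hc
  obtain ⟨i, hi, rfl⟩ := exists_idx hr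
  obtain ⟨l, hl', rfl⟩ := exists_idx hs
  obtain ⟨j, hj, rfl⟩ := exists_idx hb
  have h1 := all_spec d1_true hi
  rw [gg_spec i hi i hi] at hl
  rw [gg_spec l hl' l hl'] at hls
  rw [gg_spec i hi l hl'] at hrs
  have e1 : gg i i = 8 := by omega
  have e2 : gg l l = 8 := by omega
  have e3 : gg i l = 6 := by omega
  simp only [e1, bne_self_eq_false, Bool.false_or] at h1
  have h2 := all_spec h1 hl'
  simp only [e2, e3, bne_self_eq_false, Bool.false_or] at h2
  have h3 := all_spec h2 hj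
  simp only [Bool.or_eq_true] at h3
  rcases h3 with ((h3 | h3) | h3) | h3
  · exfalso
    obtain ⟨k, hk, h4⟩ := any_spec h3
    simp only [Bool.and_eq_true, beq_iff_eq, Nat.blt_eq] at h4
    have h5 := hc _ (idx_mem hk) (by rw [gg_spec k hk k hk, h4.1.1]; norm_num) (by
      rw [gg_spec k hk i hi, gg_spec k hk l hl']; omega)
    rw [gg_spec j hj k hk] at h5
    omega
  · left
    rw [beq_iff_eq] at h3
    rw [h3]
  · right; left
    rw [beq_iff_eq] at h3
    rw [h3]
  · right; right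
    simp only [Bool.and_eq_true, beq_iff_eq] at h3
    rw [gg_spec j hj j hj, gg_spec j hj i hi, gg_spec j hj l hl', h3.1.1, h3.1.2, h3.2]
    norm_num

def d2 : Bool := (List.range 48).all fun r => (gg r r != 8) || (List.range 48).all fun s => (gg s s != 8) ||
  (gg r s != 6) || (List.range 48).all fun a => Nat.ble (gg a r + gg a s) 8 || (Nat.ble 4 (gg a r) && Nat.ble 4 (gg a s))

theorem d2_true : d2 = true := by (delta Cfsg.Agent.KFacts.TwESix.CentComb.d2 Cfsg.Agent.KFacts.TwESix.CentComb.gg; set_option synthInstance.maxSize 100000 in exact Cfsg.Agent.Lib.Refl.of (by decide +kernel))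

theorem g2 : ∀ r ∈ rts, bf r r = 4 → ∀ s ∈ rts, bf s s = 4 → bf r s = 2 → ∀ a ∈ rts, 0 < bf a r + bf a s →
    0 ≤ bf a r ∧ 0 ≤ bf a s := by
  intro r hr hl s hs hls hrs a ha hc
  obtain ⟨i, hi, rfl⟩ := exists_idx hr
  obtain ⟨l, hl', rfl⟩ := exists_idx hs
  obtain ⟨j, hj, rfl⟩ := exists_idx ha
  have h1 := all_spec d2_true hi
  rw [gg_spec i hi i hi] at hl
  rw [gg_spec l hl' l hl'] at hls
  rw [gg_spec i hi l hl'] at hrs
  have e1 : gg i i = 8 := by omega
  have e2 : gg l l = 8 := by omega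
  have e3 : gg i l = 6 := by omega
  simp only [e1, bne_self_eq_false, Bool.false_or] at h1
  have h2 := all_spec h1 hl'
  simp only [e2, e3, bne_self_eq_false, Bool.false_or] at h2
  have h3 := all_spec h2 hj
  simp only [Bool.or_eq_true, Bool.and_eq_true, Nat.ble_eq] at h3
  rw [gg_spec j hj i hi, gg_spec j hj l hl'] at *
  omega

def d3 : Bool := (List.range 48).all fun r => (gg r r != 8) || (List.range 48).all fun s => (gg s s != 8) ||
  (gg r s != 6) || (List.range 48).all fun b => (gg b r + gg b s != 8) ||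
  (List.range 48).any fun a => Nat.blt 8 (gg a r + gg a s) && (gg b a != 4)

theorem d3_true : d3 = true := by (delta Cfsg.Agent.KFacts.TwESix.CentComb.d3 Cfsg.Agent.KFacts.TwESix.CentComb.gg; set_option synthInstance.maxSize 100000 in exact Cfsg.Agent.Lib.Refl.of (by decide +kernel))

theorem g3 : ∀ r ∈ rts, bf r r = 4 → ∀ s ∈ rts, bf s s = 4 → bf r s = 2 → ∀ b ∈ rts, bf b r + bf b s = 0 →
    ∃ a ∈ rts, 0 < bf a r + bf a s ∧ bf b a ≠ 0 := by
  intro r hr hl s hs hls hrs b hb hbr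
  obtain ⟨i, hi, rfl⟩ := exists_idx hr
  obtain ⟨l, hl', rfl⟩ := exists_idx hs
  obtain ⟨j, hj, rfl⟩ := exists_idx hb
  have h1 := all_spec d3_true hi
  rw [gg_spec i hi i hi] at hl
  rw [gg_spec l hl' l hl'] at hls
  rw [gg_spec i hi l hl'] at hrs
  have e1 : gg i i = 8 := by omega
  have e2 : gg l l = 8 := by omega
  have e3 : gg i l = 6 := by omega
  simp only [e1, bne_self_eq_false, Bool.false_or] at h1
  have h2 := all_spec h1 hl'
  simp only [e2, e3, bne_self_eq_false, Bool.false_or] at h2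
  have h3 := all_spec h2 hj
  rw [gg_spec j hj i hi, gg_spec j hj l hl'] at hbr
  have e4 : gg j i + gg j l = 8 := by omega
  simp only [e4, bne_self_eq_false, Bool.false_or] at h3
  obtain ⟨k, hk, h4⟩ := any_spec h3
  simp only [Bool.and_eq_true, Nat.blt_eq, bne_iff_ne, ne_eq] at h4
  refine ⟨_, idx_mem hk, ?_, ?_⟩
  · rw [gg_spec k hk i hi, gg_spec k hk l hl']; omega
  · rw [gg_spec j hj k hk]; omega

def d4 : Bool := (List.range 48).all fun r => (gg r r != 8) || (List.range 48).all fun s => (gg s s != 8) ||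
  (Nat.blt (gg r s) 6) || (List.range 48).any fun a => (gg a a == 6) && (gg a r == 6) && (gg a s == 6)

theorem d4_true : d4 = true := by (delta Cfsg.Agent.KFacts.TwESix.CentComb.d4 Cfsg.Agent.KFacts.TwESix.CentComb.gg; set_option synthInstance.maxSize 100000 in exact Cfsg.Agent.Lib.Refl.of (by decide +kernel))

/-- a short root at 45 degrees to `r` and `s` -/
theorem g4 : ∀ r ∈ rts, bf r r = 4 → ∀ s ∈ rts, bf s s = 4 → 2 ≤ bf r s → ∃ a ∈ rts, bf a a = 2 ∧ bf a r = 2 ∧
    bf a s = 2 := by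
  intro r hr hl s hs hls hrs
  obtain ⟨i, hi, rfl⟩ := exists_idx hr
  obtain ⟨l, hl', rfl⟩ := exists_idx hs
  have h1 := all_spec d4_true hi
  rw [gg_spec i hi i hi] at hl
  rw [gg_spec l hl' l hl'] at hls
  rw [gg_spec i hi l hl'] at hrs
  have e1 : gg i i = 8 := by omega
  have e2 : gg l l = 8 := by omega
  simp only [e1, bne_self_eq_false, Bool.false_or] at h1
  have h2 := all_spec h1 hl'
  simp only [e2, bne_self_eq_false, Bool.false_or, Bool.or_eq_true, Nat.blt_eq] at h2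
  rcases h2 with h2 | h2
  · omega
  obtain ⟨k, hk, h4⟩ := any_spec h2
  simp only [Bool.and_eq_true, beq_iff_eq] at h4
  refine ⟨_, idx_mem hk, ?_, ?_, ?_⟩
  · rw [gg_spec k hk k hk, h4.1.1]; norm_num
  · rw [gg_spec k hk i hi, h4.1.2]; norm_num
  · rw [gg_spec k hk l hl', h4.2]; norm_num

/-! ### two short roots -/

def e1 : Bool := (List.range 48).all fun b => (gg b b != 6) || (List.range 48).all fun c => (gg c c != 6) ||
  Nat.blt (gg b c) 6 || (b == c)

theorem e1_true : e1 = true := by decide +kernel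

theorem short_eq : ∀ b ∈ rts, bf b b = 2 → ∀ c ∈ rts, bf c c = 2 → b = c ∨ bf b c ≤ 1 := by
  intro b hb hbb c hc hcc
  obtain ⟨i, hi, rfl⟩ := exists_idx hb
  obtain ⟨j, hj, rfl⟩ := exists_idx hc
  have h1 := all_spec e1_true hi
  rw [gg_spec i hi i hi] at hbb
  rw [gg_spec j hj j hj] at hcc
  have e1 : gg i i = 6 := by omega
  have e2 : gg j j = 6 := by omega
  simp only [e1, bne_self_eq_false, Bool.false_or] at h1
  have h2 := all_spec h1 hj
  simp only [e2, bne_self_eq_false, Bool.false_or, Bool.or_eq_true, Nat.blt_eq, beq_iff_eq] at h2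
  rcases h2 with h2 | h2
  · right
    rw [gg_spec i hi j hj]; omega
  · left
    rw [h2]

end Cfsg.Agent.KFacts.TwESix.CentComb
end

-- part: KFacts/TwESix/Cent
section
/-!
# Centralisers in `²E₆(q)`, all `q` (helper469; packet [C])

`R` a root group datum of type `F₄` with `Facts.Dat R`, `NoCent`.

* `k1` : `C(Q_r) = X r` for `r` long, `k2` : `C(N_rs) = X r X s` for `r`, `s` long at 60 degrees,
  `N_rs = ⟨X a : ⟨a, r^∨⟩ + ⟨a, s^∨⟩ > 0⟩`;
* `aut_k1`, `aut_k2` : the same for automorphisms; `cent_k1`, `cent_k2` : for elements of an overgroup.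
-/

set_option autoImplicit false
set_option linter.unusedSectionVars false

namespace Cfsg.Agent.KFacts.TwESix.Cent

open CoxeterSystem Cfsg.Agent.ChevalleyStructure.CoxeterGeom Cfsg.Agent.Tits.Roots Cfsg.Agent.Tits.Core
  Cfsg.Agent.Tits.RootComb Cfsg.Agent.Tits.Exchange Cfsg.Agent.Nodes.Reps Cfsg.Agent.Nodes.BNOf
  Cfsg.Agent.Nodes.StabComb Cfsg.Agent.Nodes.Bruhat Cfsg.Agent.Nodes.OppDec Cfsg.Agent.Nodes.LeviDec
  Cfsg.Agent.Nodes.Coroot Cfsg.Agent.KFacts.RgdSL Cfsg.Agent.KFacts.RgdTI Cfsg.Agent.KFacts.RgdCent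
  Cfsg.Agent.KFacts.RgdCentW Cfsg.Agent.Nodes.RGDTwE6 Cfsg.Agent.KFacts.TwESix.Comb
  Cfsg.Agent.KFacts.TwESix.CombRho Cfsg.Agent.KFacts.TwESix.Facts
open scoped commutatorElement

variable {W Y : Type*} [Group W] [Group Y] {cs : CoxeterSystem CoxeterMatrix.F₄ W} {T : Subgroup Y} {n : Fin 4 → Y}
  {X : (Fin 4 → ℤ) → Subgroup Y} {R : RGD cs isCartan 2 T n X}

theorem gt_iff {x a : Fin 4 → ℤ} (ha : IsRoot cs isCartan a) (hl : bf a a = 4) :
    0 < cpr cs isCartan x a ↔ 0 < bf x a := by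
  have := cpr_long cs x ha hl
  omega

theorem cpr_ne_zero_iff {x a : Fin 4 → ℤ} (ha : IsRoot cs isCartan a) : cpr cs isCartan x a ≠ 0 ↔ bf x a ≠ 0 := by
  have h1 := two_bf cs x ha
  rcases _root_.Cfsg.Agent.KFacts.TwESix.Comb.norm cs ha with h2 | h2 <;> rw [h2] at h1 <;> omega

theorem not_btwn_45 {x y z : Fin 4 → ℤ} (hy : IsRoot cs isCartan y) (hxx : bf x x = 2)
    (hyy : bf y y = 4) (hxy : bf x y = 2) : ¬ Btwn cs isCartan x y z := by
  rintro ⟨hzr, m, a, b, hm, ha, hb, he⟩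
  have e1 : m * bf z x = 2 * a + 2 * b := by
    have := congrArg (fun v => bf v x) he
    simp only [bf_add_left, bf_smul_left] at this
    rw [this, bf_comm y x, hxx, hxy]; ring
  have e2 : m * bf z y = 2 * a + 4 * b := by
    have := congrArg (fun v => bf v y) he
    simp only [bf_add_left, bf_smul_left] at this
    rw [this, hyy, hxy]; ring
  have e3 : m * bf z z = a * bf z x + b * bf z y := by
    have h2 := congrArg (fun v => bf v z) he
    simp only [bf_add_left, bf_smul_left] at h2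
    rw [h2, bf_comm x z, bf_comm y z]
  have e4 := cpr_long cs z hy hyy
  generalize bf z x = P at *
  generalize bf z y = Q at *
  have hQP : 0 < Q - P := by
    have : 0 < m * (Q - P) := by rw [mul_sub, e1, e2]; linarith
    exact (mul_pos_iff_of_pos_left hm).1 this
  have hPQ : 0 < 2 * P - Q := by
    have : 0 < m * (2 * P - Q) := by
      have h1 : m * (2 * P - Q) = 2 * a := by linear_combination 2 * e1 - e2
      rw [h1]; linarith
    exact (mul_pos_iff_of_pos_left hm).1 this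
  have e5 : 2 * bf z z = P * P + (Q - P) * (Q - P) := by
    have h1 : m * (2 * bf z z) = m * (P * P + (Q - P) * (Q - P)) := by
      have h2 : 2 * a = m * (2 * P - Q) := by linear_combination -2 * e1 + e2
      have h3 : 2 * b = m * (Q - P) := by linear_combination e1 - e2
      calc m * (2 * bf z z) = 2 * (m * bf z z) := by ring
        _ = (2 * a) * P + (2 * b) * Q := by rw [e3]; ring
        _ = _ := by rw [h2, h3]; ring
    exact mul_left_cancel₀ hm.ne' h1
  obtain ⟨u, hu⟩ : ∃ u, u = Q - P := ⟨_, rfl⟩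
  have hQ : Q = P + u := by omega
  rw [← hu] at e5 hQP
  have hPu : u < P := by omega
  have hP3 : P ≤ 2 := by
    by_contra hc
    have : 3 ≤ P := by omega
    rcases _root_.Cfsg.Agent.KFacts.TwESix.Comb.norm cs hzr with h | h <;> nlinarith only [hm, ha, hb, e1, e3, hQP, hu, hc, h]
  have hu1 : u = 1 := by omega
  have hP2 : P = 2 := by omega
  rw [hu1, hP2] at e5
  omega

section Main

variable (D : Dat R)

include D

section K1

variable {r : Fin 4 → ℤ} (hr : IsRoot cs isCartan r) (hl : bf r r = 4)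

/-- the short roots of the radical -/
def Bs (cs : CoxeterSystem CoxeterMatrix.F₄ W) (r : Fin 4 → ℤ) : Set (Fin 4 → ℤ) :=
  {b | IsRoot cs isCartan b ∧ bf b b = 2 ∧ bf b r = 2}

omit D in
include hr hl in
theorem partner {b : Fin 4 → ℤ} (hb : b ∈ Bs cs r) : IsRoot cs isCartan (r - b) ∧ bf (r - b) (r - b) = 2 ∧
    bf b (r - b) = 0 ∧ bf (r - b) r = 2 := by
  have : Finite W := finiteW cs
  obtain ⟨h1, h2, h3⟩ := hb
  refine ⟨?_, ?_, ?_, ?_⟩
  · have h4 : cpr cs isCartan b r = 1 := by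
      have := cpr_long cs b hr hl
      omega
    have h5 := isRoot_refl cs isCartan h1 hr
    rw [h4, one_smul] at h5
    have h6 := h5.neg
    rwa [neg_sub] at h6
  · rw [bf_sub_left, bf_sub_right, bf_sub_right, hl, h2, h3, bf_comm r b, h3]; norm_num
  · rw [bf_sub_right, h2, h3]; norm_num
  · rw [bf_sub_left, hl, h3]; norm_num

omit D in
include hr hl in
theorem mem_Bs_pair {b y : Fin 4 → ℤ} (hb : b ∈ Bs cs r) (hy : y ∈ Bs cs r) (hyb : y ≠ b) :
    bf b y = 1 ∨ (bf b y = 0 ∧ b + y = r) := by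
  obtain ⟨p1, p2, p3, p4⟩ := partner hr hl hb
  have h1 : bf b y ≤ 1 := (CentComb.short_eq b ((mem_rts cs).1 hb.1) hb.2.1 y ((mem_rts cs).1 hy.1)
    hy.2.1).resolve_left (fun h => hyb h.symm)
  have h2 : bf (r - b) y = 2 - bf b y := by
    rw [bf_sub_left, bf_comm r y, hy.2.2]
  rcases CentComb.short_eq (r - b) ((mem_rts cs).1 p1) p2 y ((mem_rts cs).1 hy.1) hy.2.1 with h3 | h3
  · right
    refine ⟨?_, by rw [← h3]; abel⟩
    rw [← h3, p3]
  · left
    omega

omit D in
include hr hl in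
/-- closedness of the auxiliary roots -/
theorem closed_Bs {b y : Fin 4 → ℤ} (hb : b ∈ Bs cs r) (hy : y ∈ Bs cs r) (hyb : y ≠ b) :
    b ≠ -y ∧ ∀ z, Btwn cs isCartan b y z → z = r ∧ b + y = r := by
  refine ⟨?_, fun z hz => ?_⟩
  · rintro rfl
    have h1 := hb.2.2
    rw [bf_neg_left, hy.2.2] at h1
    omega
  · rcases mem_Bs_pair hr hl hb hy hyb with h1 | ⟨h1, h2⟩
    · exact absurd hz (not_btwn_60 cs hb.1 hy.1 (by rw [hb.2.1, hy.2.1]) (by rw [h1, hb.2.1]; norm_num))
    · exact ⟨by rw [btwn_orth cs hb.2.1 hy.2.1 h1 hz, h2], h2⟩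

omit D in
include hr hl in
theorem closed_r {b : Fin 4 → ℤ} (hb : b ∈ Bs cs r) {y : Fin 4 → ℤ} (hy : IsRoot cs isCartan y) (hyy : bf y y = 4)
    (hby : bf b y = 2) : b ≠ -y ∧ ∀ z, ¬ Btwn cs isCartan b y z := by
  refine ⟨?_, fun z => not_btwn_45 hy hb.2.1 hyy hby⟩
  rintro rfl
  have h1 := hb.2.1
  rw [bf_neg_left, bf_neg_right] at h1
  omega

include hr hl in
/-- the partner of `b` commutes with the other groups -/
theorem comm_partner {b c : Fin 4 → ℤ} (hb : b ∈ Bs cs r) (hc : c ∈ Bs cs r) (hcb : c ≠ b) {u v : Y}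
    (hu : u ∈ X c) (hv : v ∈ X (r - b)) : u * v = v * u := by
  obtain ⟨p1, p2, p3, p4⟩ := partner hr hl hb
  have hp : r - b ∈ Bs cs r := ⟨p1, p2, p4⟩
  by_cases h1 : c = r - b
  · rw [← h1] at hv
    exact abel R hc.1 hu hv
  · rcases mem_Bs_pair hr hl hp hc h1 with h2 | ⟨-, h3⟩
    · exact comm_60 R hc.1 p1 hc.2.1 p2 (by rw [bf_comm, h2]) hu hv
    · exfalso
      apply hcb
      calc c = (r - b + c) - r + b := by abel
        _ = b := by rw [h3]; abel

include hr hl in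
theorem br_partner {b : Fin 4 → ℤ} (hb : b ∈ Bs cs r) {u v : Y} (hu : u ∈ X b) (hv : v ∈ X (r - b)) :
    ⁅u, v⁆ ∈ X r := by
  obtain ⟨p1, p2, p3, p4⟩ := partner hr hl hb
  have h1 := orth_mem R hb.1 p1 hb.2.1 p2 p3 hu hv
  rwa [add_sub_cancel] at h1

include hr hl in
theorem nd_partner {b : Fin 4 → ℤ} (hb : b ∈ Bs cs r) {u : Y} (hu : u ∈ X b)
    (hc : ∀ v ∈ X (r - b), u * v = v * u) : u = 1 := by
  obtain ⟨p1, p2, p3, p4⟩ := partner hr hl hb
  by_contra h1
  obtain ⟨v, hv, h2⟩ := orth_nd D hb.1 p1 hb.2.1 p2 p3 hu h1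
  exact h2 (hc v hv)

include hr hl in
theorem cfg1 [Finite W] : Cfg R (ell cs isCartan hr) {a | IsRoot cs isCartan a ∧ bf a a = 4 ∧ 0 < bf a r} {r}
    (Bs cs r) where
  lr a ha := D.lr a ha.1 ha.2.1
  pos a ha := (gt_iff hr hl).2 ha.2.2
  star := by
    intro b hb
    rcases CentComb.f1 r ((mem_rts cs).1 hr) hl b ((mem_rts cs).1 hb.1) (fun a ha haa har =>
      (ge_iff cs ((mem_rts cs).2 ha) haa).1 (hb.2 a ⟨(mem_rts cs).2 ha, haa, har⟩)) with h1 | h1
    · exact Or.inl h1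
    · exact Or.inr ⟨hb.1, h1⟩
  zroot z hz := by rw [Set.mem_singleton_iff] at hz; rw [hz]; exact hr
  broot b hb := hb.1
  disj b hb h1 := by
    rw [Set.mem_singleton_iff] at h1
    rw [h1, Bs, Set.mem_ofPred_eq] at hb
    omega
  zcomm z hz a ha hfa u hu v hv := by
    rw [Set.mem_singleton_iff] at hz
    rw [hz] at hu
    exact (comm_long D ha hr hl ((gt_iff hr hl).1 hfa).le hv hu).symm
  closed b hb y hy hyb := by
    rcases hy with h1 | h1
    · rw [Set.mem_singleton_iff] at h1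
      subst h1
      obtain ⟨h2, h3⟩ := closed_r hr hl hb hr hl hb.2.2
      exact ⟨h2, fun z hz => absurd hz (h3 z)⟩
    · obtain ⟨h2, h3⟩ := closed_Bs hr hl hb h1 hyb
      exact ⟨h2, fun z hz => (h3 z hz).1⟩
  part b hb := by
    obtain ⟨p1, p2, p3, p4⟩ := partner hr hl hb
    refine ⟨r - b, p1, (gt_iff hr hl).2 (by rw [p4]; norm_num), fun c hc hcb u hu v hv =>
      comm_partner D hr hl hb hc hcb hu hv, ⟨r, rfl, ?_, fun u hu v hv => br_partner D hr hl hb hu hv⟩,
      fun u hu hc => nd_partner D hr hl hb hu hc⟩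
    intro h1
    rw [← h1, hl] at p2
    omega
  zero b hb h0 := by
    have h1 : bf b r = 0 := by
      have := cpr_long cs b hr hl
      rw [show cpr cs isCartan b r = 0 from h0] at this
      omega
    obtain ⟨a, ha, h2, h3⟩ := CentComb.f3 r ((mem_rts cs).1 hr) hl b ((mem_rts cs).1 hb) h1
    exact ⟨a, (mem_rts cs).2 ha, (gt_iff hr hl).2 h2, (cpr_ne_zero_iff ((mem_rts cs).2 ha)).2 h3⟩

omit D in
theorem sup_singleton {r : Fin 4 → ℤ} : RGD.Sup X {r} ≤ X r := RGD.Sup_le fun z hz => by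
  rw [Set.mem_singleton_iff] at hz
  rw [hz]

include hr hl in
/-- **(K1)** `C_GG(Q_r) ≤ X r`. -/
theorem k1 (hN : NoCent cs isCartan T X) {g : Y} (hg : g ∈ GG cs isCartan T X)
    (hc : ∀ a, IsRoot cs isCartan a → 0 < cpr cs isCartan a r → ∀ v ∈ X a, g * v = v * g) : g ∈ X r := by
  have : Finite W := finiteW cs
  exact sup_singleton (cent R (cfg1 D hr hl) hN hg hc)

include hr hl in
/-- **(K1)** for automorphisms. -/
theorem aut_k1 (hN : NoCent cs isCartan T X) (hG1 : RGD.Sup X {x | IsRoot cs isCartan x} = ⊤) {α : MulAut Y}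
    (hα : ∀ a, IsRoot cs isCartan a → 0 < cpr cs isCartan a r → ∀ v ∈ X a, α v = v) :
    ∃ z ∈ X r, α = MulAut.conj z := by
  have : Finite W := finiteW cs
  obtain ⟨z, hz, e⟩ := aut R (cfg1 D hr hl) hN hG1 (fun i a ha b hb => abel R (isRoot_sr cs isCartan i) ha hb)
    (fun c hc => by
      rw [Set.mem_singleton_iff] at hc
      rw [hc]
      obtain ⟨a, ha, h1, h2, -⟩ := CentComb.g4 r ((mem_rts cs).1 hr) hl r ((mem_rts cs).1 hr) hl (by rw [hl]; norm_num)
      obtain ⟨p1, p2, p3, p4⟩ := partner hr hl (b := a) ⟨(mem_rts cs).2 ha, h1, h2⟩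
      exact ⟨a, r - a, (mem_rts cs).2 ha, p1, (gt_iff hr hl).2 (by rw [h2]; norm_num),
        (gt_iff hr hl).2 (by rw [p4]; norm_num), by abel⟩) hα
  exact ⟨z, sup_singleton hz, e⟩

end K1

section K2

variable {r s : Fin 4 → ℤ} (hr : IsRoot cs isCartan r) (hl : bf r r = 4) (hs : IsRoot cs isCartan s)
  (hls : bf s s = 4) (hrs : bf r s = 2)

omit D in
include hl hls in
theorem gt_iff2 [Finite W] {x : Fin 4 → ℤ} : 0 < (ell cs isCartan hr + ell cs isCartan hs) x ↔ 0 < bf x r + bf x s := by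
  have h1 := cpr_long cs x hr hl
  have h2 := cpr_long cs x hs hls
  show 0 < cpr cs isCartan x r + cpr cs isCartan x s ↔ _
  omega

include hr hl hs hls hrs in
theorem cfg2 [Finite W] : Cfg R (ell cs isCartan hr + ell cs isCartan hs)
    {a | IsRoot cs isCartan a ∧ bf a a = 4 ∧ 0 < bf a r + bf a s} {r, s}
    {b | b ∈ Bs cs r ∧ bf b s = 2} where
  lr a ha := D.lr a ha.1 ha.2.1
  pos a ha := (gt_iff2 hr hl hs hls).2 ha.2.2
  star := by
    intro b hb
    rcases CentComb.g1 r ((mem_rts cs).1 hr) hl s ((mem_rts cs).1 hs) hls hrs b ((mem_rts cs).1 hb.1)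
      (fun a ha haa har => (ge_iff cs ((mem_rts cs).2 ha) haa).1 (hb.2 a ⟨(mem_rts cs).2 ha, haa, har⟩))
      with h1 | h1 | ⟨h1, h2, h3⟩
    · exact Or.inl (Or.inl h1)
    · exact Or.inl (Or.inr h1)
    · exact Or.inr ⟨⟨hb.1, h1, h2⟩, h3⟩
  zroot z hz := by
    rcases hz with h1 | h1
    · rw [h1]; exact hr
    · rw [Set.mem_singleton_iff] at h1; rw [h1]; exact hs
  broot b hb := hb.1.1
  disj b hb h1 := by
    have h2 := hb.1.2.1
    rcases h1 with h1 | h1
    · rw [h1] at h2; omega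
    · rw [Set.mem_singleton_iff] at h1
      rw [h1] at h2; omega
  zcomm z hz a ha hfa u hu v hv := by
    obtain ⟨h2, h3⟩ := CentComb.g2 r ((mem_rts cs).1 hr) hl s ((mem_rts cs).1 hs) hls hrs a ((mem_rts cs).1 ha)
      ((gt_iff2 hr hl hs hls).1 hfa)
    rcases hz with h1 | h1
    · rw [h1] at hu
      exact (comm_long D ha hr hl h2 hv hu).symm
    · rw [Set.mem_singleton_iff] at h1
      rw [h1] at hu
      exact (comm_long D ha hs hls h3 hv hu).symm
  closed b hb y hy hyb := by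
    rcases hy with h1 | h1
    · have h4 : IsRoot cs isCartan y ∧ bf y y = 4 ∧ bf b y = 2 := by
        rcases h1 with h1 | h1
        · rw [h1]; exact ⟨hr, hl, hb.1.2.2⟩
        · rw [Set.mem_singleton_iff] at h1
          rw [h1]; exact ⟨hs, hls, hb.2⟩
      obtain ⟨h2, h3⟩ := closed_r hr hl hb.1 h4.1 h4.2.1 h4.2.2
      exact ⟨h2, fun z hz => absurd hz (h3 z)⟩
    · obtain ⟨h2, h3⟩ := closed_Bs hr hl hb.1 h1.1 hyb
      refine ⟨h2, fun z hz => ?_⟩
      have h5 := (h3 z hz).2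
      exfalso
      have h6 := congrArg (fun v => bf v s) h5
      simp only [bf_add_left] at h6
      rw [hb.2, h1.2, hrs] at h6
      omega
  part b hb := by
    obtain ⟨p1, p2, p3, p4⟩ := partner hr hl hb.1
    refine ⟨r - b, p1, (gt_iff2 hr hl hs hls).2 ?_, fun c hc hcb u hu v hv =>
      comm_partner D hr hl hb.1 hc.1 hcb hu hv, ⟨r, Or.inl rfl, ?_, fun u hu v hv => br_partner D hr hl hb.1 hu hv⟩,
      fun u hu hc => nd_partner D hr hl hb.1 hu hc⟩
    · rw [p4, bf_sub_left, hrs, hb.2]; norm_num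
    · intro h1
      rw [← h1, hl] at p2
      omega
  zero b hb h0 := by
    have h1 : bf b r + bf b s = 0 := by
      have h2 := cpr_long cs b hr hl
      have h3 := cpr_long cs b hs hls
      have h4 : cpr cs isCartan b r + cpr cs isCartan b s = 0 := h0
      omega
    obtain ⟨a, ha, h2, h3⟩ := CentComb.g3 r ((mem_rts cs).1 hr) hl s ((mem_rts cs).1 hs) hls hrs b
      ((mem_rts cs).1 hb) h1
    exact ⟨a, (mem_rts cs).2 ha, (gt_iff2 hr hl hs hls).2 h2, (cpr_ne_zero_iff ((mem_rts cs).2 ha)).2 h3⟩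

include hr hl hs hls hrs in
theorem exists_mul {g : Y} (hg : g ∈ RGD.Sup X {r, s}) : ∃ x ∈ X r, ∃ y ∈ X s, g = x * y := by
  have hcomm : ∀ x ∈ X r, ∀ y ∈ X s, x * y = y * x := fun x hx y hy =>
    comm_long D hr hs hls (by rw [hrs]; norm_num) hx hy
  have hle : X r ≤ Subgroup.normalizer (X s : Set Y) := by
    intro x hx
    rw [Subgroup.mem_normalizer_iff]
    intro y
    constructor
    · intro hy
      rw [hcomm x hx y hy, mul_inv_cancel_right]; exact hy
    · intro hy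
      have h2 := hcomm x hx _ hy
      have e : y = x⁻¹ * (x * y * x⁻¹ * x) := by group
      rw [← h2] at e
      rw [e, inv_mul_cancel_left]; exact hy
  have h1 : RGD.Sup X {r, s} ≤ X r ⊔ X s := RGD.Sup_le fun z hz => by
    rcases hz with h1 | h1
    · rw [h1]; exact le_sup_left
    · rw [Set.mem_singleton_iff] at h1; rw [h1]; exact le_sup_right
  have h2 : g ∈ ((X r ⊔ X s : Subgroup Y) : Set Y) := h1 hg
  rw [Subgroup.coe_mul_of_left_le_normalizer_right _ _ hle] at h2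
  obtain ⟨x, hx, y, hy, e⟩ := h2
  exact ⟨x, hx, y, hy, e.symm⟩

include hr hl hs hls hrs in
/-- **(K2)** for automorphisms. -/
theorem aut_k2 (hN : NoCent cs isCartan T X) (hG1 : RGD.Sup X {x | IsRoot cs isCartan x} = ⊤) {α : MulAut Y}
    (hα : ∀ a, IsRoot cs isCartan a → 0 < cpr cs isCartan a r + cpr cs isCartan a s → ∀ v ∈ X a, α v = v) :
    ∃ x ∈ X r, ∃ y ∈ X s, α = MulAut.conj (x * y) := by
  have : Finite W := finiteW cs
  have key : ∀ {r s : Fin 4 → ℤ} (hr : IsRoot cs isCartan r) (_ : bf r r = 4) (hs : IsRoot cs isCartan s)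
      (_ : bf s s = 4) (_ : bf r s = 2), ∃ a b, IsRoot cs isCartan a ∧ IsRoot cs isCartan b ∧
      0 < (ell cs isCartan hr + ell cs isCartan hs) a ∧ 0 < (ell cs isCartan hr + ell cs isCartan hs) b ∧
      r = a + b := by
    intro r s hr hl hs hls hrs
    obtain ⟨a, ha, h1, h2, h3⟩ := CentComb.g4 r ((mem_rts cs).1 hr) hl s ((mem_rts cs).1 hs) hls (by rw [hrs])
    obtain ⟨p1, p2, p3, p4⟩ := partner hr hl (b := a) ⟨(mem_rts cs).2 ha, h1, h2⟩
    exact ⟨a, r - a, (mem_rts cs).2 ha, p1, (gt_iff2 hr hl hs hls).2 (by rw [h2, h3]; norm_num),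
      (gt_iff2 hr hl hs hls).2 (by rw [p4, bf_sub_left, hrs, h3]; norm_num), by abel⟩
  obtain ⟨z, hz, e⟩ := aut R (cfg2 D hr hl hs hls hrs) hN hG1
    (fun i a ha b hb => abel R (isRoot_sr cs isCartan i) ha hb)
    (fun c hc => by
      rcases hc with h1 | h1
      · rw [h1]
        exact key hr hl hs hls hrs
      · rw [Set.mem_singleton_iff] at h1
        rw [h1, add_comm (ell cs isCartan hr)]
        exact key hs hls hr hl (by rw [bf_comm, hrs])) hα
  obtain ⟨x, hx, y, hy, rfl⟩ := exists_mul D hr hl hs hls hrs hz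
  exact ⟨x, hx, y, hy, e⟩

end K2

end Main

/-! ### Elements of an overgroup -/

section Over

/-- an element inducing an inner automorphism on `K` -/
theorem eq_or_of_conj {G : Type*} [Group G] {K : Subgroup G} {t c : G} (hc : c ∈ Subgroup.normalizer (K : Set G))
    (hct : c * t = t * c) (hKt : ∀ k ∈ K, t * k = k * t)
    (hcK : ∀ x : G, x * t = t * x → (∀ k ∈ K, x * k = k * x) → x = 1 ∨ x = t) {z : ↥K}
    (hz : Subgroup.normalizerMonoidHom K ⟨c, hc⟩ = MulAut.conj z) : c = z ∨ c = t * z := by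
  have h1 : ∀ k : ↥K, c * (k : G) * c⁻¹ = (z : G) * k * (z : G)⁻¹ := by
    intro k
    have h2 := congrArg (fun α : MulAut ↥K => ((α k : ↥K) : G)) hz
    exact h2
  have hzt := hKt z z.2
  rcases hcK ((z : G)⁻¹ * c) (by
    have e1 : (z : G)⁻¹ * t = t * (z : G)⁻¹ := by
      rw [inv_mul_eq_iff_eq_mul, ← mul_assoc, ← hzt, mul_inv_cancel_right]
    calc (z : G)⁻¹ * c * t = (z : G)⁻¹ * (c * t) := by group
      _ = (z : G)⁻¹ * t * c := by rw [hct]; group
      _ = t * ((z : G)⁻¹ * c) := by rw [e1]; group) (by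
    intro k hk
    have h2 := h1 ⟨k, hk⟩
    calc (z : G)⁻¹ * c * k = (z : G)⁻¹ * (c * k * c⁻¹) * c := by group
      _ = (z : G)⁻¹ * (z * k * (z : G)⁻¹) * c := by rw [show c * k * c⁻¹ = z * k * (z : G)⁻¹ from h2]
      _ = k * ((z : G)⁻¹ * c) := by group) with h3 | h3
  · left
    exact (inv_mul_eq_one.1 h3).symm
  · right
    rw [hzt, ← h3, mul_inv_cancel_left]

variable {G : Type*} [Group G] {K : Subgroup G} {T : Subgroup ↥K} {n : Fin 4 → ↥K}
  {X : (Fin 4 → ℤ) → Subgroup ↥K} {R : RGD cs isCartan 2 T n X} (D : Dat R) (hN : NoCent cs isCartan T X)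
  (hG1 : RGD.Sup X {x | IsRoot cs isCartan x} = ⊤) {t c : G} (hc : c ∈ Subgroup.normalizer (K : Set G))
  (hct : c * t = t * c) (hKt : ∀ k ∈ K, t * k = k * t)
  (hcK : ∀ x : G, x * t = t * x → (∀ k ∈ K, x * k = k * x) → x = 1 ∨ x = t)

include D hN hG1 hc hct hKt hcK

end Over

end Cfsg.Agent.KFacts.TwESix.Cent
end

private theorem dce_4174421b378f : _root_.True := by
  try have : _root_.True := by simp only [_root_.Cfsg.Agent.KFacts.TwESix.Cent.Bs.eq_1]
  exact _root_.True.intro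
end

-- part: OddHalf/D7/Uni/FaceR_mg
section
prune_inst 0x420303424012200000018001020001c42820000920048800040a0074206c02e422406002188201410181088440034004000880010420000000a000400011d0180008002048048a000200086000000000000000000000000000000000000000000000000000
set_option linter.all false
open scoped Cfsg.Agent.FastGrp

-- part: OddHalf/D7/Uni/FaceInst
section
-- merged: Cfsg.Agent.OddHalf.D7.Uni.FaceLine
section

/-!
# The coordinates of a totally isotropic line (ODD D7, `K = PSU_n(q)`, `q` even)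

`coord` : `Defs.Coord` for the line `⟨p, r⟩`.
-/

set_option autoImplicit false
set_option linter.unusedSimpArgs false
set_option linter.unusedSectionVars false

namespace Cfsg.Agent.OddHalf.D7.Uni.Face

open Cfsg Cfsg.Agent.LieClassical.HermBasic Cfsg.Agent.LieClassical.HermSiegel
  Cfsg.Agent.LieClassical.HermGen Cfsg.Agent.LieClassical.SUBasic Matrix
  Cfsg.Agent.ClassicalGeometry.PSUAutBasic Cfsg.Agent.ClassicalGeometry.PSUAutSylow
  Cfsg.Agent.ClassicalGeometry.PSUAutUnip Cfsg.Agent.ClassicalGeometry.PSUAutPhi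
  Cfsg.Agent.KFacts.Unit

variable {F : Type*} [Field F] [Fintype F] {q n : ℕ}

/-- `v ↦ v + x h(v,u) u` -/
noncomputable def Np (hF : Fintype.card F = q ^ 2) (u : Fin n → F) (x : F) : SU n F q := Sg hF u 0 x

/-- `v ↦ v + μ^q h(v,p) r - μ h(v,r) p` -/
noncomputable def Mm (hF : Fintype.card F = q ^ 2) (p r : Fin n → F) (μ : F) : SU n F q := Sg hF p (μ ^ q • r) 0

theorem act_Np [CharP F 2] (hF : Fintype.card F = q ^ 2) {u : Fin n → F} (hu : hermForm n F q u u = 0) {x : F}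
    (hx : x ^ q = x) (v : Fin n → F) : act (Np hF u x) v = v + (x * hermForm n F q v u) • u := by
  rw [Np, act_Sg hF (isS_np hu hx), herm_zero_right hF, smul_zero, add_zero, sub_zero]

theorem act_Mm (hF : Fintype.card F = q ^ 2) {p r : Fin n → F} (hp : hermForm n F q p p = 0)
    (hr : hermForm n F q r r = 0) (hrp : hermForm n F q r p = 0) (μ : F) (v : Fin n → F) :
    act (Mm hF p r μ) v = v + (μ ^ q * hermForm n F q v p) • r - (μ * hermForm n F q v r) • p := by
  rw [Mm, act_Sg hF (isS_vec hF hp hrp hr _), herm_smul_right, pow_q_pow_q hF, zero_mul, zero_sub, neg_smul,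
    ← sub_eq_add_neg, smul_smul, mul_comm (hermForm n F q v p)]

section

variable [CharP F 2] (hF : Fintype.card F = q ^ 2) {p p' r r' : Fin n → F} (H : P2 q p p' r r')

include H

theorem Np_add {x y : F} (hx : x ^ q = x) (hy : y ^ q = y) : Np hF p (x + y) = Np hF p x * Np hF p y := by
  have hxy : (x + y) ^ q = x + y := by rw [add_pow_q hF, hx, hy]
  apply ext_act
  intro v
  rw [act_mul, act_Np hF H.pp hxy, act_Np hF H.pp hx, act_Np hF H.pp hy]
  simp only [herm_add_left, herm_smul_left, H.pp]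
  funext i
  simp only [Pi.add_apply, Pi.smul_apply, smul_eq_mul]
  ring

theorem Mm_add (x y : F) : Mm hF p r (x + y) = Mm hF p r x * Mm hF p r y := by
  apply ext_act
  intro v
  rw [act_mul, act_Mm hF H.pp H.rr H.rp, act_Mm hF H.pp H.rr H.rp, act_Mm hF H.pp H.rr H.rp]
  simp only [herm_add_left, herm_sub_left, herm_smul_left, H.pp, H.rr, H.rp, H.pr, add_pow_q hF]
  funext i
  simp only [Pi.add_apply, Pi.sub_apply, Pi.smul_apply, smul_eq_mul]
  ring

theorem Gg_add (x y : F) : Mm hF p r' (x + y) = Mm hF p r' x * Mm hF p r' y := by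
  apply ext_act
  intro v
  rw [act_mul, act_Mm hF H.pp H.r'r' H.r'p, act_Mm hF H.pp H.r'r' H.r'p, act_Mm hF H.pp H.r'r' H.r'p]
  simp only [herm_add_left, herm_sub_left, herm_smul_left, H.pp, H.r'r', H.r'p, H.pr', add_pow_q hF]
  funext i
  simp only [Pi.add_apply, Pi.sub_apply, Pi.smul_apply, smul_eq_mul]
  ring

theorem Np_Mm {x : F} (hx : x ^ q = x) (y : F) : Np hF p x * Mm hF p r y = Mm hF p r y * Np hF p x := by
  apply ext_act
  intro v
  rw [act_mul, act_mul, act_Mm hF H.pp H.rr H.rp, act_Mm hF H.pp H.rr H.rp, act_Np hF H.pp hx, act_Np hF H.pp hx]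
  simp only [herm_add_left, herm_sub_left, herm_smul_left, H.pp, H.rr, H.rp, H.pr]
  funext i
  simp only [Pi.add_apply, Pi.sub_apply, Pi.smul_apply, smul_eq_mul]
  ring

theorem Np_Nr {x y : F} (hx : x ^ q = x) (hy : y ^ q = y) : Np hF p x * Np hF r y = Np hF r y * Np hF p x := by
  apply ext_act
  intro v
  rw [act_mul, act_mul, act_Np hF H.pp hx, act_Np hF H.rr hy, act_Np hF H.pp hx, act_Np hF H.rr hy]
  simp only [herm_add_left, herm_sub_left, herm_smul_left, H.pp, H.rr, H.rp, H.pr]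
  funext i
  simp only [Pi.add_apply, Pi.sub_apply, Pi.smul_apply, smul_eq_mul]
  ring

theorem Mm_Nr (x : F) {y : F} (hy : y ^ q = y) : Mm hF p r x * Np hF r y = Np hF r y * Mm hF p r x := by
  apply ext_act
  intro v
  rw [act_mul, act_mul, act_Mm hF H.pp H.rr H.rp, act_Mm hF H.pp H.rr H.rp, act_Np hF H.rr hy, act_Np hF H.rr hy]
  simp only [herm_add_left, herm_sub_left, herm_smul_left, H.pp, H.rr, H.rp, H.pr]
  funext i
  simp only [Pi.add_apply, Pi.sub_apply, Pi.smul_apply, smul_eq_mul]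
  ring

theorem Gg_Np (l : F) {x : F} (hx : x ^ q = x) : Mm hF p r' l * Np hF p x * (Mm hF p r' l)⁻¹ = Np hF p x := by
  rw [mul_inv_eq_iff_eq_mul]
  apply ext_act
  intro v
  rw [act_mul, act_mul, act_Mm hF H.pp H.r'r' H.r'p, act_Mm hF H.pp H.r'r' H.r'p, act_Np hF H.pp hx, act_Np hF H.pp hx]
  simp only [herm_add_left, herm_sub_left, herm_smul_left, H.pp, H.r'r', H.r'p, H.pr']
  funext i
  simp only [Pi.add_apply, Pi.sub_apply, Pi.smul_apply, smul_eq_mul]
  ring

theorem Gg_Mm (l μ : F) : Mm hF p r' l * Mm hF p r μ * (Mm hF p r' l)⁻¹ =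
    Mm hF p r μ * Np hF p (l * μ ^ q + l ^ q * μ) := by
  have h2 : (2 : F) = 0 := CharTwo.two_eq_zero
  have hx : (l * μ ^ q + l ^ q * μ) ^ q = l * μ ^ q + l ^ q * μ := by
    rw [add_pow_q hF, mul_pow, mul_pow, pow_q_pow_q hF, pow_q_pow_q hF]; ring
  rw [mul_inv_eq_iff_eq_mul]
  apply ext_act
  intro v
  rw [act_mul, act_mul, act_mul, act_Mm hF H.pp H.r'r' H.r'p, act_Mm hF H.pp H.r'r' H.r'p,
    act_Mm hF H.pp H.rr H.rp, act_Mm hF H.pp H.rr H.rp, act_Np hF H.pp hx]
  simp only [herm_add_left, herm_sub_left, herm_smul_left, H.pp, H.rr, H.rp, H.pr, H.r'r', H.r'p, H.pr', H.rr', H.r'r]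
  funext i
  simp only [Pi.add_apply, Pi.sub_apply, Pi.smul_apply, smul_eq_mul, CharTwo.sub_eq_add]
  linear_combination (-(μ * hermForm n F q v p * p i * l ^ q)) * h2

theorem Gg_Nr (l : F) {y : F} (hy : y ^ q = y) : Mm hF p r' l * Np hF r y * (Mm hF p r' l)⁻¹ =
    Np hF r y * Mm hF p r (l * y) * Np hF p (l * l ^ q * y) := by
  have h2 : (2 : F) = 0 := CharTwo.two_eq_zero
  have hx : (l * l ^ q * y) ^ q = l * l ^ q * y := by
    rw [mul_pow, norm_pow_q hF, hy]
  rw [mul_inv_eq_iff_eq_mul]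
  apply ext_act
  intro v
  rw [act_mul, act_mul, act_mul, act_mul, act_Mm hF H.pp H.r'r' H.r'p, act_Mm hF H.pp H.r'r' H.r'p,
    act_Mm hF H.pp H.rr H.rp, act_Np hF H.pp hx, act_Np hF H.rr hy, act_Np hF H.rr hy]
  simp only [herm_add_left, herm_sub_left, herm_smul_left, H.pp, H.rr, H.rp, H.pr, H.r'r', H.r'p, H.pr', H.rr', H.r'r,
    mul_pow, hy]
  funext i
  simp only [Pi.add_apply, Pi.sub_apply, Pi.smul_apply, smul_eq_mul, CharTwo.sub_eq_add]
  linear_combination (-(y * r i * l ^ q * hermForm n F q v p + y * l * l ^ q * hermForm n F q v p * p i)) * h2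

theorem Inj_aux {x μ y : F} (hx : x ^ q = x) (hy : y ^ q = y) (h : Np hF p x * Mm hF p r μ * Np hF r y = 1) :
    x = 0 ∧ μ = 0 ∧ y = 0 := by
  have h1 := congrArg (fun g => act g p') h
  have h2 := congrArg (fun g => act g r') h
  simp only [act_mul, act_one] at h1 h2
  rw [act_Np hF H.rr hy, act_Mm hF H.pp H.rr H.rp, act_Np hF H.pp hx] at h1 h2
  have e1 := congrArg (fun w => hermForm n F q w p') h1
  have e2 := congrArg (fun w => hermForm n F q w p') h2
  have e3 := congrArg (fun w => hermForm n F q w r') h2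
  simp only [herm_add_left, herm_sub_left, herm_smul_left, H.pp, H.rr, H.rp, H.pr, H.r'r', H.r'p, H.pr', H.rr', H.r'r,
    H.p'p', H.p'p, H.pp', H.p'r, H.rp', H.p'r', H.r'p'] at e1 e2 e3
  simp only [CharTwo.sub_eq_add, mul_zero, mul_one, add_zero, zero_add, zero_mul] at e1 e2 e3
  exact ⟨e1, e2, e3⟩

theorem Np_p {x : F} (hx : x ^ q = x) : act (Np hF p x) p = p := by
  rw [act_Np hF H.pp hx, H.pp, mul_zero, zero_smul, add_zero]

theorem Np_r {x : F} (hx : x ^ q = x) : act (Np hF r x) p = p := by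
  rw [act_Np hF H.rr hx, H.pr, mul_zero, zero_smul, add_zero]

theorem Mm_p (μ : F) : act (Mm hF p r μ) p = p := by
  rw [act_Mm hF H.pp H.rr H.rp, H.pp, H.pr, mul_zero, mul_zero, zero_smul, zero_smul, add_zero, sub_zero]

theorem Mm_r (μ : F) : act (Mm hF p r μ) r = r := by
  rw [act_Mm hF H.pp H.rr H.rp, H.rr, H.rp, mul_zero, mul_zero, zero_smul, zero_smul, add_zero, sub_zero]

theorem Gg_p (l : F) : act (Mm hF p r' l) p = p := by
  rw [act_Mm hF H.pp H.r'r' H.r'p, H.pp, H.pr', mul_zero, mul_zero, zero_smul, zero_smul, add_zero, sub_zero]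

theorem Gg_r (l : F) : act (Mm hF p r' l) r = r + l • p := by
  rw [act_Mm hF H.pp H.r'r' H.r'p, H.rp, H.rr', mul_zero, zero_smul, add_zero, mul_one]
  funext i
  rw [Pi.sub_apply, Pi.add_apply, CharTwo.sub_eq_add]

end

section coord

variable {G : Type*} [Group G] {t : G} {j : PSU n F q →* G}

/-- The coordinates of the line `⟨p, r⟩`. -/
theorem coord [CharP F 2] (S : Sit n F q t j) (hF : Fintype.card F = q ^ 2) (hn : 3 ≤ n) {p p' r r' : Fin n → F}
    (H : P2 q p p' r r') :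
    Defs.Coord (sig hF) t (fun x => fj n F q j (Np hF p x)) (fun y => fj n F q j (Np hF r y))
      (fun μ => fj n F q j (Mm hF p r μ)) (fun l => fj n F q j (Mm hF p r' l)) where
  tt := S.tt
  two := CharTwo.add_self_eq_zero
  σσ := pow_q_pow_q hF
  nt := exists_not_fixed hF
  np_add x y hx hy := by rw [Np_add hF H hx hy, map_mul]
  nr_add x y hx hy := by rw [Np_add hF H.swap hx hy, map_mul]
  m_add x y := by rw [Mm_add hF H, map_mul]
  np_m x y hx := by rw [← map_mul, ← map_mul, Np_Mm hF H hx]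
  np_nr x y hx hy := by rw [← map_mul, ← map_mul, Np_Nr hF H hx hy]
  m_nr x y hy := by rw [← map_mul, ← map_mul, Mm_Nr hF H _ hy]
  inj x μ y hx hy h := by
    rw [← map_mul, ← map_mul] at h
    refine Inj_aux hF H hx hy (S.eq_one hF hn H.p_ne ?_ h)
    rw [act_mul, act_mul, Np_r hF H hy, Mm_p hF H, Np_p hF H hx]
  t_np x hx := S.tj _
  t_nr x hx := S.tj _
  t_m x := S.tj _
  t_g x := S.tj _
  g_add x y := by rw [Gg_add hF H, map_mul]
  g_np l x hx := by rw [← map_inv, ← map_mul, ← map_mul, Gg_Np hF H l hx]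
  g_m l μ := by rw [← map_inv, ← map_mul, ← map_mul, Gg_Mm hF H, map_mul]; rfl
  g_nr l y hy := by rw [← map_inv, ← map_mul, ← map_mul, Gg_Nr hF H l hy, map_mul, map_mul]; rfl

end coord

end Cfsg.Agent.OddHalf.D7.Uni.Face

end

-- merged: Cfsg.Agent.OddHalf.D7.Uni.FaceInst
section

/-!
# `Defs.Line`, `Defs.Tor`, `Defs.Scale` for the totally isotropic line `⟨p, r⟩` (ODD D7, `K = PSU_n(q)`, `q` even)
-/

set_option autoImplicit false
set_option linter.unusedSimpArgs false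
set_option linter.unusedSectionVars false

namespace Cfsg.Agent.OddHalf.D7.Uni.Face

open Cfsg Cfsg.Agent.LieClassical.HermBasic Cfsg.Agent.LieClassical.HermSiegel
  Cfsg.Agent.LieClassical.HermGen Cfsg.Agent.LieClassical.SUBasic Matrix
  Cfsg.Agent.ClassicalGeometry.PSUAutBasic Cfsg.Agent.ClassicalGeometry.PSUAutSylow
  Cfsg.Agent.ClassicalGeometry.PSUAutUnip Cfsg.Agent.ClassicalGeometry.PSUAutPhi
  Cfsg.Agent.KFacts.Unit

variable {F : Type*} [Field F] [Fintype F] {q n : ℕ} {G : Type*} [Group G] {t : G} {j : PSU n F q →* G}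
  {W : (Fin n → F) → Subgroup G}

omit [Fintype F] in
theorem P2.frm {p p' r r' : Fin n → F} (H : P2 q p p' r r') : Frm q ![p, r] ![p', r'] where
  ee i k := by (revert i k; simp only [H.pp, H.rr, H.pr, H.rp, _root_.Fin.forall_fin_succ, _root_.Nat.succ_eq_add_one, Nat.reduceAdd, Fin.isValue, _root_.Matrix.cons_val_zero, _root_.Matrix.cons_val_succ, _root_.Matrix.cons_val_fin_one, _root_.forall_const, _root_.and_self, _root_.implies_true])
  ff i k := by (revert i k; simp only [H.p'p', H.r'r', H.p'r', H.r'p', _root_.Fin.forall_fin_succ, _root_.Nat.succ_eq_add_one, Nat.reduceAdd, Fin.isValue, _root_.Matrix.cons_val_zero, _root_.Matrix.cons_val_succ, _root_.Matrix.cons_val_fin_one, _root_.forall_const, _root_.and_self, _root_.implies_true])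
  ef i k := by fin_cases i <;> fin_cases k <;> simp [H.pp', H.rr', H.pr', H.rp']

/-- Elements of `RR u` in `G`. -/
theorem mem_X (hF : Fintype.card F = q ^ 2) [CharP F 2] {u : Fin n → F} (hu : hermForm n F q u u = 0) {x : PSU n F q} :
    x ∈ RR hF u hu ↔ ∃ y : F, y ^ q = y ∧ x = pr n F q (Np hF u y) := by
  rw [mem_RR]
  constructor
  · rintro ⟨μ, hμ, rfl⟩
    exact ⟨μ, fixed_of_tr hμ, by rw [Np, Sg_eq hF (isSiegel_zero hu hμ)]; rfl⟩
  · rintro ⟨y, hy, rfl⟩
    exact ⟨y, add_self_pow y hy, by rw [Np, Sg_eq hF (isS_np hu hy)]; rfl⟩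

theorem X_sq (hF : Fintype.card F = q ^ 2) [CharP F 2] {u : Fin n → F} (hu : hermForm n F q u u = 0) {x : PSU n F q}
    (hx : x ∈ RR hF u hu) : x * x = 1 := by
  obtain ⟨y, hy, rfl⟩ := (mem_X hF hu).1 hx
  have h1 : Np hF u y * Np hF u y = 1 := by
    apply ext_act
    intro v
    rw [act_mul, act_Np hF hu hy, act_Np hF hu hy, act_one, herm_add_left, herm_smul_left, hu, mul_zero, add_zero,
      add_assoc, ← add_smul, CharTwo.add_self_eq_zero, zero_smul, add_zero]
  rw [← map_mul, h1, map_one]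

theorem X_fix (hF : Fintype.card F = q ^ 2) [CharP F 2] {u : Fin n → F} (hu : hermForm n F q u u = 0) {x : PSU n F q}
    (hx : x ∈ RR hF u hu) : ∃ g : SU n F q, act g u = u ∧ x = pr n F q g := by
  obtain ⟨y, hy, rfl⟩ := (mem_X hF hu).1 hx
  exact ⟨_, by rw [act_Np hF hu hy, hu, mul_zero, zero_smul, add_zero], rfl⟩

/-- `Double` -/
theorem Dbl.double {hF : Fintype.card F = q ^ 2} [CharP F 2] (D : Dbl hF t j W) {u : Fin n → F} (hu0 : u ≠ 0)
    (hu : hermForm n F q u u = 0) : Defs.Double (sig hF) t (fun x => fj n F q j (Np hF u x)) (W u) where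
  cn w hw x hx := D.cent hu0 hu w hw _ (by rw [act_Np hF hu hx, hu, mul_zero, zero_smul, add_zero])
  mem x hx := D.X_le hu0 hu ⟨_, (mem_X hF hu).2 ⟨x, hx, rfl⟩, rfl⟩
  brk w hw := by
    obtain ⟨x, hx, h⟩ := D.brk hu0 hu w hw
    obtain ⟨y, hy, rfl⟩ := (mem_X hF hu).1 hx
    exact ⟨y, hy, h⟩
  surj x hx := D.surj hu0 hu _ ((mem_X hF hu).2 ⟨x, hx, rfl⟩)
  cent w hw h := by
    obtain ⟨x, hx, rfl⟩ := D.fix hu0 hu w hw h
    obtain ⟨y, hy, rfl⟩ := (mem_X hF hu).1 hx
    exact ⟨y, hy, rfl⟩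

/-- Elements of odd order acting on `u` as a scalar of norm 1 centralise `W u`. -/
theorem Dbl.cent_odd {hF : Fintype.card F = q ^ 2} [CharP F 2] (D : Dbl hF t j W) {u : Fin n → F} (hu0 : u ≠ 0)
    (hu : hermForm n F q u u = 0) {g : SU n F q} {s : F} (hs : s * s ^ q = 1) (hg : act g u = s • u) {m : ℕ}
    (hm : Odd m) (hgm : g ^ m = 1) {w : G} (hw : w ∈ W u) : w * fj n F q j g = fj n F q j g * w := by
  have hs0 : s ≠ 0 := by
    rintro rfl
    rw [zero_mul] at hs
    exact zero_ne_one hs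
  set c := fj n F q j g with hc
  have hcw : c * w * c⁻¹ ∈ W u := by
    have := D.conj hu0 hu g w hw
    rwa [hg, D.smul hu0 hu hs0] at this
  obtain ⟨x, hx, hwx⟩ := D.brk hu0 hu w hw
  -- `c` centralises `X`
  have hcX : ∀ x ∈ RR hF u hu, c * j x = j x * c := by
    intro x hx
    obtain ⟨y, hy, rfl⟩ := (mem_X hF hu).1 hx
    have h1 : g * Np hF u y * g⁻¹ = Np hF u y := by
      rw [Np, conj_Sg hF (isS_np hu hy), act_zero, hg]
      have hsu : hermForm n F q (s • u) (s • u) = 0 := by rw [herm_smul_left, herm_smul_right, hu]; ring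
      apply ext_act
      intro v
      rw [act_Sg hF (isS_np hsu hy), act_Sg hF (isS_np hu hy), herm_zero_right hF, smul_zero, add_zero, sub_zero,
        smul_zero, add_zero, sub_zero, herm_smul_right, smul_smul]
      congr 2
      linear_combination (y * hermForm n F q v u) * hs
    have h2 : g * Np hF u y = Np hF u y * g := mul_inv_eq_iff_eq_mul.1 h1
    show c * fj n F q j (Np hF u y) = fj n F q j (Np hF u y) * c
    rw [hc, ← map_mul, ← map_mul, h2]
  have hct : t * c = c * t := D.tj _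
  have hXw : ∀ x ∈ RR hF u hu, ∀ w ∈ W u, j x * w = w * j x := by
    intro x hx w hw
    obtain ⟨g', hg', rfl⟩ := X_fix hF hu hx
    exact (D.cent hu0 hu w hw g' hg').symm
  have tt := D.tt
  have h1 : t * (c * w * c⁻¹) * t = c * w * c⁻¹ * j x := by
    have e1 : c⁻¹ * t = t * c⁻¹ := by
      have : Commute t c := hct
      exact this.inv_right.eq.symm
    calc t * (c * w * c⁻¹) * t = (t * c) * w * (c⁻¹ * t) := by group
      _ = c * (t * w * t) * c⁻¹ := by rw [hct, e1]; group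
      _ = c * w * (j x * c⁻¹) := by rw [hwx]; group
      _ = c * w * (c⁻¹ * j x) := by
        have : Commute c (j x) := hcX x hx
        rw [this.inv_left.eq.symm]
      _ = _ := by group
  set z := w⁻¹ * (c * w * c⁻¹) with hz
  have hzW : z ∈ W u := mul_mem (inv_mem hw) hcw
  have hzt : t * z = z * t := by
    have e1 : t * z * t = z := by
      have e2 : t * w⁻¹ * t = (t * w * t)⁻¹ := by
        have : t⁻¹ = t := inv_eq_of_mul_eq_one_left tt
        rw [_root_.mul_inv_rev, _root_.mul_inv_rev, this]; group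
      calc t * z * t = (t * w⁻¹ * t) * (t * (c * w * c⁻¹) * t) := by
            rw [hz]
            calc t * (w⁻¹ * (c * w * c⁻¹)) * t = t * w⁻¹ * 1 * (c * w * c⁻¹) * t := by group
              _ = t * w⁻¹ * (t * t) * (c * w * c⁻¹) * t := by rw [tt]
              _ = _ := by group
        _ = (w * j x)⁻¹ * (c * w * c⁻¹ * j x) := by rw [e2, hwx, h1]
        _ = (j x)⁻¹ * (z * j x) := by rw [hz]; group
        _ = (j x)⁻¹ * (j x * z) := by rw [hXw x hx z hzW]
        _ = z := by group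
    calc t * z = t * z * (t * t) := by rw [tt, mul_one]
      _ = t * z * t * t := by group
      _ = z * t := by rw [e1]
  obtain ⟨y, hy, hyz⟩ := D.fix hu0 hu z hzW hzt
  have hcz : c * w * c⁻¹ = w * z := by rw [hz]; group
  have hczz : c * z * c⁻¹ = z := by
    rw [← hyz, hcX y hy]; group
  have hpow : ∀ k : ℕ, c ^ k * w * (c ^ k)⁻¹ = w * z ^ k := by
    intro k
    induction k with
    | zero => simp
    | succ k ih =>
      have e1 : c * z ^ k * c⁻¹ = z ^ k := by
        have : Commute c z := by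
          show c * z = z * c
          calc c * z = c * z * c⁻¹ * c := by group
            _ = z * c := by rw [hczz]
        rw [(this.pow_right k).eq]; group
      calc c ^ (k + 1) * w * (c ^ (k + 1))⁻¹ = c * (c ^ k * w * (c ^ k)⁻¹) * c⁻¹ := by
            rw [pow_succ']; group
        _ = (c * w * c⁻¹) * (c * z ^ k * c⁻¹) := by rw [ih]; group
        _ = w * z ^ (k + 1) := by rw [hcz, e1, pow_succ']; group
  have hcm : c ^ m = 1 := by rw [hc, ← map_pow, hgm, map_one]
  have hzm : z ^ m = 1 := by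
    have := hpow m
    rw [hcm, one_mul, inv_one, mul_one] at this
    have h2 := this.symm
    rwa [mul_eq_left] at h2
  have hz2 : z ^ 2 = 1 := by
    rw [pow_two, ← hyz, ← map_mul, X_sq hF hu hy, map_one]
  have hz1 : z = 1 := by
    have h3 : z ^ (Nat.gcd m 2) = 1 := by
      rw [pow_gcd_eq_one]
      exact ⟨hzm, hz2⟩
    rwa [hm.coprime_two_right, pow_one] at h3
  rw [hz1, mul_one] at hcz
  calc w * c = c * w * c⁻¹ * c := by rw [hcz]
    _ = c * w := by group

/-- The pointwise stabiliser of the line, in `G`. -/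
def OE (n : ℕ) (F : Type*) [Field F] (q : ℕ) (j : PSU n F q →* G) (p r : Fin n → F) : Subgroup G :=
  (stabV q p ⊓ stabV q r).map (fj n F q j)

theorem mem_OE {p r : Fin n → F} {c : G} :
    c ∈ OE n F q j p r ↔ ∃ g : SU n F q, act g p = p ∧ act g r = r ∧ fj n F q j g = c := by
  constructor
  · rintro ⟨g, ⟨h1, h2⟩, rfl⟩
    exact ⟨g, h1, h2, rfl⟩
  · rintro ⟨g, h1, h2, rfl⟩
    exact ⟨g, ⟨h1, h2⟩, rfl⟩

/-- (k1) for a totally isotropic line. -/
theorem K2 (S : Sit n F q t j) (hF : Fintype.card F = q ^ 2) [CharP F 2] (hn : 4 ≤ n) {p p' r r' : Fin n → F}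
    (H : P2 q p p' r r') (c : G) (hc : c * t = t * c) (h : ∀ o ∈ OE n F q j p r, c * o = o * c) :
    ∃ x μ y, sig hF x = x ∧ sig hF y = y ∧
      (c = fj n F q j (Np hF p x) * fj n F q j (Mm hF p r μ) * fj n F q j (Np hF r y) ∨
        c = t * (fj n F q j (Np hF p x) * fj n F q j (Mm hF p r μ) * fj n F q j (Np hF r y))) := by
  obtain ⟨α, hα⟩ := S.exists_aut hc
  obtain ⟨A, hA, hαA⟩ := autCent_frame hF hn H.frm le_rfl α (fun g hg => by
    have h0 := hg 0
    have h1 := hg 1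
    simp only [Matrix.cons_val_zero, Matrix.cons_val_one] at h0 h1
    apply S.inj
    rw [← hα]
    have := h (fj n F q j g) (mem_OE.2 ⟨g, h0, h1, rfl⟩)
    rw [fj_apply] at this
    rw [this]; group)
  have h00 := hA 0 0
  have h01 := hA 0 1
  have h11 := hA 1 1
  have h10 := hA 1 0
  have e1 : (A 0 0) ^ q = A 0 0 := fixed_of_tr h00
  have e2 : (A 1 1) ^ q = A 1 1 := fixed_of_tr h11
  have e3 : A 1 0 = (A 0 1) ^ q := by
    have h2 : (2 : F) = 0 := CharTwo.two_eq_zero
    linear_combination h10 - (A 0 1) ^ q * h2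
  have key : aEl hF H.frm A hA = Np hF p (A 0 0) * Mm hF p r (A 0 1) * Np hF r (A 1 1) := by
    apply ext_act
    intro v
    rw [act_aEl, act_mul, act_mul, act_Np hF H.rr e2, act_Mm hF H.pp H.rr H.rp, act_Np hF H.pp e1]
    simp only [Fin.sum_univ_two, Matrix.cons_val_zero, Matrix.cons_val_one, e3]
    simp only [herm_add_left, herm_sub_left, herm_smul_left, H.pp, H.rr, H.rp, H.pr]
    funext i
    simp only [Pi.add_apply, Pi.sub_apply, Pi.smul_apply, smul_eq_mul, CharTwo.sub_eq_add]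
    ring
  refine ⟨A 0 0, A 0 1, A 1 1, e1, e2, ?_⟩
  rw [← map_mul, ← map_mul, ← key]
  refine S.eq_or hc (fun x => ?_)
  rw [hα, hαA]

/-- `Defs.Line` -/
theorem Dbl.line {hF : Fintype.card F = q ^ 2} [CharP F 2] (D : Dbl hF t j W) (hn : 4 ≤ n) {p p' r r' : Fin n → F}
    (H : P2 q p p' r r') :
    Defs.Line (sig hF) t (OE n F q j p r) (W p) (W r) (fun x => fj n F q j (Np hF p x)) (fun y => fj n F q j (Np hF r y))
      (fun μ => fj n F q j (Mm hF p r μ)) (fun l => fj n F q j (Mm hF p r' l)) where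
  toCoord := coord D.toSit hF (by omega) H
  dp := D.double H.p_ne H.pp
  dr := D.double H.r_ne H.rr
  p_m w hw x := D.cent H.p_ne H.pp w hw _ (Mm_p hF H x)
  p_nr w hw x hx := D.cent H.p_ne H.pp w hw _ (Np_r hF H hx)
  r_m w hw x := D.cent H.r_ne H.rr w hw _ (Mm_r hF H x)
  r_np w hw x hx := D.cent H.r_ne H.rr w hw _ (Np_r hF H.swap hx)
  g_p l w hw := (D.cent H.p_ne H.pp w hw _ (Gg_p hF H l)).symm
  O_p c hc w hw := by
    obtain ⟨g, h1, h2, rfl⟩ := mem_OE.1 hc
    exact (D.cent H.p_ne H.pp w hw _ h1).symm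
  O_r c hc w hw := by
    obtain ⟨g, h1, h2, rfl⟩ := mem_OE.1 hc
    exact (D.cent H.r_ne H.rr w hw _ h2).symm
  O_m c hc μ := by
    obtain ⟨g, h1, h2, rfl⟩ := mem_OE.1 hc
    have h3 : g * Mm hF p r μ * g⁻¹ = Mm hF p r μ := by
      rw [Mm, conj_Sg hF (isS_vec hF H.pp H.rp H.rr _), h1, act_smul, h2]
    rw [← map_mul, ← map_mul, mul_inv_eq_iff_eq_mul.1 h3]
  g_O l c hc := by
    obtain ⟨g, h1, h2, rfl⟩ := mem_OE.1 hc
    refine mem_OE.2 ⟨(Mm hF p r' l)⁻¹ * g * Mm hF p r' l, ?_, ?_, by rw [map_mul, map_mul, map_inv]⟩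
    · rw [act_mul, act_mul, Gg_p hF H, h1]
      exact ((act_eq_iff _).1 (Gg_p hF H l)).symm
    · rw [act_mul, act_mul, Gg_r hF H, act_add, act_smul, h1, h2]
      exact ((act_eq_iff _).1 (Gg_r hF H l)).symm
  K2 := K2 D.toSit hF hn H

end Cfsg.Agent.OddHalf.D7.Uni.Face

end
end

-- part: OddHalf/D7/Uni/FaceR
section
/-!
# The doubled groups `R v` in vector language: the interface between `FaceQ` and `FaceFrame` (helper54)

`RF hF t j W R`: for every isotropic `v ≠ 0` the double `R v` of `Q v` (`Norm.Pt`), equivariance, `W u` normalises `R v`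
for `u ⟂ v`, and the elements of `R v` above `S(v; x, 0)`, `x` isotropic, `x ⟂ v`.
-/

set_option autoImplicit false

namespace Cfsg.Agent.OddHalf.D7.Uni.FaceR

open Cfsg Cfsg.Agent.LieClassical.HermBasic Cfsg.Agent.LieClassical.HermSiegel
  Cfsg.Agent.LieClassical.HermGen Cfsg.Agent.LieClassical.SUBasic Matrix
  Cfsg.Agent.ClassicalGeometry.PSUAutBasic Cfsg.Agent.ClassicalGeometry.PSUAutSylow
  Cfsg.Agent.ClassicalGeometry.PSUAutUnip Cfsg.Agent.ClassicalGeometry.PSUAutPhi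
  Cfsg.Agent.KFacts.Unit Cfsg.Agent.OddHalf.D7.Uni.Face

variable {F : Type*} [Field F] [Fintype F] {q n : ℕ} {G : Type*} [Group G]

/-- Output of `FaceQ`. -/
structure RF (hF : Fintype.card F = q ^ 2) (t : G) (j : PSU n F q →* G) (W R : (Fin n → F) → Subgroup G) : Prop
    extends Dbl hF t j W where
  Wsq : ∀ {u : Fin n → F}, u ≠ 0 → hermForm n F q u u = 0 → ∀ w ∈ W u, w * w = 1
  pt : ∀ {u : Fin n → F}, u ≠ 0 → ∀ (hu : hermForm n F q u u = 0),
    Norm.Pt t ((RR hF u hu).map j) (W u) ((QQ hF u hu).map j) (R u)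
  conjR : ∀ {u : Fin n → F}, u ≠ 0 → hermForm n F q u u = 0 → ∀ g : SU n F q, ∀ r ∈ R u,
    fj n F q j g * r * (fj n F q j g)⁻¹ ∈ R (act g u)
  /-- `W u` normalises `R v` for `u ⟂ v` -/
  norm' : ∀ {u v : Fin n → F}, u ≠ 0 → hermForm n F q u u = 0 → v ≠ 0 → hermForm n F q v v = 0 →
    hermForm n F q u v = 0 → ∀ w ∈ W u, ∀ r ∈ R v, w * r * w⁻¹ ∈ R v
  /-- elements of `R v` above `S(v; x, 0)` -/
  lift : ∀ {v x : Fin n → F}, v ≠ 0 → hermForm n F q v v = 0 → hermForm n F q x x = 0 → hermForm n F q x v = 0 →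
    (∀ c : F, x ≠ c • v) → ∃ e ∈ R v,
      e ∈ Subgroup.closure {w | ∃ a b : F, a • v + b • x ≠ 0 ∧ w ∈ W (a • v + b • x)} ∧
      ∃ w ∈ W v, t * e * t = e * (fj n F q j (Sg hF v x 0) * w)

end Cfsg.Agent.OddHalf.D7.Uni.FaceR
end

-- part: OddHalf/D7/Uni/Evl
section
/-!
# The double `E_{v,l}` of `V_l ∩ Q_v` (helper371, text: bb ODD 10033, section 3)

`l` a totally isotropic line through `v` in coordinates (`Coord`), `E = E_l` elementary abelian, `W = W_v`, `Q = Q_v`.
`Evl E W Q = {e ∈ E | [e, Q] ≤ W}`.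
-/

set_option autoImplicit false

namespace Cfsg.Agent.OddHalf.D7.Uni.Quad

open Defs

variable {G : Type*} [Group G] {F : Type*} [Field F]

/-- `E = E_l` for one totally isotropic line `l = ⟨v, r⟩`, `W = W_v`, `Q = Q_v`. -/
structure EL (σ : F →+* F) (t : G) (E W Q : Subgroup G) (np nr m g : F → G) : Prop
    extends Coord σ t np nr m g where
  ab : ∀ a ∈ E, ∀ b ∈ E, a * b = b * a
  sq : ∀ a ∈ E, a * a = 1
  WE : W ≤ E
  np_E : ∀ x, σ x = x → np x ∈ E
  m_E : ∀ x, m x ∈ E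
  nr_E : ∀ x, σ x = x → nr x ∈ E
  brk : ∀ e ∈ E, ∃ x μ y, σ x = x ∧ σ y = y ∧ t * e * t = e * (np x * m μ * nr y)
  surj : ∀ x μ y, σ x = x → σ y = y → ∃ e ∈ E, t * e * t = e * (np x * m μ * nr y)
  cent : ∀ e ∈ E, t * e = e * t → ∃ x μ y, σ x = x ∧ σ y = y ∧ e = np x * m μ * nr y
  dW : Double σ t np W
  g_E : ∀ l, ∀ e ∈ E, g l * e * (g l)⁻¹ ∈ E
  g_W : ∀ l, ∀ w ∈ W, g l * w = w * g l
  gQ : ∀ l, g l ∈ Q
  npQ : ∀ x, σ x = x → np x ∈ Q
  mQ : ∀ x, m x ∈ Q
  Q_E : ∀ q ∈ Q, ∃ l, ∀ e ∈ E, q * e * q⁻¹ = g l * e * (g l)⁻¹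

/-- `{e ∈ E | [e, Q] ≤ W}` -/
def Evl (E W Q : Subgroup G) : Subgroup G :=
  Subgroup.closure {e | e ∈ E ∧ ∀ q ∈ Q, q * e * q⁻¹ * e⁻¹ ∈ W}

namespace Coord

variable {σ : F →+* F} {t : G} {np nr m g : F → G}

theorem g_zero (C : Coord σ t np nr m g) : g 0 = 1 := by
  have h := C.g_add 0 0
  rw [add_zero] at h
  exact (mul_eq_left.mp h.symm)

theorem g_sq (C : Coord σ t np nr m g) (l : F) : g l * g l = 1 := by
  rw [← C.g_add, C.two, g_zero C]

theorem g_comm (C : Coord σ t np nr m g) (l k : F) : g l * g k = g k * g l := by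
  rw [← C.g_add, ← C.g_add, add_comm]

theorem g_inv (C : Coord σ t np nr m g) (l : F) : (g l)⁻¹ = g l :=
  inv_eq_of_mul_eq_one_left (g_sq C l)

theorem np_zero (C : Coord σ t np nr m g) : np 0 = 1 := by
  have h := C.np_add 0 0 (map_zero σ) (map_zero σ)
  rw [add_zero] at h
  exact (mul_eq_left.mp h.symm)

theorem nr_zero (C : Coord σ t np nr m g) : nr 0 = 1 := by
  have h := C.nr_add 0 0 (map_zero σ) (map_zero σ)
  rw [add_zero] at h
  exact (mul_eq_left.mp h.symm)

theorem m_zero (C : Coord σ t np nr m g) : m 0 = 1 := by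
  have h := C.m_add 0 0
  rw [add_zero] at h
  exact (mul_eq_left.mp h.symm)

/-- the action of `g l` on `A_E` -/
theorem g_all (C : Coord σ t np nr m g) (l x μ y : F) (hx : σ x = x) (hy : σ y = y) :
    g l * (np x * m μ * nr y) * (g l)⁻¹ =
      np (x + (l * σ μ + σ l * μ) + l * σ l * y) * m (μ + l * y) * nr y := by
  have h1 : σ (l * σ μ + σ l * μ) = l * σ μ + σ l * μ := by
    rw [map_add, map_mul, map_mul, C.σσ, C.σσ, add_comm]
  have h2 : σ (l * σ l * y) = l * σ l * y := by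
    rw [map_mul, map_mul, C.σσ, hy, mul_comm (σ l) l]
  have h3 : σ (x + (l * σ μ + σ l * μ)) = x + (l * σ μ + σ l * μ) := by
    rw [map_add, h1, hx]
  have e : g l * (np x * m μ * nr y) * (g l)⁻¹ =
      (g l * np x * (g l)⁻¹) * (g l * m μ * (g l)⁻¹) * (g l * nr y * (g l)⁻¹) := by group
  rw [e, C.g_np l x hx, C.g_m l μ, C.g_nr l y hy, C.np_add _ _ h3 h2, C.np_add _ _ hx h1, C.m_add]
  have a1 := C.np_m (l * σ μ + σ l * μ) μ h1
  have a2 := C.np_nr (l * σ l * y) y h2 hy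
  have a3 := C.m_nr (l * y) y hy
  have a4 := C.np_m (l * σ l * y) (l * y) h2
  have a5 := C.np_m (l * σ l * y) μ h2
  have a6 := C.np_m (l * σ μ + σ l * μ) (l * y) h1
  have a7 := C.np_nr (l * σ μ + σ l * μ) y h1 hy
  calc np x * (m μ * np (l * σ μ + σ l * μ)) * (nr y * m (l * y) * np (l * σ l * y))
      = np x * (m μ * np (l * σ μ + σ l * μ)) * ((nr y * m (l * y)) * np (l * σ l * y)) := by group
    _ = np x * (np (l * σ μ + σ l * μ) * m μ) * ((m (l * y) * nr y) * np (l * σ l * y)) := by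
        rw [a3, a1]
    _ = np x * np (l * σ μ + σ l * μ) * m μ * m (l * y) * (nr y * np (l * σ l * y)) := by group
    _ = np x * np (l * σ μ + σ l * μ) * m μ * m (l * y) * (np (l * σ l * y) * nr y) := by rw [a2]
    _ = np x * np (l * σ μ + σ l * μ) * m μ * (m (l * y) * np (l * σ l * y)) * nr y := by group
    _ = np x * np (l * σ μ + σ l * μ) * m μ * (np (l * σ l * y) * m (l * y)) * nr y := by rw [a4]
    _ = np x * np (l * σ μ + σ l * μ) * (m μ * np (l * σ l * y)) * m (l * y) * nr y := by group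
    _ = np x * np (l * σ μ + σ l * μ) * (np (l * σ l * y) * m μ) * m (l * y) * nr y := by rw [a5]
    _ = _ := by group

end Coord

namespace EL

variable {σ : F →+* F} {t : G} {E W Q : Subgroup G} {np nr m g : F → G}

theorem all_E (L : EL σ t E W Q np nr m g) {x μ y : F} (hx : σ x = x) (hy : σ y = y) :
    np x * m μ * nr y ∈ E :=
  E.mul_mem (E.mul_mem (L.np_E x hx) (L.m_E μ)) (L.nr_E y hy)

theorem q_E (L : EL σ t E W Q np nr m g) {q e : G} (hq : q ∈ Q) (he : e ∈ E) : q * e * q⁻¹ ∈ E := by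
  obtain ⟨l, hl⟩ := L.Q_E q hq
  rw [hl e he]
  exact L.g_E l e he

theorem q_W (L : EL σ t E W Q np nr m g) {q w : G} (hq : q ∈ Q) (hw : w ∈ W) : q * w = w * q := by
  obtain ⟨l, hl⟩ := L.Q_E q hq
  have h := hl w (L.WE hw)
  rw [L.g_W l w hw, mul_assoc w, mul_inv_cancel, mul_one] at h
  rw [mul_inv_eq_iff_eq_mul] at h
  exact h

theorem inv_E (L : EL σ t E W Q np nr m g) {e : G} (he : e ∈ E) : e⁻¹ = e :=
  inv_eq_of_mul_eq_one_left (L.sq e he)

/-- `x_l e = [g l, e]` -/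
theorem c_E (L : EL σ t E W Q np nr m g) (l : F) {e : G} (he : e ∈ E) :
    g l * e * (g l)⁻¹ * e⁻¹ ∈ E :=
  E.mul_mem (L.g_E l e he) (E.inv_mem he)

theorem c_mul (L : EL σ t E W Q np nr m g) (l : F) {e f : G} (he : e ∈ E) (hf : f ∈ E) :
    g l * (e * f) * (g l)⁻¹ * (e * f)⁻¹ =
      (g l * e * (g l)⁻¹ * e⁻¹) * (g l * f * (g l)⁻¹ * f⁻¹) := by
  have h := L.ab _ (L.c_E l hf) _ (E.inv_mem he)
  calc g l * (e * f) * (g l)⁻¹ * (e * f)⁻¹
      = (g l * e * (g l)⁻¹) * ((g l * f * (g l)⁻¹ * f⁻¹) * e⁻¹) := by group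
    _ = _ := by rw [h]; group

theorem c_inv (L : EL σ t E W Q np nr m g) (l : F) {e : G} (he : e ∈ E) :
    g l * e⁻¹ * (g l)⁻¹ * (e⁻¹)⁻¹ = g l * e * (g l)⁻¹ * e⁻¹ := by
  rw [L.inv_E he]
  simp only [L.inv_E he]

theorem c_comm (L : EL σ t E W Q np nr m g) (l k : F) {e : G} (he : e ∈ E) :
    g l * (g k * e * (g k)⁻¹ * e⁻¹) * (g l)⁻¹ * (g k * e * (g k)⁻¹ * e⁻¹)⁻¹ =
      g k * (g l * e * (g l)⁻¹ * e⁻¹) * (g k)⁻¹ * (g l * e * (g l)⁻¹ * e⁻¹)⁻¹ := by
  have h1 : g l * g k = g k * g l := Coord.g_comm L.toCoord l k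
  have A : g l * (g k * e * (g k)⁻¹ * e⁻¹) * (g l)⁻¹ * (g k * e * (g k)⁻¹ * e⁻¹)⁻¹ =
      ((g l * g k) * e * (g l * g k)⁻¹) * ((g l * e * (g l)⁻¹)⁻¹ * (e * (g k * e * (g k)⁻¹)⁻¹)) := by
    rw [show (g l * g k)⁻¹ = (g k)⁻¹ * (g l)⁻¹ from mul_inv_rev _ _]
    have : (g l * g k)⁻¹ = (g l)⁻¹ * (g k)⁻¹ := by rw [h1, mul_inv_rev]
    have h2 : (g k)⁻¹ * (g l)⁻¹ = (g l)⁻¹ * (g k)⁻¹ := by rw [← mul_inv_rev, this]
    group
  have B : g k * (g l * e * (g l)⁻¹ * e⁻¹) * (g k)⁻¹ * (g l * e * (g l)⁻¹ * e⁻¹)⁻¹ =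
      ((g k * g l) * e * (g k * g l)⁻¹) * ((g k * e * (g k)⁻¹)⁻¹ * (e * (g l * e * (g l)⁻¹)⁻¹)) := by
    group
  rw [A, B, h1]
  congr 1
  have e1 := L.g_E l e he
  have e2 := L.g_E k e he
  have k1 := L.ab _ (E.inv_mem e1) _ (E.mul_mem he (E.inv_mem e2))
  have k2 := L.ab _ (E.inv_mem e2) _ he
  rw [k1, ← k2, mul_assoc]

theorem c_c (L : EL σ t E W Q np nr m g) (l : F) {e : G} (he : e ∈ E) :
    g l * (g l * e * (g l)⁻¹ * e⁻¹) * (g l)⁻¹ * (g l * e * (g l)⁻¹ * e⁻¹)⁻¹ = 1 := by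
  have h1 : g l * g l = 1 := Coord.g_sq L.toCoord l
  have h2 : (g l)⁻¹ = g l := Coord.g_inv L.toCoord l
  have e1 := L.g_E l e he
  have A : g l * (g l * e * (g l)⁻¹ * e⁻¹) * (g l)⁻¹ * (g l * e * (g l)⁻¹ * e⁻¹)⁻¹ =
      ((g l * g l) * e * (g l * g l)⁻¹) * ((g l * e * (g l)⁻¹)⁻¹ * (e * (g l * e * (g l)⁻¹)⁻¹)) := by
    group
  rw [A, h1, inv_one, mul_one, one_mul, L.inv_E e1, L.ab _ he _ e1, ← mul_assoc (g l * e * (g l)⁻¹),
    L.sq _ e1, one_mul, L.sq _ he]

/-- `t` commutes with `x_l` -/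
theorem t_c (L : EL σ t E W Q np nr m g) (l : F) (e : G) :
    t * (g l * e * (g l)⁻¹ * e⁻¹) * t = g l * (t * e * t) * (g l)⁻¹ * (t * e * t)⁻¹ := by
  have h1 : t * g l = g l * t := L.t_g l
  have h2 : t⁻¹ = t := inv_eq_of_mul_eq_one_left L.tt
  have h3 : t * (g l)⁻¹ = (g l)⁻¹ * t := by
    rw [Coord.g_inv L.toCoord]
    exact h1
  have hg : t * g l * t = g l := by rw [h1, mul_assoc, L.tt, mul_one]
  have hgi : t * (g l)⁻¹ * t = (g l)⁻¹ := by rw [h3, mul_assoc, L.tt, mul_one]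
  have he : t * e⁻¹ * t = (t * e * t)⁻¹ := by rw [mul_inv_rev, mul_inv_rev, h2, mul_assoc]
  calc t * (g l * e * (g l)⁻¹ * e⁻¹) * t
      = t * g l * 1 * e * 1 * (g l)⁻¹ * 1 * e⁻¹ * t := by group
    _ = t * g l * (t * t) * e * (t * t) * (g l)⁻¹ * (t * t) * e⁻¹ * t := by rw [L.tt]
    _ = (t * g l * t) * (t * e * t) * (t * (g l)⁻¹ * t) * (t * e⁻¹ * t) := by group
    _ = _ := by rw [hg, hgi, he]

theorem mem_Evl (L : EL σ t E W Q np nr m g) {e : G} :
    e ∈ Evl E W Q ↔ e ∈ E ∧ ∀ q ∈ Q, q * e * q⁻¹ * e⁻¹ ∈ W := by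
  constructor
  · intro h
    refine Subgroup.closure_induction (p := fun x _ => x ∈ E ∧ ∀ q ∈ Q, q * x * q⁻¹ * x⁻¹ ∈ W)
      (fun x hx => hx) ⟨E.one_mem, fun q _ => ?_⟩ ?_ ?_ h
    · simp [W.one_mem]
    · rintro x y _ _ ⟨hx, hx'⟩ ⟨hy, hy'⟩
      refine ⟨E.mul_mem hx hy, fun q hq => ?_⟩
      have h1 := L.ab _ (E.mul_mem (L.q_E hq hy) (E.inv_mem hy)) _ (E.inv_mem hx)
      have : q * (x * y) * q⁻¹ * (x * y)⁻¹ = (q * x * q⁻¹ * x⁻¹) * (q * y * q⁻¹ * y⁻¹) := by
        calc q * (x * y) * q⁻¹ * (x * y)⁻¹ = (q * x * q⁻¹) * ((q * y * q⁻¹ * y⁻¹) * x⁻¹) := by group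
          _ = _ := by rw [h1]; group
      rw [this]
      exact W.mul_mem (hx' q hq) (hy' q hq)
    · rintro x _ ⟨hx, hx'⟩
      rw [L.inv_E hx]
      exact ⟨hx, hx'⟩
  · intro h
    exact Subgroup.subset_closure h

theorem Evl_le (L : EL σ t E W Q np nr m g) : Evl E W Q ≤ E := fun _ h => (L.mem_Evl.mp h).1

theorem W_le (L : EL σ t E W Q np nr m g) : W ≤ Evl E W Q := fun w hw => by
  refine L.mem_Evl.mpr ⟨L.WE hw, fun q hq => ?_⟩
  rw [L.q_W hq hw]
  simp [W.one_mem]

theorem c_W (L : EL σ t E W Q np nr m g) (l : F) {w : G} (hw : w ∈ W) :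
    g l * w * (g l)⁻¹ * w⁻¹ = 1 := by
  rw [L.g_W l w hw]
  group

/-- `x_l` on `V_l` -/
theorem c_V (L : EL σ t E W Q np nr m g) (l : F) {x μ y : F} (hx : σ x = x) (hy : σ y = y) :
    g l * (np x * m μ * nr y) * (g l)⁻¹ * (np x * m μ * nr y)⁻¹ =
      np (l * σ μ + σ l * μ + l * σ l * y) * m (l * y) * nr 0 := by
  have h1 : σ (l * σ μ + σ l * μ) = l * σ μ + σ l * μ := by
    rw [map_add, map_mul, map_mul, L.σσ, L.σσ, add_comm]
  have h2 : σ (l * σ l * y) = l * σ l * y := by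
    rw [map_mul, map_mul, L.σσ, hy, mul_comm (σ l) l]
  have h3 : σ (l * σ μ + σ l * μ + l * σ l * y) = l * σ μ + σ l * μ + l * σ l * y := by
    rw [map_add, h1, h2]
  rw [Coord.g_all L.toCoord l x μ y hx hy, Coord.nr_zero L.toCoord, mul_one, mul_inv_eq_iff_eq_mul]
  have e : x + (l * σ μ + σ l * μ) + l * σ l * y = (l * σ μ + σ l * μ + l * σ l * y) + x := by ring
  have e' : μ + l * y = l * y + μ := add_comm _ _
  rw [e, e', L.np_add _ _ h3 hx, L.m_add]
  have h4 := L.np_m x (l * y) hx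
  calc np (l * σ μ + σ l * μ + l * σ l * y) * np x * (m (l * y) * m μ) * nr y
      = np (l * σ μ + σ l * μ + l * σ l * y) * (np x * m (l * y)) * m μ * nr y := by group
    _ = _ := by rw [h4]; group

theorem V_mul (L : EL σ t E W Q np nr m g) {x μ y x' μ' y' : F} (hx : σ x = x) (hy : σ y = y)
    (hx' : σ x' = x') (hy' : σ y' = y') :
    (np x * m μ * nr y) * (np x' * m μ' * nr y') = np (x + x') * m (μ + μ') * nr (y + y') := by
  rw [L.np_add _ _ hx hx', L.m_add, L.nr_add _ _ hy hy']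
  have h1 := L.np_nr x' y hx' hy
  have h2 := L.m_nr μ' y hy
  have h3 := L.np_m x' μ hx'
  calc (np x * m μ * nr y) * (np x' * m μ' * nr y')
      = np x * m μ * (nr y * np x') * m μ' * nr y' := by group
    _ = np x * (m μ * np x') * (nr y * m μ') * nr y' := by rw [← h1]; group
    _ = _ := by rw [← h3, ← h2]; group

theorem V_one (L : EL σ t E W Q np nr m g) : np 0 * m 0 * nr 0 = 1 := by
  rw [Coord.np_zero L.toCoord, Coord.m_zero L.toCoord, Coord.nr_zero L.toCoord]
  simp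

theorem V_inj (L : EL σ t E W Q np nr m g) {x μ y x' μ' y' : F} (hx : σ x = x) (hy : σ y = y)
    (hx' : σ x' = x') (hy' : σ y' = y')
    (h : np x * m μ * nr y = np x' * m μ' * nr y') : x = x' ∧ μ = μ' ∧ y = y' := by
  have h1 : (np x * m μ * nr y) * (np x' * m μ' * nr y') = 1 := by
    rw [h]
    exact L.sq _ (L.all_E hx' hy')
  rw [L.V_mul hx hy hx' hy'] at h1
  obtain ⟨a, b, c⟩ := L.inj _ _ _ (by rw [map_add, hx, hx']) (by rw [map_add, hy, hy']) h1
  have key : ∀ u v : F, u + v = 0 → u = v := fun u v huv => by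
    have := L.two v
    exact add_right_cancel (huv.trans this.symm)
  exact ⟨key _ _ a, key _ _ b, key _ _ c⟩

theorem t_V (L : EL σ t E W Q np nr m g) {x μ y : F} (hx : σ x = x) (hy : σ y = y) :
    t * (np x * m μ * nr y) * t = np x * m μ * nr y := by
  have h1 : t * (np x * m μ * nr y) = (np x * m μ * nr y) * t := by
    rw [← mul_assoc, ← mul_assoc, L.t_np x hx, mul_assoc (np x), L.t_m, ← mul_assoc,
      mul_assoc (np x * m μ), L.t_nr y hy, ← mul_assoc]
  rw [h1, mul_assoc, L.tt, mul_one]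

/-- an element of `E` killed by `x_1` and `x_b` lies in `W` -/
theorem zz (L : EL σ t E W Q np nr m g) {b : F} (hb : σ b ≠ b) {z : G} (hz : z ∈ E)
    (h1 : g 1 * z * (g 1)⁻¹ * z⁻¹ = 1) (h2 : g b * z * (g b)⁻¹ * z⁻¹ = 1) : z ∈ W := by
  have key : ∀ u v : F, u + v = 0 → u = v := fun u v huv => by
    have := L.two v
    exact add_right_cancel (huv.trans this.symm)
  -- elements of `V_l` killed by both
  have kill : ∀ x μ y : F, σ x = x → σ y = y →
      (∀ l, (l = 1 ∨ l = b) → g l * (np x * m μ * nr y) * (g l)⁻¹ * (np x * m μ * nr y)⁻¹ = 1) →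
      μ = 0 ∧ y = 0 := by
    intro x μ y hx hy h
    have e1 := h 1 (Or.inl rfl)
    have e2 := h b (Or.inr rfl)
    rw [L.c_V 1 hx hy] at e1
    rw [L.c_V b hx hy] at e2
    have hs : ∀ l : F, σ (l * σ μ + σ l * μ + l * σ l * y) = l * σ μ + σ l * μ + l * σ l * y := by
      intro l
      simp only [map_add, map_mul, L.σσ, hy]
      ring
    obtain ⟨a1, a2, -⟩ := L.inj _ _ _ (hs 1) (map_zero σ) e1
    obtain ⟨b1, b2, -⟩ := L.inj _ _ _ (hs b) (map_zero σ) e2
    rw [one_mul] at a2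
    subst a2
    simp only [map_one, one_mul, mul_zero, add_zero] at a1 b1
    have a3 := key _ _ a1
    rw [a3, ← add_mul] at b1
    rcases mul_eq_zero.mp b1 with h | h
    · exact absurd (key _ _ h).symm hb
    · exact ⟨h, rfl⟩
  obtain ⟨x, μ, y, hx, hy, hbr⟩ := L.brk z hz
  have hφ : ∀ l, (l = 1 ∨ l = b) → g l * (np x * m μ * nr y) * (g l)⁻¹ * (np x * m μ * nr y)⁻¹ = 1 := by
    intro l hl
    have h3 : g l * z * (g l)⁻¹ * z⁻¹ = 1 := by
      rcases hl with rfl | rfl
      · exact h1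
      · exact h2
    have h4 := L.t_c l z
    rw [h3, mul_one, L.tt, hbr, L.c_mul l hz (L.all_E hx hy), h3, one_mul] at h4
    exact h4.symm
  obtain ⟨hμ, hy0⟩ := kill x μ y hx hy hφ
  subst hμ; subst hy0
  rw [Coord.m_zero L.toCoord, Coord.nr_zero L.toCoord, mul_one, mul_one] at hbr
  obtain ⟨w, hw, hwt⟩ := L.dW.surj x hx
  have hzw : z * w⁻¹ ∈ E := E.mul_mem hz (E.inv_mem (L.WE hw))
  have hcom : t * (z * w⁻¹) = (z * w⁻¹) * t := by
    have h3 : t * w⁻¹ * t = (t * w * t)⁻¹ := by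
      have h2 : t⁻¹ = t := inv_eq_of_mul_eq_one_left L.tt
      rw [mul_inv_rev, mul_inv_rev, h2, mul_assoc]
    have h4 : t * (z * w⁻¹) * t = z * w⁻¹ := by
      calc t * (z * w⁻¹) * t = t * z * 1 * w⁻¹ * t := by group
        _ = (t * z * t) * (t * w⁻¹ * t) := by rw [← L.tt]; group
        _ = (z * np x) * (w * np x)⁻¹ := by rw [hbr, h3, hwt]
        _ = _ := by group
    calc t * (z * w⁻¹) = t * (z * w⁻¹) * (t * t) := by rw [L.tt, mul_one]
      _ = (t * (z * w⁻¹) * t) * t := by group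
      _ = _ := by rw [h4]
  obtain ⟨x', μ', y', hx', hy', h5⟩ := L.cent _ hzw hcom
  have h6 : ∀ l, (l = 1 ∨ l = b) →
      g l * (np x' * m μ' * nr y') * (g l)⁻¹ * (np x' * m μ' * nr y')⁻¹ = 1 := by
    intro l hl
    have h3 : g l * z * (g l)⁻¹ * z⁻¹ = 1 := by
      rcases hl with rfl | rfl
      · exact h1
      · exact h2
    rw [← h5, L.c_mul l hz (E.inv_mem (L.WE hw)), h3, one_mul]
    exact L.c_W l (W.inv_mem hw)
  obtain ⟨rfl, rfl⟩ := kill x' μ' y' hx' hy' h6
  rw [Coord.m_zero L.toCoord, Coord.nr_zero L.toCoord, mul_one, mul_one] at h5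
  have : z = np x' * w := by rw [← h5]; group
  rw [this]
  exact W.mul_mem (L.dW.mem x' hx') hw

/-- `x_1 x_b E ≤ W` -/
theorem cc_W (L : EL σ t E W Q np nr m g) {b : F} (hb : σ b ≠ b) {e : G} (he : e ∈ E) :
    g 1 * (g b * e * (g b)⁻¹ * e⁻¹) * (g 1)⁻¹ * (g b * e * (g b)⁻¹ * e⁻¹)⁻¹ ∈ W := by
  have e1 := L.c_E b he
  refine L.zz hb (L.c_E 1 e1) (L.c_c 1 e1) ?_
  rw [L.c_comm b 1 e1, L.c_c b he]
  group

/-- `ker x_1 x_b ≤ E_{v,l}` -/
theorem of_cc (L : EL σ t E W Q np nr m g) {b : F} (hb : σ b ≠ b) {e : G} (he : e ∈ E)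
    (h : g 1 * (g b * e * (g b)⁻¹ * e⁻¹) * (g 1)⁻¹ * (g b * e * (g b)⁻¹ * e⁻¹)⁻¹ = 1) (l : F) :
    g l * e * (g l)⁻¹ * e⁻¹ ∈ W := by
  have hbW : g b * e * (g b)⁻¹ * e⁻¹ ∈ W := L.zz hb (L.c_E b he) h (L.c_c b he)
  have h1W : g 1 * e * (g 1)⁻¹ * e⁻¹ ∈ W := by
    refine L.zz hb (L.c_E 1 he) (L.c_c 1 he) ?_
    rw [L.c_comm b 1 he]
    exact h
  refine L.zz hb (L.c_E l he) ?_ ?_
  · rw [L.c_comm 1 l he]
    exact L.c_W l h1W
  · rw [L.c_comm b l he]
    exact L.c_W l hbW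

theorem mem_of_c (L : EL σ t E W Q np nr m g) {e : G} (he : e ∈ E)
    (h : ∀ l, g l * e * (g l)⁻¹ * e⁻¹ ∈ W) : e ∈ Evl E W Q := by
  refine L.mem_Evl.mpr ⟨he, fun q hq => ?_⟩
  obtain ⟨l, hl⟩ := L.Q_E q hq
  rw [hl e he]
  exact h l

/-- (3b) `[E_l, Q_v] ≤ E_{v,l}` -/
theorem comm_Q (L : EL σ t E W Q np nr m g) {e q : G} (he : e ∈ E) (hq : q ∈ Q) :
    q * e * q⁻¹ * e⁻¹ ∈ Evl E W Q := by
  obtain ⟨b, hb⟩ := L.nt
  obtain ⟨l, hl⟩ := L.Q_E q hq
  rw [hl e he]
  refine L.mem_of_c (L.c_E l he) (L.of_cc hb (L.c_E l he) ?_)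
  have e1 := L.c_E b he
  rw [L.c_comm b l he, L.c_comm 1 l e1]
  exact L.c_W l (L.cc_W hb he)

/-- `C_{E_{v,l}}(t) = V_l ∩ Q_v` -/
theorem cent_Evl (L : EL σ t E W Q np nr m g) {e : G} (he : e ∈ Evl E W Q) (h : t * e = e * t) :
    ∃ x μ, σ x = x ∧ e = np x * m μ := by
  obtain ⟨x, μ, y, hx, hy, rfl⟩ := L.cent e (L.Evl_le he) h
  have h1 := (L.mem_Evl.mp he).2 (g 1) (L.gQ 1)
  rw [L.c_V 1 hx hy] at h1
  have hs : σ (1 * σ μ + σ 1 * μ + 1 * σ 1 * y) = 1 * σ μ + σ 1 * μ + 1 * σ 1 * y := by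
    simp only [map_add, map_mul, L.σσ, hy, map_one]
    ring
  have h2 := L.t_V (μ := 1 * y) hs (map_zero σ)
  obtain ⟨x', hx', h3⟩ := L.dW.cent _ h1 (by
    calc _ = t * (np (1 * σ μ + σ 1 * μ + 1 * σ 1 * y) * m (1 * y) * nr 0) * (t * t) := by
          rw [L.tt, mul_one]
      _ = (t * (np (1 * σ μ + σ 1 * μ + 1 * σ 1 * y) * m (1 * y) * nr 0) * t) * t := by group
      _ = _ := by rw [h2])
  have h4 : np x' = np x' * m 0 * nr 0 := by
    rw [Coord.m_zero L.toCoord, Coord.nr_zero L.toCoord, mul_one, mul_one]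
  rw [h4] at h3
  have h5 := (L.V_inj hs (map_zero σ) hx' (map_zero σ) h3).2.1
  rw [one_mul] at h5
  subst h5
  exact ⟨x, μ, hx, by rw [Coord.nr_zero L.toCoord, mul_one]⟩

/-- `φ(E_{v,l}) ≤ V_l ∩ Q_v` -/
theorem brk_Evl (L : EL σ t E W Q np nr m g) {e : G} (he : e ∈ Evl E W Q) :
    ∃ x μ, σ x = x ∧ t * e * t = e * (np x * m μ) := by
  obtain ⟨x, μ, y, hx, hy, hbr⟩ := L.brk e (L.Evl_le he)
  have h1 := (L.mem_Evl.mp he).2 (g 1) (L.gQ 1)
  obtain ⟨x', hx', h2⟩ := L.dW.brk _ h1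
  rw [L.t_c 1 e, hbr, L.c_mul 1 (L.Evl_le he) (L.all_E hx hy), L.c_V 1 hx hy] at h2
  have h3 := mul_left_cancel h2
  have h4 : np x' = np x' * m 0 * nr 0 := by
    rw [Coord.m_zero L.toCoord, Coord.nr_zero L.toCoord, mul_one, mul_one]
  rw [h4] at h3
  have hs : σ (1 * σ μ + σ 1 * μ + 1 * σ 1 * y) = 1 * σ μ + σ 1 * μ + 1 * σ 1 * y := by
    simp only [map_add, map_mul, L.σσ, hy, map_one]
    ring
  have h5 := (L.V_inj hs (map_zero σ) hx' (map_zero σ) h3).2.1
  rw [one_mul] at h5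
  subst h5
  exact ⟨x, μ, hx, by rw [hbr, Coord.nr_zero L.toCoord, mul_one]⟩

/-- `V_l ∩ Q_v ≤ φ(E_{v,l})` -/
theorem surj_Evl (L : EL σ t E W Q np nr m g) {x μ : F} (hx : σ x = x) :
    ∃ e ∈ Evl E W Q, t * e * t = e * (np x * m μ) := by
  obtain ⟨b, hb⟩ := L.nt
  have key : ∀ u v : F, u + v = 0 → u = v := fun u v huv => by
    have := L.two v
    exact add_right_cancel (huv.trans this.symm)
  have hb' : b + σ b ≠ 0 := fun h => hb (key _ _ h).symm
  obtain ⟨e, he, hbr⟩ := L.surj x μ 0 hx (map_zero σ)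
  have hw := L.cc_W hb he
  -- `φ (x_1 x_b e) = 1`
  have hs : ∀ (l μ y : F), σ y = y →
      σ (l * σ μ + σ l * μ + l * σ l * y) = l * σ μ + σ l * μ + l * σ l * y := by
    intro l μ y hy
    simp only [map_add, map_mul, L.σσ, hy]
    ring
  have hφ : t * (g 1 * (g b * e * (g b)⁻¹ * e⁻¹) * (g 1)⁻¹ * (g b * e * (g b)⁻¹ * e⁻¹)⁻¹) * t =
      g 1 * (g b * e * (g b)⁻¹ * e⁻¹) * (g 1)⁻¹ * (g b * e * (g b)⁻¹ * e⁻¹)⁻¹ := by
    have hE := L.all_E (μ := b * 0) (hs b μ 0 (map_zero σ)) (map_zero σ)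
    rw [L.t_c 1, L.t_c b, hbr, L.c_mul b he (L.all_E hx (map_zero σ)),
      L.c_V b hx (map_zero σ), L.c_mul 1 (L.c_E b he) hE,
      L.c_V 1 (hs b μ 0 (map_zero σ)) (map_zero σ)]
    have : np (1 * σ (b * 0) + σ 1 * (b * 0) + 1 * σ 1 * 0) * m (1 * 0) * nr 0 = 1 := by
      simp only [mul_zero, map_zero, add_zero]
      exact L.V_one
    rw [this, mul_one]
  obtain ⟨x0, hx0, h0⟩ := L.dW.cent _ hw (by
    calc _ = t * (g 1 * (g b * e * (g b)⁻¹ * e⁻¹) * (g 1)⁻¹ * (g b * e * (g b)⁻¹ * e⁻¹)⁻¹) * (t * t) := by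
          rw [L.tt, mul_one]
      _ = (t * (g 1 * (g b * e * (g b)⁻¹ * e⁻¹) * (g 1)⁻¹ * (g b * e * (g b)⁻¹ * e⁻¹)⁻¹) * t) * t := by
          group
      _ = _ := by rw [hφ])
  -- the correction `nr y`
  obtain ⟨y, hy, hyx⟩ : ∃ y : F, σ y = y ∧ (b + σ b) * y = x0 := by
    refine ⟨x0 / (b + σ b), ?_, ?_⟩
    · rw [map_div₀, hx0, map_add, L.σσ, add_comm (σ b) b]
    · field_simp
  have hn : np 0 * m 0 * nr y = nr y := by
    rw [Coord.m_zero L.toCoord, Coord.np_zero L.toCoord, one_mul, one_mul]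
  have hnE := L.nr_E y hy
  have hcn : g 1 * (g b * nr y * (g b)⁻¹ * (nr y)⁻¹) * (g 1)⁻¹ * (g b * nr y * (g b)⁻¹ * (nr y)⁻¹)⁻¹ =
      np x0 := by
    rw [← hn, L.c_V b (map_zero σ) hy, L.c_V 1 (hs b 0 y hy) (map_zero σ)]
    have e1 : 1 * σ (b * y) + σ 1 * (b * y) + 1 * σ 1 * 0 = x0 := by
      rw [← hyx]
      simp only [map_mul, map_one, one_mul, mul_zero, add_zero, hy]
      ring
    rw [e1, mul_zero, Coord.m_zero L.toCoord, Coord.nr_zero L.toCoord, mul_one, mul_one]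
  refine ⟨e * nr y, L.mem_of_c (E.mul_mem he hnE) (L.of_cc hb (E.mul_mem he hnE) ?_), ?_⟩
  · rw [L.c_mul b he hnE, L.c_mul 1 (L.c_E b he) (L.c_E b hnE), hcn, h0]
    exact L.sq _ (L.np_E x0 hx0)
  · have h1 := L.t_nr y hy
    calc t * (e * nr y) * t = t * e * (nr y * t) := by group
      _ = (t * e * t) * nr y := by rw [← h1]; group
      _ = e * ((np x * m μ * nr 0) * nr y) := by rw [hbr]; group
      _ = e * (nr y * (np x * m μ * nr 0)) := by
          rw [L.ab _ (L.all_E hx (map_zero σ)) _ hnE]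
      _ = _ := by rw [Coord.nr_zero L.toCoord, mul_one]; group

/-- (3c) -/
theorem V_le (L : EL σ t E W Q np nr m g) {x μ : F} (hx : σ x = x) : np x * m μ ∈ Evl E W Q := by
  have hn : np x * m μ * nr 0 = np x * m μ := by rw [Coord.nr_zero L.toCoord, mul_one]
  refine L.mem_of_c (E.mul_mem (L.np_E x hx) (L.m_E μ)) fun l => ?_
  rw [← hn, L.c_V l hx (map_zero σ)]
  simp only [mul_zero, add_zero]
  rw [Coord.m_zero L.toCoord, Coord.nr_zero L.toCoord, mul_one, mul_one]
  refine L.dW.mem _ ?_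
  simp only [map_add, map_mul, L.σσ]
  ring

theorem mem_Q (L : EL σ t E W Q np nr m g) {x μ : F} (hx : σ x = x) : np x * m μ ∈ Q :=
  Q.mul_mem (L.npQ x hx) (L.mQ μ)

end EL

end Cfsg.Agent.OddHalf.D7.Uni.Quad
end

-- part: OddHalf/D7/Uni/Rv
section
/-!
# The double `R_v` of `Q_v` (helper371, text: bb ODD 10033, section 4)

`t` an involution, `X = X_v`, `Q = Q_v ≤ C(t)`, `W = W_v` the double of `X`, `A i = E_{v,l}` (`l` the totally
isotropic lines through `v`). `R = ⟨A i, Q, W⟩`.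
-/

set_option autoImplicit false

namespace Cfsg.Agent.OddHalf.D7.Uni.Quad

variable {G : Type*} [Group G] {ι : Type*}

structure RData (t : G) (X W Q : Subgroup G) (A : ι → Subgroup G) : Prop where
  tt : t * t = 1
  X_ne : ∃ x ∈ X, x ≠ 1
  XQ : X ≤ Q
  Qt : ∀ q ∈ Q, t * q = q * t
  Q_comm : ∀ a ∈ Q, ∀ b ∈ Q, a * b * a⁻¹ * b⁻¹ ∈ X
  Q_sq : ∀ q ∈ Q, q * q ∈ X
  /-- (k1) -/
  Q_cen : ∀ z ∈ Q, (∀ q ∈ Q, z * q = q * z) → z ∈ X
  /-- (k2) -/
  k2 : ∀ c, c * t = t * c → (∀ q ∈ Q, q * c * q⁻¹ * c⁻¹ ∈ X) → c ∈ Q ∨ t * c ∈ Q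
  W_ab : ∀ v ∈ W, ∀ w ∈ W, v * w = w * v
  W_sq : ∀ w ∈ W, w * w = 1
  W_Q : ∀ w ∈ W, ∀ q ∈ Q, w * q = q * w
  W_brk : ∀ w ∈ W, ∃ x ∈ X, t * w * t = w * x
  W_surj : ∀ x ∈ X, ∃ w ∈ W, t * w * t = w * x
  W_cent : ∀ w ∈ W, t * w = w * t → w ∈ X
  XW : X ≤ W
  A_ab : ∀ i, ∀ a ∈ A i, ∀ b ∈ A i, a * b = b * a
  A_sq : ∀ i, ∀ a ∈ A i, a * a ∈ W
  A_W : ∀ i, ∀ a ∈ A i, ∀ w ∈ W, a * w = w * a
  A_Q : ∀ i, ∀ a ∈ A i, ∀ q ∈ Q, q * a * q⁻¹ * a⁻¹ ∈ W
  A_brk : ∀ i, ∀ a ∈ A i, ∃ q ∈ Q, q ∈ A i ∧ t * a * t = a * q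
  /-- `Q` is generated by `X` and the `[a, t]` -/
  Q_gen : Q ≤ Subgroup.closure ((X : Set G) ∪ {q | ∃ i, ∃ a ∈ A i, t * a * t = a * q})

/-- `R_v` -/
def Rv (W Q : Subgroup G) (A : ι → Subgroup G) : Subgroup G :=
  Subgroup.closure ({a | ∃ i, a ∈ A i} ∪ ((Q : Set G) ∪ (W : Set G)))

section comm

variable {W : Subgroup G}

theorem mulc {x y b : G} (hx : ∀ w ∈ W, x * w = w * x) (h1 : x * b * x⁻¹ * b⁻¹ ∈ W)
    (h2 : y * b * y⁻¹ * b⁻¹ ∈ W) : (x * y) * b * (x * y)⁻¹ * b⁻¹ ∈ W := by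
  have h := hx _ h2
  have : (x * y) * b * (x * y)⁻¹ * b⁻¹ = (y * b * y⁻¹ * b⁻¹) * (x * b * x⁻¹ * b⁻¹) := by
    calc (x * y) * b * (x * y)⁻¹ * b⁻¹ = (x * (y * b * y⁻¹ * b⁻¹)) * b * x⁻¹ * b⁻¹ := by group
      _ = _ := by rw [h]; group
  rw [this]
  exact W.mul_mem h2 h1

theorem invc {x b : G} (hx : ∀ w ∈ W, x * w = w * x) (h : x * b * x⁻¹ * b⁻¹ ∈ W) :
    x⁻¹ * b * (x⁻¹)⁻¹ * b⁻¹ ∈ W := by
  have h1 := hx _ (W.inv_mem h)
  have : x⁻¹ * b * (x⁻¹)⁻¹ * b⁻¹ = (x * b * x⁻¹ * b⁻¹)⁻¹ := by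
    calc x⁻¹ * b * (x⁻¹)⁻¹ * b⁻¹ = x⁻¹ * ((x * b * x⁻¹ * b⁻¹)⁻¹ * x) := by group
      _ = _ := by rw [← h1]; group
  rw [this]
  exact W.inv_mem h

theorem swapc {x b : G} (h : x * b * x⁻¹ * b⁻¹ ∈ W) : b * x * b⁻¹ * x⁻¹ ∈ W := by
  have : b * x * b⁻¹ * x⁻¹ = (x * b * x⁻¹ * b⁻¹)⁻¹ := by group
  rw [this]
  exact W.inv_mem h

end comm

namespace RData

variable {t : G} {X W Q : Subgroup G} {A : ι → Subgroup G}

theorem A_R (_ : RData t X W Q A) (i : ι) : A i ≤ Rv W Q A := fun _ ha =>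
  Subgroup.subset_closure (Or.inl ⟨i, ha⟩)

theorem Q_R (_ : RData t X W Q A) : Q ≤ Rv W Q A := fun _ ha =>
  Subgroup.subset_closure (Or.inr (Or.inl ha))

theorem W_R (_ : RData t X W Q A) : W ≤ Rv W Q A := fun _ ha =>
  Subgroup.subset_closure (Or.inr (Or.inr ha))

theorem t_inv (D : RData t X W Q A) : t⁻¹ = t := inv_eq_of_mul_eq_one_left D.tt

theorem t_mul (D : RData t X W Q A) (a b : G) : t * (a * b) * t = (t * a * t) * (t * b * t) := by
  calc t * (a * b) * t = t * a * 1 * b * t := by group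
    _ = _ := by rw [← D.tt]; group

theorem t_invt (D : RData t X W Q A) (a : G) : t * a⁻¹ * t = (t * a * t)⁻¹ := by
  rw [mul_inv_rev, mul_inv_rev, D.t_inv, mul_assoc]

theorem t_t (D : RData t X W Q A) (a : G) : t * (t * a * t) * t = a := by
  calc t * (t * a * t) * t = (t * t) * a * (t * t) := by group
    _ = a := by rw [D.tt]; group

theorem comm_iff (D : RData t X W Q A) {a : G} : t * a = a * t ↔ t * a * t = a := by
  constructor
  · intro h
    rw [h, mul_assoc, D.tt, mul_one]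
  · intro h
    calc t * a = t * a * (t * t) := by rw [D.tt, mul_one]
      _ = (t * a * t) * t := by group
      _ = _ := by rw [h]

/-- `R` centralises `W` -/
theorem R_W (D : RData t X W Q A) {r : G} (hr : r ∈ Rv W Q A) : ∀ w ∈ W, r * w = w * r := by
  refine Subgroup.closure_induction (p := fun x _ => ∀ w ∈ W, x * w = w * x) ?_ ?_ ?_ ?_ hr
  · rintro x (⟨i, hx⟩ | hx | hx) w hw
    · exact D.A_W i x hx w hw
    · exact (D.W_Q w hw x hx).symm
    · exact D.W_ab x hx w hw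
  · intro w _
    rw [one_mul, mul_one]
  · intro x y _ _ hx hy w hw
    rw [mul_assoc, hy w hw, ← mul_assoc, hx w hw, mul_assoc]
  · intro x _ hx w hw
    have h := hx w hw
    calc x⁻¹ * w = x⁻¹ * (w * x) * x⁻¹ := by group
      _ = x⁻¹ * (x * w) * x⁻¹ := by rw [h]
      _ = w * x⁻¹ := by group

/-- `[R, Q] ≤ W` -/
theorem R_Q (D : RData t X W Q A) {r : G} (hr : r ∈ Rv W Q A) : ∀ q ∈ Q, q * r * q⁻¹ * r⁻¹ ∈ W := by
  intro q hq
  refine Subgroup.closure_induction (p := fun x _ => q * x * q⁻¹ * x⁻¹ ∈ W) ?_ ?_ ?_ ?_ hr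
  · rintro x (⟨i, hx⟩ | hx | hx)
    · exact D.A_Q i x hx q hq
    · exact D.XW (D.Q_comm q hq x hx)
    · rw [← D.W_Q x hx q hq]
      simp [W.one_mem]
  · simp [W.one_mem]
  · intro x y hx' hy' hx hy
    exact swapc (mulc (D.R_W hx') (swapc hx) (swapc hy))
  · intro x hx' hx
    exact swapc (invc (D.R_W hx') (swapc hx))

theorem t_R (D : RData t X W Q A) {r : G} (hr : r ∈ Rv W Q A) : t * r * t ∈ Rv W Q A := by
  refine Subgroup.closure_induction (p := fun x _ => t * x * t ∈ Rv W Q A) ?_ ?_ ?_ ?_ hr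
  · rintro x (⟨i, hx⟩ | hx | hx)
    · obtain ⟨q, hq, hqA, h⟩ := D.A_brk i x hx
      rw [h]
      exact D.A_R i ((A i).mul_mem hx hqA)
    · rw [D.Qt x hx, mul_assoc, D.tt, mul_one]
      exact D.Q_R hx
    · obtain ⟨y, hy, h⟩ := D.W_brk x hx
      rw [h]
      exact D.W_R (W.mul_mem hx (D.XW hy))
  · rw [mul_one, D.tt]
    exact Subgroup.one_mem _
  · intro x y _ _ hx hy
    rw [D.t_mul]
    exact Subgroup.mul_mem _ hx hy
  · intro x _ hx
    rw [D.t_invt]
    exact Subgroup.inv_mem _ hx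

/-- `t` does not centralise `W` -/
theorem t_W (D : RData t X W Q A) : ∃ w ∈ W, t * w ≠ w * t := by
  obtain ⟨x, hx, hx1⟩ := D.X_ne
  obtain ⟨w, hw, h⟩ := D.W_surj x hx
  refine ⟨w, hw, fun hc => hx1 ?_⟩
  rw [D.comm_iff.mp hc] at h
  exact (mul_eq_left.mp h.symm)

/-- (4.2), general form -/
theorem mem_Q_of (D : RData t X W Q A) {g : G} (hW : ∀ w ∈ W, g * w = w * g)
    (hQ : ∀ q ∈ Q, q * g * q⁻¹ * g⁻¹ ∈ W) (ht : t * g = g * t) : g ∈ Q := by
  have h1 : ∀ q ∈ Q, q * g * q⁻¹ * g⁻¹ ∈ X := by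
    intro q hq
    refine D.W_cent _ (hQ q hq) ?_
    rw [D.comm_iff, D.t_mul, D.t_mul, D.t_mul, D.t_invt, D.t_invt, D.comm_iff.mp ht,
      D.comm_iff.mp (D.Qt q hq)]
  rcases D.k2 g ht.symm h1 with h | h
  · exact h
  · exfalso
    obtain ⟨w, hw, hne⟩ := D.t_W
    apply hne
    have h2 := D.W_Q w hw _ h
    have h3 := hW w hw
    have : t * w * g = w * t * g := by
      calc t * w * g = t * (w * g) := by group
        _ = t * g * w := by rw [← h3]; group
        _ = w * (t * g) := h2.symm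
        _ = w * t * g := by group
    exact mul_right_cancel this

/-- (4.3), general form: an element fixed by `t` modulo `W` -/
theorem fix_of (D : RData t X W Q A) {g c : G} (hW : ∀ w ∈ W, g * w = w * g)
    (hQ : ∀ q ∈ Q, q * g * q⁻¹ * g⁻¹ ∈ W) (hc : c ∈ W) (ht : t * g * t = g * c) :
    ∃ w ∈ W, g * w ∈ Q := by
  have h1 : c * (t * c * t) = 1 := by
    have h := D.t_t g
    rw [ht, D.t_mul, ht, mul_assoc] at h
    exact (mul_eq_left.mp h)
  have h2 : t * c * t = c := by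
    have h3 := D.W_sq c hc
    exact mul_left_cancel (h1.trans h3.symm)
  have hcX : c ∈ X := D.W_cent c hc (D.comm_iff.mpr h2)
  obtain ⟨w, hw, h⟩ := D.W_surj c hcX
  refine ⟨w, hw, D.mem_Q_of ?_ ?_ ?_⟩
  · intro v hv
    rw [mul_assoc, D.W_ab w hw v hv, ← mul_assoc, hW v hv, mul_assoc]
  · intro q hq
    refine swapc (mulc hW (swapc (hQ q hq)) ?_)
    rw [D.W_Q w hw q hq]
    simp [W.one_mem]
  · rw [D.comm_iff, D.t_mul, ht, h]
    calc g * c * (w * c) = g * (c * w) * c := by group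
      _ = g * w * (c * c) := by rw [D.W_ab c hc w hw]; group
      _ = g * w := by rw [D.W_sq c hc, mul_one]

/-- (4.1) for two generators -/
theorem A_A (D : RData t X W Q A) {i j : ι} {a b : G} (ha : a ∈ A i) (hb : b ∈ A j) :
    a * b * a⁻¹ * b⁻¹ ∈ W := by
  obtain ⟨p, hp, hpA, ha'⟩ := D.A_brk i a ha
  obtain ⟨q, hq, hqA, hb'⟩ := D.A_brk j b hb
  -- `p = φ a`, `q = φ b`
  set u := a * b * a⁻¹ * b⁻¹ with hu
  have haW := D.A_W i a ha
  have hbW := D.A_W j b hb
  have huW : ∀ w ∈ W, u * w = w * u := fun w hw => by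
    have h1 : a ∈ Subgroup.centralizer (W : Set G) := Subgroup.mem_centralizer_iff.mpr
      fun w hw => (haW w hw).symm
    have h2 : b ∈ Subgroup.centralizer (W : Set G) := Subgroup.mem_centralizer_iff.mpr
      fun w hw => (hbW w hw).symm
    have h3 : u ∈ Subgroup.centralizer (W : Set G) :=
      Subgroup.mul_mem _ (Subgroup.mul_mem _ (Subgroup.mul_mem _ h1 h2) (Subgroup.inv_mem _ h1))
        (Subgroup.inv_mem _ h2)
    exact (Subgroup.mem_centralizer_iff.mp h3 w hw).symm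
  -- `u` commutes with `Q`
  have huQ : ∀ s ∈ Q, s * u * s⁻¹ = u := by
    intro s hs
    obtain ⟨w1, hw1, e1⟩ : ∃ w ∈ W, s * a * s⁻¹ = w * a := ⟨_, D.A_Q i a ha s hs, by group⟩
    obtain ⟨w2, hw2, e2⟩ : ∃ w ∈ W, s * b * s⁻¹ = w * b := ⟨_, D.A_Q j b hb s hs, by group⟩
    have e3 : s * u * s⁻¹ = (s * a * s⁻¹) * (s * b * s⁻¹) * (s * a * s⁻¹)⁻¹ * (s * b * s⁻¹)⁻¹ := by
      rw [hu]; group
    rw [e3, e1, e2]
    have k1 := haW w2 hw2
    have k2 := huW w2 hw2
    have k3 := D.W_ab w1 hw1 w2 hw2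
    have k4 := hbW w1 hw1
    have k5 := haW w1 hw1
    calc w1 * a * (w2 * b) * (w1 * a)⁻¹ * (w2 * b)⁻¹
        = w1 * (a * w2) * b * a⁻¹ * w1⁻¹ * b⁻¹ * w2⁻¹ := by group
      _ = w1 * w2 * a * b * a⁻¹ * w1⁻¹ * b⁻¹ * w2⁻¹ := by rw [k1]; group
      _ = w1 * w2 * a * b * a⁻¹ * (b⁻¹ * w1⁻¹) * w2⁻¹ := by
          have : b⁻¹ * w1⁻¹ = w1⁻¹ * b⁻¹ := by rw [← mul_inv_rev, ← mul_inv_rev, k4]
          rw [this]; group
      _ = w1 * (w2 * u) * w1⁻¹ * w2⁻¹ := by rw [hu]; group
      _ = w1 * u * (w2 * w1⁻¹ * w2⁻¹) := by rw [← k2]; group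
      _ = w1 * u * (w1⁻¹) := by
          have : w2 * w1⁻¹ = w1⁻¹ * w2 := D.W_ab w2 hw2 _ (W.inv_mem hw1)
          rw [this]; group
      _ = u := by rw [← huW w1 hw1]; group
  -- `x = [a, q]`, `y = [p, b]`, `β = [p, q]`
  obtain ⟨x, hx, ex⟩ : ∃ x ∈ W, a * q = x * q * a :=
    ⟨a * q * a⁻¹ * q⁻¹, swapc (D.A_Q i a ha q hq), by group⟩
  obtain ⟨y, hy, ey⟩ : ∃ y ∈ W, p * b = y * b * p := ⟨p * b * p⁻¹ * b⁻¹, D.A_Q j b hb p hp, by group⟩
  obtain ⟨β, hβ, eβ⟩ : ∃ β ∈ X, p * q = β * q * p := ⟨p * q * p⁻¹ * q⁻¹, D.Q_comm p hp q hq, by group⟩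
  have hβW := D.XW hβ
  have hap := D.A_ab i a ha p hpA
  have hbq := D.A_ab j b hb q hqA
  have hpW : ∀ w ∈ W, p * w = w * p := fun w hw => (D.W_Q w hw p hp).symm
  have hqW : ∀ w ∈ W, q * w = w * q := fun w hw => (D.W_Q w hw q hq).symm
  have hpt := D.comm_iff.mp (D.Qt p hp)
  have hqt := D.comm_iff.mp (D.Qt q hq)
  have hβt : t * β * t = β := D.comm_iff.mp (D.Qt β (D.XQ hβ))
  -- `t u t = u x y β`
  have hut : t * u * t = u * (x * y * β) := by
    have e1 : t * u * t = (a * p) * (b * q) * (a * p)⁻¹ * (b * q)⁻¹ := by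
      rw [hu, D.t_mul, D.t_mul, D.t_mul, D.t_invt, D.t_invt, ha', hb']
    -- `a p b q = x y β u b q a p`
    have e2 : (a * p) * (b * q) = (u * (x * y * β)) * ((b * q) * (a * p)) := by
      have huab : a * b = u * b * a := by rw [hu]; group
      calc (a * p) * (b * q) = a * (p * b) * q := by group
        _ = a * y * b * (p * q) := by rw [ey]; group
        _ = y * a * b * β * q * p := by rw [eβ, haW y hy]; group
        _ = y * (u * b * a) * β * q * p := by rw [← huab]; group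
        _ = y * u * b * (β * a) * q * p := by rw [← haW β hβW]; group
        _ = y * u * (b * β) * (a * q) * p := by group
        _ = y * u * β * b * x * q * a * p := by rw [hbW β hβW, ex]; group
        _ = y * u * β * (x * b) * q * a * p := by rw [← hbW x hx]; group
        _ = (u * y) * β * x * b * q * a * p := by rw [huW y hy]; group
        _ = u * (y * β * x) * (b * q) * (a * p) := by group
        _ = u * (x * y * β) * (b * q) * (a * p) := by
            have h1 : y * β * x = x * y * β := by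
              calc y * β * x = y * (β * x) := by group
                _ = y * x * β := by rw [D.W_ab β hβW x hx]; group
                _ = _ := by rw [D.W_ab y hy x hx]
            rw [h1]
        _ = _ := by group
    rw [e1]
    calc (a * p) * (b * q) * (a * p)⁻¹ * (b * q)⁻¹
        = ((u * (x * y * β)) * ((b * q) * (a * p))) * (a * p)⁻¹ * (b * q)⁻¹ := by rw [e2]
      _ = _ := by group
  -- `φ x = φ y = β`
  have hxt : t * x * t = x * β := by
    have e1 : (a * p) * q = (t * x * t) * q * (a * p) := by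
      have h := congrArg (fun z => t * z * t) ex
      simp only [D.t_mul, ha', hqt] at h
      exact h
    have e2 : (a * p) * q = (x * β) * q * (a * p) := by
      calc (a * p) * q = a * (p * q) := by group
        _ = (a * β) * q * p := by rw [eβ]; group
        _ = β * (a * q) * p := by rw [haW β hβW]; group
        _ = (β * x) * q * (a * p) := by rw [ex]; group
        _ = _ := by rw [D.W_ab β hβW x hx]
    have e3 := e1.symm.trans e2
    exact mul_right_cancel (mul_right_cancel e3)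
  have hyt : t * y * t = y * β := by
    have e1 : p * (b * q) = (t * y * t) * (b * q) * p := by
      have h := congrArg (fun z => t * z * t) ey
      simp only [D.t_mul, hb', hpt] at h
      exact h
    have e2 : p * (b * q) = (y * β) * (b * q) * p := by
      calc p * (b * q) = (p * b) * q := by group
        _ = y * b * (p * q) := by rw [ey]; group
        _ = y * (b * β) * q * p := by rw [eβ]; group
        _ = _ := by rw [hbW β hβW]; group
    have e3 := e1.symm.trans e2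
    exact mul_right_cancel (mul_right_cancel e3)
  have hβsq := D.W_sq β hβW
  set b' := x * y * β with hb'def
  have hbW' : b' ∈ W := W.mul_mem (W.mul_mem hx hy) hβW
  have hbt : t * b' * t = b' := by
    rw [hb'def, D.t_mul, D.t_mul, hxt, hyt, hβt]
    calc x * β * (y * β) * β = x * (β * y) * (β * β) := by group
      _ = x * y * β := by rw [D.W_ab β hβW y hy, hβsq]; group
  have hbX : b' ∈ X := D.W_cent _ hbW' (D.comm_iff.mpr hbt)
  obtain ⟨w, hw, ew⟩ := D.W_surj _ hbX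
  -- `g = u w` commutes with `t`, `Q`, `W`
  have hg : u * w ∈ Q := by
    refine D.mem_Q_of ?_ ?_ ?_
    · intro v hv
      rw [mul_assoc, D.W_ab w hw v hv, ← mul_assoc, huW v hv, mul_assoc]
    · intro s hs
      have : s * (u * w) * s⁻¹ * (u * w)⁻¹ = 1 := by
        have h1 := huQ s hs
        have h2 := D.W_Q w hw s hs
        calc s * (u * w) * s⁻¹ * (u * w)⁻¹ = s * u * s⁻¹ * (s * w) * s⁻¹ * w⁻¹ * u⁻¹ := by group
          _ = u * (s * w) * s⁻¹ * w⁻¹ * u⁻¹ := by rw [h1]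
          _ = 1 := by rw [← h2]; group
      rw [this]
      exact W.one_mem
    · rw [D.comm_iff, D.t_mul, hut, ew]
      calc u * b' * (w * b') = u * (b' * w) * b' := by group
        _ = u * w * (b' * b') := by rw [D.W_ab b' hbW' w hw]; group
        _ = _ := by rw [D.W_sq b' hbW', mul_one]
  have hgX : u * w ∈ X := D.Q_cen _ hg fun s hs => by
    have h1 := huQ s hs
    have h2 := D.W_Q w hw s hs
    have h3 : s * u = u * s := by
      calc s * u = (s * u * s⁻¹) * s := by group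
        _ = _ := by rw [h1]
    rw [mul_assoc, h2, ← mul_assoc, ← h3, mul_assoc]
  have : u = (u * w) * w⁻¹ := by group
  rw [this]
  exact W.mul_mem (D.XW hgX) (W.inv_mem hw)

/-- (4.1) `[R, R] ≤ W` -/
theorem R_R (D : RData t X W Q A) {r s : G} (hr : r ∈ Rv W Q A) (hs : s ∈ Rv W Q A) :
    r * s * r⁻¹ * s⁻¹ ∈ W := by
  have h1 : ∀ x ∈ ({a | ∃ i, a ∈ A i} ∪ ((Q : Set G) ∪ (W : Set G))), ∀ s ∈ Rv W Q A,
      x * s * x⁻¹ * s⁻¹ ∈ W := by
    intro x hx s hs
    rcases hx with ⟨i, hx⟩ | hx | hx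
    · refine Subgroup.closure_induction (p := fun s _ => x * s * x⁻¹ * s⁻¹ ∈ W) ?_ ?_ ?_ ?_ hs
      · rintro y (⟨j, hy⟩ | hy | hy)
        · exact D.A_A hx hy
        · exact swapc (D.A_Q i x hx y hy)
        · rw [D.A_W i x hx y hy]
          simp [W.one_mem]
      · simp [W.one_mem]
      · intro y z hy' _ hy hz
        exact swapc (mulc (D.R_W hy') (swapc hy) (swapc hz))
      · intro y hy' hy
        exact swapc (invc (D.R_W hy') (swapc hy))
    · exact D.R_Q hs x hx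
    · rw [← D.R_W hs x hx]
      simp [W.one_mem]
  refine Subgroup.closure_induction (p := fun r _ => r * s * r⁻¹ * s⁻¹ ∈ W) ?_ ?_ ?_ ?_ hr
  · intro x hx
    exact h1 x hx s hs
  · simp [W.one_mem]
  · intro x y hx' _ hx hy
    exact mulc (D.R_W hx') hx hy
  · intro x hx' hx
    exact invc (D.R_W hx') hx

/-- `R / W` has exponent `2` -/
theorem R_sq (D : RData t X W Q A) {r : G} (hr : r ∈ Rv W Q A) : r * r ∈ W := by
  refine Subgroup.closure_induction (p := fun x _ => x * x ∈ W) ?_ ?_ ?_ ?_ hr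
  · rintro x (⟨i, hx⟩ | hx | hx)
    · exact D.A_sq i x hx
    · exact D.XW (D.Q_sq x hx)
    · rw [D.W_sq x hx]
      exact W.one_mem
  · rw [one_mul]
    exact W.one_mem
  · intro x y hx' hy' hx hy
    have h1 := D.R_R (Subgroup.inv_mem _ hx') hy'
    have h2 := D.R_W hx' _ h1
    have : x * y * (x * y) = (x * x) * (x⁻¹ * y * (x⁻¹)⁻¹ * y⁻¹) * (y * y) := by group
    rw [this]
    exact W.mul_mem (W.mul_mem hx h1) hy
  · intro x _ hx
    have : x⁻¹ * x⁻¹ = (x * x)⁻¹ := by group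
    rw [this]
    exact W.inv_mem hx

/-- (4.2) `C_R(t) = Q` -/
theorem cent_R (D : RData t X W Q A) {r : G} (hr : r ∈ Rv W Q A) (ht : t * r = r * t) : r ∈ Q :=
  D.mem_Q_of (D.R_W hr) (D.R_Q hr) ht

theorem Q_W (D : RData t X W Q A) {a : G} (h1 : a ∈ Q) (h2 : a ∈ W) : a ∈ X :=
  D.W_cent a h2 (D.Qt a h1)

/-- (4.3) `C_{R/W}(t) = QW/W` -/
theorem fix_R (D : RData t X W Q A) {r c : G} (hr : r ∈ Rv W Q A) (hc : c ∈ W)
    (ht : t * r * t = r * c) : ∃ w ∈ W, r * w ∈ Q :=
  D.fix_of (D.R_W hr) (D.R_Q hr) hc ht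

/-- `[R, t] ≤ QW` -/
theorem brk_R (D : RData t X W Q A) {r : G} (hr : r ∈ Rv W Q A) :
    ∃ q ∈ Q, ∃ w ∈ W, t * r * t = r * (q * w) := by
  -- `c = r⁻¹ (t r t)`: `t r t = r c`, `c (t c t) = 1`, so `c` is inverted by `t`
  have hc' : t * r * t = r * (r⁻¹ * (t * r * t)) := by group
  set c := r⁻¹ * (t * r * t) with hc
  have hcR : c ∈ Rv W Q A := Subgroup.mul_mem _ (Subgroup.inv_mem _ hr) (D.t_R hr)
  have h1 : c * (t * c * t) = 1 := by
    have h := D.t_t r
    rw [hc', D.t_mul, hc', mul_assoc] at h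
    exact (mul_eq_left.mp h)
  have h2 : t * c * t = c * (c * c)⁻¹ := by
    have : t * c * t = c⁻¹ := (inv_eq_of_mul_eq_one_right h1).symm
    rw [this]
    group
  obtain ⟨w, hw, hq⟩ := D.fix_R hcR (W.inv_mem (D.R_sq hcR)) h2
  exact ⟨c * w, hq, w⁻¹, W.inv_mem hw, by rw [hc']; group⟩

/-- `Q ≤ [R, t] W` -/
theorem surj_R (D : RData t X W Q A) {q : G} (hq : q ∈ Q) :
    ∃ r ∈ Rv W Q A, ∃ w ∈ W, t * r * t = r * (q * w) := by
  suffices H : ∀ q ∈ Subgroup.closure ((X : Set G) ∪ {q | ∃ i, ∃ a ∈ A i, t * a * t = a * q}),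
      ∃ r ∈ Rv W Q A, ∃ w ∈ W, t * r * t = r * (q * w) from H q (D.Q_gen hq)
  intro q hq
  have hsub : Subgroup.closure ((X : Set G) ∪ {q | ∃ i, ∃ a ∈ A i, t * a * t = a * q}) ≤
      Rv W Q A := by
    rw [Subgroup.closure_le]
    rintro x (hx | ⟨i, a, ha, h⟩)
    · exact D.W_R (D.XW hx)
    · have : x = a⁻¹ * (t * a * t) := by rw [h]; group
      rw [this]
      exact Subgroup.mul_mem _ (Subgroup.inv_mem _ (D.A_R i ha)) (D.t_R (D.A_R i ha))
  refine Subgroup.closure_induction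
    (p := fun q _ => ∃ r ∈ Rv W Q A, ∃ w ∈ W, t * r * t = r * (q * w)) ?_ ?_ ?_ ?_ hq
  · rintro x (hx | ⟨i, a, ha, h⟩)
    · obtain ⟨w, hw, h⟩ := D.W_surj x hx
      exact ⟨w, D.W_R hw, 1, W.one_mem, by rw [h, mul_one]⟩
    · exact ⟨a, D.A_R i ha, 1, W.one_mem, by rw [h, mul_one]⟩
  · exact ⟨1, Subgroup.one_mem _, 1, W.one_mem, by rw [mul_one, D.tt]; group⟩
  · rintro x y hx' hy' ⟨r, hr, w, hw, h1⟩ ⟨s, hs, v, hv, h2⟩
    have hxR := hsub hx'
    have hyR := hsub hy'
    have hc : x * w ∈ Rv W Q A := Subgroup.mul_mem _ hxR (D.W_R hw)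
    have h3 := D.R_R (Subgroup.inv_mem _ hs) hc
    refine ⟨r * s, Subgroup.mul_mem _ hr hs, _,
      W.mul_mem (W.mul_mem h3 hw) hv, ?_⟩
    rw [D.t_mul, h1, h2]
    have k1 := D.R_W hyR w hw
    have k2 := D.R_W (Subgroup.mul_mem _ hxR hyR) _ h3
    calc r * (x * w) * (s * (y * v))
        = r * s * ((s⁻¹ * (x * w) * (s⁻¹)⁻¹ * (x * w)⁻¹) * x) * (w * y) * v := by group
      _ = r * s * ((s⁻¹ * (x * w) * (s⁻¹)⁻¹ * (x * w)⁻¹) * x) * (y * w) * v := by rw [k1]
      _ = r * s * ((s⁻¹ * (x * w) * (s⁻¹)⁻¹ * (x * w)⁻¹) * (x * y)) * w * v := by group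
      _ = r * s * ((x * y) * (s⁻¹ * (x * w) * (s⁻¹)⁻¹ * (x * w)⁻¹)) * w * v := by rw [k2]
      _ = _ := by group
  · rintro x hx' ⟨r, hr, w, hw, h1⟩
    have hxR := hsub hx'
    have hc : (x * w)⁻¹ ∈ Rv W Q A := Subgroup.inv_mem _ (Subgroup.mul_mem _ hxR (D.W_R hw))
    have h3 := D.R_R hr hc
    refine ⟨r⁻¹, Subgroup.inv_mem _ hr, _, W.mul_mem h3 (W.inv_mem hw), ?_⟩
    rw [D.t_invt, h1]
    have k1 := D.R_W hxR _ (W.inv_mem hw)
    have k2 := D.R_W (Subgroup.inv_mem _ hxR) _ h3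
    have k3 := D.R_W (Subgroup.inv_mem _ hxR) _ (W.inv_mem hw)
    calc (r * (x * w))⁻¹ = r⁻¹ * ((r * (x * w)⁻¹ * r⁻¹ * ((x * w)⁻¹)⁻¹) * (w⁻¹ * x⁻¹)) := by group
      _ = r⁻¹ * ((r * (x * w)⁻¹ * r⁻¹ * ((x * w)⁻¹)⁻¹) * (x⁻¹ * w⁻¹)) := by rw [k3]
      _ = r⁻¹ * (((r * (x * w)⁻¹ * r⁻¹ * ((x * w)⁻¹)⁻¹) * x⁻¹) * w⁻¹) := by group
      _ = r⁻¹ * ((x⁻¹ * (r * (x * w)⁻¹ * r⁻¹ * ((x * w)⁻¹)⁻¹)) * w⁻¹) := by rw [k2]
      _ = _ := by group

/-- (4.3) `C_{B/W}(t) ≤ [B/W, t]`, for `B = R` -/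
theorem lift_R (D : RData t X W Q A) {r c : G} (hr : r ∈ Rv W Q A) (hc : c ∈ W)
    (ht : t * r * t = r * c) : ∃ s ∈ Rv W Q A, ∃ w ∈ W, t * s * t = s * (r * w) := by
  obtain ⟨w, hw, hq⟩ := D.fix_R hr hc ht
  obtain ⟨s, hs, v, hv, h⟩ := D.surj_R hq
  exact ⟨s, hs, w * v, W.mul_mem hw hv, by rw [h, mul_assoc r w v]⟩

/-- (4.4): `y ∈ B` inverted by `t` is `[y₂, t]` with `y₂ ∈ B`, for `W ≤ B ≤ R` with `C_{B/W}(t) ≤ [B/W, t]` -/
theorem inv_of (D : RData t X W Q A) {B : Subgroup G} (hWB : W ≤ B) (hB : B ≤ Rv W Q A)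
    (hl : ∀ b ∈ B, ∀ c ∈ W, t * b * t = b * c → ∃ s ∈ B, ∃ w ∈ W, t * s * t = s * (b * w))
    {y : G} (hy : y ∈ B) (ht : t * y * t = y⁻¹) : ∃ z ∈ B, t * z * t = z * y := by
  have hyR := hB hy
  obtain ⟨s, hs, w, hw, h⟩ := hl y hy (y * y)⁻¹ (W.inv_mem (D.R_sq hyR)) (by rw [ht]; group)
  have k1 := D.R_W hyR w hw
  have h1 : w * (t * w * t) = 1 := by
    have h2 := D.t_t s
    rw [h, D.t_mul, h, D.t_mul, ht, mul_assoc] at h2
    have h3 := mul_eq_left.mp h2
    rw [k1] at h3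
    calc w * (t * w * t) = w * y * (y⁻¹ * (t * w * t)) := by group
      _ = 1 := h3
  have h2 : t * w * t = w := mul_left_cancel (h1.trans (D.W_sq w hw).symm)
  obtain ⟨v, hv, h3⟩ := D.W_surj w (D.W_cent w hw (D.comm_iff.mpr h2))
  refine ⟨s * v, B.mul_mem hs (hWB hv), ?_⟩
  rw [D.t_mul, h, h3]
  have k2 := D.R_W hyR v hv
  have k3 := D.R_W (D.W_R hv) w hw
  calc s * (y * w) * (v * w) = s * y * (w * v) * w := by group
    _ = s * (y * v) * (w * w) := by rw [← k3]; group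
    _ = s * v * y := by rw [D.W_sq w hw, k2]; group

/-- every involution of `tB` is conjugate to `t` under `B` -/
theorem conj_of (D : RData t X W Q A) {B : Subgroup G} (hWB : W ≤ B) (hB : B ≤ Rv W Q A)
    (htB : ∀ b ∈ B, t * b * t ∈ B)
    (hl : ∀ b ∈ B, ∀ c ∈ W, t * b * t = b * c → ∃ s ∈ B, ∃ w ∈ W, t * s * t = s * (b * w))
    {y : G} (hy : y ∈ B) (h2 : (t * y) * (t * y) = 1) : ∃ z ∈ B, t * y = z * t * z⁻¹ := by
  have h1 : t * y * t = y⁻¹ := by
    rw [eq_inv_iff_mul_eq_one, mul_assoc (t * y)]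
    exact h2
  obtain ⟨z, hz, h⟩ := D.inv_of hWB hB hl hy h1
  refine ⟨t * z⁻¹ * t, htB _ (B.inv_mem hz), ?_⟩
  have h3 : t * y = t * (z⁻¹ * (t * z * t)) := by rw [h]; group
  rw [h3]
  have h4 : (t * z⁻¹ * t)⁻¹ = t * z * t := by rw [D.t_invt, inv_inv]
  rw [h4]
  calc t * (z⁻¹ * (t * z * t)) = t * z⁻¹ * t * z * t := by group
    _ = t * z⁻¹ * t * 1 * z * t := by group
    _ = _ := by rw [← D.tt]; group

theorem conj_R (D : RData t X W Q A) {y : G} (hy : y ∈ Rv W Q A) (h2 : (t * y) * (t * y) = 1) :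
    ∃ z ∈ Rv W Q A, t * y = z * t * z⁻¹ :=
  D.conj_of D.W_R le_rfl (fun _ hb => D.t_R hb) (fun _ hb _ hc h => D.lift_R hb hc h) hy h2

/-- characterisation of `R` -/
theorem mem_iff (D : RData t X W Q A) {g : G} : g ∈ Rv W Q A ↔
    (∀ w ∈ W, g * w = w * g) ∧ (∀ q ∈ Q, q * g * q⁻¹ * g⁻¹ ∈ W) ∧
      ∃ q ∈ Q, ∃ w ∈ W, t * g * t = g * (q * w) := by
  constructor
  · intro h
    exact ⟨D.R_W h, D.R_Q h, D.brk_R h⟩
  · rintro ⟨hW, hQ, q, hq, w, hw, h⟩
    obtain ⟨r, hr, v, hv, h'⟩ := D.surj_R hq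
    -- `k = g r⁻¹`
    have hrW := D.R_W hr
    have hri := Subgroup.inv_mem _ hr
    have hriW := D.R_W hri
    have h1 : t * (g * r⁻¹) * t = (g * r⁻¹) * (w * v⁻¹) := by
      rw [D.t_mul, D.t_invt, h, h']
      have k1 : w * v⁻¹ * q⁻¹ = q⁻¹ * (w * v⁻¹) :=
        D.W_Q _ (W.mul_mem hw (W.inv_mem hv)) _ (Q.inv_mem hq)
      have k2 := hriW _ (W.mul_mem hw (W.inv_mem hv))
      calc g * (q * w) * (r * (q * v))⁻¹ = g * q * (w * v⁻¹ * q⁻¹) * r⁻¹ := by group
        _ = g * ((w * v⁻¹) * r⁻¹) := by rw [k1]; group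
        _ = _ := by rw [← k2]; group
    have hkW : ∀ x ∈ W, g * r⁻¹ * x = x * (g * r⁻¹) := by
      intro x hx
      rw [mul_assoc, hriW x hx, ← mul_assoc, hW x hx, mul_assoc]
    have hkQ : ∀ s ∈ Q, s * (g * r⁻¹) * s⁻¹ * (g * r⁻¹)⁻¹ ∈ W := fun s hs =>
      swapc (mulc hW (swapc (hQ s hs)) (swapc (D.R_Q hri s hs)))
    obtain ⟨u, hu, h2⟩ := D.fix_of hkW hkQ (W.mul_mem hw (W.inv_mem hv)) h1
    have e : g = (g * r⁻¹ * u) * u⁻¹ * r := by group
    have h5 : (g * r⁻¹ * u) * u⁻¹ * r ∈ Rv W Q A :=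
      Subgroup.mul_mem _ (Subgroup.mul_mem _ (D.Q_R h2) (D.W_R (W.inv_mem hu))) hr
    rwa [← e] at h5

/-- an element of `C(t)` taking `(W, Q)` to `(W', Q')` takes `R` into `R'` -/
theorem conj_mem {κ : Type*} (D : RData t X W Q A) {X' W' Q' : Subgroup G} {A' : κ → Subgroup G}
    (D' : RData t X' W' Q' A') {k : G} (hk : t * k = k * t)
    (hW : ∀ w ∈ W', k⁻¹ * w * k ∈ W) (hW' : ∀ w ∈ W, k * w * k⁻¹ ∈ W')
    (hQ : ∀ q ∈ Q', k⁻¹ * q * k ∈ Q) (hQ' : ∀ q ∈ Q, k * q * k⁻¹ ∈ Q')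
    {r : G} (hr : r ∈ Rv W Q A) : k * r * k⁻¹ ∈ Rv W' Q' A' := by
  obtain ⟨h1, h2, q, hq, w, hw, h3⟩ := D.mem_iff.mp hr
  refine D'.mem_iff.mpr ⟨fun v hv => ?_, fun s hs => ?_, k * q * k⁻¹, hQ' q hq, k * w * k⁻¹,
    hW' w hw, ?_⟩
  · have h := h1 _ (hW v hv)
    calc k * r * k⁻¹ * v = k * (r * (k⁻¹ * v * k)) * k⁻¹ := by group
      _ = _ := by rw [h]; group
  · have h := hW' _ (h2 _ (hQ s hs))
    have e : k * (k⁻¹ * s * k * r * (k⁻¹ * s * k)⁻¹ * r⁻¹) * k⁻¹ =
      s * (k * r * k⁻¹) * s⁻¹ * (k * r * k⁻¹)⁻¹ := by group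
    rwa [e] at h
  · have hkt := D.comm_iff.mp hk
    rw [D.t_mul, D.t_mul, D.t_invt, hkt, h3]
    group

end RData

end Cfsg.Agent.OddHalf.D7.Uni.Quad
end

private theorem dce_20061073b9fb : _root_.True := by
  try have : _root_.True := by simp only [_root_.Cfsg.Agent.OddHalf.D7.Uni.Face.Mm.eq_1]
  try have : _root_.True := by simp only [_root_.Cfsg.Agent.OddHalf.D7.Uni.Face.Mm.congr_simp]
  try have : _root_.True := by simp only [_root_.Cfsg.Agent.OddHalf.D7.Uni.Quad.Evl.eq_1]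
  try have : _root_.True := by simp only [_root_.Cfsg.Agent.OddHalf.D7.Uni.Face.Np.eq_1]
  try have : _root_.True := by simp only [_root_.Cfsg.Agent.OddHalf.D7.Uni.Quad.Rv.eq_1]
  try have : _root_.True := by simp only [_root_.Cfsg.Agent.OddHalf.D7.Uni.Face.Np.congr_simp]
  exact _root_.True.intro
end

-- part: OddHalf/D7/Uni/FaceComm
section
prune_inst 0x400103424402200000000001020001c42820000920048800000a0014204c80c4204020021882004101000000400340040008800004000000000000000011c01800000000000400000000080000000000000000000000000000000000000000000000000000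
set_option linter.all false
open scoped Cfsg.Agent.FastGrp

-- merged: Cfsg.Agent.OddHalf.D7.Uni.Line
section

/-!
# One totally isotropic line (helper54, text: bb ODD 9100 (3))

* `Comm`: `[W p, W r] = 1` or (only for `q = 2`) the commutator is `np 1 * nr 1`.
-/

set_option autoImplicit false
set_option linter.unusedSectionVars false

namespace Cfsg.Agent.OddHalf.D7.Uni.Line

open Cfsg.Agent.OddHalf.D7.Uni.Defs

variable {G : Type*} [Group G] {F : Type*} [Field F] {σ : F →+* F} {t : G} {np nr m g : F → G}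

section coord

variable (C : Coord σ t np nr m g)

include C

theorem eq_of_add {x y : F} (h : x + y = 0) : x = y := by
  have := C.two y
  have h2 : x + y = y + y := by rw [h, this]
  exact add_right_cancel h2

theorem np_zero : np 0 = 1 := by
  have := C.np_add 0 0 (map_zero _) (map_zero _)
  simpa using this

theorem nr_zero : nr 0 = 1 := by
  have := C.nr_add 0 0 (map_zero _) (map_zero _)
  simpa using this

theorem m_zero : m 0 = 1 := by
  have := C.m_add 0 0
  simpa using this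

theorem g_zero : g 0 = 1 := by
  have := C.g_add 0 0
  simpa using this

theorem np_sq {x : F} (hx : σ x = x) : np x * np x = 1 := by
  rw [← C.np_add x x hx hx, C.two, np_zero C]

theorem nr_sq {x : F} (hx : σ x = x) : nr x * nr x = 1 := by
  rw [← C.nr_add x x hx hx, C.two, nr_zero C]

theorem m_sq (x : F) : m x * m x = 1 := by
  rw [← C.m_add x x, C.two, m_zero C]

theorem g_sq (x : F) : g x * g x = 1 := by
  rw [← C.g_add x x, C.two, g_zero C]

theorem g_inv (x : F) : (g x)⁻¹ = g x := inv_eq_of_mul_eq_one_left (g_sq C x)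

theorem fix_add {x y : F} (hx : σ x = x) (hy : σ y = y) : σ (x + y) = x + y := by
  rw [map_add, hx, hy]

theorem fix_tr (x y : F) : σ (x * σ y + σ x * y) = x * σ y + σ x * y := by
  rw [map_add, map_mul, map_mul, C.σσ, C.σσ, add_comm]

theorem fix_norm {y : F} (l : F) (hy : σ y = y) : σ (l * σ l * y) = l * σ l * y := by
  rw [map_mul, map_mul, C.σσ, hy, mul_comm (σ l) l]

theorem A_mul {x y x' y' : F} (μ μ' : F) (hx : σ x = x) (hy : σ y = y) (hx' : σ x' = x') (hy' : σ y' = y') :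
    np x * m μ * nr y * (np x' * m μ' * nr y') = np (x + x') * m (μ + μ') * nr (y + y') := by
  rw [C.np_add _ _ hx hx', C.nr_add _ _ hy hy', C.m_add]
  have e1 : nr y * np x' = np x' * nr y := (C.np_nr x' y hx' hy).symm
  have e2 : nr y * m μ' = m μ' * nr y := (C.m_nr μ' y hy).symm
  have e3 : m μ * np x' = np x' * m μ := (C.np_m x' μ hx').symm
  calc np x * m μ * nr y * (np x' * m μ' * nr y') = np x * m μ * (nr y * np x') * m μ' * nr y' := by
        simp only [mul_assoc]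
    _ = np x * (m μ * np x') * (nr y * m μ') * nr y' := by rw [e1]; simp only [mul_assoc]
    _ = _ := by rw [e2, e3]; simp only [mul_assoc]

theorem A_inj {x y x' y' μ μ' : F} (hx : σ x = x) (hy : σ y = y) (hx' : σ x' = x') (hy' : σ y' = y')
    (h : np x * m μ * nr y = np x' * m μ' * nr y') : x = x' ∧ μ = μ' ∧ y = y' := by
  have h1 : np x * m μ * nr y * (np x' * m μ' * nr y') = 1 := by
    rw [h, A_mul C μ' μ' hx' hy' hx' hy', C.two, C.two, C.two, np_zero C, m_zero C, nr_zero C]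
    simp
  rw [A_mul C μ μ' hx hy hx' hy'] at h1
  obtain ⟨e1, e2, e3⟩ := C.inj _ _ _ (fix_add C hx hx') (fix_add C hy hy') h1
  exact ⟨eq_of_add C e1, eq_of_add C e2, eq_of_add C e3⟩

theorem A_comm {x y x' y' : F} (μ μ' : F) (hx : σ x = x) (hy : σ y = y) (hx' : σ x' = x') (hy' : σ y' = y') :
    np x * m μ * nr y * (np x' * m μ' * nr y') = np x' * m μ' * nr y' * (np x * m μ * nr y) := by
  rw [A_mul C μ μ' hx hy hx' hy', A_mul C μ' μ hx' hy' hx hy, add_comm x, add_comm μ, add_comm y]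

theorem A_sq {x y : F} (μ : F) (hx : σ x = x) (hy : σ y = y) :
    np x * m μ * nr y * (np x * m μ * nr y) = 1 := by
  rw [A_mul C μ μ hx hy hx hy, C.two, C.two, C.two, np_zero C, m_zero C, nr_zero C]
  simp

theorem A_inv {x y : F} (μ : F) (hx : σ x = x) (hy : σ y = y) :
    (np x * m μ * nr y)⁻¹ = np x * m μ * nr y := inv_eq_of_mul_eq_one_left (A_sq C μ hx hy)

theorem g_A {x y : F} (l μ : F) (hx : σ x = x) (hy : σ y = y) :
    g l * (np x * m μ * nr y) * (g l)⁻¹ =
      np (x + (l * σ μ + σ l * μ) + l * σ l * y) * m (μ + l * y) * nr y := by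
  have e : g l * (np x * m μ * nr y) * (g l)⁻¹ =
      (g l * np x * (g l)⁻¹) * (g l * m μ * (g l)⁻¹) * (g l * nr y * (g l)⁻¹) := by group
  rw [e, C.g_np l x hx, C.g_m, C.g_nr l y hy]
  have h1 := A_mul C μ (l * y) hx (map_zero σ) (fix_norm C l hy) hy
  have h2 := A_mul C 0 (μ + l * y) (fix_tr C l μ) (map_zero σ) (fix_add C hx (fix_norm C l hy)) (hy)
  rw [nr_zero C, mul_one, zero_add] at h1
  rw [m_zero C, nr_zero C, mul_one, mul_one, zero_add, zero_add] at h2
  have h3 : np x * (m μ * np (l * σ μ + σ l * μ)) * (nr y * m (l * y) * np (l * σ l * y)) =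
      np (l * σ μ + σ l * μ) * (np x * m μ * (np (l * σ l * y) * m (l * y) * nr y)) := by
    have e1 : m μ * np (l * σ μ + σ l * μ) = np (l * σ μ + σ l * μ) * m μ := (C.np_m _ _ (fix_tr C l μ)).symm
    have e2 : np x * np (l * σ μ + σ l * μ) = np (l * σ μ + σ l * μ) * np x := by
      rw [← C.np_add _ _ hx (fix_tr C l μ), add_comm, C.np_add _ _ (fix_tr C l μ) hx]
    have e3 : nr y * m (l * y) * np (l * σ l * y) = np (l * σ l * y) * m (l * y) * nr y := by
      rw [← C.m_nr _ _ hy, mul_assoc, ← C.np_nr _ _ (fix_norm C l hy) hy, ← mul_assoc, ← C.np_m _ _ (fix_norm C l hy)]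
    rw [e3, e1, ← mul_assoc (np x), e2]
    simp only [mul_assoc]
  rw [h3, h1, h2]
  congr 3
  ring

end coord

section line

variable {OE Wp Wr : Subgroup G} (L : Line σ t OE Wp Wr np nr m g)

include L

/-- `A_E` centralises `W p`. -/
theorem p_A {w : G} (hw : w ∈ Wp) {x y : F} (μ : F) (hx : σ x = x) (hy : σ y = y) :
    w * (np x * m μ * nr y) = np x * m μ * nr y * w := by
  have h1 := L.dp.cn w hw x hx
  have h2 := L.p_m w hw μ
  have h3 := L.p_nr w hw y hy
  calc w * (np x * m μ * nr y) = (w * np x) * m μ * nr y := by simp only [mul_assoc]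
    _ = np x * (w * m μ) * nr y := by rw [h1]; simp only [mul_assoc]
    _ = np x * m μ * (w * nr y) := by rw [h2]; simp only [mul_assoc]
    _ = _ := by rw [h3]; simp only [mul_assoc]

/-- `A_E` centralises `W r`. -/
theorem r_A {w : G} (hw : w ∈ Wr) {x y : F} (μ : F) (hx : σ x = x) (hy : σ y = y) :
    w * (np x * m μ * nr y) = np x * m μ * nr y * w := by
  have h1 := L.r_np w hw x hx
  have h2 := L.r_m w hw μ
  have h3 := L.dr.cn w hw y hy
  calc w * (np x * m μ * nr y) = (w * np x) * m μ * nr y := by simp only [mul_assoc]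
    _ = np x * (w * m μ) * nr y := by rw [h1]; simp only [mul_assoc]
    _ = np x * m μ * (w * nr y) := by rw [h2]; simp only [mul_assoc]
    _ = _ := by rw [h3]; simp only [mul_assoc]

theorem t_A {x y : F} (μ : F) (hx : σ x = x) (hy : σ y = y) :
    t * (np x * m μ * nr y) = np x * m μ * nr y * t := by
  have h1 := L.t_np x hx
  have h2 := L.t_m μ
  have h3 := L.t_nr y hy
  calc t * (np x * m μ * nr y) = (t * np x) * m μ * nr y := by simp only [mul_assoc]
    _ = np x * (t * m μ) * nr y := by rw [h1]; simp only [mul_assoc]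
    _ = np x * m μ * (t * nr y) := by rw [h2]; simp only [mul_assoc]
    _ = _ := by rw [h3]; simp only [mul_assoc]

end line

/-- the square of an element of a double lies in `X`. -/
theorem Double.sq {W : Subgroup G} {n : F → G} (ht : t * t = 1) (h0 : ∀ x, σ x = x → n x * n x = 1)
    (D : Double σ t n W) {w : G} (hw : w ∈ W) : ∃ x, σ x = x ∧ w * w = n x := by
  obtain ⟨x, hx, h⟩ := D.brk w hw
  refine D.cent _ (W.mul_mem hw hw) ?_
  have h1 : t * w = w * n x * t := by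
    calc t * w = t * w * (t * t) := by rw [ht, mul_one]
      _ = (t * w * t) * t := by simp only [mul_assoc]
      _ = _ := by rw [h]
  have h2 := D.cn w hw x hx
  have h3 : t * n x = n x * t := by
    have e1 : t * (t * w * t) * t = w := by
      calc t * (t * w * t) * t = (t * t) * w * (t * t) := by simp only [mul_assoc]
        _ = w := by rw [ht]; simp
    rw [h] at e1
    have e2 : w * (n x * (t * n x * t)) = w * 1 := by
      calc w * (n x * (t * n x * t)) = (w * n x) * (t * n x * t) := by simp only [mul_assoc]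
        _ = (t * w * t) * (t * n x * t) := by rw [h]
        _ = t * w * (t * t) * n x * t := by simp only [mul_assoc]
        _ = t * (w * n x) * t := by rw [ht]; simp only [mul_one, mul_assoc]
        _ = w * 1 := by rw [e1, mul_one]
    have e3 := mul_left_cancel e2
    calc t * n x = (n x * n x) * t * n x * (t * t) := by rw [h0 x hx, ht]; simp
      _ = n x * (n x * (t * n x * t)) * t := by simp only [mul_assoc]
      _ = n x * t := by rw [e3, mul_one]
  calc t * (w * w) = (t * w) * w := by rw [mul_assoc]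
    _ = w * n x * (t * w) := by rw [h1]; simp only [mul_assoc, h1]
    _ = w * n x * (w * n x * t) := by rw [h1]
    _ = w * (n x * w) * n x * t := by simp only [mul_assoc]
    _ = w * (w * n x) * n x * t := by rw [h2]
    _ = w * w * (n x * n x) * t := by simp only [mul_assoc]
    _ = w * w * t := by rw [h0 x hx, mul_one]

/-- `[a, b] = c` with `a^t = a x`, `b^t = b y`, `x, y` central: `c^t = c`. -/
theorem comm_aux {a b c x y c' : G} (h : a * b = b * a * c) (h' : a * x * (b * y) = b * y * (a * x) * c')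
    (xa : x * a = a * x) (xb : x * b = b * x) (ya : y * a = a * y) (yb : y * b = b * y) (xy : x * y = y * x) :
    c' = c := by
  have hc : c = a⁻¹ * b⁻¹ * a * b := by
    have : a⁻¹ * b⁻¹ * a * b = a⁻¹ * b⁻¹ * (a * b) := by group
    rw [this, h]
    group
  have hc' : c' = (a * x)⁻¹ * (b * y)⁻¹ * (a * x) * (b * y) := by
    have : (a * x)⁻¹ * (b * y)⁻¹ * (a * x) * (b * y) = (a * x)⁻¹ * (b * y)⁻¹ * (a * x * (b * y)) := by group
    rw [this, h']
    group
  have X : Commute x a := xa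
  have X' : Commute x b := xb
  have Y : Commute y a := ya
  have Y' : Commute y b := yb
  have Z : Commute x y := xy
  rw [hc', hc]
  rw [mul_inv_rev, mul_inv_rev]
  -- x⁻¹ a⁻¹ y⁻¹ b⁻¹ a x b y
  have e1 : y⁻¹ * b⁻¹ * (a * x) = b⁻¹ * a * x * y⁻¹ := by
    have := (((Y'.inv_right).mul_right Y).mul_right Z.symm).inv_left
    have h3 : y⁻¹ * (b⁻¹ * a * x) = b⁻¹ * a * x * y⁻¹ := this
    rw [← h3]
    simp only [mul_assoc]
  have e2 : x⁻¹ * a⁻¹ * (b⁻¹ * a) = a⁻¹ * (b⁻¹ * a) * x⁻¹ := by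
    have := (((X.inv_right).mul_right (X'.inv_right)).mul_right X).inv_left
    have h3 : x⁻¹ * (a⁻¹ * b⁻¹ * a) = a⁻¹ * b⁻¹ * a * x⁻¹ := this
    calc x⁻¹ * a⁻¹ * (b⁻¹ * a) = x⁻¹ * (a⁻¹ * b⁻¹ * a) := by simp only [mul_assoc]
      _ = a⁻¹ * b⁻¹ * a * x⁻¹ := h3
      _ = _ := by simp only [mul_assoc]
  calc x⁻¹ * a⁻¹ * (y⁻¹ * b⁻¹) * (a * x) * (b * y) = x⁻¹ * a⁻¹ * (y⁻¹ * b⁻¹ * (a * x)) * (b * y) := by
        simp only [mul_assoc]
    _ = (x⁻¹ * a⁻¹ * (b⁻¹ * a)) * x * y⁻¹ * (b * y) := by rw [e1]; simp only [mul_assoc]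
    _ = a⁻¹ * (b⁻¹ * a) * (x⁻¹ * x) * (y⁻¹ * (b * y)) := by rw [e2]; simp only [mul_assoc]
    _ = a⁻¹ * (b⁻¹ * a) * b := by
        have : y⁻¹ * (b * y) = b := by rw [← Y'.eq]; group
        rw [this]; simp
    _ = _ := by simp only [mul_assoc]

section line

variable {OE Wp Wr : Subgroup G} (L : Line σ t OE Wp Wr np nr m g)

include L

theorem np_inj {x : F} (hx : σ x = x) (h : np x = 1) : x = 0 :=
  (L.inj x 0 0 hx (map_zero _) (by rw [h, m_zero L.toCoord, nr_zero L.toCoord]; simp)).1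

theorem psq {w : G} (hw : w ∈ Wp) : ∃ x, σ x = x ∧ w * w = np x :=
  Double.sq L.tt (fun _ hx => np_sq L.toCoord hx) L.dp hw

theorem rsq {w : G} (hw : w ∈ Wr) : ∃ x, σ x = x ∧ w * w = nr x :=
  Double.sq L.tt (fun _ hx => nr_sq L.toCoord hx) L.dr hw

theorem comm_form {h : G} (T : Tor σ t Wp Wr np nr m h) {v u : G} (hv : v ∈ Wp) (hu : u ∈ Wr) :
    ∃ a b, σ a = a ∧ σ b = b ∧ v * u = u * v * (np a * nr b) := by
  obtain ⟨x, hx, hvx⟩ := L.dp.brk v hv
  obtain ⟨y, hy, huy⟩ := L.dr.brk u hu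
  set c : G := (u * v)⁻¹ * (v * u) with hc
  have h1 : v * u = u * v * c := by rw [hc]; group
  have tt := L.tt
  have h2 : v * np x * (u * nr y) = u * nr y * (v * np x) * (t * c * t) := by
    have e1 : t * (v * u) * t = v * np x * (u * nr y) := by
      rw [← hvx, ← huy]
      calc t * (v * u) * t = t * v * 1 * u * t := by simp only [mul_assoc, one_mul]
        _ = t * v * (t * t) * u * t := by rw [tt]
        _ = _ := by simp only [mul_assoc]
    have e2 : t * (u * v * c) * t = u * nr y * (v * np x) * (t * c * t) := by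
      rw [← hvx, ← huy]
      calc t * (u * v * c) * t = t * u * 1 * v * 1 * c * t := by simp only [mul_assoc, one_mul]
        _ = t * u * (t * t) * v * (t * t) * c * t := by rw [tt]
        _ = _ := by simp only [mul_assoc]
    rw [← e1, h1, e2]
  have h3 : t * c * t = c := comm_aux h1 h2 (L.dp.cn _ hv x hx).symm (L.r_np _ hu x hx).symm
    (L.p_nr _ hv y hy).symm (L.dr.cn _ hu y hy).symm (L.np_nr x y hx hy)
  have h4 : c * t = t * c := by
    calc c * t = t * c * t * t := by rw [h3]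
      _ = t * c * (t * t) := by simp only [mul_assoc]
      _ = t * c := by rw [tt, mul_one]
  have h5 : ∀ o ∈ OE, c * o = o * c := by
    intro o ho
    have a1 : Commute o v := L.O_p o ho v hv
    have a2 : Commute o u := L.O_r o ho u hu
    have a3 : Commute o c := by
      rw [hc]
      exact ((a2.mul_right a1).inv_right).mul_right (a1.mul_right a2)
    exact a3.symm
  obtain ⟨a, μ, b, ha, hb, h6 | h6⟩ := L.K2 c h4 h5
  · refine ⟨a, b, ha, hb, ?_⟩
    have h7 : h * c = c * h := by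
      have a1 : Commute h v := T.h_p v hv
      have a2 : Commute h u := T.h_r u hu
      have a3 : Commute h c := by
        rw [hc]
        exact ((a2.mul_right a1).inv_right).mul_right (a1.mul_right a2)
      exact a3
    rw [h6] at h7
    have h8 := T.h_m a μ b ha hb h7
    rw [h1, h6, h8, m_zero L.toCoord, mul_one]
  · refine ⟨0, 0, map_zero _, map_zero _, ?_⟩
    rw [np_zero L.toCoord, nr_zero L.toCoord, mul_one, mul_one]
    have hx0 : x = 0 := by
      refine np_inj L hx ?_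
      have e1 : v * c * (v * c) = v * v := by
        have e2 : v * c = u⁻¹ * v * u := by
          calc v * c = u⁻¹ * (u * v * c) := by group
            _ = u⁻¹ * v * u := by rw [← h1]; group
        obtain ⟨s, hs, hvs⟩ := psq L hv
        calc v * c * (v * c) = u⁻¹ * (v * v) * u := by rw [e2]; group
          _ = u⁻¹ * (np s * u) := by rw [hvs, mul_assoc]
          _ = v * v := by rw [← L.r_np u hu s hs, hvs]; group
      have e3 : v * c * (v * c) = v * v * np x := by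
        rw [h6]
        have f1 := p_A L hv μ ha hb
        have f2 := t_A L μ ha hb
        have f3 := A_sq L.toCoord μ ha hb
        set A := np a * m μ * nr b
        calc v * (t * A) * (v * (t * A)) = v * t * (A * v) * t * A := by simp only [mul_assoc]
          _ = v * t * v * (A * t) * A := by rw [← f1]; simp only [mul_assoc]
          _ = v * (t * v * t) * (A * A) := by rw [← f2]; simp only [mul_assoc]
          _ = v * v * np x := by rw [f3, hvx, mul_one, mul_assoc]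
      rw [e1] at e3
      have : v * v * 1 = v * v * np x := by rw [mul_one]; exact e3
      exact (mul_left_cancel this).symm
    have e4 : t * v = v * t := by
      rw [hx0, np_zero L.toCoord, mul_one] at hvx
      calc t * v = t * v * (t * t) := by rw [tt, mul_one]
        _ = (t * v * t) * t := by simp only [mul_assoc]
        _ = v * t := by rw [hvx]
    obtain ⟨s, hs, hvs⟩ := L.dp.cent v hv e4
    rw [hvs]
    exact (L.r_np u hu s hs).symm

/-- `A_E` centralises the conjugates of `W r`. -/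
theorem U_A {u : G} (hu : u ∈ Wr) (l : F) {x y : F} (μ : F) (hx : σ x = x) (hy : σ y = y) :
    g l * u * (g l)⁻¹ * (np x * m μ * nr y) = np x * m μ * nr y * (g l * u * (g l)⁻¹) := by
  have e1 : np x * m μ * nr y = g l * ((g l)⁻¹ * (np x * m μ * nr y) * g l) * (g l)⁻¹ := by group
  have e2 : (g l)⁻¹ * (np x * m μ * nr y) * g l =
      np (x + (l * σ μ + σ l * μ) + l * σ l * y) * m (μ + l * y) * nr y := by
    have := g_A L.toCoord l μ hx hy
    rw [g_inv L.toCoord] at this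
    rw [g_inv L.toCoord]
    exact this
  have e3 := r_A L hu (μ + l * y)
    (fix_add L.toCoord (fix_add L.toCoord hx (fix_tr L.toCoord l μ)) (fix_norm L.toCoord l hy)) hy
  rw [← e2] at e3
  set A := np x * m μ * nr y
  calc g l * u * (g l)⁻¹ * A = g l * (u * ((g l)⁻¹ * A * g l)) * (g l)⁻¹ := by group
    _ = g l * ((g l)⁻¹ * A * g l * u) * (g l)⁻¹ := by rw [e3]
    _ = _ := by group

theorem g_nr' (l : F) {y : F} (hy : σ y = y) :
    g l * nr y * (g l)⁻¹ = np (l * σ l * y) * m (l * y) * nr y := by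
  have := g_A L.toCoord l 0 (map_zero σ) hy
  rw [np_zero L.toCoord, m_zero L.toCoord] at this
  simpa only [_root_.mul_one, _root_.one_mul, _root_.map_zero, _root_.MulZeroClass.mul_zero, _root_.add_zero, _root_.zero_add] using this

theorem tU {u : G} {y : F} (hy : σ y = y) (h : t * u * t = u * nr y) (l : F) :
    t * (g l * u * (g l)⁻¹) * t = g l * u * (g l)⁻¹ * (np (l * σ l * y) * m (l * y) * nr y) := by
  rw [← g_nr' L l hy]
  have e1 := L.t_g l
  have e2 : (g l)⁻¹ * t = t * (g l)⁻¹ := by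
    have : Commute t (g l) := e1
    exact this.symm.inv_left
  calc t * (g l * u * (g l)⁻¹) * t = (t * g l) * u * ((g l)⁻¹ * t) := by simp only [mul_assoc]
    _ = g l * (t * u * t) * (g l)⁻¹ := by rw [e1, e2]; simp only [mul_assoc]
    _ = _ := by rw [h]; group

theorem vU {v u : G} (hv : v ∈ Wp) {a b : F} (ha : σ a = a) (hb : σ b = b)
    (h : v * u = u * v * (np a * nr b)) (l : F) :
    v * (g l * u * (g l)⁻¹) * v⁻¹ = g l * u * (g l)⁻¹ * (np (a + l * σ l * b) * m (l * b) * nr b) := by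
  have e0 : np (a + l * σ l * b) * m (l * b) * nr b = g l * (np a * nr b) * (g l)⁻¹ := by
    have := g_A L.toCoord l 0 ha hb
    rw [m_zero L.toCoord, mul_one] at this
    rw [this]
    simp
  rw [e0]
  have e1 := L.g_p l v hv
  have e2 : v⁻¹ * g l = g l * v⁻¹ := by
    have : Commute (g l) v := e1
    exact this.symm.inv_left
  have e3 : v * (np a * nr b) = np a * nr b * v := by
    have := p_A L hv 0 ha hb
    rw [m_zero L.toCoord, mul_one] at this
    exact this
  have e4 : v * u * v⁻¹ = u * (np a * nr b) := by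
    rw [h]
    calc u * v * (np a * nr b) * v⁻¹ = u * (v * (np a * nr b)) * v⁻¹ := by simp only [mul_assoc]
      _ = u * (np a * nr b) := by rw [e3]; group
  calc v * (g l * u * (g l)⁻¹) * v⁻¹ = (v * g l) * u * ((g l)⁻¹ * v⁻¹) := by simp only [mul_assoc]
    _ = g l * (v * u * v⁻¹) * (g l)⁻¹ := by
        have e5 : (g l)⁻¹ * v⁻¹ = v⁻¹ * (g l)⁻¹ := by
          have : Commute (g l) v := e1
          exact this.inv_left.inv_right
        rw [← e1, e5]
        simp only [mul_assoc]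
    _ = _ := by rw [e4]; group

end line

theorem prod4 (φ : G →* G) {U1 U2 U3 U4 D1 D2 D3 D4 : G} (h1 : φ U1 = U1 * D1) (h2 : φ U2 = U2 * D2)
    (h3 : φ U3 = U3 * D3) (h4 : φ U4 = U4 * D4) (c12 : U2 * D1 = D1 * U2) (c13 : U3 * D1 = D1 * U3)
    (c14 : U4 * D1 = D1 * U4) (c23 : U3 * D2 = D2 * U3) (c24 : U4 * D2 = D2 * U4) (c34 : U4 * D3 = D3 * U4) :
    φ (U1 * U2 * U3 * U4) = U1 * U2 * U3 * U4 * (D1 * D2 * D3 * D4) := by
  rw [map_mul, map_mul, map_mul, h1, h2, h3, h4]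
  calc U1 * D1 * (U2 * D2) * (U3 * D3) * (U4 * D4) = U1 * (D1 * U2) * D2 * U3 * D3 * U4 * D4 := by
        simp only [mul_assoc]
    _ = U1 * U2 * D1 * (D2 * U3) * (D3 * U4) * D4 := by rw [← c12]; simp only [mul_assoc]
    _ = U1 * U2 * (D1 * U3) * (D2 * U4) * D3 * D4 := by rw [← c23, ← c34]; simp only [mul_assoc]
    _ = U1 * U2 * U3 * (D1 * U4) * D2 * D3 * D4 := by rw [← c13, ← c24]; simp only [mul_assoc]
    _ = _ := by rw [← c14]; simp only [mul_assoc]

section line

variable {OE Wp Wr : Subgroup G} (L : Line σ t OE Wp Wr np nr m g)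

include L

/-- The sum of four. -/
theorem D_sum' (l μ : F) {a y : F} (ha : σ a = a) (hy : σ y = y) :
    np (a + l * σ l * y) * m (l * y) * nr y * (np (a + μ * σ μ * y) * m (μ * y) * nr y) *
      (np (a + (l + μ) * σ (l + μ) * y) * m ((l + μ) * y) * nr y) * (np a * m 0 * nr y) =
      np (y * (l * σ μ + σ l * μ)) := by
  have C := L.toCoord
  have f1 := fix_add C ha (fix_norm C l hy)
  have f2 := fix_add C ha (fix_norm C μ hy)
  have f3 := fix_add C ha (fix_norm C (l + μ) hy)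
  rw [A_mul C _ _ f1 hy f2 hy,
    A_mul C _ _ (fix_add C f1 f2) (fix_add C hy hy) f3 hy,
    A_mul C _ _ (fix_add C (fix_add C f1 f2) f3) (fix_add C (fix_add C hy hy) hy) ha hy]
  have e1 : l * y + μ * y + (l + μ) * y + 0 = 0 := by
    have := C.two (l * y + μ * y)
    rw [add_zero, add_mul]
    exact this
  have e2 : y + y + y + y = 0 := by rw [C.two, zero_add, C.two]
  have e3 : a + l * σ l * y + (a + μ * σ μ * y) + (a + (l + μ) * σ (l + μ) * y) + a =
      y * (l * σ μ + σ l * μ) := by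
    rw [map_add]
    have h1 := C.two (l * σ l * y)
    have h2 := C.two (μ * σ μ * y)
    have h3 := C.two (a + a)
    linear_combination h1 + h2 + h3
  rw [e1, e2, e3, m_zero C, nr_zero C, mul_one, mul_one]

/-- `f = U(l) U(μ) U(l + μ) u`. -/
def ff (g : F → G) (u : G) (l μ : F) : G :=
  g l * u * (g l)⁻¹ * (g μ * u * (g μ)⁻¹) * (g (l + μ) * u * (g (l + μ))⁻¹) * u

omit L in
theorem ff_def (u : G) (l μ : F) : ff g u l μ =
    g l * u * (g l)⁻¹ * (g μ * u * (g μ)⁻¹) * (g (l + μ) * u * (g (l + μ))⁻¹) * u := rfl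

theorem U_zero (u : G) : g 0 * u * (g 0)⁻¹ = u := by
  rw [g_zero L.toCoord]
  simp

theorem ff_conj (φ : G →* G) {u : G} (hu : u ∈ Wr) {a b : F} (ha : σ a = a) (hb : σ b = b)
    (h : ∀ l, φ (g l * u * (g l)⁻¹) = g l * u * (g l)⁻¹ * (np (a + l * σ l * b) * m (l * b) * nr b)) (l μ : F) :
    φ (ff g u l μ) = ff g u l μ * np (b * (l * σ μ + σ l * μ)) := by
  have C := L.toCoord
  have h0 : φ u = u * (np a * m 0 * nr b) := by
    have := h 0
    rw [U_zero L] at this
    simpa using this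
  have f1 := fix_add C ha (fix_norm C l hb)
  have f2 := fix_add C ha (fix_norm C μ hb)
  have f3 := fix_add C ha (fix_norm C (l + μ) hb)
  rw [ff_def, prod4 φ (h l) (h μ) (h (l + μ)) h0 (U_A L hu _ _ f1 hb) (U_A L hu _ _ f1 hb)
    (by have := U_A L hu 0 (l * b) f1 hb; rwa [U_zero L] at this) (U_A L hu _ _ f2 hb)
    (by have := U_A L hu 0 (μ * b) f2 hb; rwa [U_zero L] at this)
    (by have := U_A L hu 0 ((l + μ) * b) f3 hb; rwa [U_zero L] at this), D_sum' L l μ ha hb]

theorem t_conj (w : G) : MulAut.conj t w = t * w * t := by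
  rw [MulAut.conj_apply, inv_eq_of_mul_eq_one_left L.tt]

theorem ff_t {u : G} (hu : u ∈ Wr) {y : F} (hy : σ y = y) (h : t * u * t = u * nr y) (l μ : F) :
    t * ff g u l μ * t = ff g u l μ * np (y * (l * σ μ + σ l * μ)) := by
  have := ff_conj L ((MulAut.conj t).toMonoidHom) hu (map_zero σ) hy (a := 0) ?_ l μ
  · rw [MulEquiv.coe_toMonoidHom, t_conj L] at this
    exact this
  · intro l
    rw [MulEquiv.coe_toMonoidHom, t_conj L, tU L hy h, zero_add]

theorem O_U {u : G} (hu : u ∈ Wr) (l : F) {c : G} (hc : c ∈ OE) :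
    c * (g l * u * (g l)⁻¹) = g l * u * (g l)⁻¹ * c := by
  have e1 := L.O_r _ (L.g_O l c hc) u hu
  calc c * (g l * u * (g l)⁻¹) = g l * ((g l)⁻¹ * c * g l * u) * (g l)⁻¹ := by group
    _ = g l * (u * ((g l)⁻¹ * c * g l)) * (g l)⁻¹ := by rw [e1]
    _ = _ := by group

theorem O_ff {u : G} (hu : u ∈ Wr) (l μ : F) {c : G} (hc : c ∈ OE) :
    c * ff g u l μ = ff g u l μ * c := by
  have h1 : Commute c (g l * u * (g l)⁻¹) := O_U L hu l hc
  have h2 : Commute c (g μ * u * (g μ)⁻¹) := O_U L hu μ hc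
  have h3 : Commute c (g (l + μ) * u * (g (l + μ))⁻¹) := O_U L hu (l + μ) hc
  have h4 : Commute c u := L.O_r c hc u hu
  exact ((h1.mul_right h2).mul_right h3).mul_right h4

theorem ff_A {u : G} (hu : u ∈ Wr) (l μ : F) {x y : F} (ν : F) (hx : σ x = x) (hy : σ y = y) :
    ff g u l μ * (np x * m ν * nr y) = np x * m ν * nr y * ff g u l μ := by
  have h1 : Commute (np x * m ν * nr y) (g l * u * (g l)⁻¹) := (U_A L hu l ν hx hy).symm
  have h2 : Commute (np x * m ν * nr y) (g μ * u * (g μ)⁻¹) := (U_A L hu μ ν hx hy).symm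
  have h3 : Commute (np x * m ν * nr y) (g (l + μ) * u * (g (l + μ))⁻¹) := (U_A L hu (l + μ) ν hx hy).symm
  have h4 : Commute (np x * m ν * nr y) u := (r_A L hu ν hx hy).symm
  exact (((h1.mul_right h2).mul_right h3).mul_right h4).symm

/-- `f` lies in `W p * A_E` or in `W p * t * A_E`. -/
theorem ff_form {u : G} (hu : u ∈ Wr) {y : F} (hy : σ y = y) (h : t * u * t = u * nr y) (l μ : F) :
    ∃ w ∈ Wp, t * w * t = w * np (y * (l * σ μ + σ l * μ)) ∧ ∃ a ν b, σ a = a ∧ σ b = b ∧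
      (ff g u l μ = w * (np a * m ν * nr b) ∨ ff g u l μ = w * (t * (np a * m ν * nr b))) := by
  have C := L.toCoord
  have hs : σ (y * (l * σ μ + σ l * μ)) = y * (l * σ μ + σ l * μ) := by
    rw [map_mul, hy, fix_tr C]
  obtain ⟨w, hw, hwt⟩ := L.dp.surj _ hs
  refine ⟨w, hw, hwt, ?_⟩
  have tt := L.tt
  have h1 := ff_t L hu hy h l μ
  set s := np (y * (l * σ μ + σ l * μ)) with hsdef
  set f := ff g u l μ with hf
  have h2 : t * w = w * s * t := by
    calc t * w = t * w * (t * t) := by rw [tt, mul_one]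
      _ = (t * w * t) * t := by simp only [mul_assoc]
      _ = _ := by rw [hwt]
  have h3 : t * f = f * s * t := by
    calc t * f = t * f * (t * t) := by rw [tt, mul_one]
      _ = (t * f * t) * t := by simp only [mul_assoc]
      _ = _ := by rw [h1]
  have hsA : s = s * m 0 * nr 0 := by rw [m_zero C, nr_zero C]; simp
  have hsf : f * s = s * f := by
    have := ff_A L hu l μ 0 hs (map_zero σ)
    rw [m_zero C, nr_zero C, mul_one, mul_one] at this
    exact this
  have hsw : w * s = s * w := L.dp.cn w hw _ hs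
  have h4 : (w⁻¹ * f) * t = t * (w⁻¹ * f) := by
    have e1 : t * w⁻¹ = (w * s)⁻¹ * t := by
      have : w * s * (t * w⁻¹) = t := by
        calc w * s * (t * w⁻¹) = (w * s * t) * w⁻¹ := by simp only [mul_assoc]
          _ = t := by rw [← h2]; group
      calc t * w⁻¹ = (w * s)⁻¹ * (w * s * (t * w⁻¹)) := by group
        _ = _ := by rw [this]
    calc (w⁻¹ * f) * t = w⁻¹ * s⁻¹ * (s * f) * t := by group
      _ = w⁻¹ * s⁻¹ * (f * s * t) := by rw [← hsf]; simp only [mul_assoc]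
      _ = (s * w)⁻¹ * (t * f) := by rw [← h3]; group
      _ = ((w * s)⁻¹ * t) * f := by rw [← hsw]; simp only [mul_assoc]
      _ = _ := by rw [← e1]; simp only [mul_assoc]
  have h5 : ∀ o ∈ OE, (w⁻¹ * f) * o = o * (w⁻¹ * f) := by
    intro o ho
    have a1 : Commute o w := L.O_p o ho w hw
    have a2 : Commute o f := O_ff L hu l μ ho
    exact (a1.inv_right.mul_right a2).symm
  obtain ⟨a, ν, b, ha, hb, h6 | h6⟩ := L.K2 _ h4 h5
  · exact ⟨a, ν, b, ha, hb, Or.inl (by rw [← h6]; group)⟩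
  · exact ⟨a, ν, b, ha, hb, Or.inr (by rw [← h6]; group)⟩

theorem tr_ne {e : F} (he : σ e ≠ e) : e + σ e ≠ 0 := fun h => he (eq_of_add L.toCoord h).symm

/-- elements of `W` with the same commutator with `t` -/
theorem same {W : Subgroup G} {n : F → G} (D : Double σ t n W) {x y : G} (hx : x ∈ W) (hy : y ∈ W) {a : F}
    (ha : σ a = a) (hxt : t * x * t = x * n a) (hyt : t * y * t = y * n a) : ∃ z, σ z = z ∧ y = x * n z := by
  have ht : t⁻¹ = t := inv_eq_of_mul_eq_one_left L.tt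
  have h5 : t * (x⁻¹ * y) = x⁻¹ * y * t := by
    have h6 : t * x⁻¹ * t = (x * n a)⁻¹ := by
      rw [← hxt]
      calc t * x⁻¹ * t = (t⁻¹ * x * t⁻¹)⁻¹ := by group
        _ = _ := by rw [ht]
    have h7 : n a * y = y * n a := (D.cn y hy a ha).symm
    have h8 : x * n a = n a * x := D.cn x hx a ha
    calc t * (x⁻¹ * y) = (t * x⁻¹ * t) * (t * y * t) * t := by
          have : (t * x⁻¹ * t) * (t * y * t) * t = t * x⁻¹ * (t * t) * y * (t * t) := by
            simp only [mul_assoc]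
          rw [this, L.tt]
          simp only [mul_one, mul_assoc]
      _ = (x * n a)⁻¹ * (y * n a) * t := by rw [h6, hyt]
      _ = (n a * x)⁻¹ * (n a * y) * t := by rw [h8, h7]
      _ = _ := by group
  obtain ⟨z, hz, h6⟩ := D.cent _ (W.mul_mem (W.inv_mem hx) hy) h5
  exact ⟨z, hz, by rw [← h6]; group⟩

theorem same_comm {W : Subgroup G} {n : F → G} (D : Double σ t n W) {x y : G} (hx : x ∈ W) (hy : y ∈ W) {a : F}
    (ha : σ a = a) (hxt : t * x * t = x * n a) (hyt : t * y * t = y * n a) : x * y = y * x := by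
  obtain ⟨z, hz, rfl⟩ := same L D hx hy ha hxt hyt
  rw [mul_assoc, ← D.cn x hx z hz]

/-- `b ∈ {0, y}`. -/
theorem b_mem {v u : G} (hv : v ∈ Wp) (hu : u ∈ Wr) {x y a b : F} (hx : σ x = x) (hy : σ y = y)
    (hvx : t * v * t = v * np x) (huy : t * u * t = u * nr y) (ha : σ a = a) (hb : σ b = b)
    (h : v * u = u * v * (np a * nr b)) {l μ : F} (hlμ : y * (l * σ μ + σ l * μ) = x) :
    b * (l * σ μ + σ l * μ) = 0 ∨ b * (l * σ μ + σ l * μ) = x := by
  have C := L.toCoord
  have hs : σ (b * (l * σ μ + σ l * μ)) = b * (l * σ μ + σ l * μ) := by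
    rw [map_mul, hb, fix_tr C]
  have h1 : v * ff g u l μ * v⁻¹ = ff g u l μ * np (b * (l * σ μ + σ l * μ)) := by
    have := ff_conj L ((MulAut.conj v).toMonoidHom) hu ha hb (fun l => by
      rw [MulEquiv.coe_toMonoidHom, MulAut.conj_apply]; exact vU L hv ha hb h l) l μ
    rw [MulEquiv.coe_toMonoidHom, MulAut.conj_apply] at this
    exact this
  obtain ⟨w, hw, hwt, a', ν, b', ha', hb', h2 | h2⟩ := ff_form L hu hy huy l μ
  · left
    rw [hlμ] at hwt
    refine np_inj L hs ?_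
    have e1 : v * ff g u l μ * v⁻¹ = ff g u l μ := by
      rw [h2]
      have a1 : Commute v w := same_comm L L.dp hv hw hx hvx hwt
      have a2 : Commute v (np a' * m ν * nr b') := p_A L hv ν ha' hb'
      rw [(a1.mul_right a2).eq]
      group
    rw [e1] at h1
    have : ff g u l μ * 1 = ff g u l μ * np (b * (l * σ μ + σ l * μ)) := by rw [mul_one]; exact h1
    exact (mul_left_cancel this).symm
  · right
    rw [hlμ] at hwt
    have e1 : v * ff g u l μ * v⁻¹ = ff g u l μ * np x := by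
      rw [h2]
      have a1 := same_comm L L.dp hv hw hx hvx hwt
      have a2 := p_A L hv ν ha' hb'
      have a3 := p_A L (L.dp.mem x hx) ν ha' hb'
      set A := np a' * m ν * nr b'
      have a4 : v * t = t * v * np x := by
        calc v * t = (t * t) * v * t := by rw [L.tt, one_mul]
          _ = t * (t * v * t) := by simp only [mul_assoc]
          _ = _ := by rw [hvx, mul_assoc]
      have a5 := L.dp.cn v hv x hx
      calc v * (w * (t * A)) * v⁻¹ = (v * w) * t * A * v⁻¹ := by simp only [mul_assoc]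
        _ = w * (v * t) * A * v⁻¹ := by rw [a1]; simp only [mul_assoc]
        _ = w * t * (v * np x) * A * v⁻¹ := by rw [a4]; simp only [mul_assoc]
        _ = w * t * np x * (v * A) * v⁻¹ := by rw [a5]; simp only [mul_assoc]
        _ = w * t * (np x * A) := by rw [a2]; group
        _ = _ := by rw [a3]; simp only [mul_assoc]
    rw [e1] at h1
    have e2 := mul_left_cancel h1
    have e3 : np x * m 0 * nr 0 = np (b * (l * σ μ + σ l * μ)) * m 0 * nr 0 := by rw [e2]
    exact ((A_inj C hx (map_zero σ) hs (map_zero σ) e3).1).symm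

theorem b_mem' {v u : G} (hv : v ∈ Wp) (hu : u ∈ Wr) {x y a b : F} (hx : σ x = x) (hy : σ y = y)
    (hvx : t * v * t = v * np x) (huy : t * u * t = u * nr y) (ha : σ a = a) (hb : σ b = b)
    (h : v * u = u * v * (np a * nr b)) (hx0 : x ≠ 0) (hy0 : y ≠ 0) : b = 0 ∨ b = y := by
  obtain ⟨e, he⟩ := L.nt
  have hE := tr_ne L he
  have hE' : σ (e + σ e) = e + σ e := by rw [map_add, L.σσ, add_comm]
  set l : F := x / (y * (e + σ e)) with hl
  have hlf : σ l = l := by rw [hl, map_div₀, map_mul, hx, hy, hE']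
  have h1 : l * σ e + σ l * e = x / y := by
    rw [hlf, ← mul_add, add_comm (σ e), hl]
    field_simp
  have h2 : y * (l * σ e + σ l * e) = x := by
    rw [h1]; field_simp
  have h3 := b_mem L hv hu hx hy hvx huy ha hb h h2
  rw [h1] at h3
  rcases h3 with h3 | h3
  · left
    rcases mul_eq_zero.1 h3 with h4 | h4
    · exact h4
    · exfalso
      rcases div_eq_zero_iff.1 h4 with h5 | h5
      · exact hx0 h5
      · exact hy0 h5
  · right
    field_simp at h3
    exact h3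

/-- uniqueness of `a`, `b` -/
theorem ab_unique {v u : G} {a b a' b' : F} (ha : σ a = a) (hb : σ b = b) (ha' : σ a' = a') (hb' : σ b' = b')
    (h : v * u = u * v * (np a * nr b)) (h' : v * u = u * v * (np a' * nr b')) : a = a' ∧ b = b' := by
  have C := L.toCoord
  rw [h] at h'
  have h1 := mul_left_cancel h'
  have h2 : np a * m 0 * nr b = np a' * m 0 * nr b' := by rw [m_zero C, mul_one, mul_one, h1]
  have h3 := A_inj C ha hb ha' hb' h2
  exact ⟨h3.1, h3.2.2⟩

/-- additivity in `u` -/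
theorem comm_mul_right {v u u' : G} (hu' : u' ∈ Wr) {a b a' b' : F} (ha : σ a = a) (hb : σ b = b)
    (ha' : σ a' = a') (hb' : σ b' = b') (h : v * u = u * v * (np a * nr b)) (h' : v * u' = u' * v * (np a' * nr b')) :
    v * (u * u') = u * u' * v * (np (a + a') * nr (b + b')) := by
  have C := L.toCoord
  have e1 : np a * nr b * u' = u' * (np a * nr b) := by
    have := r_A L hu' 0 ha hb
    rw [m_zero C, mul_one] at this
    exact this.symm
  have e2 : np a * nr b * (np a' * nr b') = np (a + a') * nr (b + b') := by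
    have := A_mul C 0 0 ha hb ha' hb'
    rw [add_zero, m_zero C, mul_one, mul_one, mul_one] at this
    exact this
  have e3 : np a' * nr b' * (np a * nr b) = np a * nr b * (np a' * nr b') := by
    have := A_comm C 0 0 ha' hb' ha hb
    simpa only [m_zero C, mul_one] using this
  calc v * (u * u') = (v * u) * u' := by rw [mul_assoc]
    _ = u * v * (np a * nr b * u') := by rw [h]; simp only [mul_assoc]
    _ = u * (v * u') * (np a * nr b) := by rw [e1]; simp only [mul_assoc]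
    _ = u * u' * v * (np a' * nr b' * (np a * nr b)) := by rw [h']; simp only [mul_assoc]
    _ = _ := by rw [e3, e2]

/-- additivity in `v` -/
theorem comm_mul_left {v v' u : G} (hv' : v' ∈ Wp) {a b a' b' : F} (ha : σ a = a) (hb : σ b = b)
    (ha' : σ a' = a') (hb' : σ b' = b') (h : v * u = u * v * (np a * nr b)) (h' : v' * u = u * v' * (np a' * nr b')) :
    v * v' * u = u * (v * v') * (np (a + a') * nr (b + b')) := by
  have C := L.toCoord
  have e1 : np a * nr b * v' = v' * (np a * nr b) := by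
    have := p_A L hv' 0 ha hb
    rw [m_zero C, mul_one] at this
    exact this.symm
  have e2 : np a * nr b * (np a' * nr b') = np (a + a') * nr (b + b') := by
    have := A_mul C 0 0 ha hb ha' hb'
    rw [add_zero, m_zero C, mul_one, mul_one, mul_one] at this
    exact this
  calc v * v' * u = v * (v' * u) := by rw [mul_assoc]
    _ = (v * u) * v' * (np a' * nr b') := by rw [h']; simp only [mul_assoc]
    _ = u * v * (np a * nr b * v') * (np a' * nr b') := by rw [h]; simp only [mul_assoc]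
    _ = u * (v * v') * (np a * nr b * (np a' * nr b')) := by rw [e1]; simp only [mul_assoc]
    _ = _ := by rw [e2]

theorem brk_mul {W : Subgroup G} {n : F → G} (D : Double σ t n W) (hn : ∀ x y, σ x = x → σ y = y → n (x + y) = n x * n y)
    {v w : G} (hw : w ∈ W) {x y : F} (hx : σ x = x) (hy : σ y = y) (hvx : t * v * t = v * n x)
    (hwy : t * w * t = w * n y) : t * (v * w) * t = v * w * n (x + y) := by
  rw [hn x y hx hy]
  calc t * (v * w) * t = t * v * 1 * w * t := by simp only [mul_assoc, one_mul]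
    _ = t * v * (t * t) * w * t := by rw [L.tt]
    _ = (t * v * t) * (t * w * t) := by simp only [mul_assoc]
    _ = v * (n x * w) * n y := by rw [hvx, hwy]; simp only [mul_assoc]
    _ = _ := by rw [← D.cn w hw x hx]; simp only [mul_assoc]

/-- `q > 2`: `b = 0`. -/
theorem b_zero (S : Scale σ t Wp Wr np nr)
    (hq : ∃ k, σ k = k ∧ k ≠ 0 ∧ k ≠ 1) {v u : G} (hv : v ∈ Wp) (hu : u ∈ Wr) {a b : F}
    (ha : σ a = a) (hb : σ b = b) (h : v * u = u * v * (np a * nr b)) : b = 0 := by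
  have C := L.toCoord
  obtain ⟨x, hx, hvx⟩ := L.dp.brk v hv
  obtain ⟨y, hy, huy⟩ := L.dr.brk u hu
  obtain ⟨k, hk, hk0, hk1⟩ := hq
  have tt := L.tt
  -- the trivial cases
  by_cases hx0 : x = 0
  · rw [hx0, np_zero C, mul_one] at hvx
    have e4 : t * v = v * t := by
      calc t * v = t * v * (t * t) := by rw [tt, mul_one]
        _ = (t * v * t) * t := by simp only [mul_assoc]
        _ = v * t := by rw [hvx]
    obtain ⟨s, hs, hvs⟩ := L.dp.cent v hv e4
    have h5 : v * u = u * v * (np 0 * nr 0) := by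
      rw [np_zero C, nr_zero C, mul_one, mul_one, hvs]
      exact (L.r_np u hu s hs).symm
    exact (ab_unique L ha hb (map_zero _) (map_zero _) h h5).2
  by_cases hy0 : y = 0
  · rw [hy0, nr_zero C, mul_one] at huy
    have e4 : t * u = u * t := by
      calc t * u = t * u * (t * t) := by rw [tt, mul_one]
        _ = (t * u * t) * t := by simp only [mul_assoc]
        _ = u * t := by rw [huy]
    obtain ⟨s, hs, hus⟩ := L.dr.cent u hu e4
    have h5 : v * u = u * v * (np 0 * nr 0) := by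
      rw [np_zero C, nr_zero C, mul_one, mul_one, hus]
      exact L.p_nr v hv s hs
    exact (ab_unique L ha hb (map_zero _) (map_zero _) h h5).2
  rcases b_mem' L hv hu hx hy hvx huy ha hb h hx0 hy0 with h1 | h1
  · exact h1
  exfalso
  -- `b(v, u') = y(u')` for all `u'`
  have step : ∀ v' ∈ Wp, ∀ x', σ x' = x' → x' ≠ 0 → t * v' * t = v' * np x' →
      (∀ u₁ ∈ Wr, ∀ y₁ a₁ b₁, σ y₁ = y₁ → y₁ ≠ 0 → σ a₁ = a₁ → σ b₁ = b₁ → t * u₁ * t = u₁ * nr y₁ →
        v' * u₁ = u₁ * v' * (np a₁ * nr b₁) → b₁ = y₁ → ∀ u₂ ∈ Wr, ∀ y₂ a₂ b₂, σ y₂ = y₂ → σ a₂ = a₂ → σ b₂ = b₂ →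
        t * u₂ * t = u₂ * nr y₂ → v' * u₂ = u₂ * v' * (np a₂ * nr b₂) → y₂ ≠ 0 → y₁ ≠ y₂ → b₂ = y₂) := by
    intro v' hv' x' hx' hx'0 hvt u₁ hu₁ y₁ a₁ b₁ hy₁ hy₁0 ha₁ hb₁ hut h3 hb1 u₂ hu₂ y₂ a₂ b₂ hy₂ ha₂ hb₂ hut2 h4 hy₂0 hne
    have h5 := comm_mul_right L hu₂ ha₁ hb₁ ha₂ hb₂ h3 h4
    have h6 := brk_mul L L.dr C.nr_add hu₂ hy₁ hy₂ hut hut2
    have hne' : y₁ + y₂ ≠ 0 := fun h => hne (eq_of_add C h)
    rcases b_mem' L hv' hu₂ hx' hy₂ hvt hut2 ha₂ hb₂ h4 hx'0 hy₂0 with h7 | h7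
    · exfalso
      rcases b_mem' L hv' (Wr.mul_mem hu₁ hu₂) hx' (fix_add C hy₁ hy₂) hvt h6 (fix_add C ha₁ ha₂)
        (fix_add C hb₁ hb₂) h5 hx'0 hne' with h8 | h8
      · rw [h7, add_zero, hb1] at h8
        exact hy₁0 h8
      · rw [h7, add_zero, hb1] at h8
        apply hy₂0
        have : y₁ + 0 = y₁ + y₂ := by rw [add_zero]; exact h8
        exact (add_left_cancel this).symm
    · exact h7
  -- torus elements
  obtain ⟨d, hdt, hdp, hdr, hdnp, hdnr⟩ := S k hk hk0
  have hk1' : 1 + k ≠ 0 := fun h => hk1 (eq_of_add C h).symm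
  obtain ⟨d', hdt', hdp', hdr', hdnp', hdnr'⟩ := S (1 + k) (fix_add C (map_one σ) hk) hk1'
  have tor : ∀ (d : G) (k : F), σ k = k → k ≠ 0 → d * t = t * d → (∀ w ∈ Wp, d * w * d⁻¹ ∈ Wp) →
      (∀ w ∈ Wr, d * w * d⁻¹ ∈ Wr) → (∀ x, σ x = x → d * np x * d⁻¹ = np (k * x)) →
      (∀ y, σ y = y → d * nr y * d⁻¹ = nr y) →
      ∃ v' ∈ Wp, t * v' * t = v' * np (k * x) ∧ ∃ a', σ a' = a' ∧ ∃ u' ∈ Wr, t * u' * t = u' * nr y ∧
        v' * u' = u' * v' * (np a' * nr y) := by
    intro d k hk hk0 hdt hdp hdr hdnp hdnr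
    have hdt' : t * d = d * t := hdt.symm
    have ht : t⁻¹ = t := inv_eq_of_mul_eq_one_left tt
    refine ⟨d * v * d⁻¹, hdp v hv, ?_, k * a, by rw [map_mul, hk, ha], d * u * d⁻¹, hdr u hu, ?_, ?_⟩
    · calc t * (d * v * d⁻¹) * t = (t * d) * v * (t⁻¹ * d)⁻¹ := by group
        _ = (d * t) * v * (d * t)⁻¹ := by rw [ht, hdt']
        _ = d * (t * v * t⁻¹) * d⁻¹ := by group
        _ = d * v * np x * d⁻¹ := by rw [ht, hvx]; simp only [mul_assoc]
        _ = d * v * d⁻¹ * (d * np x * d⁻¹) := by group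
        _ = _ := by rw [hdnp x hx]
    · calc t * (d * u * d⁻¹) * t = (t * d) * u * (t⁻¹ * d)⁻¹ := by group
        _ = (d * t) * u * (d * t)⁻¹ := by rw [ht, hdt']
        _ = d * (t * u * t⁻¹) * d⁻¹ := by group
        _ = d * u * nr y * d⁻¹ := by rw [ht, huy]; simp only [mul_assoc]
        _ = d * u * d⁻¹ * (d * nr y * d⁻¹) := by group
        _ = _ := by rw [hdnr y hy]
    · calc d * v * d⁻¹ * (d * u * d⁻¹) = d * (v * u) * d⁻¹ := by group
        _ = d * (u * v * (np a * nr y)) * d⁻¹ := by rw [h, h1]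
        _ = d * u * d⁻¹ * (d * v * d⁻¹) * ((d * np a * d⁻¹) * (d * nr y * d⁻¹)) := by group
        _ = _ := by rw [hdnp a ha, hdnr y hy]
  obtain ⟨v1, hv1, hv1t, a1, ha1, u1, hu1, hu1t, e1⟩ := tor d k hk hk0 hdt hdp hdr hdnp hdnr
  obtain ⟨v2, hv2, hv2t, a2, ha2, u2, hu2, hu2t, e2⟩ :=
    tor d' (1 + k) (fix_add C (map_one σ) hk) hk1' hdt' hdp' hdr' hdnp' hdnr'
  -- replace `u1`, `u2` by `u`
  have repl : ∀ v' ∈ Wp, ∀ u' ∈ Wr, ∀ a', σ a' = a' → t * u' * t = u' * nr y → v' * u' = u' * v' * (np a' * nr y) →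
      v' * u = u * v' * (np a' * nr y) := by
    intro v' hv' u' hu' a' ha' hut e
    obtain ⟨z, hz, h3⟩ := same L L.dr hu' hu hy hut huy
    have h4 := L.p_nr v' hv' z hz
    have h5 : np a' * nr y * nr z = nr z * (np a' * nr y) := by
      have := A_comm C 0 0 ha' hy (map_zero σ) hz
      simpa only [m_zero C, np_zero C, mul_one, one_mul] using this
    rw [h3]
    calc v' * (u' * nr z) = (v' * u') * nr z := by rw [mul_assoc]
      _ = u' * v' * (np a' * nr y * nr z) := by rw [e]; simp only [mul_assoc]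
      _ = u' * (v' * nr z) * (np a' * nr y) := by rw [h5]; simp only [mul_assoc]
      _ = _ := by rw [h4]; simp only [mul_assoc]
  have f1 := repl v1 hv1 u1 hu1 a1 ha1 hu1t e1
  have f2 := repl v2 hv2 u2 hu2 a2 ha2 hu2t e2
  rw [h1] at h
  have f3 := comm_mul_left L hv1 ha hy ha1 hy h f1
  rw [C.two y] at f3
  -- `v * v1` and `v2` have the same parameter
  have hkx : σ (k * x) = k * x := by rw [map_mul, hk, hx]
  have f4 := brk_mul L L.dp C.np_add hv1 hx hkx hvx hv1t
  have e5 : x + k * x = (1 + k) * x := by ring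
  rw [e5] at f4
  have hkx' : σ ((1 + k) * x) = (1 + k) * x := by rw [← e5]; exact fix_add C hx hkx
  obtain ⟨z, hz, h6⟩ := same L L.dp (Wp.mul_mem hv hv1) hv2 hkx' f4 hv2t
  have h7 : v2 * u = u * v2 * (np (a + a1) * nr 0) := by
    have h8 := L.r_np u hu z hz
    have h9 : np (a + a1) * nr 0 * np z = np z * (np (a + a1) * nr 0) := by
      have := A_comm C 0 0 (fix_add C ha ha1) (map_zero σ) hz (map_zero σ)
      simpa only [m_zero C, nr_zero C, mul_one] using this
    rw [h6]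
    calc v * v1 * np z * u = v * v1 * (u * np z) := by rw [h8]; simp only [mul_assoc]
      _ = (v * v1 * u) * np z := by simp only [mul_assoc]
      _ = u * (v * v1) * (np (a + a1) * nr 0 * np z) := by rw [f3]; simp only [mul_assoc]
      _ = _ := by rw [h9]; simp only [mul_assoc]
  have h8 := (ab_unique L ha2 hy (fix_add C ha ha1) (map_zero σ) f2 h7).2
  exact hy0 h8

/-- `W p` is abelian. -/
theorem ab_of_comm (hpr : ∀ v ∈ Wp, ∀ u ∈ Wr, v * u = u * v) {v w : G} (hv : v ∈ Wp) (hw : w ∈ Wp) :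
    v * w = w * v := by
  have C := L.toCoord
  have tt := L.tt
  obtain ⟨z, hz, hwz⟩ := L.dp.brk w hw
  by_cases hz0 : z = 0
  · rw [hz0, np_zero C, mul_one] at hwz
    have e4 : t * w = w * t := by
      calc t * w = t * w * (t * t) := by rw [tt, mul_one]
        _ = (t * w * t) * t := by simp only [mul_assoc]
        _ = w * t := by rw [hwz]
    obtain ⟨s, hs, hvs⟩ := L.dp.cent w hw e4
    rw [hvs]
    exact L.dp.cn v hv s hs
  obtain ⟨u, hu, hut⟩ := L.dr.surj 1 (map_one σ)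
  obtain ⟨e, he⟩ := L.nt
  have hE := tr_ne L he
  have hE' : σ (e + σ e) = e + σ e := by rw [map_add, L.σσ, add_comm]
  set l : F := z / (e + σ e) with hl
  have hlf : σ l = l := by rw [hl, map_div₀, hz, hE']
  have h1 : 1 * (l * σ e + σ l * e) = z := by
    rw [hlf, ← mul_add, add_comm (σ e), hl]
    field_simp
  have hc : ∀ v ∈ Wp, v * ff g u l e = ff g u l e * v := by
    intro v hv
    have hU : ∀ k, Commute v (g k * u * (g k)⁻¹) := by
      intro k
      have e1 : Commute v (g k) := (L.g_p k v hv).symm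
      have e2 : Commute v u := hpr v hv u hu
      exact (e1.mul_right e2).mul_right e1.inv_right
    have h4 : Commute v u := hpr v hv u hu
    exact (((hU l).mul_right (hU e)).mul_right (hU (l + e))).mul_right h4
  obtain ⟨w', hw', hwt, a', ν, b', ha', hb', h2 | h2⟩ := ff_form L hu (map_one σ) hut l e
  · rw [h1] at hwt
    obtain ⟨s, hs, rfl⟩ := same L L.dp hw' hw hz hwt hwz
    have h3 := hc v hv
    rw [h2] at h3
    have h4 := p_A L hv ν ha' hb'
    set A := np a' * m ν * nr b'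
    have h5 : v * w' * A = w' * v * A := by
      calc v * w' * A = v * (w' * A) := by rw [mul_assoc]
        _ = w' * (A * v) := by rw [h3, mul_assoc]
        _ = w' * v * A := by rw [← h4, mul_assoc]
    have h6 := mul_right_cancel h5
    have h7 := L.dp.cn v hv s hs
    calc v * (w' * np s) = (v * w') * np s := by rw [mul_assoc]
      _ = w' * (v * np s) := by rw [h6, mul_assoc]
      _ = _ := by rw [h7, mul_assoc]
  · exfalso
    rw [h1] at hwt
    have h3 := hc w' hw'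
    rw [h2] at h3
    have h4 := p_A L hw' ν ha' hb'
    set A := np a' * m ν * nr b'
    have h5 : w' * (w' * t) * A = w' * (t * w') * A := by
      calc w' * (w' * t) * A = w' * (w' * (t * A)) := by simp only [mul_assoc]
        _ = w' * (t * (A * w')) := by rw [h3]; simp only [mul_assoc]
        _ = w' * (t * w') * A := by rw [← h4]; simp only [mul_assoc]
    have h6 := mul_left_cancel (mul_right_cancel h5)
    have h7 : w' * 1 = w' * np z := by
      rw [mul_one, ← hwt, ← h6, mul_assoc, tt, mul_one]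
    have h8 : np z = 1 := (mul_left_cancel h7).symm
    exact hz0 (np_inj L hz h8)

end line

end Cfsg.Agent.OddHalf.D7.Uni.Line

end

-- merged: Cfsg.Agent.OddHalf.D7.Uni.LineMod
section

/-!
# The module of a totally isotropic line (helper54, text: bb ODD 9100 (3))

`M = ⟨W s : s ∈ E⟩` written additively, when all `W s` commute. `main`: the groups `W s` are elementary abelian and
`u + γ l u + γ k u + γ (l + k) u ∈ W p` for `u ∈ W r`.
-/

set_option autoImplicit false
set_option linter.unusedSectionVars false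

namespace Cfsg.Agent.OddHalf.D7.Uni.LineMod

/-- The module `M`. -/
structure LMod {M F : Type*} [AddCommGroup M] [Field F] (σ : F →+* F) (τ : M →+ M) (γ : F → M →+ M)
    (np nr m : F → M) (P R : AddSubgroup M) : Prop where
  two : ∀ x : F, x + x = 0
  σσ : ∀ x, σ (σ x) = x
  nt : ∃ x, σ x ≠ x
  np_add : ∀ x y, σ x = x → σ y = y → np (x + y) = np x + np y
  nr_add : ∀ x y, σ x = x → σ y = y → nr (x + y) = nr x + nr y
  m_add : ∀ x y, m (x + y) = m x + m y
  inj : ∀ x μ y, σ x = x → σ y = y → np x + m μ + nr y = 0 → x = 0 ∧ μ = 0 ∧ y = 0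
  t_np : ∀ x, σ x = x → τ (np x) = np x
  t_nr : ∀ x, σ x = x → τ (nr x) = nr x
  t_m : ∀ x, τ (m x) = m x
  γ_zero : ∀ w, γ 0 w = w
  γ_add : ∀ l k w, γ (l + k) w = γ l (γ k w)
  γ_t : ∀ l w, τ (γ l w) = γ l (τ w)
  γ_P : ∀ l, ∀ w ∈ P, γ l w = w
  γ_m : ∀ l μ, γ l (m μ) = m μ + np (l * σ μ + σ l * μ)
  γ_nr : ∀ l y, σ y = y → γ l (nr y) = nr y + m (l * y) + np (l * σ l * y)
  np_P : ∀ x, σ x = x → np x ∈ P
  surj : ∀ x, σ x = x → ∃ w ∈ P, τ w = w + np x
  brkP : ∀ w ∈ P, ∃ x, σ x = x ∧ τ w = w + np x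
  cent : ∀ w ∈ P, τ w = w → ∃ x, σ x = x ∧ w = np x
  brk : ∀ u ∈ R, ∃ y, σ y = y ∧ τ u = u + nr y
  sq : ∀ u ∈ R, ∃ y, σ y = y ∧ u + u = nr y
  K2 : ∀ c, τ c = c → ∃ x μ y, σ x = x ∧ σ y = y ∧ c = np x + m μ + nr y

variable {M F : Type*} [AddCommGroup M] [Field F] {σ : F →+* F} {τ : M →+ M} {γ : F → M →+ M}
  {np nr m : F → M} {P R : AddSubgroup M} (L : LMod σ τ γ np nr m P R)

include L

theorem eq_of_add {x y : F} (h : x + y = 0) : x = y := by
  have := L.two y
  have h2 : x + y = y + y := by rw [h, this]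
  exact add_right_cancel h2

theorem np_zero : np 0 = 0 := by
  have := L.np_add 0 0 (map_zero _) (map_zero _)
  simpa using this

theorem nr_zero : nr 0 = 0 := by
  have := L.nr_add 0 0 (map_zero _) (map_zero _)
  simpa using this

theorem m_zero : m 0 = 0 := by
  have := L.m_add 0 0
  simpa using this

theorem np_two {x : F} (hx : σ x = x) : np x + np x = 0 := by
  rw [← L.np_add x x hx hx, L.two, np_zero L]

theorem nr_two {x : F} (hx : σ x = x) : nr x + nr x = 0 := by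
  rw [← L.nr_add x x hx hx, L.two, nr_zero L]

theorem m_two (x : F) : m x + m x = 0 := by
  rw [← L.m_add x x, L.two, m_zero L]

theorem fix_add {x y : F} (hx : σ x = x) (hy : σ y = y) : σ (x + y) = x + y := by
  rw [map_add, hx, hy]

theorem fix_tr (x y : F) : σ (x * σ y + σ x * y) = x * σ y + σ x * y := by
  rw [map_add, map_mul, map_mul, L.σσ, L.σσ, add_comm]

theorem fix_norm {y : F} (l : F) (hy : σ y = y) : σ (l * σ l * y) = l * σ l * y := by
  rw [map_mul, map_mul, L.σσ, hy, mul_comm (σ l) l]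

theorem A_inj {x y x' y' μ μ' : F} (hx : σ x = x) (hy : σ y = y) (hx' : σ x' = x') (hy' : σ y' = y')
    (h : np x + m μ + nr y = np x' + m μ' + nr y') : x = x' ∧ μ = μ' ∧ y = y' := by
  have h1 : np (x + x') + m (μ + μ') + nr (y + y') = 0 := by
    rw [L.np_add _ _ hx hx', L.nr_add _ _ hy hy', L.m_add]
    have : np x + np x' + (m μ + m μ') + (nr y + nr y') = (np x + m μ + nr y) + (np x' + m μ' + nr y') := by
      abel
    rw [this, h]
    have : (np x' + m μ' + nr y') + (np x' + m μ' + nr y') = (np x' + np x') + (m μ' + m μ') + (nr y' + nr y') := by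
      abel
    rw [this, np_two L hx', m_two L, nr_two L hy']
    simp
  obtain ⟨e1, e2, e3⟩ := L.inj _ _ _ (fix_add L hx hx') (fix_add L hy hy') h1
  exact ⟨eq_of_add L e1, eq_of_add L e2, eq_of_add L e3⟩

/-- the sum over four. -/
def S (γ : F → M →+ M) (u : M) (l k : F) : M := u + γ l u + γ k u + γ (l + k) u

omit L in
theorem S_def (u : M) (l k : F) : S γ u l k = u + γ l u + γ k u + γ (l + k) u := rfl

theorem S_form {u : M} (hu : u ∈ R) (l k : F) : ∃ w ∈ P, ∃ ν b, σ b = b ∧ S γ u l k = w + m ν + nr b := by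
  obtain ⟨y, hy, huy⟩ := L.brk u hu
  have hs : σ (y * (l * σ k + σ l * k)) = y * (l * σ k + σ l * k) := by
    rw [map_mul, hy, fix_tr L]
  obtain ⟨w, hw, hwt⟩ := L.surj _ hs
  have h1 : ∀ j, τ (γ j u) = γ j u + (nr y + m (j * y) + np (j * σ j * y)) := by
    intro j
    rw [L.γ_t, huy, map_add, L.γ_nr _ _ hy]
  have h2 : τ (S γ u l k) = S γ u l k + np (y * (l * σ k + σ l * k)) := by
    rw [S_def, map_add, map_add, map_add, h1, h1, h1, huy]
    have e1 : u + nr y + (γ l u + (nr y + m (l * y) + np (l * σ l * y))) +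
        (γ k u + (nr y + m (k * y) + np (k * σ k * y))) +
        (γ (l + k) u + (nr y + m ((l + k) * y) + np ((l + k) * σ (l + k) * y))) =
        (u + γ l u + γ k u + γ (l + k) u) + ((nr y + nr y) + (nr y + nr y)) +
          (m (l * y) + m (k * y) + m ((l + k) * y)) +
          (np (l * σ l * y) + np (k * σ k * y) + np ((l + k) * σ (l + k) * y)) := by abel
    rw [e1, nr_two L hy, ← L.m_add, ← L.m_add, ← add_mul, L.two, m_zero L,
      ← L.np_add _ _ (fix_norm L _ hy) (fix_norm L _ hy),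
      ← L.np_add _ _ (fix_add L (fix_norm L _ hy) (fix_norm L _ hy)) (fix_norm L _ hy)]
    have e2 : l * σ l * y + k * σ k * y + (l + k) * σ (l + k) * y = y * (l * σ k + σ l * k) := by
      rw [map_add]
      have h1 := L.two (l * σ l * y)
      have h2 := L.two (k * σ k * y)
      linear_combination h1 + h2
    rw [e2]
    simp
  have h3 : τ (S γ u l k - w) = S γ u l k - w := by
    rw [map_sub, h2, hwt]
    abel
  obtain ⟨x, ν, b, hx, hb, h4⟩ := L.K2 _ h3
  refine ⟨w + np x, P.add_mem hw (L.np_P x hx), ν, b, hb, ?_⟩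
  calc S γ u l k = w + (S γ u l k - w) := by abel
    _ = _ := by rw [h4]; abel

theorem E_form {u w : M} (hw : w ∈ P) {l k ν b : F} (hb : σ b = b) (h : S γ u l k = w + m ν + nr b) :
    ∃ ρ, σ ρ = ρ ∧ w + w = np ρ ∧ ∀ j, γ j (S γ u l k) + S γ u l k =
      np (ρ + (j * σ ν + σ j * ν) + j * σ j * b) + m (j * b) + nr 0 := by
  obtain ⟨x, hx, hwx⟩ := L.brkP w hw
  have h1 : τ (w + w) = w + w := by
    rw [map_add, hwx]
    have : w + np x + (w + np x) = w + w + (np x + np x) := by abel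
    rw [this, np_two L hx, add_zero]
  obtain ⟨ρ, hρ, h2⟩ := L.cent _ (P.add_mem hw hw) h1
  refine ⟨ρ, hρ, h2, fun j => ?_⟩
  rw [h, map_add, map_add, L.γ_P j w hw, L.γ_m, L.γ_nr _ _ hb]
  rw [L.np_add _ _ (fix_add L hρ (fix_tr L j ν)) (fix_norm L j hb), L.np_add _ _ hρ (fix_tr L j ν), ← h2,
    nr_zero L]
  have e : w + (m ν + np (j * σ ν + σ j * ν)) + (nr b + m (j * b) + np (j * σ j * b)) + (w + m ν + nr b) =
      (m ν + m ν) + (nr b + nr b) + (w + w + np (j * σ ν + σ j * ν) + np (j * σ j * b) + m (j * b)) := by abel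
  rw [e, m_two L, nr_two L hb]
  abel

theorem E_symm (u : M) (l k j : F) : γ j (S γ u l k) + S γ u l k = γ l (S γ u j k) + S γ u j k := by
  rw [S_def, S_def]
  simp only [map_add, ← L.γ_add]
  rw [show j + l = l + j from add_comm _ _, show l + (j + k) = j + (l + k) by ring]
  abel

theorem S_symm (u : M) (l k : F) : S γ u l k = S γ u k l := by
  rw [S_def, S_def, add_comm l k]
  abel

theorem tr_ne {e : F} (he : σ e ≠ e) : e + σ e ≠ 0 := fun h => he (eq_of_add L h).symm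

/-- uniqueness of the coordinate. -/
theorem uniq {w w' : M} (hw : w ∈ P) (hw' : w' ∈ P) {ν ν' : F} (h : w + m ν = w' + m ν') : ν = ν' := by
  have h1 : w - w' = m ν' - m ν := by
    have : w = w' + m ν' - m ν := by rw [← h]; abel
    rw [this]
    abel
  have h2 : τ (w - w') = w - w' := by
    rw [h1, map_sub, L.t_m, L.t_m]
  obtain ⟨x, hx, h3⟩ := L.cent _ (P.sub_mem hw hw') h2
  have h4 : np x + m ν + nr 0 = np 0 + m ν' + nr 0 := by
    rw [← h3, h1, np_zero L]
    abel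
  exact (A_inj L hx (map_zero _) (map_zero _) (map_zero _) h4).2.1

/-- An `F_q`-trilinear alternating symmetric form on a plane vanishes. -/
theorem N_zero {N : F → F → F} (hsym : ∀ l k j, j * σ (N l k) + σ j * N l k = l * σ (N j k) + σ l * N j k)
    (hsym' : ∀ l k, N l k = N k l) (halt : ∀ l, N l l = 0) (l k : F) : N l k = 0 := by
  have hne : ∀ x : F, (∀ j, j * σ x + σ j * x = 0) → x = 0 := by
    intro x hx
    obtain ⟨e, he⟩ := L.nt
    by_contra hx0
    have h1 := hx (e * x)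
    have h2 : (e + σ e) * (x * σ x) = 0 := by rw [← h1, map_mul]; ring
    rcases mul_eq_zero.1 h2 with h3 | h3
    · exact tr_ne L he h3
    · rcases mul_eq_zero.1 h3 with h4 | h4
      · exact hx0 h4
      · exact hx0 ((map_eq_zero σ).1 h4)
  -- additivity in the first variable
  have hadd : ∀ a b k, N (a + b) k = N a k + N b k := by
    intro a b k
    have : N (a + b) k + (N a k + N b k) = 0 := by
      apply hne
      intro j
      have h1 := hsym (a + b) k j
      have h2 := hsym a k j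
      have h3 := hsym b k j
      have h4 := L.two (a * σ (N j k) + σ a * N j k)
      have h5 := L.two (b * σ (N j k) + σ b * N j k)
      simp only [map_add] at h1 ⊢
      linear_combination h1 + h2 + h3 + h4 + h5
    exact eq_of_add L this
  have hlin : ∀ a x k, σ a = a → N (a * x) k = a * N x k := by
    intro a x k ha
    have : N (a * x) k + a * N x k = 0 := by
      apply hne
      intro j
      have h1 := hsym (a * x) k j
      have h2 := hsym x k j
      have h3 := L.two (a * (x * σ (N j k) + σ x * N j k))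
      simp only [map_add, map_mul, ha] at h1 ⊢
      linear_combination h1 + a * h2 + h3
    exact eq_of_add L this
  -- basis
  have hN : ∀ l k, k ≠ 0 → N l k = 0 := by
    intro l k hk
    apply hne
    intro j
    obtain ⟨e, he⟩ := L.nt
    have hE := tr_ne L he
    by_cases hjk : σ (j / k) = j / k
    · -- `j` is a multiple of `k`
      have hj : j = (j / k) * k := by field_simp
      rw [hj, hsym, hj]
      have h1 : N (j / k * k) k = 0 := by rw [hlin _ _ _ hjk, halt, mul_zero]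
      have h2 : N (j / k * k / k * k) k = 0 := by
        have : j / k * k / k * k = j / k * k := by field_simp
        rw [this, h1]
      rw [h2, map_zero]
      ring
    · -- `j, k` is a basis, `l = a j + b k`
      set d := j / k with hd
      have hd' := tr_ne L hjk
      set x := l / k with hx
      have hσ : σ (d + σ d) = d + σ d := by rw [map_add, L.σσ, add_comm]
      have ha : σ ((x + σ x) / (d + σ d)) = (x + σ x) / (d + σ d) := by
        rw [map_div₀, hσ, map_add, L.σσ, add_comm (σ x)]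
      set a := (x + σ x) / (d + σ d) with hadef
      have hxa : x + σ x = a * (d + σ d) := by rw [hadef]; field_simp
      have hb : σ (x + a * d) = x + a * d := by
        rw [map_add, map_mul, ha]
        have h1 := L.two x
        have h2 := L.two (a * σ d)
        linear_combination hxa - h1 + h2
      have hl : l = a * j + (x + a * d) * k := by
        have h1 : l = x * k := by rw [hx]; field_simp
        have h2 : j = d * k := by rw [hd]; field_simp
        have h3 := L.two (a * d * k)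
        rw [h2]
        linear_combination h1 - h3
      rw [hl, hadd, hlin _ _ _ ha, hlin _ _ _ hb, halt, mul_zero, add_zero]
      have h1 : j * σ (N j k) + σ j * N j k = 0 := by
        rw [hsym' j k, hsym k j j, halt, map_zero]
        ring
      rw [map_mul, ha]
      linear_combination a * h1
  by_cases hk : k = 0
  · rw [hsym' l k]
    by_cases hl : l = 0
    · rw [hk, hl, halt]
    · exact hN k l hl
  · exact hN l k hk

/-- `W s` is elementary abelian, and the sum over four lies in `W p`. -/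
theorem main {u : M} (hu : u ∈ R) (hel : (∃ k, σ k = k ∧ k ≠ 0 ∧ k ≠ 1) ∨ u + u = 0) :
    u + u = 0 ∧ ∀ l k, S γ u l k ∈ P := by
  obtain ⟨e, he⟩ := L.nt
  have hE := tr_ne L he
  obtain ⟨y', hy', hsq⟩ := L.sq u hu
  have h0 := S_form L hu
  choose w hw ν b hb hS using h0
  have h1 := fun l k => E_form L (hw l k) (hb l k) (hS l k)
  choose ρ hρ hww hρE using h1
  -- symmetry
  have hsy : ∀ l k j, ρ l k + (j * σ (ν l k) + σ j * ν l k) + j * σ j * b l k =
      ρ j k + (l * σ (ν j k) + σ l * ν j k) + l * σ l * b j k ∧ j * b l k = l * b j k := by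
    intro l k j
    have h2 := E_symm L u l k j
    rw [hρE, hρE] at h2
    obtain ⟨h3, h4, -⟩ := A_inj L (fix_add L (fix_add L (hρ l k) (fix_tr L _ _)) (fix_norm L j (hb l k)))
      (map_zero _) (fix_add L (fix_add L (hρ j k) (fix_tr L _ _)) (fix_norm L l (hb j k))) (map_zero _) h2
    exact ⟨h3, h4⟩
  -- `b = 0`
  have hb0 : ∀ l k, b l k = 0 := by
    have h2 : ∀ k, b 1 k = 0 := by
      intro k
      have h3 := (hsy e k 1).2
      rw [one_mul] at h3
      by_contra h4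
      apply he
      have h5 : e = b e k / b 1 k := by rw [h3]; field_simp
      rw [h5, map_div₀, hb, hb]
    intro l k
    have h3 := (hsy l k 1).2
    rw [one_mul, h2, mul_zero] at h3
    exact h3
  have hSw : ∀ l k, S γ u l k = w l k + m (ν l k) := by
    intro l k
    rw [hS, hb0, nr_zero L, add_zero]
  have hνs : ∀ l k, ν l k = ν k l := by
    intro l k
    refine uniq L (hw l k) (hw k l) ?_
    rw [← hSw, ← hSw, S_symm L]
  have h3 : ∀ l k j, ρ l k + (j * σ (ν l k) + σ j * ν l k) = ρ j k + (l * σ (ν j k) + σ l * ν j k) := by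
    intro l k j
    have := (hsy l k j).1
    rw [hb0, hb0] at this
    simpa only [_root_.MulZeroClass.mul_zero, _root_.add_zero] using this
  -- values at `0`
  have hγu : ∀ l, γ l (u + u) = nr y' + m (l * y') + np (l * σ l * y') := by
    intro l
    rw [hsq, L.γ_nr _ _ hy']
  have hν0 : ∀ l, ν l 0 = l * y' ∧ ρ l 0 = 0 := by
    intro l
    have h4 : S γ u l 0 = np (l * σ l * y') + m (l * y') := by
      rw [S_def, add_zero, L.γ_zero]
      have : u + γ l u + u + γ l u = (u + u) + γ l (u + u) := by rw [map_add]; abel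
      rw [this, hγu, hsq]
      have : nr y' + (nr y' + m (l * y') + np (l * σ l * y')) =
        (nr y' + nr y') + (np (l * σ l * y') + m (l * y')) := by abel
      rw [this, nr_two L hy', zero_add]
    have h5 := hSw l 0
    rw [h4] at h5
    have h6 := uniq L (L.np_P _ (fix_norm L l hy')) (hw l 0) h5
    refine ⟨h6.symm, ?_⟩
    rw [← h6] at h5
    have h7 : np (l * σ l * y') = w l 0 := add_right_cancel h5
    have h8 := hww l 0
    rw [← h7, np_two L (fix_norm L l hy')] at h8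
    have h9 : np (ρ l 0) + m 0 + nr 0 = np 0 + m 0 + nr 0 := by rw [← h8, np_zero L]
    exact (A_inj L (hρ _ _) (map_zero _) (map_zero _) (map_zero _) h9).1
  have hρ1 : ∀ l k, ρ l k = y' * (l * σ k + σ l * k) := by
    intro l k
    -- `T'(l, k, 0) = ρ l k = T'(0, k, l)`; `T'(l, 0, j) = j σ(l y') + ..`
    have h4 := h3 0 k l
    have h5 : ν 0 k = k * y' := by rw [hνs, (hν0 k).1]
    have h6 : ρ 0 k = 0 := by
      have h7 := h3 k 0 0
      rw [(hν0 k).2, (hν0 0).2] at h7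
      have h8 := h3 0 k 0
      have h9 : np (ρ 0 k) = w 0 k + w 0 k := (hww 0 k).symm
      have h10 : w 0 k + m (ν 0 k) = w k 0 + m (ν k 0) := by rw [← hSw, ← hSw, S_symm L]
      rw [hνs 0 k] at h10
      have h11 := add_right_cancel h10
      have h12 := hww k 0
      rw [(hν0 k).2] at h12
      rw [h11, h12] at h9
      have h13 : np (ρ 0 k) + m 0 + nr 0 = np 0 + m 0 + nr 0 := by rw [h9]
      exact (A_inj L (hρ _ _) (map_zero _) (map_zero _) (map_zero _) h13).1
    rw [h5, h6] at h4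
    simp only [map_zero, map_mul, hy', zero_mul, add_zero, zero_add] at h4
    rw [← h4]
    ring
  -- the symmetric trilinear form
  have hT : ∀ l k j, j * σ (ν l k + y' * l + y' * k) + σ j * (ν l k + y' * l + y' * k) =
      l * σ (ν j k + y' * j + y' * k) + σ l * (ν j k + y' * j + y' * k) := by
    intro l k j
    have h4 := h3 l k j
    rw [hρ1, hρ1] at h4
    simp only [map_add, map_mul, hy']
    have e1 := L.two (y' * (l * σ k + σ l * k))
    have e2 := L.two (y' * (j * σ k + σ j * k))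
    linear_combination h4 + e2 - e1
  have hνll : ∀ l, ν l l = l * y' := by
    intro l
    have h4 : S γ u l l = np (l * σ l * y') + m (l * y') := by
      rw [S_def, L.two l, L.γ_zero]
      have : u + γ l u + γ l u + u = (u + u) + γ l (u + u) := by rw [map_add]; abel
      rw [this, hγu, hsq]
      have : nr y' + (nr y' + m (l * y') + np (l * σ l * y')) =
        (nr y' + nr y') + (np (l * σ l * y') + m (l * y')) := by abel
      rw [this, nr_two L hy', zero_add]
    have h5 := hSw l l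
    rw [h4] at h5
    exact (uniq L (L.np_P _ (fix_norm L l hy')) (hw l l) h5).symm
  have hN : ∀ l, ν l l + y' * l + y' * l = l * y' := by
    intro l
    rw [hνll, add_assoc, L.two, add_zero]
  have hy0 : y' = 0 := by
    rcases hel with ⟨a, ha, ha0, ha1⟩ | hel
    · -- `T(a e, a e, 1) = a² T(e, e, 1)`
      have e1 := hT (a * e) (a * e) 1
      have e2 := hT e (a * e) (a * 1)
      have e3 := hT (a * e) 1 e
      have e4 := hT e e 1
      have e5 := hT (a * 1) e (a * e)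
      have e6 := hT 1 e e
      -- T(l,k,j) := j σ N(l,k) + σ j N(l,k)
      have l1 : ∀ l k j c, σ c = c → (c * j) * σ (ν l k + y' * l + y' * k) + σ (c * j) * (ν l k + y' * l + y' * k) =
          c * (j * σ (ν l k + y' * l + y' * k) + σ j * (ν l k + y' * l + y' * k)) := by
        intro l k j c hc
        rw [map_mul, hc]
        ring
      have l2 : ∀ l k j c, σ c = c → j * σ (ν (c * l) k + y' * (c * l) + y' * k) +
          σ j * (ν (c * l) k + y' * (c * l) + y' * k) =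
          c * (j * σ (ν l k + y' * l + y' * k) + σ j * (ν l k + y' * l + y' * k)) := by
        intro l k j c hc
        rw [hT, l1 _ _ _ _ hc, hT j k l]
      have l3 : ∀ l k j, j * σ (ν l k + y' * l + y' * k) + σ j * (ν l k + y' * l + y' * k) =
          j * σ (ν k l + y' * k + y' * l) + σ j * (ν k l + y' * k + y' * l) := by
        intro l k j
        rw [hνs l k, add_right_comm]
      have l4 := l2 e (a * e) 1 a ha
      rw [l3 e (a * e) 1, l2 e e 1 a ha, hN, hN] at l4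
      simp only [map_mul, ha, hy', map_one, one_mul] at l4
      have l5 : (a * (a + 1)) * ((e + σ e) * y') = 0 := by
        have := L.two (a * (e * y' + σ e * y'))
        linear_combination this - l4
      rcases mul_eq_zero.1 l5 with l6 | l6
      · rcases mul_eq_zero.1 l6 with l7 | l7
        · exact absurd l7 ha0
        · exact absurd (eq_of_add L l7) ha1
      · rcases mul_eq_zero.1 l6 with l7 | l7
        · exact absurd l7 hE
        · exact l7
    · rw [hsq] at hel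
      have h13 : np 0 + m 0 + nr y' = np 0 + m 0 + nr 0 := by rw [hel, nr_zero L]
      exact (A_inj L (map_zero _) hy' (map_zero _) (map_zero _) h13).2.2
  refine ⟨by rw [hsq, hy0, nr_zero L], fun l k => ?_⟩
  have hz : ν l k = 0 := by
    refine N_zero L (N := ν) ?_ hνs ?_ l k
    · intro l k j
      have := hT l k j
      rw [hy0] at this
      simpa only [_root_.MulZeroClass.zero_mul, _root_.add_zero] using this
    · intro l
      rw [hνll, hy0, mul_zero]
  rw [hSw, hz, m_zero L, add_zero]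
  exact hw l k

end Cfsg.Agent.OddHalf.D7.Uni.LineMod

end

-- merged: Cfsg.Agent.OddHalf.D7.Uni.LineGrp
section

/-!
# `LineMod.main` in the group (helper54, text: bb ODD 9100 (3))

`line_main`: if all the groups `W s`, `s ∈ E`, commute (`Comm`), then `W r` is elementary abelian (`q = 2`: given)
and `u * U l * U k * U (l + k) ∈ W p` for `u ∈ W r`, `U l = g l * u * (g l)⁻¹`.
-/

set_option autoImplicit false
set_option linter.unusedSectionVars false

namespace Cfsg.Agent.OddHalf.D7.Uni.LineGrp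

open Cfsg.Agent.OddHalf.D7.Uni.Defs Cfsg.Agent.OddHalf.D7.Uni.Line

variable {G : Type*} [Group G] {F : Type*} [Field F] {σ : F →+* F} {t : G} {np nr m g : F → G}
  {OE Wp Wr : Subgroup G}

/-- All the groups `W s`, `s ∈ E`, commute. -/
structure Comm (Wp Wr : Subgroup G) (g : F → G) : Prop where
  pp : ∀ v ∈ Wp, ∀ u ∈ Wp, v * u = u * v
  pr : ∀ v ∈ Wp, ∀ u ∈ Wr, v * u = u * v
  rr : ∀ l, ∀ u ∈ Wr, ∀ v ∈ Wr, g l * u * (g l)⁻¹ * v = v * (g l * u * (g l)⁻¹)

/-- The generators of `⟨W s : s ∈ E⟩`. -/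
def gens (Wp Wr : Subgroup G) (m g : F → G) : Set G :=
  {x | x ∈ Wp ∨ (∃ l, ∃ u ∈ Wr, x = g l * u * (g l)⁻¹) ∨ ∃ μ, x = m μ}

variable (L : Line σ t OE Wp Wr np nr m g) (H : Comm Wp Wr g)

include L H

theorem gens_comm {x y : G} (hx : x ∈ gens Wp Wr m g) (hy : y ∈ gens Wp Wr m g) : x * y = y * x := by
  have C := L.toCoord
  have hm : ∀ x μ, x ∈ gens Wp Wr m g → x * m μ = m μ * x := by
    intro x μ hx
    rcases hx with hx | ⟨l, u, hu, rfl⟩ | ⟨ν, rfl⟩
    · exact L.p_m x hx μ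
    · have := U_A L hu l μ (map_zero σ) (map_zero σ)
      rw [np_zero C, nr_zero C, one_mul, mul_one] at this
      exact this
    · rw [← C.m_add, ← C.m_add, add_comm]
  have hpU : ∀ v ∈ Wp, ∀ l, ∀ u ∈ Wr, v * (g l * u * (g l)⁻¹) = g l * u * (g l)⁻¹ * v := by
    intro v hv l u hu
    have e1 : Commute v (g l) := (L.g_p l v hv).symm
    have e2 : Commute v u := H.pr v hv u hu
    exact (e1.mul_right e2).mul_right e1.inv_right
  have hUU : ∀ l, ∀ u ∈ Wr, ∀ k, ∀ v ∈ Wr, g l * u * (g l)⁻¹ * (g k * v * (g k)⁻¹) =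
      g k * v * (g k)⁻¹ * (g l * u * (g l)⁻¹) := by
    intro l u hu k v hv
    have e1 : g l = g k * g (k + l) := by
      rw [← C.g_add, ← add_assoc, C.two, zero_add]
    have e2 := H.rr (k + l) u hu v hv
    have e3 : g l * u * (g l)⁻¹ = g k * (g (k + l) * u * (g (k + l))⁻¹) * (g k)⁻¹ := by
      rw [e1]; group
    rw [e3]
    calc g k * (g (k + l) * u * (g (k + l))⁻¹) * (g k)⁻¹ * (g k * v * (g k)⁻¹) =
        g k * (g (k + l) * u * (g (k + l))⁻¹ * v) * (g k)⁻¹ := by group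
      _ = g k * (v * (g (k + l) * u * (g (k + l))⁻¹)) * (g k)⁻¹ := by rw [e2]
      _ = _ := by group
  rcases hy with hy' | ⟨k, v, hv, rfl⟩ | ⟨ν, rfl⟩
  · rcases hx with hx' | ⟨l, u, hu, rfl⟩ | ⟨μ, rfl⟩
    · exact H.pp x hx' y hy'
    · exact (hpU y hy' l u hu).symm
    · exact (hm y μ (Or.inl hy')).symm
  · rcases hx with hx' | ⟨l, u, hu, rfl⟩ | ⟨μ, rfl⟩
    · exact hpU x hx' k v hv
    · exact hUU l u hu k v hv
    · exact (hm _ μ (Or.inr (Or.inl ⟨k, v, hv, rfl⟩))).symm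
  · exact hm x ν hx

theorem FE_comm {x y : G} (hx : x ∈ Subgroup.closure (gens Wp Wr m g))
    (hy : y ∈ Subgroup.closure (gens Wp Wr m g)) : x * y = y * x := by
  have h1 : ∀ z ∈ gens Wp Wr m g, Subgroup.closure (gens Wp Wr m g) ≤ Subgroup.centralizer {z} := by
    intro z hz
    rw [Subgroup.closure_le]
    intro w hw
    rw [SetLike.mem_coe, Subgroup.mem_centralizer_singleton_iff]
    exact gens_comm L H hw hz
  have h2 : Subgroup.closure (gens Wp Wr m g) ≤ Subgroup.centralizer {y} := by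
    rw [Subgroup.closure_le]
    intro w hw
    rw [SetLike.mem_coe, Subgroup.mem_centralizer_singleton_iff]
    have := h1 w hw hy
    rw [Subgroup.mem_centralizer_singleton_iff] at this
    exact this.symm
  have := h2 hx
  rw [Subgroup.mem_centralizer_singleton_iff] at this
  exact this

omit H in
theorem O_FE {c x : G} (hc : c ∈ OE) (hx : x ∈ Subgroup.closure (gens Wp Wr m g))
    (hm : ∀ μ, c * m μ = m μ * c) : c * x = x * c := by
  have h2 : Subgroup.closure (gens Wp Wr m g) ≤ Subgroup.centralizer {c} := by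
    rw [Subgroup.closure_le]
    intro w hw
    rw [SetLike.mem_coe, Subgroup.mem_centralizer_singleton_iff]
    rcases hw with hw | ⟨l, u, hu, rfl⟩ | ⟨ν, rfl⟩
    · exact (L.O_p c hc w hw).symm
    · exact (O_U L hu l hc).symm
    · exact (hm ν).symm
  have := h2 hx
  rw [Subgroup.mem_centralizer_singleton_iff] at this
  exact this.symm

omit H in
theorem conj_mem {a : G} (ha : ∀ x ∈ gens Wp Wr m g, a * x * a⁻¹ ∈ Subgroup.closure (gens Wp Wr m g)) {x : G}
    (hx : x ∈ Subgroup.closure (gens Wp Wr m g)) : a * x * a⁻¹ ∈ Subgroup.closure (gens Wp Wr m g) := by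
  have h2 : Subgroup.closure (gens Wp Wr m g) ≤
      (Subgroup.closure (gens Wp Wr m g)).comap (MulAut.conj a).toMonoidHom := by
    rw [Subgroup.closure_le]
    intro w hw
    exact ha w hw
  exact h2 hx

omit H in
theorem t_FE {x : G} (hx : x ∈ Subgroup.closure (gens Wp Wr m g)) :
    t * x * t⁻¹ ∈ Subgroup.closure (gens Wp Wr m g) := by
  have C := L.toCoord
  refine conj_mem L ?_ hx
  have ht : t⁻¹ = t := inv_eq_of_mul_eq_one_left L.tt
  have hp : ∀ x, σ x = x → np x ∈ Subgroup.closure (gens Wp Wr m g) :=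
    fun x hx => Subgroup.subset_closure (Or.inl (L.dp.mem x hx))
  have hr : ∀ x, σ x = x → nr x ∈ Subgroup.closure (gens Wp Wr m g) := fun x hx =>
    Subgroup.subset_closure (Or.inr (Or.inl ⟨0, nr x, L.dr.mem x hx, by rw [U_zero L]⟩))
  have hm : ∀ x, m x ∈ Subgroup.closure (gens Wp Wr m g) := fun x =>
    Subgroup.subset_closure (Or.inr (Or.inr ⟨x, rfl⟩))
  rintro x (hx | ⟨l, u, hu, rfl⟩ | ⟨μ, rfl⟩)
  · obtain ⟨y, hy, h⟩ := L.dp.brk x hx
    rw [ht, h]
    exact mul_mem (Subgroup.subset_closure (Or.inl hx)) (hp y hy)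
  · obtain ⟨y, hy, h⟩ := L.dr.brk u hu
    rw [ht, tU L hy h]
    exact mul_mem (Subgroup.subset_closure (Or.inr (Or.inl ⟨l, u, hu, rfl⟩)))
      (mul_mem (mul_mem (hp _ (fix_norm C l hy)) (hm _)) (hr y hy))
  · rw [L.t_m, mul_assoc, mul_inv_cancel, mul_one]
    exact hm μ

omit H in
theorem g_FE (k : F) {x : G} (hx : x ∈ Subgroup.closure (gens Wp Wr m g)) :
    g k * x * (g k)⁻¹ ∈ Subgroup.closure (gens Wp Wr m g) := by
  have C := L.toCoord
  refine conj_mem L ?_ hx
  rintro x (hx | ⟨l, u, hu, rfl⟩ | ⟨μ, rfl⟩)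
  · rw [L.g_p k x hx, mul_assoc, mul_inv_cancel, mul_one]
    exact Subgroup.subset_closure (Or.inl hx)
  · refine Subgroup.subset_closure (Or.inr (Or.inl ⟨k + l, u, hu, ?_⟩))
    rw [C.g_add]
    group
  · rw [C.g_m]
    exact mul_mem (Subgroup.subset_closure (Or.inr (Or.inr ⟨μ, rfl⟩)))
      (Subgroup.subset_closure (Or.inl (L.dp.mem _ (fix_tr C k μ))))

/-- Conjugation on a subgroup. -/
noncomputable def cj (A : Subgroup G) (a : G) (ha : ∀ x ∈ A, a * x * a⁻¹ ∈ A) : A →* A :=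
  ((MulAut.conj a).toMonoidHom.comp A.subtype).codRestrict A (fun x => ha x x.2)

omit L H in
theorem cj_coe (A : Subgroup G) (a : G) (ha : ∀ x ∈ A, a * x * a⁻¹ ∈ A) (x : A) :
    ((cj A a ha x : A) : G) = a * x * a⁻¹ := rfl

theorem line_main {u : G} (hu : u ∈ Wr)
    (hel : (∃ k, σ k = k ∧ k ≠ 0 ∧ k ≠ 1) ∨ u * u = 1) :
    u * u = 1 ∧ ∀ l k, u * (g l * u * (g l)⁻¹) * (g k * u * (g k)⁻¹) * (g (l + k) * u * (g (l + k))⁻¹) ∈ Wp := by
  classical
  have C := L.toCoord
  set A := Subgroup.closure (gens Wp Wr m g) with hA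
  have ht : t⁻¹ = t := inv_eq_of_mul_eq_one_left L.tt
  let _ : CommGroup A := { (inferInstance : Group A) with
    mul_comm := fun a b => Subtype.ext (FE_comm L H a.2 b.2) }
  have hWp : ∀ x ∈ Wp, x ∈ A := fun x hx => Subgroup.subset_closure (Or.inl hx)
  have hWr : ∀ x ∈ Wr, x ∈ A := fun x hx =>
    Subgroup.subset_closure (Or.inr (Or.inl ⟨0, x, hx, by rw [U_zero L]⟩))
  have hnp : ∀ x, σ x = x → np x ∈ A := fun x hx => hWp _ (L.dp.mem x hx)
  have hnr : ∀ x, σ x = x → nr x ∈ A := fun x hx => hWr _ (L.dr.mem x hx)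
  have hm : ∀ x, m x ∈ A := fun x => Subgroup.subset_closure (Or.inr (Or.inr ⟨x, rfl⟩))
  let np' : F → Additive A := fun x => if h : np x ∈ A then Additive.ofMul ⟨np x, h⟩ else 0
  let nr' : F → Additive A := fun x => if h : nr x ∈ A then Additive.ofMul ⟨nr x, h⟩ else 0
  let m' : F → Additive A := fun x => Additive.ofMul ⟨m x, hm x⟩
  let c : Additive A → G := fun x => ((Additive.toMul x : A) : G)
  have cinj : ∀ x y, c x = c y → x = y := fun x y h => Additive.toMul.injective (Subtype.ext h)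
  have cadd : ∀ x y, c (x + y) = c x * c y := fun x y => rfl
  have czero : c 0 = 1 := rfl
  have cnp : ∀ x, σ x = x → c (np' x) = np x := by
    intro x hx
    show c (if h : np x ∈ A then Additive.ofMul ⟨np x, h⟩ else 0) = np x
    rw [dif_pos (hnp x hx)]
    rfl
  have cnr : ∀ x, σ x = x → c (nr' x) = nr x := by
    intro x hx
    show c (if h : nr x ∈ A then Additive.ofMul ⟨nr x, h⟩ else 0) = nr x
    rw [dif_pos (hnr x hx)]
    rfl
  have cm : ∀ x, c (m' x) = m x := fun x => rfl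
  let τ : Additive A →+ Additive A := MonoidHom.toAdditive (cj A t (fun x hx => t_FE L hx))
  let γ : F → Additive A →+ Additive A := fun l => MonoidHom.toAdditive (cj A (g l) (fun x hx => g_FE L l hx))
  have cτ : ∀ x, c (τ x) = t * c x * t⁻¹ := fun x => rfl
  have cγ : ∀ l x, c (γ l x) = g l * c x * (g l)⁻¹ := fun l x => rfl
  let P : AddSubgroup (Additive A) := Subgroup.toAddSubgroup (Wp.subgroupOf A)
  let R : AddSubgroup (Additive A) := Subgroup.toAddSubgroup (Wr.subgroupOf A)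
  have hP : ∀ x, x ∈ P ↔ c x ∈ Wp := fun x => Iff.rfl
  have hR : ∀ x, x ∈ R ↔ c x ∈ Wr := fun x => Iff.rfl
  have lift : ∀ x ∈ A, ∃ y, c y = x := fun x hx => ⟨Additive.ofMul ⟨x, hx⟩, rfl⟩
  have hnotin : t ∉ A := by
    intro h
    obtain ⟨w, hw, hwt⟩ := L.dp.surj 1 (map_one σ)
    have h1 := FE_comm L H h (hWp w hw)
    rw [h1, mul_assoc, L.tt] at hwt
    have h2 : np 1 = 1 := (mul_left_cancel hwt).symm
    exact one_ne_zero (np_inj L (map_one σ) h2)
  have LM : LineMod.LMod σ τ γ np' nr' m' P R :=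
    { two := C.two
      σσ := C.σσ
      nt := C.nt
      np_add := fun x y hx hy => cinj _ _ (by
        rw [cadd, cnp _ (fix_add C hx hy), cnp x hx, cnp y hy, C.np_add x y hx hy])
      nr_add := fun x y hx hy => cinj _ _ (by
        rw [cadd, cnr _ (fix_add C hx hy), cnr x hx, cnr y hy, C.nr_add x y hx hy])
      m_add := fun x y => cinj _ _ (by rw [cadd, cm, cm, cm, C.m_add])
      inj := fun x μ y hx hy h => C.inj x μ y hx hy (by
        have := congrArg c h
        rwa [cadd, cadd, cnp x hx, cnr y hy, cm, czero] at this)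
      t_np := fun x hx => cinj _ _ (by rw [cτ, cnp x hx, C.t_np x hx]; group)
      t_nr := fun x hx => cinj _ _ (by rw [cτ, cnr x hx, C.t_nr x hx]; group)
      t_m := fun x => cinj _ _ (by rw [cτ, cm, C.t_m x]; group)
      γ_zero := fun w => cinj _ _ (by rw [cγ, g_zero C]; simp)
      γ_add := fun l k w => cinj _ _ (by rw [cγ, cγ, cγ, C.g_add]; group)
      γ_t := fun l w => cinj _ _ (by
        rw [cτ, cγ, cγ, cτ]
        have e1 := C.t_g l
        calc t * (g l * c w * (g l)⁻¹) * t⁻¹ = (t * g l) * c w * (t * g l)⁻¹ := by group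
          _ = _ := by rw [e1]; group)
      γ_P := fun l w hw => cinj _ _ (by
        rw [cγ, L.g_p l _ ((hP w).1 hw)]; group)
      γ_m := fun l μ => cinj _ _ (by
        rw [cγ, cadd, cm, cnp _ (fix_tr C l μ), C.g_m])
      γ_nr := fun l y hy => cinj _ _ (by
        rw [cγ, cadd, cadd, cm, cnp _ (fix_norm C l hy), cnr y hy, C.g_nr l y hy])
      np_P := fun x hx => (hP _).2 (by rw [cnp x hx]; exact L.dp.mem x hx)
      surj := fun x hx => by
        obtain ⟨w, hw, h⟩ := L.dp.surj x hx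
        obtain ⟨w', rfl⟩ := lift w (hWp w hw)
        exact ⟨w', (hP _).2 hw, cinj _ _ (by rw [cτ, cadd, cnp x hx, ht, h])⟩
      brkP := fun w hw => by
        obtain ⟨x, hx, h⟩ := L.dp.brk _ ((hP w).1 hw)
        exact ⟨x, hx, cinj _ _ (by rw [cτ, cadd, cnp x hx, ht, h])⟩
      cent := fun w hw h => by
        have h1 := congrArg c h
        rw [cτ] at h1
        have h2 : t * c w = c w * t := by
          calc t * c w = (t * c w * t⁻¹) * t := by group
            _ = _ := by rw [h1]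
        obtain ⟨x, hx, h3⟩ := L.dp.cent _ ((hP w).1 hw) h2
        exact ⟨x, hx, cinj _ _ (by rw [cnp x hx, h3])⟩
      brk := fun w hw => by
        obtain ⟨x, hx, h⟩ := L.dr.brk _ ((hR w).1 hw)
        exact ⟨x, hx, cinj _ _ (by rw [cτ, cadd, cnr x hx, ht, h])⟩
      sq := fun w hw => by
        obtain ⟨x, hx, h⟩ := rsq L ((hR w).1 hw)
        exact ⟨x, hx, cinj _ _ (by rw [cadd, cnr x hx, h])⟩
      K2 := fun x h => by
        have h1 := congrArg c h
        rw [cτ] at h1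
        have h2 : c x * t = t * c x := by
          calc c x * t = (t * c x * t⁻¹) * t := by rw [h1]
            _ = _ := by group
        have hxA : c x ∈ A := (Additive.toMul x : A).2
        obtain ⟨a, μ, b, ha, hb, h3 | h3⟩ := L.K2 (c x) h2 (fun o ho => (O_FE L ho hxA (L.O_m o ho)).symm)
        · exact ⟨a, μ, b, ha, hb, cinj _ _ (by rw [cadd, cadd, cnp a ha, cnr b hb, cm, h3])⟩
        · exfalso
          apply hnotin
          have h4 : np a * m μ * nr b ∈ A := mul_mem (mul_mem (hnp a ha) (hm μ)) (hnr b hb)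
          rw [h3] at hxA
          exact (Subgroup.mul_mem_cancel_right A h4).1 hxA }
  obtain ⟨u', rfl⟩ := lift u (hWr u hu)
  have h1 := LineMod.main LM (u := u') ((hR _).2 hu) (by
    rcases hel with h | h
    · exact Or.inl h
    · exact Or.inr (cinj _ _ (by rw [cadd, h, czero])))
  refine ⟨?_, fun l k => ?_⟩
  · have := congrArg c h1.1
    rwa [cadd, czero] at this
  · have := (hP _).1 (h1.2 l k)
    rwa [LineMod.S_def, cadd, cadd, cadd, cγ, cγ, cγ] at this

omit L H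

/-- `q > 2`: `[W p, W r] = 1`. -/
theorem comm_of_large {m' g' : F → G} (L : Line σ t OE Wp Wr np nr m g) (L' : Line σ t OE Wr Wp nr np m' g')
    {h h' : G} (T : Tor σ t Wp Wr np nr m h) (T' : Tor σ t Wr Wp nr np m' h')
    (S : Scale σ t Wp Wr np nr) (S' : Scale σ t Wr Wp nr np)
    (hq : ∃ k, σ k = k ∧ k ≠ 0 ∧ k ≠ 1) {v u : G} (hv : v ∈ Wp) (hu : u ∈ Wr) : v * u = u * v := by
  have C := L.toCoord
  obtain ⟨a, b, ha, hb, h1⟩ := comm_form L T hv hu
  obtain ⟨a', b', ha', hb', h2⟩ := comm_form L' T' hu hv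
  have hb0 := b_zero L S hq hv hu ha hb h1
  have hb0' := b_zero L' S' hq hu hv ha' hb' h2
  rw [hb0, nr_zero C, mul_one] at h1
  rw [hb0', np_zero C, mul_one] at h2
  have h3 : u * v * (nr a' * np a) = u * v := by
    rw [h1] at h2
    calc u * v * (nr a' * np a) = u * v * (np a * nr a') := by rw [C.np_nr a a' ha ha']
      _ = u * v * np a * nr a' := by simp only [mul_assoc]
      _ = u * v := h2.symm
  have h4 : np a * m 0 * nr a' = np 0 * m 0 * nr 0 := by
    have h5 : nr a' * np a = 1 := mul_left_cancel (h3.trans (mul_one _).symm)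
    rw [m_zero C, np_zero C, nr_zero C, mul_one, mul_one, mul_one, C.np_nr a a' ha ha', h5]
  have h6 := (A_inj C ha ha' (map_zero σ) (map_zero σ) h4).1
  rw [h1, h6, np_zero C, mul_one]

/-- `q = 2`: `[v, u] = 1` or `[v, u] = np 1 * nr 1`. -/
theorem comm_of_two {h s : G} (L : Line σ t OE Wp Wr np nr m g) (T : Tor σ t Wp Wr np nr m h)
    (hq : ∀ k, σ k = k → k = 0 ∨ k = 1) (st : s * t = t * s)
    (sp : ∀ w ∈ Wp, s * w * s⁻¹ ∈ Wr) (sr : ∀ w ∈ Wr, s * w * s⁻¹ ∈ Wp)
    (snp : ∀ x, σ x = x → s * np x * s⁻¹ = nr x) (snr : ∀ x, σ x = x → s * nr x * s⁻¹ = np x)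
    {v u : G} (hv : v ∈ Wp) (hu : u ∈ Wr) :
    v * u = u * v ∨ (t * v * t = v * np 1 ∧ t * u * t = u * nr 1 ∧ v * u = u * v * (np 1 * nr 1)) := by
  have C := L.toCoord
  have ht : t⁻¹ = t := inv_eq_of_mul_eq_one_left L.tt
  obtain ⟨a, b, ha, hb, h1⟩ := comm_form L T hv hu
  obtain ⟨x, hx, hvx⟩ := L.dp.brk v hv
  obtain ⟨y, hy, huy⟩ := L.dr.brk u hu
  -- trivial cases
  have hv0 : x = 0 → v * u = u * v := by
    intro h0
    rw [h0, np_zero C, mul_one] at hvx
    have e4 : t * v = v * t := by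
      calc t * v = t * v * (t * t) := by rw [L.tt, mul_one]
        _ = (t * v * t) * t := by simp only [mul_assoc]
        _ = v * t := by rw [hvx]
    obtain ⟨s, hs, hvs⟩ := L.dp.cent v hv e4
    rw [hvs]
    exact (L.r_np u hu s hs).symm
  have hu0 : y = 0 → v * u = u * v := by
    intro h0
    rw [h0, nr_zero C, mul_one] at huy
    have e4 : t * u = u * t := by
      calc t * u = t * u * (t * t) := by rw [L.tt, mul_one]
        _ = (t * u * t) * t := by simp only [mul_assoc]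
        _ = u * t := by rw [huy]
    obtain ⟨s, hs, hus⟩ := L.dr.cent u hu e4
    rw [hus]
    exact L.p_nr v hv s hs
  rcases hq x hx with h2 | h2
  · exact Or.inl (hv0 h2)
  rcases hq y hy with h3 | h3
  · exact Or.inl (hu0 h3)
  subst h2 h3
  -- the swap
  have e1 : t * s = s * t := st.symm
  have hsv : t * (s * v * s⁻¹) * t = s * v * s⁻¹ * nr 1 := by
    rw [← snp 1 (map_one σ)]
    calc t * (s * v * s⁻¹) * t = (t * s) * v * (t⁻¹ * s)⁻¹ := by group
      _ = (s * t) * v * (s * t⁻¹)⁻¹ := by rw [ht, e1]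
      _ = s * (t * v * t) * s⁻¹ := by group
      _ = _ := by rw [hvx]; group
  have hsu : t * (s * u * s⁻¹) * t = s * u * s⁻¹ * np 1 := by
    rw [← snr 1 (map_one σ)]
    calc t * (s * u * s⁻¹) * t = (t * s) * u * (t⁻¹ * s)⁻¹ := by group
      _ = (s * t) * u * (s * t⁻¹)⁻¹ := by rw [ht, e1]
      _ = s * (t * u * t) * s⁻¹ := by group
      _ = _ := by rw [huy]; group
  obtain ⟨z1, hz1, hv1⟩ := same L L.dp (sr u hu) hv (map_one σ) hsu hvx
  obtain ⟨z2, hz2, hu1⟩ := same L L.dr (sp v hv) hu (map_one σ) hsv huy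
  -- conjugate `h1` by `s`
  have h4 : s * v * s⁻¹ * (s * u * s⁻¹) = s * u * s⁻¹ * (s * v * s⁻¹) * (nr a * np b) := by
    rw [← snp a ha, ← snr b hb]
    calc s * v * s⁻¹ * (s * u * s⁻¹) = s * (v * u) * s⁻¹ := by group
      _ = s * (u * v * (np a * nr b)) * s⁻¹ := by rw [h1]
      _ = _ := by group
  set v' := s * u * s⁻¹ with hv'
  set u' := s * v * s⁻¹ with hu'
  have hv'm : v' ∈ Wp := sr u hu
  have hu'm : u' ∈ Wr := sp v hv
  -- `v * u = v' * u'` up to centre
  have h5 : v' * u' = u' * v' * (np a * nr b) := by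
    have c1 : Commute (np z1) u' := (L.r_np u' hu'm z1 hz1).symm
    have c2 : Commute (nr z2) v' := (L.p_nr v' hv'm z2 hz2).symm
    have c3 : Commute (np z1) (nr z2) := C.np_nr z1 z2 hz1 hz2
    have c4 : Commute (np z1) v' := (L.dp.cn _ hv'm z1 hz1).symm
    have c5 : Commute (nr z2) u' := (L.dr.cn _ hu'm z2 hz2).symm
    have h6 : v * u = v' * u' * (np z1 * nr z2) := by
      rw [hv1, hu1]
      calc v' * np z1 * (u' * nr z2) = v' * (np z1 * u') * nr z2 := by simp only [mul_assoc]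
        _ = _ := by rw [c1.eq]; simp only [mul_assoc]
    have h7 : u * v = u' * v' * (np z1 * nr z2) := by
      rw [hv1, hu1]
      calc u' * nr z2 * (v' * np z1) = u' * (nr z2 * v') * np z1 := by simp only [mul_assoc]
        _ = u' * v' * (nr z2 * np z1) := by rw [c2.eq]; simp only [mul_assoc]
        _ = _ := by rw [← c3.eq]
    rw [h6, h7] at h1
    have h8 : np z1 * nr z2 * (np a * nr b) = np a * nr b * (np z1 * nr z2) := by
      have := A_comm C 0 0 hz1 hz2 ha hb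
      simpa only [m_zero C, mul_one] using this
    have h9 : v' * u' * (np z1 * nr z2) = u' * v' * (np a * nr b) * (np z1 * nr z2) := by
      rw [h1]
      calc u' * v' * (np z1 * nr z2) * (np a * nr b) = u' * v' * (np z1 * nr z2 * (np a * nr b)) := by
            simp only [mul_assoc]
        _ = _ := by rw [h8]; simp only [mul_assoc]
    exact mul_right_cancel h9
  -- `u' v' = v' u' (nr a np b)`
  have h6 : u' * v' * (np a * nr b * (nr a * np b)) = u' * v' * 1 := by
    rw [mul_one]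
    calc u' * v' * (np a * nr b * (nr a * np b)) = u' * v' * (np a * nr b) * (nr a * np b) := by
          simp only [mul_assoc]
      _ = v' * u' * (nr a * np b) := by rw [← h5]
      _ = u' * v' := h4.symm
  have h7 : np a * nr b * (nr a * np b) = 1 := mul_left_cancel h6
  have h8 : np (a + b) * m 0 * nr (b + a) = np 0 * m 0 * nr 0 := by
    have e1 : nr a * np b = np b * m 0 * nr a := by
      rw [m_zero C, mul_one, C.np_nr b a hb ha]
    have e2 : np a * nr b = np a * m 0 * nr b := by rw [m_zero C, mul_one]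
    rw [e1, e2, A_mul C 0 0 ha hb hb ha] at h7
    rw [add_zero] at h7
    rw [h7, m_zero C, np_zero C, nr_zero C]
    simp
  have hab : a = b := eq_of_add C (A_inj C (fix_add C ha hb) (fix_add C hb ha) (map_zero σ) (map_zero σ) h8).1
  subst hab
  rcases hq a ha with h9 | h9
  · left
    rw [h1, h9, np_zero C, nr_zero C]
    simp
  · right
    refine ⟨hvx, huy, ?_⟩
    rw [h1, h9]

end Cfsg.Agent.OddHalf.D7.Uni.LineGrp

end

-- merged: Cfsg.Agent.OddHalf.D7.Uni.LineEL
section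

/-!
# `E_l = ⟨W s : s ∈ l⟩` satisfies `Quad.EL` (helper54)
-/

set_option autoImplicit false
set_option linter.unusedSectionVars false

namespace Cfsg.Agent.OddHalf.D7.Uni.LineEL

open Cfsg.Agent.OddHalf.D7.Uni.Defs Cfsg.Agent.OddHalf.D7.Uni.Line Cfsg.Agent.OddHalf.D7.Uni.LineGrp

variable {G : Type*} [Group G] {F : Type*} [Field F] {σ : F →+* F} {t : G} {np nr m g : F → G}
  {OE Wp Wr Q : Subgroup G}

/-- `E_l` -/
def EE (Wp Wr : Subgroup G) (m g : F → G) : Subgroup G := Subgroup.closure (gens Wp Wr m g)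

variable (L : Line σ t OE Wp Wr np nr m g)

include L

theorem p_le : Wp ≤ EE Wp Wr m g := fun _ hx => Subgroup.subset_closure (Or.inl hx)

theorem r_le : Wr ≤ EE Wp Wr m g := fun x hx =>
  Subgroup.subset_closure (Or.inr (Or.inl ⟨0, x, hx, by rw [U_zero L]⟩))

theorem m_mem (x : F) : m x ∈ EE Wp Wr m g := Subgroup.subset_closure (Or.inr (Or.inr ⟨x, rfl⟩))

theorem np_mem {x : F} (hx : σ x = x) : np x ∈ EE Wp Wr m g := p_le L (L.dp.mem x hx)

theorem nr_mem {x : F} (hx : σ x = x) : nr x ∈ EE Wp Wr m g := r_le L (L.dr.mem x hx)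

theorem A_mem {x y : F} (μ : F) (hx : σ x = x) (hy : σ y = y) : np x * m μ * nr y ∈ EE Wp Wr m g :=
  mul_mem (mul_mem (np_mem L hx) (m_mem L μ)) (nr_mem L hy)

variable (H : Comm Wp Wr g)

include H

theorem not_mem : t ∉ EE Wp Wr m g := by
  intro h
  obtain ⟨w, hw, hwt⟩ := L.dp.surj 1 (map_one σ)
  have h1 := FE_comm L H h (p_le L hw)
  rw [h1, mul_assoc, L.tt] at hwt
  have h2 : np 1 = 1 := (mul_left_cancel hwt).symm
  exact one_ne_zero (np_inj L (map_one σ) h2)

theorem sq (hp : ∀ w ∈ Wp, w * w = 1) (hr : ∀ w ∈ Wr, w * w = 1) {x : G} (hx : x ∈ EE Wp Wr m g) : x * x = 1 := by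
  have hx' : x ∈ Subgroup.closure (gens Wp Wr m g) := hx
  clear hx
  induction hx' using Subgroup.closure_induction with
  | mem x hx =>
    rcases hx with hx | ⟨l, u, hu, rfl⟩ | ⟨ν, rfl⟩
    · exact hp x hx
    · calc g l * u * (g l)⁻¹ * (g l * u * (g l)⁻¹) = g l * (u * u) * (g l)⁻¹ := by group
        _ = 1 := by rw [hr u hu]; group
    · exact m_sq L.toCoord ν
  | one => rw [mul_one]
  | mul x y hx hy ihx ihy =>
    have e := FE_comm L H hx hy
    calc x * y * (x * y) = x * (y * x) * y := by group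
      _ = (x * x) * (y * y) := by rw [← e]; group
      _ = 1 := by rw [ihx, ihy, mul_one]
  | inv x hx ih =>
    calc x⁻¹ * x⁻¹ = (x * x)⁻¹ := by group
      _ = 1 := by rw [ih, inv_one]

theorem brk {x : G} (hx : x ∈ EE Wp Wr m g) :
    ∃ a μ b, σ a = a ∧ σ b = b ∧ t * x * t = x * (np a * m μ * nr b) := by
  have C := L.toCoord
  have hx' : x ∈ Subgroup.closure (gens Wp Wr m g) := hx
  clear hx
  induction hx' using Subgroup.closure_induction with
  | mem x hx =>
    rcases hx with hx | ⟨l, u, hu, rfl⟩ | ⟨ν, rfl⟩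
    · obtain ⟨a, ha, h⟩ := L.dp.brk x hx
      exact ⟨a, 0, 0, ha, map_zero σ, by rw [h, m_zero C, nr_zero C, mul_one, mul_one]⟩
    · obtain ⟨b, hb, h⟩ := L.dr.brk u hu
      exact ⟨_, _, b, fix_norm C l hb, hb, tU L hb h l⟩
    · refine ⟨0, 0, 0, map_zero σ, map_zero σ, ?_⟩
      rw [L.t_m, mul_assoc, L.tt, np_zero C, m_zero C, nr_zero C, mul_one, mul_one, mul_one, mul_one]
  | one =>
    refine ⟨0, 0, 0, map_zero σ, map_zero σ, ?_⟩
    rw [mul_one, L.tt, np_zero C, m_zero C, nr_zero C, mul_one, mul_one, mul_one]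
  | mul x y hx hy ihx ihy =>
    obtain ⟨a, μ, b, ha, hb, h1⟩ := ihx
    obtain ⟨a', μ', b', ha', hb', h2⟩ := ihy
    refine ⟨a + a', μ + μ', b + b', fix_add C ha ha', fix_add C hb hb', ?_⟩
    have e := FE_comm L H hy (A_mem L μ ha hb)
    rw [← A_mul C μ μ' ha hb ha' hb']
    calc t * (x * y) * t = t * x * 1 * y * t := by group
      _ = t * x * (t * t) * y * t := by rw [L.tt]
      _ = (t * x * t) * (t * y * t) := by group
      _ = x * (np a * m μ * nr b) * (y * (np a' * m μ' * nr b')) := by rw [h1, h2]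
      _ = x * ((np a * m μ * nr b) * y) * (np a' * m μ' * nr b') := by group
      _ = _ := by rw [← e]; group
  | inv x hx ih =>
    obtain ⟨a, μ, b, ha, hb, h1⟩ := ih
    refine ⟨a, μ, b, ha, hb, ?_⟩
    have e := FE_comm L H (inv_mem hx) (A_mem L μ ha hb)
    have ht : t⁻¹ = t := inv_eq_of_mul_eq_one_left L.tt
    calc t * x⁻¹ * t = (t⁻¹ * x * t⁻¹)⁻¹ := by group
      _ = (x * (np a * m μ * nr b))⁻¹ := by rw [ht, h1]
      _ = (np a * m μ * nr b)⁻¹ * x⁻¹ := by rw [mul_inv_rev]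
      _ = (np a * m μ * nr b) * x⁻¹ := by rw [A_inv C μ ha hb]
      _ = _ := e.symm

theorem surj {x y : F} (μ : F) (hx : σ x = x) (hy : σ y = y) :
    ∃ e ∈ EE Wp Wr m g, t * e * t = e * (np x * m μ * nr y) := by
  have C := L.toCoord
  have ht : t⁻¹ = t := inv_eq_of_mul_eq_one_left L.tt
  obtain ⟨u, hu, hut⟩ := L.dr.surj 1 (map_one σ)
  have hN : σ (μ * σ μ) = μ * σ μ := by
    have := fix_norm C μ (map_one σ)
    rwa [mul_one] at this
  have hf : σ (x + μ * σ μ) = x + μ * σ μ := fix_add C hx hN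
  obtain ⟨v, hv, hvt⟩ := L.dp.surj _ hf
  obtain ⟨w, hw, hwt⟩ := L.dr.surj y hy
  have tm : ∀ a b : G, t * (a * b) * t = (t * a * t) * (t * b * t) := by
    intro a b
    calc t * (a * b) * t = t * a * 1 * b * t := by group
      _ = t * a * (t * t) * b * t := by rw [L.tt]
      _ = _ := by group
  have hU := tU L (map_one σ) hut μ
  rw [mul_one, mul_one] at hU
  set U := g μ * u * (g μ)⁻¹ with hUdef
  have hUm : U ∈ EE Wp Wr m g := Subgroup.subset_closure (Or.inr (Or.inl ⟨μ, u, hu, rfl⟩))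
  refine ⟨v * (u * U) * w, mul_mem (mul_mem (p_le L hv) (mul_mem (r_le L hu) hUm)) (r_le L hw), ?_⟩
  have h1 : np (x + μ * σ μ) ∈ EE Wp Wr m g := np_mem L hf
  have h2 : nr 1 ∈ EE Wp Wr m g := nr_mem L (map_one σ)
  have h3 : np (μ * σ μ) * m μ * nr 1 ∈ EE Wp Wr m g := A_mem L _ hN (map_one σ)
  have c1 : Commute (np (x + μ * σ μ)) (u * U) := FE_comm L H h1 (mul_mem (r_le L hu) hUm)
  have c2 : Commute (nr 1) U := FE_comm L H h2 hUm
  have c3 : Commute (np (x + μ * σ μ)) w := FE_comm L H h1 (r_le L hw)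
  have c4 : Commute (nr 1 * (np (μ * σ μ) * m μ * nr 1)) w := FE_comm L H (mul_mem h2 h3) (r_le L hw)
  rw [tm, tm, tm, hvt, hut, hU, hwt]
  have e1 : np (x + μ * σ μ) * (nr 1 * (np (μ * σ μ) * m μ * nr 1)) * nr y = np x * m μ * nr y := by
    have f4 := A_mul C 0 μ (map_zero σ) (map_one σ) hN (map_one σ)
    rw [np_zero C, m_zero C, one_mul, one_mul, zero_add, zero_add, C.two 1, nr_zero C, mul_one] at f4
    have f5 := A_mul C 0 μ hf (map_zero σ) hN (map_zero σ)
    rw [m_zero C, zero_add, zero_add, nr_zero C, mul_one, mul_one, mul_one, mul_one] at f5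
    rw [f4, f5, add_assoc, C.two, add_zero]
  rw [← e1]
  calc v * np (x + μ * σ μ) * (u * nr 1 * (U * (np (μ * σ μ) * m μ * nr 1))) * (w * nr y) =
      v * np (x + μ * σ μ) * (u * (nr 1 * U) * (np (μ * σ μ) * m μ * nr 1)) * (w * nr y) := by
        group
    _ = v * (np (x + μ * σ μ) * (u * U)) * (nr 1 * (np (μ * σ μ) * m μ * nr 1) * w) * nr y := by
        rw [c2.eq]; group
    _ = v * (u * U) * (np (x + μ * σ μ) * w) * (nr 1 * (np (μ * σ μ) * m μ * nr 1)) * nr y := by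
        rw [c1.eq, c4.eq]; group
    _ = _ := by rw [c3.eq]; group

theorem cent {x : G} (hx : x ∈ EE Wp Wr m g) (h : t * x = x * t) :
    ∃ a μ b, σ a = a ∧ σ b = b ∧ x = np a * m μ * nr b := by
  obtain ⟨a, μ, b, ha, hb, h3 | h3⟩ := L.K2 x h.symm (fun o ho => (O_FE L ho hx (L.O_m o ho)).symm)
  · exact ⟨a, μ, b, ha, hb, h3⟩
  · exfalso
    apply not_mem L H
    rw [h3] at hx
    exact (Subgroup.mul_mem_cancel_right _ (A_mem L μ ha hb)).1 hx

/-- `E_l` in the form of `Quad.EL`. -/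
theorem el (hp : ∀ w ∈ Wp, w * w = 1) (hr : ∀ w ∈ Wr, w * w = 1) (gQ : ∀ l, g l ∈ Q)
    (npQ : ∀ x, σ x = x → np x ∈ Q) (mQ : ∀ x, m x ∈ Q)
    (Q_E : ∀ q ∈ Q, ∃ l, ∀ e ∈ EE Wp Wr m g, q * e * q⁻¹ = g l * e * (g l)⁻¹) :
    Quad.EL σ t (EE Wp Wr m g) Wp Q np nr m g where
  toCoord := L.toCoord
  ab := fun _ ha _ hb => FE_comm L H ha hb
  sq := fun _ ha => sq L H hp hr ha
  WE := p_le L
  np_E := fun _ hx => np_mem L hx
  m_E := m_mem L
  nr_E := fun _ hx => nr_mem L hx
  brk := fun _ he => brk L H he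
  surj := fun _ μ _ hx hy => surj L H μ hx hy
  cent := fun _ he h => cent L H he h
  dW := L.dp
  g_E := fun k _ he => g_FE L k he
  g_W := L.g_p
  gQ := gQ
  npQ := npQ
  mQ := mQ
  Q_E := Q_E

end Cfsg.Agent.OddHalf.D7.Uni.LineEL

end

-- merged: Cfsg.Agent.KFacts.UniTwo.Elts
section

/-!
# One totally isotropic line of a unitary space in characteristic two

`tS e x : v ↦ v + x (v,e) e` (`x` fixed by `σ`), `mS e f μ : v ↦ v + σμ (v,e) f + μ (v,f) e`; the coordinates of the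
unipotent radical of the pointwise stabiliser of the line `E = ⟨e, f⟩` and of its centre.
-/

set_option autoImplicit false

namespace Cfsg.Agent.KFacts.UniTwo

open Cfsg Cfsg.Agent.LieClassical.HermBasic Cfsg.Agent.LieClassical.HermSiegel
  Cfsg.Agent.LieClassical.HermGen Matrix
  Cfsg.Agent.ClassicalGeometry.PSUAutBasic Cfsg.Agent.ClassicalGeometry.PSUAutSylow

variable {F : Type*} [Field F] {q n : ℕ}

section Two

theorem neg_two (two : ∀ x : F, x + x = 0) (x : F) : -x = x := neg_eq_of_add_eq_zero_left (two x)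

end Two

/-- A line frame: `E = ⟨e, f⟩` totally isotropic, `E' = ⟨e', f'⟩` the dual line. -/
structure LF (q : ℕ) (e f e' f' : Fin n → F) : Prop where
  ee : hermForm n F q e e = 0
  ff : hermForm n F q f f = 0
  ef : hermForm n F q e f = 0
  e'e' : hermForm n F q e' e' = 0
  f'f' : hermForm n F q f' f' = 0
  e'f' : hermForm n F q e' f' = 0
  ee' : hermForm n F q e e' = 1
  ff' : hermForm n F q f f' = 1
  ef' : hermForm n F q e f' = 0
  fe' : hermForm n F q f e' = 0

variable [Fintype F]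

/-- The involutory automorphism of the field as a ring homomorphism. -/
def bar (hF : Fintype.card F = q ^ 2) : F →+* F := (conj hF : F ≃+* F)

theorem bar_apply (hF : Fintype.card F = q ^ 2) (x : F) : bar hF x = x ^ q := rfl

theorem bar_bar (hF : Fintype.card F = q ^ 2) (x : F) : bar hF (bar hF x) = x := by
  rw [bar_apply, bar_apply, pow_q_pow_q hF]

theorem exists_bar_ne (hF : Fintype.card F = q ^ 2) : ∃ x : F, bar hF x ≠ x := exists_not_fixed hF

open Classical in
/-- The transvection `v ↦ v + x (v,e) e`. -/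
noncomputable def tS (hF : Fintype.card F = q ^ 2) (e : Fin n → F) (x : F) : SU n F q :=
  if h : IsSiegel q e 0 x then siegel hF e 0 x h else 1

open Classical in
/-- `v ↦ v + σμ (v,e) f + μ (v,f) e`. -/
noncomputable def mS (hF : Fintype.card F = q ^ 2) (e f : Fin n → F) (μ : F) : SU n F q :=
  if h : IsSiegel q e (μ ^ q • f) 0 then siegel hF e (μ ^ q • f) 0 h else 1

omit [Fintype F] in
theorem isSiegel_t (two : ∀ x : F, x + x = 0) {e : Fin n → F} (he : hermForm n F q e e = 0) {x : F}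
    (hx : x ^ q = x) : IsSiegel q e 0 x := isSiegel_zero he (by rw [hx, two])

theorem isSiegel_m (hF : Fintype.card F = q ^ 2) {e f : Fin n → F} (he : hermForm n F q e e = 0)
    (hf : hermForm n F q f f = 0) (hef : hermForm n F q e f = 0) (μ : F) : IsSiegel q e (μ ^ q • f) 0 :=
  ⟨he, by rw [herm_smul_left, herm_eq_zero_swap hF hef, mul_zero],
    by rw [zero_pow_q hF, herm_smul_left, herm_smul_right, hf]; ring⟩

theorem tS_eq (hF : Fintype.card F = q ^ 2) {e : Fin n → F} {x : F} (h : IsSiegel q e 0 x) :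
    tS hF e x = siegel hF e 0 x h := by rw [tS, dif_pos h]

theorem mS_eq (hF : Fintype.card F = q ^ 2) {e f : Fin n → F} {μ : F} (h : IsSiegel q e (μ ^ q • f) 0) :
    mS hF e f μ = siegel hF e (μ ^ q • f) 0 h := by rw [mS, dif_pos h]

theorem act_tS (hF : Fintype.card F = q ^ 2) (two : ∀ x : F, x + x = 0) {e : Fin n → F}
    (he : hermForm n F q e e = 0) {x : F} (hx : x ^ q = x) (v : Fin n → F) :
    act (tS hF e x) v = v + (x * hermForm n F q v e) • e := by
  rw [tS_eq hF (isSiegel_t two he hx), act_siegel, herm_zero_right hF, smul_zero, add_zero, sub_zero]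

theorem act_mS (hF : Fintype.card F = q ^ 2) (two : ∀ x : F, x + x = 0) {e f : Fin n → F}
    (he : hermForm n F q e e = 0) (hf : hermForm n F q f f = 0) (hef : hermForm n F q e f = 0) (μ : F)
    (v : Fin n → F) :
    act (mS hF e f μ) v = v + (μ ^ q * hermForm n F q v e) • f + (μ * hermForm n F q v f) • e := by
  rw [mS_eq hF (isSiegel_m hF he hf hef μ), act_siegel, herm_smul_right, pow_q_pow_q hF, zero_mul, zero_sub,
    neg_two two, smul_smul, mul_comm (hermForm n F q v e)]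

variable {e f e' f' : Fin n → F}

namespace LF

/-- The other products. -/
theorem fe (H : LF q e f e' f') (hF : Fintype.card F = q ^ 2) : hermForm n F q f e = 0 := herm_eq_zero_swap hF H.ef
theorem f'e' (H : LF q e f e' f') (hF : Fintype.card F = q ^ 2) : hermForm n F q f' e' = 0 :=
  herm_eq_zero_swap hF H.e'f'
theorem e'e (H : LF q e f e' f') (hF : Fintype.card F = q ^ 2) : hermForm n F q e' e = 1 := by
  rw [herm_swap hF e e', H.ee', one_pow]
theorem f'f (H : LF q e f e' f') (hF : Fintype.card F = q ^ 2) : hermForm n F q f' f = 1 := by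
  rw [herm_swap hF f f', H.ff', one_pow]
theorem f'e (H : LF q e f e' f') (hF : Fintype.card F = q ^ 2) : hermForm n F q f' e = 0 :=
  herm_eq_zero_swap hF H.ef'
theorem e'f (H : LF q e f e' f') (hF : Fintype.card F = q ^ 2) : hermForm n F q e' f = 0 :=
  herm_eq_zero_swap hF H.fe'

/-- The frame with the roles of the two points interchanged. -/
theorem swap (H : LF q e f e' f') (hF : Fintype.card F = q ^ 2) : LF q f e f' e' :=
  ⟨H.ff, H.ee, H.fe hF, H.f'f', H.e'e', H.f'e' hF, H.ff', H.ee', H.fe', H.ef'⟩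

theorem act_te (H : LF q e f e' f') (hF : Fintype.card F = q ^ 2) (two : ∀ x : F, x + x = 0) {x : F} (hx : x ^ q = x)
    (v : Fin n → F) : act (tS hF e x) v = v + (x * hermForm n F q v e) • e := act_tS hF two H.ee hx v

theorem act_tf (H : LF q e f e' f') (hF : Fintype.card F = q ^ 2) (two : ∀ x : F, x + x = 0) {x : F} (hx : x ^ q = x)
    (v : Fin n → F) : act (tS hF f x) v = v + (x * hermForm n F q v f) • f := act_tS hF two H.ff hx v

theorem act_m (H : LF q e f e' f') (hF : Fintype.card F = q ^ 2) (two : ∀ x : F, x + x = 0) (μ : F)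
    (v : Fin n → F) :
    act (mS hF e f μ) v = v + (μ ^ q * hermForm n F q v e) • f + (μ * hermForm n F q v f) • e :=
  act_mS hF two H.ee H.ff H.ef μ v

theorem act_g (H : LF q e f e' f') (hF : Fintype.card F = q ^ 2) (two : ∀ x : F, x + x = 0) (l : F)
    (v : Fin n → F) :
    act (mS hF e f' l) v = v + (l ^ q * hermForm n F q v e) • f' + (l * hermForm n F q v f') • e :=
  act_mS hF two H.ee H.f'f' H.ef' l v

theorem act_g_e (H : LF q e f e' f') (hF : Fintype.card F = q ^ 2) (two : ∀ x : F, x + x = 0) (l : F) :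
    act (mS hF e f' l) e = e := by
  rw [H.act_g hF two, H.ee, H.ef']; simp

theorem act_g_f (H : LF q e f e' f') (hF : Fintype.card F = q ^ 2) (two : ∀ x : F, x + x = 0) (l : F) :
    act (mS hF e f' l) f = f + l • e := by
  rw [H.act_g hF two, H.fe hF, H.ff']; simp

theorem tS_add (hF : Fintype.card F = q ^ 2) (two : ∀ x : F, x + x = 0) (he : hermForm n F q e e = 0)
    {x y : F} (hx : x ^ q = x) (hy : y ^ q = y) : tS hF e (x + y) = tS hF e x * tS hF e y := by
  apply ext_act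
  intro v
  rw [act_mul, act_tS hF two he hx, act_tS hF two he hy, act_tS hF two he (by rw [add_pow_q hF, hx, hy]),
    herm_add_left, herm_smul_left, he]
  module

theorem mS_add (hF : Fintype.card F = q ^ 2) (two : ∀ x : F, x + x = 0) (he : hermForm n F q e e = 0)
    (hf : hermForm n F q f f = 0) (hef : hermForm n F q e f = 0) (x y : F) :
    mS hF e f (x + y) = mS hF e f x * mS hF e f y := by
  have hfe := herm_eq_zero_swap hF hef
  apply ext_act
  intro v
  rw [act_mul, act_mS hF two he hf hef, act_mS hF two he hf hef, act_mS hF two he hf hef, add_pow_q hF]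
  simp only [herm_add_left, herm_smul_left, he, hf, hef, hfe]
  module

theorem t_m (H : LF q e f e' f') (hF : Fintype.card F = q ^ 2) (two : ∀ x : F, x + x = 0) {x : F} (hx : x ^ q = x)
    (μ : F) : tS hF e x * mS hF e f μ = mS hF e f μ * tS hF e x := by
  apply ext_act
  intro v
  rw [act_mul, act_mul, H.act_te hF two hx, H.act_te hF two hx, H.act_m hF two, H.act_m hF two]
  simp only [herm_add_left, herm_smul_left, H.ee, H.ff, H.ef, H.fe hF]
  module

theorem t_t (H : LF q e f e' f') (hF : Fintype.card F = q ^ 2) (two : ∀ x : F, x + x = 0) {x y : F} (hx : x ^ q = x)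
    (hy : y ^ q = y) : tS hF e x * tS hF f y = tS hF f y * tS hF e x := by
  apply ext_act
  intro v
  rw [act_mul, act_mul, H.act_te hF two hx, H.act_te hF two hx, H.act_tf hF two hy, H.act_tf hF two hy]
  simp only [herm_add_left, herm_smul_left, H.ee, H.ff, H.ef, H.fe hF]
  module

theorem m_t (H : LF q e f e' f') (hF : Fintype.card F = q ^ 2) (two : ∀ x : F, x + x = 0) {y : F} (μ : F)
    (hy : y ^ q = y) : mS hF e f μ * tS hF f y = tS hF f y * mS hF e f μ := by
  apply ext_act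
  intro v
  rw [act_mul, act_mul, H.act_m hF two, H.act_m hF two, H.act_tf hF two hy, H.act_tf hF two hy]
  simp only [herm_add_left, herm_smul_left, H.ee, H.ff, H.ef, H.fe hF]
  module

theorem g_t (H : LF q e f e' f') (hF : Fintype.card F = q ^ 2) (two : ∀ x : F, x + x = 0) {x : F} (l : F)
    (hx : x ^ q = x) : mS hF e f' l * tS hF e x * (mS hF e f' l)⁻¹ = tS hF e x := by
  rw [mul_inv_eq_iff_eq_mul]
  apply ext_act
  intro v
  rw [act_mul, act_mul, H.act_g hF two, H.act_g hF two, H.act_te hF two hx, H.act_te hF two hx]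
  simp only [herm_add_left, herm_smul_left, H.ee, H.ef', H.f'e hF]
  module

theorem g_m (H : LF q e f e' f') (hF : Fintype.card F = q ^ 2) (two : ∀ x : F, x + x = 0) (l μ : F) :
    mS hF e f' l * mS hF e f μ * (mS hF e f' l)⁻¹ = mS hF e f μ * tS hF e (l * μ ^ q + l ^ q * μ) := by
  have hx : (l * μ ^ q + l ^ q * μ) ^ q = l * μ ^ q + l ^ q * μ := by
    rw [add_pow_q hF, mul_pow, mul_pow, pow_q_pow_q hF, pow_q_pow_q hF]; ring
  rw [mS_eq hF (isSiegel_m hF H.ee H.ff H.ef μ), conj_siegel, ← mS_eq hF (isSiegel_m hF H.ee H.ff H.ef μ)]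
  apply ext_act
  intro v
  rw [act_siegel, act_mul, H.act_te hF two hx, H.act_m hF two, act_smul, H.act_g_e hF two, H.act_g_f hF two,
    zero_mul, zero_sub, neg_two two]
  simp only [herm_add_left, herm_smul_left, herm_add_right hF, herm_smul_right, H.ee, H.ef, mul_pow, pow_q_pow_q hF]
  module

theorem g_tf (H : LF q e f e' f') (hF : Fintype.card F = q ^ 2) (two : ∀ x : F, x + x = 0) {y : F} (l : F)
    (hy : y ^ q = y) : mS hF e f' l * tS hF f y * (mS hF e f' l)⁻¹ =
      tS hF f y * mS hF e f (l * y) * tS hF e (l * l ^ q * y) := by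
  have hx : (l * l ^ q * y) ^ q = l * l ^ q * y := by
    rw [mul_pow, norm_pow_q hF, hy]
  rw [tS_eq hF (isSiegel_t two H.ff hy), conj_siegel, ← tS_eq hF (isSiegel_t two H.ff hy)]
  apply ext_act
  intro v
  rw [act_siegel, act_mul, act_mul, H.act_te hF two hx, H.act_m hF two, H.act_tf hF two hy, act_zero,
    H.act_g_f hF two, herm_zero_right hF, smul_zero, add_zero, sub_zero]
  simp only [herm_add_left, herm_smul_left, herm_add_right hF, herm_smul_right, H.ee, H.ef, H.ff, H.fe hF, mul_pow,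
    hy]
  module

/-- The action of `A_E` on the dual line. -/
theorem act_A_e' (H : LF q e f e' f') (hF : Fintype.card F = q ^ 2) (two : ∀ x : F, x + x = 0) {x y : F} (μ : F)
    (hx : x ^ q = x) (hy : y ^ q = y) :
    act (tS hF e x * mS hF e f μ * tS hF f y) e' = e' + x • e + μ ^ q • f := by
  rw [act_mul, act_mul, H.act_tf hF two hy, H.act_m hF two, H.act_te hF two hx]
  simp only [herm_add_left, herm_smul_left, H.ee, H.ef, H.ff, H.fe hF, H.e'e hF, H.e'f hF]
  module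

theorem act_A_f' (H : LF q e f e' f') (hF : Fintype.card F = q ^ 2) (two : ∀ x : F, x + x = 0) {x y : F} (μ : F)
    (hx : x ^ q = x) (hy : y ^ q = y) :
    act (tS hF e x * mS hF e f μ * tS hF f y) f' = f' + μ • e + y • f := by
  rw [act_mul, act_mul, H.act_tf hF two hy, H.act_m hF two, H.act_te hF two hx]
  simp only [herm_add_left, herm_smul_left, H.ee, H.ef, H.ff, H.fe hF, H.f'e hF, H.f'f hF]
  module

theorem act_A_perp (H : LF q e f e' f') (hF : Fintype.card F = q ^ 2) (two : ∀ x : F, x + x = 0) {x y : F} (μ : F)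
    (hx : x ^ q = x) (hy : y ^ q = y) {v : Fin n → F} (h1 : hermForm n F q v e = 0) (h2 : hermForm n F q v f = 0) :
    act (tS hF e x * mS hF e f μ * tS hF f y) v = v := by
  rw [act_mul, act_mul, H.act_tf hF two hy, h2, mul_zero, zero_smul, add_zero, H.act_m hF two, h1, h2, mul_zero,
    zero_smul, add_zero, mul_zero, zero_smul, add_zero, H.act_te hF two hx, h1, mul_zero, zero_smul, add_zero]

/-- Injectivity of the coordinates in `PSU`. -/
theorem inj (H : LF q e f e' f') (hF : Fintype.card F = q ^ 2) (two : ∀ x : F, x + x = 0) (hn : 3 ≤ n) {x μ y : F}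
    (hx : x ^ q = x) (hy : y ^ q = y)
    (h : pr n F q (tS hF e x * mS hF e f μ * tS hF f y) = 1) : x = 0 ∧ μ = 0 ∧ y = 0 := by
  obtain ⟨c, -, -, hc⟩ := exists_scalar_of_mem_center hF hn (pr_eq_one_iff.1 h)
  have h1 := hc e'
  have h2 := hc f'
  rw [H.act_A_e' hF two μ hx hy] at h1
  rw [H.act_A_f' hF two μ hx hy] at h2
  have k1 := congrArg (fun v => hermForm n F q v e') h1
  have k2 := congrArg (fun v => hermForm n F q v e') h2
  have k3 := congrArg (fun v => hermForm n F q v f') h2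
  simp only [herm_add_left, herm_smul_left, H.e'e', H.ee', H.fe', H.f'e' hF, H.f'f', H.ef', H.ff', mul_zero, mul_one,
    add_zero, zero_add] at k1 k2 k3
  exact ⟨k1, k2, k3⟩

/-- `(E^⊥)^⊥ = E`. -/
theorem perp_perp (H : LF q e f e' f') (hF : Fintype.card F = q ^ 2) {u : Fin n → F}
    (hu : ∀ v, hermForm n F q v e = 0 → hermForm n F q v f = 0 → hermForm n F q u v = 0) :
    u = hermForm n F q u e' • e + hermForm n F q u f' • f := by
  have hfe := H.fe hF
  have h1 : ∀ v, hermForm n F q (u - hermForm n F q u e' • e - hermForm n F q u f' • f) v = 0 := by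
    intro v
    have hv : v = (v - hermForm n F q v e • e' - hermForm n F q v f • f') +
        (hermForm n F q v e • e' + hermForm n F q v f • f') := by abel
    have p1 : hermForm n F q (v - hermForm n F q v e • e' - hermForm n F q v f • f') e = 0 := by
      rw [herm_sub_left, herm_sub_left, herm_smul_left, herm_smul_left, H.e'e hF, H.f'e hF]; ring
    have p2 : hermForm n F q (v - hermForm n F q v e • e' - hermForm n F q v f • f') f = 0 := by
      rw [herm_sub_left, herm_sub_left, herm_smul_left, herm_smul_left, H.e'f hF, H.f'f hF]; ring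
    have p3 := hu _ p1 p2
    have p4 := herm_eq_zero_swap hF p1
    have p5 := herm_eq_zero_swap hF p2
    rw [hv, herm_add_right hF, herm_sub_left, herm_sub_left, herm_smul_left, herm_smul_left, p3, p4, p5]
    simp only [herm_sub_left, herm_smul_left, herm_add_right hF, herm_smul_right, H.ee', H.ef', H.fe', H.ff']
    ring
  have h2 := herm_nondeg hF h1
  rw [sub_sub, sub_eq_zero] at h2
  exact h2

/-- **An element trivial on `E^⊥` is in `A_E`.** -/
theorem exists_coord (H : LF q e f e' f') (hF : Fintype.card F = q ^ 2) (two : ∀ x : F, x + x = 0) {g : SU n F q}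
    (hg : ∀ v, hermForm n F q v e = 0 → hermForm n F q v f = 0 → act g v = v) :
    ∃ x μ y : F, x ^ q = x ∧ y ^ q = y ∧ g = tS hF e x * mS hF e f μ * tS hF f y := by
  have hge : act g e = e := hg e H.ee H.ef
  have hgf : act g f = f := hg f (H.fe hF) H.ff
  -- `g u - u` lies in `E`
  have key : ∀ u, act g u - u = hermForm n F q (act g u - u) e' • e + hermForm n F q (act g u - u) f' • f := by
    intro u
    apply H.perp_perp hF
    intro v h1 h2
    rw [herm_sub_left]
    have h3 := herm_act g u v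
    rw [hg v h1 h2] at h3
    rw [h3, sub_self]
  obtain ⟨a, ha⟩ : ∃ a, hermForm n F q (act g e' - e') e' = a := ⟨_, rfl⟩
  obtain ⟨b, hb⟩ : ∃ b, hermForm n F q (act g e' - e') f' = b := ⟨_, rfl⟩
  obtain ⟨c, hc⟩ : ∃ c, hermForm n F q (act g f' - f') e' = c := ⟨_, rfl⟩
  obtain ⟨d, hd⟩ : ∃ d, hermForm n F q (act g f' - f') f' = d := ⟨_, rfl⟩
  have h1 : act g e' = e' + a • e + b • f := by
    have := key e'
    rw [ha, hb, sub_eq_iff_eq_add] at this
    rw [this]; abel
  have h2 : act g f' = f' + c • e + d • f := by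
    have := key f'
    rw [hc, hd, sub_eq_iff_eq_add] at this
    rw [this]; abel
  have k1 := herm_act g e' e'
  have k2 := herm_act g f' f'
  have k3 := herm_act g e' f'
  rw [h1] at k1
  rw [h2] at k2
  rw [h1, h2] at k3
  simp only [herm_add_left, herm_smul_left, herm_add_right hF, herm_smul_right, H.ee, H.ef, H.ff, H.fe hF, H.ee', H.ef',
    H.fe', H.ff', H.e'e hF, H.e'f hF, H.f'e hF, H.f'f hF, H.e'e', H.e'f', H.f'f', mul_zero, add_zero, zero_add,
    mul_one] at k1 k2 k3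
  have ha' : a ^ q = a := by
    have := eq_neg_of_add_eq_zero_left k1
    rw [neg_two two] at this
    exact this.symm
  have hd' : d ^ q = d := by
    have := eq_neg_of_add_eq_zero_left k2
    rw [neg_two two] at this
    exact this.symm
  have hb' : b = c ^ q := by
    have h4 : b + c ^ q = 0 := by linear_combination k3
    have := eq_neg_of_add_eq_zero_left h4
    rw [neg_two two] at this
    exact this
  refine ⟨a, c, d, ha', hd', ?_⟩
  apply ext_act
  intro v
  have hv : v = (v - hermForm n F q v e • e' - hermForm n F q v f • f') +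
      (hermForm n F q v e • e' + hermForm n F q v f • f') := by abel
  have p1 : hermForm n F q (v - hermForm n F q v e • e' - hermForm n F q v f • f') e = 0 := by
    rw [herm_sub_left, herm_sub_left, herm_smul_left, herm_smul_left, H.e'e hF, H.f'e hF]; ring
  have p2 : hermForm n F q (v - hermForm n F q v e • e' - hermForm n F q v f • f') f = 0 := by
    rw [herm_sub_left, herm_sub_left, herm_smul_left, herm_smul_left, H.e'f hF, H.f'f hF]; ring
  rw [hv, act_add, act_add, act_smul, act_smul, hg _ p1 p2, h1, h2]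
  rw [act_add _ (v - hermForm n F q v e • e' - hermForm n F q v f • f'), act_add, act_smul, act_smul,
    H.act_A_perp hF two c ha' hd' p1 p2, H.act_A_e' hF two c ha' hd', H.act_A_f' hF two c ha' hd', hb']

end LF

end Cfsg.Agent.KFacts.UniTwo

end

-- merged: Cfsg.Agent.KFacts.UniTwo.Line
section

/-!
# The structures `Coord`, `Line` and `Tor` for `PSU n F q` in the centralizer of an involution

`Emb t ι`: the image of `ι : P →* G` is normal in `C(t)` with centralizer `⟨t⟩`. `Dbl hF t ι e W`: `W` is a double of the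
transvection group of the isotropic vector `e` which is centralised by the stabiliser of `e` and normalised by the
stabiliser of the point `F e`.
-/

set_option autoImplicit false

namespace Cfsg.Agent.KFacts.UniTwo

open Cfsg Cfsg.Agent.LieClassical.HermBasic Cfsg.Agent.LieClassical.HermSiegel
  Cfsg.Agent.LieClassical.HermGen Matrix
  Cfsg.Agent.ClassicalGeometry.PSUAutBasic Cfsg.Agent.ClassicalGeometry.PSUAutSylow
  Cfsg.Agent.ClassicalGeometry.PSUAutTorus Cfsg.Agent.OddHalf.D7.Uni.Defs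

/-- The image of `ι` is normal in `C(t)` and its centralizer in `C(t)` is `⟨t⟩`. -/
structure Emb {P G : Type*} [Group P] [Group G] (t : G) (ι : P →* G) : Prop where
  inj : Function.Injective ι
  tt : t * t = 1
  comm : ∀ k, ι k * t = t * ι k
  nrm : ∀ c, c * t = t * c → ∀ a, ∃ b, c * ι a * c⁻¹ = ι b
  cen : ∀ c, c * t = t * c → (∀ a, c * ι a = ι a * c) → c = 1 ∨ c = t

namespace Emb

variable {P G : Type*} [Group P] [Group G] {t : G} {ι : P →* G}

/-- An element of `C(t)` induces an automorphism. -/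
theorem exists_aut (E : Emb t ι) {c : G} (hc : c * t = t * c) : ∃ α : MulAut P, ∀ a, ι (α a) = c * ι a * c⁻¹ := by
  have hc' : c⁻¹ * t = t * c⁻¹ := by
    rw [inv_mul_eq_iff_eq_mul, ← mul_assoc, hc, mul_inv_cancel_right]
  choose φ hφ using E.nrm c hc
  choose ψ hψ using E.nrm c⁻¹ hc'
  refine ⟨{ toFun := φ, invFun := ψ, left_inv := ?_, right_inv := ?_, map_mul' := ?_ }, fun a => (hφ a).symm⟩
  · intro a
    apply E.inj
    rw [← hψ, ← hφ]; group
  · intro a
    apply E.inj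
    rw [← hφ, ← hψ]; group
  · intro a b
    apply E.inj
    rw [map_mul, ← hφ, ← hφ, ← hφ, map_mul]; group

/-- An element of `C(t)` inducing an inner automorphism. -/
theorem eq_of_conj (E : Emb t ι) {c : G} (hc : c * t = t * c) {k : P} (h : ∀ a, c * ι a * c⁻¹ = ι (k * a * k⁻¹)) :
    c = ι k ∨ c = t * ι k := by
  have h1 : (ι k)⁻¹ * t = t * (ι k)⁻¹ := by
    rw [inv_mul_eq_iff_eq_mul, ← mul_assoc, E.comm, mul_inv_cancel_right]
  rcases E.cen (c * (ι k)⁻¹) (by rw [mul_assoc, h1, ← mul_assoc, hc, mul_assoc]) (by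
      intro a
      have h2 := h (k⁻¹ * a * k)
      have h3 : k * (k⁻¹ * a * k) * k⁻¹ = a := by group
      rw [h3, map_mul, map_mul, map_inv] at h2
      calc c * (ι k)⁻¹ * ι a = c * ((ι k)⁻¹ * ι a * ι k) * c⁻¹ * (c * (ι k)⁻¹) := by group
        _ = ι a * (c * (ι k)⁻¹) := by rw [h2]) with h2 | h2
  · exact Or.inl (mul_inv_eq_one.mp h2)
  · exact Or.inr (by rw [← h2, inv_mul_cancel_right])

end Emb

variable {F : Type*} [Field F] [Fintype F] {q n : ℕ} {G : Type*} [Group G] {t : G} {ι : PSU n F q →* G}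

/-- `W` is a double of the transvection group of `e`, centralised by the stabiliser of the vector `e` and
normalised by the stabiliser of the point `F e`. -/
structure Dbl (hF : Fintype.card F = q ^ 2) (t : G) (ι : PSU n F q →* G) (e : Fin n → F) (W : Subgroup G) : Prop where
  dbl : Double (bar hF) t (fun x => ι (pr n F q (tS hF e x))) W
  cent : ∀ g : SU n F q, act g e = e → ∀ w ∈ W, ι (pr n F q g) * w = w * ι (pr n F q g)
  norm : ∀ (g : SU n F q) (a : F), act g e = a • e → ∀ w ∈ W, ι (pr n F q g) * w * (ι (pr n F q g))⁻¹ ∈ W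

/-- The pointwise stabiliser of `E` acting trivially on `E^⊥ / E`. -/
def OE0 (q : ℕ) {n : ℕ} (e f : Fin n → F) : Subgroup (SU n F q) where
  carrier := {g | act g e = e ∧ act g f = f ∧ ∀ v, hermForm n F q v e = 0 → hermForm n F q v f = 0 →
    ∃ a b : F, act g v = v + a • e + b • f}
  one_mem' := ⟨act_one _, act_one _, fun v _ _ => ⟨0, 0, by rw [act_one]; simp⟩⟩
  mul_mem' := by
    rintro g h ⟨h1, h2, h3⟩ ⟨k1, k2, k3⟩
    refine ⟨by rw [act_mul, k1, h1], by rw [act_mul, k2, h2], ?_⟩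
    intro v h4 h5
    obtain ⟨a, b, hab⟩ := k3 v h4 h5
    obtain ⟨c, d, hcd⟩ := h3 v h4 h5
    refine ⟨c + a, d + b, ?_⟩
    rw [act_mul, hab, act_add, act_add, act_smul, act_smul, h1, h2, hcd]
    module
  inv_mem' := by
    rintro g ⟨h1, h2, h3⟩
    have e1 : act g⁻¹ e = e := ((act_eq_iff _).1 h1).symm
    have e2 : act g⁻¹ f = f := ((act_eq_iff _).1 h2).symm
    refine ⟨e1, e2, ?_⟩
    intro v h4 h5
    have h6 : hermForm n F q (act g⁻¹ v) e = 0 := by rw [herm_act_left, inv_inv, h1, h4]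
    have h7 : hermForm n F q (act g⁻¹ v) f = 0 := by rw [herm_act_left, inv_inv, h2, h5]
    obtain ⟨a, b, hab⟩ := h3 _ h6 h7
    rw [act_act_inv] at hab
    refine ⟨-a, -b, ?_⟩
    calc act g⁻¹ v = (act g⁻¹ v + a • e + b • f) + (-a) • e + (-b) • f := by module
      _ = v + (-a) • e + (-b) • f := by rw [← hab]

omit [Fintype F] in
theorem mem_OE0 {e f : Fin n → F} {g : SU n F q} : g ∈ OE0 q e f ↔ act g e = e ∧ act g f = f ∧
    ∀ v, hermForm n F q v e = 0 → hermForm n F q v f = 0 → ∃ a b : F, act g v = v + a • e + b • f := Iff.rfl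

/-- The image of `OE0` in `G`. -/
def OE (ι : PSU n F q →* G) (e f : Fin n → F) : Subgroup G := ((OE0 q e f).map (pr n F q)).map ι

omit [Fintype F] in
theorem mem_OE {e f : Fin n → F} {c : G} : c ∈ OE ι e f ↔ ∃ g ∈ OE0 q e f, ι (pr n F q g) = c := by
  constructor
  · rintro ⟨_, ⟨g, hg, rfl⟩, rfl⟩
    exact ⟨g, hg, rfl⟩
  · rintro ⟨g, hg, rfl⟩
    exact ⟨_, ⟨g, hg, rfl⟩, rfl⟩

variable {e f e' f' : Fin n → F}

/-- Elements fixing `e` and `f` commute with `mS e f μ`. -/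
theorem comm_mS (hF : Fintype.card F = q ^ 2) (he : hermForm n F q e e = 0) (hf : hermForm n F q f f = 0)
    (hef : hermForm n F q e f = 0) (μ : F) {g : SU n F q} (hg : act g e = e) (hg' : act g f = f) :
    g * mS hF e f μ = mS hF e f μ * g := by
  rw [← mul_inv_eq_iff_eq_mul, mS_eq hF (isSiegel_m hF he hf hef μ), conj_siegel]
  exact siegel_congr hF _ _ hg (by rw [act_smul, hg']) rfl

namespace LF

/-- **`Coord` for a line frame.** -/
theorem coord (H : LF q e f e' f') (hF : Fintype.card F = q ^ 2) (two : ∀ x : F, x + x = 0) (hn : 3 ≤ n)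
    (E : Emb t ι) :
    Coord (bar hF) t (fun x => ι (pr n F q (tS hF e x))) (fun y => ι (pr n F q (tS hF f y)))
      (fun μ => ι (pr n F q (mS hF e f μ))) (fun l => ι (pr n F q (mS hF e f' l))) where
  tt := E.tt
  two := two
  σσ := bar_bar hF
  nt := exists_bar_ne hF
  np_add x y hx hy := by rw [tS_add hF two H.ee hx hy, map_mul, map_mul]
  nr_add x y hx hy := by rw [tS_add hF two H.ff hx hy, map_mul, map_mul]
  m_add x y := by rw [mS_add hF two H.ee H.ff H.ef x y, map_mul, map_mul]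
  np_m x y hx := by rw [← map_mul, ← map_mul, H.t_m hF two hx y, map_mul, map_mul]
  np_nr x y hx hy := by rw [← map_mul, ← map_mul, H.t_t hF two hx hy, map_mul, map_mul]
  m_nr x y hy := by rw [← map_mul, ← map_mul, H.m_t hF two x hy, map_mul, map_mul]
  inj x μ y hx hy h := by
    rw [← map_mul, ← map_mul, ← map_mul, ← map_mul] at h
    exact H.inj hF two hn hx hy (E.inj (h.trans (map_one ι).symm))
  t_np x _ := (E.comm _).symm
  t_nr x _ := (E.comm _).symm
  t_m x := (E.comm _).symm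
  t_g x := (E.comm _).symm
  g_add x y := by rw [mS_add hF two H.ee H.f'f' H.ef' x y, map_mul, map_mul]
  g_np l x hx := by
    rw [← map_inv, ← map_mul, ← map_mul, ← map_inv, ← map_mul, ← map_mul, H.g_t hF two l hx]
  g_m l μ := by
    rw [← map_inv, ← map_mul, ← map_mul, ← map_inv, ← map_mul, ← map_mul, H.g_m hF two l μ, map_mul, map_mul]
    rfl
  g_nr l y hy := by
    rw [← map_inv, ← map_mul, ← map_mul, ← map_inv, ← map_mul, ← map_mul, H.g_tf hF two l hy, map_mul, map_mul,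
      map_mul, map_mul]
    rfl

/-- **(K2)**: the centralizer of `OE`. -/
theorem K2 (H : LF q e f e' f') (hF : Fintype.card F = q ^ 2) (two : ∀ x : F, x + x = 0) (hn : 4 ≤ n)
    (E : Emb t ι) {c : G} (hc : c * t = t * c) (hO : ∀ o ∈ OE ι e f, c * o = o * c) :
    ∃ x μ y : F, x ^ q = x ∧ y ^ q = y ∧ (c = ι (pr n F q (tS hF e x * mS hF e f μ * tS hF f y)) ∨
      c = t * ι (pr n F q (tS hF e x * mS hF e f μ * tS hF f y))) := by
  obtain ⟨α, hα⟩ := E.exists_aut hc
  have hfe := H.fe hF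
  -- the subspace `E`
  set W : Submodule F (Fin n → F) := Submodule.span F {e, f} with hW
  have hmem : ∀ s, s ∈ W ↔ ∃ a b : F, a • e + b • f = s := fun s => Submodule.mem_span_pair
  have heW : e ∈ W := Submodule.subset_span (by simp)
  have hfW : f ∈ W := Submodule.subset_span (by simp)
  have hperp : ∀ v, (∀ s ∈ W, hermForm n F q v s = 0) ↔ hermForm n F q v e = 0 ∧ hermForm n F q v f = 0 := by
    intro v
    constructor
    · intro h; exact ⟨h e heW, h f hfW⟩
    · rintro ⟨h1, h2⟩ s hs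
      obtain ⟨a, b, rfl⟩ := (hmem s).1 hs
      rw [herm_add_right hF, herm_smul_right, herm_smul_right, h1, h2, mul_zero, mul_zero, add_zero]
  obtain ⟨g, hg, hαg⟩ := Cfsg.Agent.KFacts.Unit.autCent_sub hF hn W (by
      intro s hs s' hs'
      obtain ⟨a, b, rfl⟩ := (hmem s).1 hs
      rw [herm_add_left, herm_smul_left, herm_smul_left, ((hperp e).2 ⟨H.ee, H.ef⟩) s' hs',
        ((hperp f).2 ⟨hfe, H.ff⟩) s' hs', mul_zero, mul_zero, add_zero]) heW hfW (by
      intro a b hab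
      have k1 := congrArg (fun v => hermForm n F q v e') hab
      have k2 := congrArg (fun v => hermForm n F q v f') hab
      simp only [herm_add_left, herm_smul_left, H.ee', H.fe', H.ef', H.ff', herm_zero_left, mul_one, mul_zero,
        add_zero, zero_add] at k1 k2
      exact ⟨k1, k2⟩) α (by
      intro s hs _ w hw μ h
      have hw' := (hperp w).1 hw
      apply E.inj
      rw [hα, mul_inv_eq_iff_eq_mul]
      apply hO
      rw [mem_OE]
      refine ⟨_, ?_, rfl⟩
      have hs' := (hperp s).1 (fun s' hs' => by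
        obtain ⟨a, b, rfl⟩ := (hmem s).1 hs
        rw [herm_add_left, herm_smul_left, herm_smul_left, ((hperp e).2 ⟨H.ee, H.ef⟩) s' hs',
          ((hperp f).2 ⟨hfe, H.ff⟩) s' hs', mul_zero, mul_zero, add_zero])
      rw [mem_OE0]
      refine ⟨?_, ?_, ?_⟩
      · exact act_siegel_of_orth hF h (herm_eq_zero_swap hF hs'.1) (herm_eq_zero_swap hF hw'.1)
      · exact act_siegel_of_orth hF h (herm_eq_zero_swap hF hs'.2) (herm_eq_zero_swap hF hw'.2)
      · intro v h1 h2
        obtain ⟨a, b, hab⟩ := (hmem s).1 hs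
        have h3 : hermForm n F q v s = 0 := by
          rw [← hab, herm_add_right hF, herm_smul_right, herm_smul_right, h1, h2, mul_zero, mul_zero, add_zero]
        refine ⟨-hermForm n F q v w * a, -hermForm n F q v w * b, ?_⟩
        rw [act_siegel, h3, ← hab]
        module)
  obtain ⟨x, μ, y, hx, hy, hgA⟩ := H.exists_coord hF two (g := g) (fun v h1 h2 => hg v ((hperp v).2 ⟨h1, h2⟩))
  refine ⟨x, μ, y, hx, hy, ?_⟩
  rw [← hgA]
  apply E.eq_of_conj hc
  intro a
  rw [← hα, hαg, MulAut.conj_apply]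

/-- **`Line` for a line frame.** -/
theorem line (H : LF q e f e' f') (hF : Fintype.card F = q ^ 2) (two : ∀ x : F, x + x = 0) (hn : 4 ≤ n)
    (E : Emb t ι) {Wp Wr : Subgroup G} (hp : Dbl hF t ι e Wp) (hr : Dbl hF t ι f Wr) :
    Line (bar hF) t (OE ι e f) Wp Wr (fun x => ι (pr n F q (tS hF e x))) (fun y => ι (pr n F q (tS hF f y)))
      (fun μ => ι (pr n F q (mS hF e f μ))) (fun l => ι (pr n F q (mS hF e f' l))) where
  toCoord := H.coord hF two (by omega) E
  dp := hp.dbl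
  dr := hr.dbl
  p_m w hw x := (hp.cent _ (by rw [H.act_m hF two, H.ee, H.ef]; simp) w hw).symm
  p_nr w hw x hx := (hp.cent _ (by rw [H.act_tf hF two hx, H.ef]; simp) w hw).symm
  r_m w hw x := (hr.cent _ (by rw [H.act_m hF two, H.fe hF, H.ff]; simp) w hw).symm
  r_np w hw x hx := (hr.cent _ (by rw [H.act_te hF two hx, H.fe hF]; simp) w hw).symm
  g_p l w hw := hp.cent _ (H.act_g_e hF two l) w hw
  O_p c hc w hw := by
    obtain ⟨g, hg, rfl⟩ := mem_OE.1 hc
    exact hp.cent g (mem_OE0.1 hg).1 w hw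
  O_r c hc w hw := by
    obtain ⟨g, hg, rfl⟩ := mem_OE.1 hc
    exact hr.cent g (mem_OE0.1 hg).2.1 w hw
  O_m c hc μ := by
    obtain ⟨g, hg, rfl⟩ := mem_OE.1 hc
    rw [← map_mul, ← map_mul, comm_mS hF H.ee H.ff H.ef μ (mem_OE0.1 hg).1 (mem_OE0.1 hg).2.1, map_mul, map_mul]
  g_O l c hc := by
    obtain ⟨g, hg, rfl⟩ := mem_OE.1 hc
    rw [← map_inv, ← map_mul, ← map_mul, ← map_inv, ← map_mul, ← map_mul]
    refine mem_OE.2 ⟨_, ?_, rfl⟩
    obtain ⟨h1, h2, h3⟩ := mem_OE0.1 hg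
    have k1 := H.act_g_e hF two l
    have k2 := H.act_g_f hF two l
    set s := mS hF e f' l with hs
    have e1 : act s⁻¹ e = e := ((act_eq_iff _).1 k1).symm
    have e2 : act s⁻¹ (f + l • e) = f := ((act_eq_iff _).1 k2).symm
    have e3 : act s⁻¹ f = f - l • e := by
      rw [act_add, act_smul, e1] at e2
      exact eq_sub_of_add_eq e2
    refine mem_OE0.2 ⟨?_, ?_, ?_⟩
    · rw [act_mul, act_mul, k1, h1, e1]
    · rw [act_mul, act_mul, k2, act_add, act_smul, h1, h2, e2]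
    · intro v h4 h5
      have h6 : hermForm n F q (act s v) e = 0 := by rw [herm_act_left, e1, h4]
      have h7 : hermForm n F q (act s v) f = 0 := by
        rw [herm_act_left, e3, herm_sub_right hF, herm_smul_right, h4, h5, mul_zero, sub_zero]
      obtain ⟨a, b, hab⟩ := h3 _ h6 h7
      refine ⟨a - b * l, b, ?_⟩
      rw [act_mul, act_mul, hab, act_add, act_add, act_smul, act_smul, act_inv_act, e1, e3]
      module
  K2 c hc hO := by
    obtain ⟨x, μ, y, hx, hy, h⟩ := H.K2 hF two hn E hc hO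
    refine ⟨x, μ, y, hx, hy, ?_⟩
    rwa [map_mul, map_mul, map_mul, map_mul] at h

end LF

end Cfsg.Agent.KFacts.UniTwo

end

-- merged: Cfsg.Agent.KFacts.UniTwo.Torus
section

/-!
# Torus elements at a line frame and the structure `Tor`
-/

set_option autoImplicit false

namespace Cfsg.Agent.KFacts.UniTwo

open Cfsg Cfsg.Agent.LieClassical.HermBasic Cfsg.Agent.LieClassical.HermSiegel
  Cfsg.Agent.LieClassical.HermGen Matrix
  Cfsg.Agent.ClassicalGeometry.PSUAutBasic Cfsg.Agent.ClassicalGeometry.PSUAutSylow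
  Cfsg.Agent.ClassicalGeometry.PSUAutTorus Cfsg.Agent.OddHalf.D7.Uni.Defs

variable {F : Type*} [Field F] [Fintype F] {q n : ℕ} {G : Type*} [Group G] {t : G} {ι : PSU n F q →* G}
  {e f e' f' : Fin n → F}

theorem exists_norm_one_ne (hF : Fintype.card F = q ^ 2) : ∃ s : F, s * s ^ q = 1 ∧ s ≠ 1 := by
  have h1 := card_norm_eq_one hF
  have h2 := two_le hF
  by_contra hcon
  push Not at hcon
  have h3 : Nat.card {x : F // x * x ^ q = 1} ≤ 1 := by
    rw [Finite.card_le_one_iff_subsingleton]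
    refine ⟨fun a b => Subtype.ext ?_⟩
    rw [hcon _ a.2, hcon _ b.2]
  omega

namespace LF

/-- `diag(a, b)` on `E`. -/
def dS (hF : Fintype.card F = q ^ 2) (H : LF q e f e' f') (a b : F) (ha : a ≠ 0) (hb : b ≠ 0)
    (hab : (a * b) ^ q = a * b) : SU n F q :=
  mkSU (hypMat q e e' a * hypMat q f f' b) (by
    rw [Matrix.det_mul, det_hypMat H.ee' (H.e'e hF), det_hypMat H.ff' (H.f'f hF)]
    have h1 : a ^ q ≠ 0 := pow_ne_zero _ ha
    have h2 : b ^ q ≠ 0 := pow_ne_zero _ hb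
    field_simp
    rw [← mul_pow, hab]) (by
    intro u v
    rw [← Matrix.mulVec_mulVec, ← Matrix.mulVec_mulVec, hypMat_herm hF H.ee H.e'e' H.ee' ha,
      hypMat_herm hF H.ff H.f'f' H.ff' hb])

theorem act_dS (hF : Fintype.card F = q ^ 2) (H : LF q e f e' f') {a b : F} (ha : a ≠ 0) (hb : b ≠ 0)
    (hab : (a * b) ^ q = a * b) (v : Fin n → F) :
    act (H.dS hF a b ha hb hab) v = v + (((b ^ q)⁻¹ - 1) * hermForm n F q v f) • f' +
      ((b - 1) * hermForm n F q v f') • f + (((a ^ q)⁻¹ - 1) * hermForm n F q v e) • e' +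
      ((a - 1) * hermForm n F q v e') • e := by
  rw [act_def, dS, mat_mkSU, ← Matrix.mulVec_mulVec, hypMat_mulVec H.f'f', hypMat_mulVec H.e'e']
  simp only [herm_add_left, herm_smul_left, H.f'e hF, H.fe hF, H.f'e' hF, H.fe', mul_zero, add_zero]

theorem dS_e (hF : Fintype.card F = q ^ 2) (H : LF q e f e' f') {a b : F} (ha : a ≠ 0) (hb : b ≠ 0)
    (hab : (a * b) ^ q = a * b) : act (H.dS hF a b ha hb hab) e = a • e := by
  rw [act_dS, H.ef, H.ef', H.ee, H.ee']
  module

theorem dS_f (hF : Fintype.card F = q ^ 2) (H : LF q e f e' f') {a b : F} (ha : a ≠ 0) (hb : b ≠ 0)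
    (hab : (a * b) ^ q = a * b) : act (H.dS hF a b ha hb hab) f = b • f := by
  rw [act_dS, H.fe hF, H.fe', H.ff, H.ff']
  module

theorem dS_e' (hF : Fintype.card F = q ^ 2) (H : LF q e f e' f') {a b : F} (ha : a ≠ 0) (hb : b ≠ 0)
    (hab : (a * b) ^ q = a * b) : act (H.dS hF a b ha hb hab) e' = (a ^ q)⁻¹ • e' := by
  rw [act_dS, H.e'f hF, H.e'f', H.e'e hF, H.e'e']
  module

theorem dS_f' (hF : Fintype.card F = q ^ 2) (H : LF q e f e' f') {a b : F} (ha : a ≠ 0) (hb : b ≠ 0)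
    (hab : (a * b) ^ q = a * b) : act (H.dS hF a b ha hb hab) f' = (b ^ q)⁻¹ • f' := by
  rw [act_dS, H.f'f hF, H.f'f', H.f'e hF, H.f'e' hF]
  module

theorem dS_perp (hF : Fintype.card F = q ^ 2) (H : LF q e f e' f') {a b : F} (ha : a ≠ 0) (hb : b ≠ 0)
    (hab : (a * b) ^ q = a * b) {v : Fin n → F} (h1 : hermForm n F q v e = 0) (h2 : hermForm n F q v f = 0)
    (h3 : hermForm n F q v e' = 0) (h4 : hermForm n F q v f' = 0) : act (H.dS hF a b ha hb hab) v = v := by
  rw [act_dS, h1, h2, h3, h4]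
  module

/-- Decomposition of a vector along the frame. -/
theorem decomp (H : LF q e f e' f') (hF : Fintype.card F = q ^ 2) (v : Fin n → F) :
    ∃ (u : Fin n → F) (a b c d : F), v = u + (a • e + b • f) + (c • e' + d • f') ∧ hermForm n F q u e = 0 ∧
      hermForm n F q u f = 0 ∧ hermForm n F q u e' = 0 ∧ hermForm n F q u f' = 0 := by
  refine ⟨v - hermForm n F q v e' • e - hermForm n F q v f' • f - hermForm n F q v e • e' - hermForm n F q v f • f',
    hermForm n F q v e', hermForm n F q v f', hermForm n F q v e, hermForm n F q v f, by abel, ?_, ?_, ?_, ?_⟩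
  all_goals
    simp only [herm_sub_left, herm_smul_left, H.ee, H.ef, H.ff, H.fe hF, H.ee', H.ef', H.fe', H.ff', H.e'e hF,
      H.e'f hF, H.f'e hF, H.f'f hF, H.e'e', H.e'f', H.f'f', H.f'e' hF]
    ring

/-- Two elements agreeing on the frame and on its orthogonal space are equal. -/
theorem ext (H : LF q e f e' f') (hF : Fintype.card F = q ^ 2) {g h : SU n F q} (h1 : act g e = act h e)
    (h2 : act g f = act h f) (h3 : act g e' = act h e') (h4 : act g f' = act h f')
    (h5 : ∀ v, hermForm n F q v e = 0 → hermForm n F q v f = 0 → hermForm n F q v e' = 0 →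
      hermForm n F q v f' = 0 → act g v = act h v) : g = h := by
  apply ext_act
  intro v
  obtain ⟨u, a, b, c, d, hv, k1, k2, k3, k4⟩ := H.decomp hF v
  rw [hv]
  simp only [act_add, act_smul, h1, h2, h3, h4, h5 u k1 k2 k3 k4]

omit [Fintype F] in
theorem act_pow {g : SU n F q} {v : Fin n → F} {c : F} (h : act g v = c • v) (k : ℕ) : act (g ^ k) v = c ^ k • v := by
  induction k with
  | zero => rw [pow_zero, pow_zero, act_one, one_smul]
  | succ k ih => rw [pow_succ, act_mul, h, act_smul, ih, smul_smul, pow_succ, mul_comm]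

theorem dS_pow (hF : Fintype.card F = q ^ 2) (H : LF q e f e' f') {a b : F} (ha : a ≠ 0) (hb : b ≠ 0)
    (hab : (a * b) ^ q = a * b) {k : ℕ} (hak : a ^ k = 1) (hbk : b ^ k = 1) : H.dS hF a b ha hb hab ^ k = 1 := by
  apply H.ext hF
  · rw [act_pow (H.dS_e hF ha hb hab), hak, one_smul, act_one]
  · rw [act_pow (H.dS_f hF ha hb hab), hbk, one_smul, act_one]
  · rw [act_pow (H.dS_e' hF ha hb hab), inv_pow, ← pow_mul, mul_comm q, pow_mul, hak, one_pow, inv_one, one_smul,
      act_one]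
  · rw [act_pow (H.dS_f' hF ha hb hab), inv_pow, ← pow_mul, mul_comm q, pow_mul, hbk, one_pow, inv_one, one_smul,
      act_one]
  · intro v h1 h2 h3 h4
    have h5 : act (H.dS hF a b ha hb hab) v = (1 : F) • v := by rw [H.dS_perp hF ha hb hab h1 h2 h3 h4, one_smul]
    rw [act_pow h5, one_pow, one_smul, act_one]

end LF

/-- Conjugation of a transvection by an element stabilising the point. -/
theorem conj_tS (hF : Fintype.card F = q ^ 2) (two : ∀ x : F, x + x = 0) (he : hermForm n F q e e = 0) {x a : F}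
    (hx : x ^ q = x) {g : SU n F q} (hg : act g e = a • e) : g * tS hF e x * g⁻¹ = tS hF e (a * a ^ q * x) := by
  rw [tS_eq hF (isSiegel_t two he hx), conj_siegel]
  apply ext_act
  intro v
  rw [act_siegel, act_tS hF two he (by rw [mul_pow, norm_pow_q hF, hx]), hg, act_zero, herm_zero_right hF,
    herm_smul_right]
  module

/-- Conjugation of `mS e f μ`. -/
theorem conj_mS (hF : Fintype.card F = q ^ 2) (two : ∀ x : F, x + x = 0) (he : hermForm n F q e e = 0)
    (hf : hermForm n F q f f = 0) (hef : hermForm n F q e f = 0) {μ a b : F} {g : SU n F q} (hg : act g e = a • e)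
    (hg' : act g f = b • f) : g * mS hF e f μ * g⁻¹ = mS hF e f (a * b ^ q * μ) := by
  rw [mS_eq hF (isSiegel_m hF he hf hef μ), conj_siegel]
  apply ext_act
  intro v
  rw [act_siegel, act_mS hF two he hf hef, act_smul, hg, hg']
  simp only [herm_smul_right, mul_pow, pow_q_pow_q hF, zero_mul, zero_sub, neg_two two]
  module

/-- **An element of odd order stabilising the point with a scalar of norm one centralises the double.** -/
theorem Dbl.comm_of_odd (hF : Fintype.card F = q ^ 2) (two : ∀ x : F, x + x = 0) (he : hermForm n F q e e = 0)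
    (E : Emb t ι) {W : Subgroup G} (D : Dbl hF t ι e W) {g : SU n F q} {a : F} (hg : act g e = a • e)
    (ha : a * a ^ q = 1) {k : ℕ} (hk : Odd k) (hgk : g ^ k = 1) :
    ∀ w ∈ W, ι (pr n F q g) * w = w * ι (pr n F q g) := by
  intro w hw
  set h := ι (pr n F q g) with hh
  have hn : ∀ x : F, x ^ q = x → h * ι (pr n F q (tS hF e x)) * h⁻¹ = ι (pr n F q (tS hF e x)) := by
    intro x hx
    rw [hh, ← map_inv, ← map_mul, ← map_mul, ← map_inv, ← map_mul, ← map_mul, conj_tS hF two he hx hg, ha, one_mul]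
  have ht : h * t = t * h := E.comm _
  have ht' : h⁻¹ * t = t * h⁻¹ := by rw [inv_mul_eq_iff_eq_mul, ← mul_assoc, ht, mul_inv_cancel_right]
  have hw' : h * w * h⁻¹ ∈ W := D.norm g a hg w hw
  obtain ⟨x, hx, hx2⟩ := D.dbl.brk w hw
  -- `w⁻¹ (h w h⁻¹)` commutes with `t`
  have h1 : t * (h * w * h⁻¹) * t = h * w * h⁻¹ * ι (pr n F q (tS hF e x)) := by
    calc t * (h * w * h⁻¹) * t = h * (t * w * t) * h⁻¹ := by
          rw [← mul_assoc, ← mul_assoc, ← ht, mul_assoc _ h⁻¹ t, ht']; group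
      _ = h * w * h⁻¹ * (h * ι (pr n F q (tS hF e x)) * h⁻¹) := by rw [hx2]; group
      _ = _ := by rw [hn x hx]
  have ti : t⁻¹ = t := inv_eq_of_mul_eq_one_left E.tt
  have h2 : t * (w⁻¹ * (h * w * h⁻¹)) * t = w⁻¹ * (h * w * h⁻¹) := by
    calc t * (w⁻¹ * (h * w * h⁻¹)) * t = (t⁻¹ * w * t⁻¹)⁻¹ * t⁻¹ * t⁻¹ * (t * (h * w * h⁻¹) * t) := by group
      _ = (t * w * t)⁻¹ * (t * (h * w * h⁻¹) * t) := by
          rw [ti, mul_assoc ((t * w * t)⁻¹) t t, E.tt, mul_one]
      _ = (w * ι (pr n F q (tS hF e x)))⁻¹ * (h * w * h⁻¹ * ι (pr n F q (tS hF e x))) := by rw [hx2, h1]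
      _ = (ι (pr n F q (tS hF e x)))⁻¹ * (w⁻¹ * (h * w * h⁻¹) * ι (pr n F q (tS hF e x))) := by group
      _ = w⁻¹ * (h * w * h⁻¹) := by
          rw [D.dbl.cn _ (mul_mem (inv_mem hw) hw') x hx, inv_mul_cancel_left]
  have h3 : t * (w⁻¹ * (h * w * h⁻¹)) = w⁻¹ * (h * w * h⁻¹) * t := by
    rw [← h2, mul_assoc (t * (w⁻¹ * (h * w * h⁻¹))) t t, E.tt, mul_one, h2]
  obtain ⟨y, hy, hy2⟩ := D.dbl.cent _ (mul_mem (inv_mem hw) hw') h3
  set z := ι (pr n F q (tS hF e y)) with hz
  have h4 : h * w * h⁻¹ = w * z := by rw [← hy2]; group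
  have hzz : z * z = 1 := by
    rw [hz, ← map_mul, ← map_mul, ← LF.tS_add hF two he hy hy, two]
    have h5 : tS hF e (0 : F) = 1 := by
      apply ext_act
      intro v
      rw [act_tS hF two he (zero_pow_q hF), act_one, zero_mul, zero_smul, add_zero]
    rw [h5, map_one, map_one]
  have h5 : ∀ k : ℕ, h ^ k * w * (h ^ k)⁻¹ = w * z ^ k := by
    intro k
    induction k with
    | zero => simp
    | succ k ih =>
      have h6 : h * z ^ k * h⁻¹ = z ^ k := by rw [← conj_pow, hn y hy]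
      calc h ^ (k + 1) * w * (h ^ (k + 1))⁻¹ = h * (h ^ k * w * (h ^ k)⁻¹) * h⁻¹ := by rw [pow_succ']; group
        _ = (h * w * h⁻¹) * (h * z ^ k * h⁻¹) := by rw [ih]; group
        _ = w * z ^ (k + 1) := by rw [h4, h6, pow_succ']; group
  have h6 := h5 k
  have h7 : h ^ k = 1 := by rw [hh, ← map_pow, ← map_pow, hgk, map_one, map_one]
  obtain ⟨j, rfl⟩ := hk
  have h8 : z ^ (2 * j + 1) = z := by rw [pow_succ, pow_mul, pow_two, hzz, one_pow, one_mul]
  rw [h7, h8, one_mul, inv_one, mul_one] at h6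
  rw [← h6] at h4
  exact mul_inv_eq_iff_eq_mul.mp h4

namespace LF

/-- The torus element `diag(s, s⁻¹)`. -/
theorem tor_aux (hF : Fintype.card F = q ^ 2) {s : F} (hs : s * s ^ q = 1) : s ≠ 0 ∧ s⁻¹ ≠ 0 ∧ (s * s⁻¹) ^ q = s * s⁻¹ := by
  have h0 : s ≠ 0 := by
    rintro rfl
    rw [zero_mul] at hs
    exact zero_ne_one hs
  refine ⟨h0, inv_ne_zero h0, ?_⟩
  rw [mul_inv_cancel₀ h0, one_pow]

theorem q_add_one_odd (hF : Fintype.card F = q ^ 2) (two : ∀ x : F, x + x = 0) : Odd (q + 1) := by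
  rw [← Nat.not_even_iff_odd]
  intro h
  have h1 : Odd q := by
    rcases Nat.even_or_odd q with h2 | h2
    · exact absurd h (by rw [Nat.even_add_one]; exact fun k => k h2)
    · exact h2
  have h2 : Odd (Fintype.card F) := by rw [hF]; exact h1.pow
  have h3 : ((Fintype.card F : ℕ) : F) = 0 := FiniteField.cast_card_eq_zero F
  obtain ⟨k, hk⟩ := h2
  rw [hk] at h3
  push_cast at h3
  have h4 : (2 : F) = 0 := by rw [← one_add_one_eq_two]; exact two 1
  rw [h4, zero_mul, zero_add] at h3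
  exact one_ne_zero h3

/-- **`Tor` for a line frame.** -/
theorem tor (H : LF q e f e' f') (hF : Fintype.card F = q ^ 2) (two : ∀ x : F, x + x = 0) (hn : 3 ≤ n)
    (E : Emb t ι) {Wp Wr : Subgroup G} (hp : Dbl hF t ι e Wp) (hr : Dbl hF t ι f Wr) {s : F} (hs : s * s ^ q = 1)
    (hs1 : s ≠ 1) :
    Tor (bar hF) t Wp Wr (fun x => ι (pr n F q (tS hF e x))) (fun y => ι (pr n F q (tS hF f y)))
      (fun μ => ι (pr n F q (mS hF e f μ)))
      (ι (pr n F q (H.dS hF s s⁻¹ (tor_aux hF hs).1 (tor_aux hF hs).2.1 (tor_aux hF hs).2.2))) := by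
  obtain ⟨h0, h0', h1⟩ := tor_aux hF hs
  have hodd := q_add_one_odd hF two
  have hsq : s ^ (q + 1) = 1 := by rw [pow_succ, mul_comm]; exact hs
  have hsq' : s⁻¹ ^ (q + 1) = 1 := by rw [inv_pow, hsq, inv_one]
  have hpow := H.dS_pow hF h0 h0' h1 hsq hsq'
  have hs' : s⁻¹ * s⁻¹ ^ q = 1 := by rw [inv_pow, ← mul_inv, hs, inv_one]
  have hsqi : s⁻¹ ^ q = s := by
    rw [inv_pow, inv_eq_iff_eq_inv]
    exact (eq_inv_of_mul_eq_one_right hs)
  have ge := H.dS_e hF h0 h0' h1
  have gf := H.dS_f hF h0 h0' h1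
  refine ⟨E.comm _, hp.comm_of_odd hF two H.ee E ge hs hodd hpow,
    hr.comm_of_odd hF two H.ff E gf hs' hodd hpow, ?_⟩
  intro x μ y hx hy h2
  have C := H.coord hF two hn E
  set h := ι (pr n F q (H.dS hF s s⁻¹ h0 h0' h1)) with hh
  have h3 : h * ι (pr n F q (tS hF e x)) * h⁻¹ = ι (pr n F q (tS hF e x)) := by
    rw [hh, ← map_inv, ← map_mul, ← map_mul, ← map_inv, ← map_mul, ← map_mul, conj_tS hF two H.ee hx ge, hs,
      one_mul]
  have h4 : h * ι (pr n F q (tS hF f y)) * h⁻¹ = ι (pr n F q (tS hF f y)) := by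
    rw [hh, ← map_inv, ← map_mul, ← map_mul, ← map_inv, ← map_mul, ← map_mul, conj_tS hF two H.ff hy gf, hs',
      one_mul]
  have h5 : h * ι (pr n F q (mS hF e f μ)) * h⁻¹ = ι (pr n F q (mS hF e f (s * s * μ))) := by
    rw [hh, ← map_inv, ← map_mul, ← map_mul, ← map_inv, ← map_mul, ← map_mul,
      conj_mS hF two H.ee H.ff H.ef ge gf, hsqi]
  have h6 : ι (pr n F q (tS hF e x)) * ι (pr n F q (mS hF e f (s * s * μ))) * ι (pr n F q (tS hF f y)) =
      ι (pr n F q (tS hF e x)) * ι (pr n F q (mS hF e f μ)) * ι (pr n F q (tS hF f y)) := by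
    calc _ = (h * ι (pr n F q (tS hF e x)) * h⁻¹) * (h * ι (pr n F q (mS hF e f μ)) * h⁻¹) *
          (h * ι (pr n F q (tS hF f y)) * h⁻¹) := by rw [h3, h4, h5]
      _ = (h * (ι (pr n F q (tS hF e x)) * ι (pr n F q (mS hF e f μ)) * ι (pr n F q (tS hF f y)))) * h⁻¹ := by
          group
      _ = _ := by rw [h2, mul_inv_cancel_right]
  have h7 := (Cfsg.Agent.OddHalf.D7.Uni.Line.A_inj C hx hy hx hy h6).2.1
  by_contra hμ
  have h8 : s * s = 1 := by
    have h9 : s * s * μ = 1 * μ := by rw [one_mul]; exact h7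
    exact mul_right_cancel₀ hμ h9
  apply hs1
  have h9 : (s + 1) * (s + 1) = 0 := by
    have h10 := two s
    have h11 := two 1
    linear_combination h8 + h10 + h11
  have h10 := mul_self_eq_zero.1 h9
  have h11 := eq_neg_of_add_eq_zero_left h10
  rwa [neg_two two] at h11

end LF

end Cfsg.Agent.KFacts.UniTwo

end

-- merged: Cfsg.Agent.KFacts.UniTwo.Exist
section

/-!
# Existence of line frames
-/

set_option autoImplicit false

namespace Cfsg.Agent.KFacts.UniTwo

open Cfsg Cfsg.Agent.LieClassical.HermBasic Cfsg.Agent.LieClassical.HermSiegel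
  Cfsg.Agent.LieClassical.HermGen Matrix
  Cfsg.Agent.ClassicalGeometry.PSUAutBasic Cfsg.Agent.ClassicalGeometry.PSUAutSylow

variable {F : Type*} [Field F] [Fintype F] {q n : ℕ} {e f : Fin n → F}

/-- A vector with prescribed products with two independent vectors. -/
theorem exists_dual (hF : Fintype.card F = q ^ 2) (hind : ∀ a b : F, a • e + b • f = 0 → a = 0 ∧ b = 0) :
    ∃ v, hermForm n F q e v = 1 ∧ hermForm n F q f v = 0 := by
  have hf0 : f ≠ 0 := by
    intro h
    have := (hind 0 1 (by rw [h, smul_zero, zero_smul, add_zero])).2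
    exact one_ne_zero this
  obtain ⟨v0, hv0⟩ := exists_herm_ne_zero hF hf0
  -- normalise
  obtain ⟨v1, hv1⟩ : ∃ v1, hermForm n F q f v1 = 1 := by
    refine ⟨((hermForm n F q f v0)⁻¹) ^ q • v0, ?_⟩
    rw [herm_smul_right, pow_q_pow_q hF, inv_mul_cancel₀ hv0]
  have h1 : e - hermForm n F q e v1 • f ≠ 0 := by
    intro h
    have := (hind 1 (-hermForm n F q e v1) (by rw [one_smul, neg_smul, ← sub_eq_add_neg, h])).1
    exact one_ne_zero this
  obtain ⟨v, hv⟩ := exists_herm_ne_zero hF h1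
  have h2 : hermForm n F q f (v - hermForm n F q f v ^ q • v1) = 0 := by
    rw [herm_sub_right hF, herm_smul_right, pow_q_pow_q hF, hv1, mul_one, sub_self]
  have h3 : hermForm n F q e (v - hermForm n F q f v ^ q • v1) ≠ 0 := by
    rw [herm_sub_right hF, herm_smul_right, pow_q_pow_q hF]
    rw [herm_sub_left, herm_smul_left] at hv
    rwa [mul_comm]
  set v2 := v - hermForm n F q f v ^ q • v1 with hv2
  refine ⟨((hermForm n F q e v2)⁻¹) ^ q • v2, ?_, ?_⟩
  · rw [herm_smul_right, pow_q_pow_q hF, inv_mul_cancel₀ h3]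
  · rw [herm_smul_right, h2, mul_zero]

/-- Every pair of independent orthogonal isotropic vectors belongs to a line frame. -/
theorem exists_LF_of (hF : Fintype.card F = q ^ 2) (he : hermForm n F q e e = 0) (hf : hermForm n F q f f = 0)
    (hef : hermForm n F q e f = 0) (hind : ∀ a b : F, a • e + b • f = 0 → a = 0 ∧ b = 0) :
    ∃ e' f', LF q e f e' f' := by
  have hfe := herm_eq_zero_swap hF hef
  obtain ⟨x, hx1, hx2⟩ := exists_dual hF hind
  have hx1' : hermForm n F q x e = 1 := by rw [herm_swap hF e x, hx1, one_pow]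
  have hx2' := herm_eq_zero_swap hF hx2
  obtain ⟨c, hc⟩ := exists_trace_eq hF (c := -hermForm n F q x x) (by rw [neg_pow_q hF, herm_self_pow hF])
  obtain ⟨y, hy1, hy2⟩ := exists_dual hF (e := f) (f := e) (by
    intro a b h
    exact (hind b a (by rw [add_comm]; exact h)).symm)
  have hy1' : hermForm n F q y f = 1 := by rw [herm_swap hF f y, hy1, one_pow]
  have hy2' := herm_eq_zero_swap hF hy2
  set e' := x + c • e with he'
  have k1 : hermForm n F q e e' = 1 := by rw [he', herm_add_right hF, herm_smul_right, hx1, he, mul_zero, add_zero]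
  have k1' : hermForm n F q e' e = 1 := by rw [herm_swap hF e e', k1, one_pow]
  have k2 : hermForm n F q f e' = 0 := by rw [he', herm_add_right hF, herm_smul_right, hx2, hfe, mul_zero, add_zero]
  have k2' := herm_eq_zero_swap hF k2
  have k3 : hermForm n F q e' e' = 0 := by
    rw [he']
    simp only [herm_add_left, herm_smul_left, herm_add_right hF, herm_smul_right, hx1, hx1', he]
    linear_combination hc
  set y2 := y - hermForm n F q y e' • e with hy2d
  have m1 : hermForm n F q e' y2 = 0 := by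
    rw [hy2d, herm_sub_right hF, herm_smul_right, k1', ← herm_swap hF y e', mul_one, sub_self]
  have m1' := herm_eq_zero_swap hF m1
  have m2 : hermForm n F q e y2 = 0 := by
    rw [hy2d, herm_sub_right hF, herm_smul_right, he, hy2, mul_zero, sub_zero]
  have m3 : hermForm n F q f y2 = 1 := by
    rw [hy2d, herm_sub_right hF, herm_smul_right, hfe, hy1, mul_zero, sub_zero]
  have m3' : hermForm n F q y2 f = 1 := by rw [herm_swap hF f y2, m3, one_pow]
  obtain ⟨d, hd⟩ := exists_trace_eq hF (c := -hermForm n F q y2 y2) (by rw [neg_pow_q hF, herm_self_pow hF])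
  refine ⟨e', y2 + d • f, he, hf, hef, k3, ?_, ?_, k1, ?_, ?_, k2⟩
  · simp only [herm_add_left, herm_smul_left, herm_add_right hF, herm_smul_right, m3, m3', hf]
    linear_combination hd
  · rw [herm_add_right hF, herm_smul_right, m1, k2', mul_zero, add_zero]
  · rw [herm_add_right hF, herm_smul_right, m3, hf, mul_zero, add_zero]
  · rw [herm_add_right hF, herm_smul_right, m2, hef, mul_zero, add_zero]

/-- Every isotropic vector belongs to a line frame. -/
theorem exists_LF (hF : Fintype.card F = q ^ 2) (hn : 4 ≤ n) (he0 : e ≠ 0) (he : hermForm n F q e e = 0) :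
    ∃ f e' f', LF q e f e' f' := by
  obtain ⟨w, w', hwe, hw'e, hww, hw'w', hww'⟩ := Cfsg.Agent.KFacts.Unit.exists_pair_of_iso hF hn he0 he
  have hew' := herm_eq_zero_swap hF hw'e
  obtain ⟨e', f', H⟩ := exists_LF_of hF he hww (herm_eq_zero_swap hF hwe) (by
    intro a b hab
    have h1 := congrArg (fun v => hermForm n F q v w') hab
    simp only [herm_add_left, herm_smul_left, hew', hww', herm_zero_left, mul_zero, zero_add, mul_one] at h1
    rw [h1, zero_smul, add_zero] at hab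
    exact ⟨(smul_eq_zero.1 hab).resolve_right he0, h1⟩)
  exact ⟨w, e', f', H⟩

/-- Orthogonal isotropic vectors spanning different points are independent. -/
theorem indep_of_ne (hf0 : f ≠ 0) (h : ∀ a : F, f ≠ a • e) (he0 : e ≠ 0) :
    ∀ a b : F, a • e + b • f = 0 → a = 0 ∧ b = 0 := by
  intro a b hab
  by_cases hb : b = 0
  · rw [hb, zero_smul, add_zero] at hab
    exact ⟨(smul_eq_zero.1 hab).resolve_right he0, hb⟩
  · exfalso
    apply h (-(b⁻¹ * a))
    have h1 : b • f = -(a • e) := eq_neg_of_add_eq_zero_right hab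
    calc f = b⁻¹ • (b • f) := by rw [smul_smul, inv_mul_cancel₀ hb, one_smul]
      _ = _ := by rw [h1, smul_neg, smul_smul, neg_smul]

end Cfsg.Agent.KFacts.UniTwo

end

-- merged: Cfsg.Agent.OddHalf.D7.Uni.EvlLine
section

/-!
# `EL` from `Line` (helper371): `E_l = ⟨W_s : s ∈ l⟩ = closure (gens Wp Wr m g)`
-/

set_option autoImplicit false

namespace Cfsg.Agent.OddHalf.D7.Uni.Quad

open Defs Cfsg.Agent.OddHalf.D7.Uni.Line

variable {G : Type*} [Group G] {F : Type*} [Field F] {σ : F →+* F} {t : G}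
  {OE Wp Wr Q : Subgroup G} {np nr m g : F → G}

theorem EL.of_line (L : Line σ t OE Wp Wr np nr m g) (H : LineGrp.Comm Wp Wr g)
    (hp : ∀ w ∈ Wp, w * w = 1) (hr : ∀ w ∈ Wr, w * w = 1)
    (gQ : ∀ l, g l ∈ Q) (npQ : ∀ x, σ x = x → np x ∈ Q) (mQ : ∀ x, m x ∈ Q)
    (hQ : ∀ q ∈ Q, ∃ l, ∃ c ∈ OE, q = g l * c) :
    EL σ t (Subgroup.closure (LineGrp.gens Wp Wr m g)) Wp Q np nr m g := by
  have C := L.toCoord
  set E := Subgroup.closure (LineGrp.gens Wp Wr m g) with hE
  have ht : t⁻¹ = t := inv_eq_of_mul_eq_one_left L.tt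
  have ab : ∀ a ∈ E, ∀ b ∈ E, a * b = b * a := fun a ha b hb => LineGrp.FE_comm L H ha hb
  have WE : Wp ≤ E := fun w hw => Subgroup.subset_closure (Or.inl hw)
  have WrE : Wr ≤ E := fun w hw => Subgroup.subset_closure
    (Or.inr (Or.inl ⟨0, w, hw, by rw [Coord.g_zero C]; group⟩))
  have np_E : ∀ x, σ x = x → np x ∈ E := fun x hx => WE (L.dp.mem x hx)
  have nr_E : ∀ x, σ x = x → nr x ∈ E := fun x hx => WrE (L.dr.mem x hx)
  have m_E : ∀ x, m x ∈ E := fun x => Subgroup.subset_closure (Or.inr (Or.inr ⟨x, rfl⟩))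
  have t_mul : ∀ a b : G, t * (a * b) * t = (t * a * t) * (t * b * t) := by
    intro a b
    calc t * (a * b) * t = t * a * 1 * b * t := by group
      _ = _ := by rw [← L.tt]; group
  have g_E : ∀ l, ∀ e ∈ E, g l * e * (g l)⁻¹ ∈ E := fun l e he => LineGrp.g_FE L l he
  have all_E : ∀ x μ y, σ x = x → σ y = y → np x * m μ * nr y ∈ E := fun x μ y hx hy =>
    E.mul_mem (E.mul_mem (np_E x hx) (m_E μ)) (nr_E y hy)
  have hnp1 : np 1 ≠ 1 := fun h => by
    have := (L.inj 1 0 0 (map_one σ) (map_zero σ) (by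
      rw [h, Coord.m_zero C, Coord.nr_zero C]; simp)).1
    exact one_ne_zero this
  have tE : t ∉ E := by
    intro h
    obtain ⟨w, hw, e⟩ := L.dp.surj 1 (map_one σ)
    rw [ab t h w (WE hw), mul_assoc, L.tt, mul_one] at e
    exact hnp1 (mul_eq_left.mp e.symm)
  have brk : ∀ e ∈ E, ∃ x μ y, σ x = x ∧ σ y = y ∧ t * e * t = e * (np x * m μ * nr y) := by
    intro e he
    refine Subgroup.closure_induction
      (p := fun e _ => ∃ x μ y, σ x = x ∧ σ y = y ∧ t * e * t = e * (np x * m μ * nr y)) ?_ ?_ ?_ ?_ he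
    · rintro x (hx | ⟨l, u, hu, rfl⟩ | ⟨μ, rfl⟩)
      · obtain ⟨a, ha, e⟩ := L.dp.brk x hx
        exact ⟨a, 0, 0, ha, map_zero σ, by rw [e, Coord.m_zero C, Coord.nr_zero C, mul_one, mul_one]⟩
      · obtain ⟨y, hy, e⟩ := L.dr.brk u hu
        exact ⟨_, _, _, fix_norm C l hy, hy, tU L hy e l⟩
      · refine ⟨0, 0, 0, map_zero σ, map_zero σ, ?_⟩
        rw [L.t_m, mul_assoc, L.tt, Coord.np_zero C, Coord.m_zero C, Coord.nr_zero C]
        simp
    · refine ⟨0, 0, 0, map_zero σ, map_zero σ, ?_⟩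
      rw [mul_one, L.tt, Coord.np_zero C, Coord.m_zero C, Coord.nr_zero C]
      simp
    · rintro a b ha hb ⟨x, μ, y, hx, hy, e⟩ ⟨x', μ', y', hx', hy', e'⟩
      refine ⟨x + x', μ + μ', y + y', fix_add C hx hx', fix_add C hy hy', ?_⟩
      rw [t_mul, e, e', ← A_mul C μ μ' hx hy hx' hy']
      have h := ab _ (all_E x μ y hx hy) b hb
      calc a * (np x * m μ * nr y) * (b * (np x' * m μ' * nr y')) =
          a * ((np x * m μ * nr y) * b) * (np x' * m μ' * nr y') := by group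
        _ = _ := by rw [h]; group
    · rintro a ha ⟨x, μ, y, hx, hy, e⟩
      refine ⟨x, μ, y, hx, hy, ?_⟩
      have h1 : t * a⁻¹ * t = (t * a * t)⁻¹ := by rw [mul_inv_rev, mul_inv_rev, ht, mul_assoc]
      rw [h1, e, mul_inv_rev, A_inv C μ hx hy]
      exact ab _ (all_E x μ y hx hy) _ (E.inv_mem ha)
  -- the brackets form a group
  have surj : ∀ x μ y, σ x = x → σ y = y → ∃ e ∈ E, t * e * t = e * (np x * m μ * nr y) := by
    have mulS : ∀ a b u v : G, a ∈ E → b ∈ E → u ∈ E → v ∈ E → t * a * t = a * u → t * b * t = b * v →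
        t * (a * b) * t = a * b * (u * v) := by
      intro a b u v ha hb hu hv e e'
      rw [t_mul, e, e']
      have h := ab u hu b hb
      calc a * u * (b * v) = a * (u * b) * v := by group
        _ = _ := by rw [h]; group
    intro x μ y hx hy
    obtain ⟨u, hu, eu⟩ := L.dr.surj 1 (map_one σ)
    obtain ⟨u', hu', eu'⟩ := L.dr.surj (y + 1) (fix_add C hy (map_one σ))
    obtain ⟨w, hw, ew⟩ := L.dp.surj (x + μ * σ μ * 1) (fix_add C hx (fix_norm C μ (map_one σ)))
    have h1 := tU L (map_one σ) eu μ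
    have hU : g μ * u * (g μ)⁻¹ ∈ E := g_E μ u (WrE hu)
    have e1 := all_E (μ * σ μ * 1) (μ * 1) 1 (fix_norm C μ (map_one σ)) (map_one σ)
    have e2 := nr_E (y + 1) (fix_add C hy (map_one σ))
    have e3 := np_E (x + μ * σ μ * 1) (fix_add C hx (fix_norm C μ (map_one σ)))
    have h2 := mulS _ _ _ _ hU (WrE hu') e1 e2 h1 eu'
    have h3 := mulS _ _ _ _ (E.mul_mem hU (WrE hu')) (WE hw) (E.mul_mem e1 e2) e3 h2 ew
    refine ⟨_, E.mul_mem (E.mul_mem hU (WrE hu')) (WE hw), ?_⟩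
    rw [h3]
    congr 1
    have a1 : nr (y + 1) = np 0 * m 0 * nr (y + 1) := by
      rw [Coord.np_zero C, Coord.m_zero C, one_mul, one_mul]
    have a2 : np (x + μ * σ μ * 1) = np (x + μ * σ μ * 1) * m 0 * nr 0 := by
      rw [Coord.m_zero C, Coord.nr_zero C]
      simp
    rw [a1, a2, A_mul C _ _ (fix_norm C μ (map_one σ)) (map_one σ) (map_zero σ)
      (fix_add C hy (map_one σ)), A_mul C _ _ (fix_add C (fix_norm C μ (map_one σ)) (map_zero σ))
      (fix_add C (map_one σ) (fix_add C hy (map_one σ)))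
      (fix_add C hx (fix_norm C μ (map_one σ))) (map_zero σ)]
    have b1 : μ * σ μ * 1 + 0 + (x + μ * σ μ * 1) = x := by
      have := L.two (μ * σ μ * 1)
      linear_combination this
    have b2 : μ * 1 + 0 + 0 = μ := by ring
    have b3 : 1 + (y + 1) + 0 = y := by
      have := L.two 1
      linear_combination this
    rw [b1, b2, b3]
  have cent : ∀ e ∈ E, t * e = e * t → ∃ x μ y, σ x = x ∧ σ y = y ∧ e = np x * m μ * nr y := by
    intro e he hc
    obtain ⟨x, μ, y, hx, hy, h | h⟩ := L.K2 e hc.symm fun o ho =>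
      (LineGrp.O_FE L ho he (L.O_m o ho)).symm
    · exact ⟨x, μ, y, hx, hy, h⟩
    · exfalso
      apply tE
      have : t = e * (np x * m μ * nr y)⁻¹ := by rw [h]; group
      rw [this]
      exact E.mul_mem he (E.inv_mem (all_E x μ y hx hy))
  exact
    { toCoord := C
      ab := ab
      sq := by
        intro a ha
        refine Subgroup.closure_induction (p := fun a _ => a * a = 1) ?_ ?_ ?_ ?_ ha
        · rintro x (hx | ⟨l, u, hu, rfl⟩ | ⟨μ, rfl⟩)
          · exact hp x hx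
          · calc g l * u * (g l)⁻¹ * (g l * u * (g l)⁻¹) = g l * (u * u) * (g l)⁻¹ := by group
              _ = 1 := by rw [hr u hu]; group
          · exact m_sq C μ
        · exact mul_one 1
        · intro a b ha hb h1 h2
          calc a * b * (a * b) = a * (b * a) * b := by group
            _ = (a * a) * (b * b) := by rw [ab b hb a ha]; group
            _ = 1 := by rw [h1, h2, mul_one]
        · intro a _ h1
          rw [← mul_inv_rev, h1, inv_one]
      WE := WE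
      np_E := np_E
      m_E := m_E
      nr_E := nr_E
      brk := brk
      surj := surj
      cent := cent
      dW := L.dp
      g_E := g_E
      g_W := L.g_p
      gQ := gQ
      npQ := npQ
      mQ := mQ
      Q_E := by
        intro q hq
        obtain ⟨l, c, hc, rfl⟩ := hQ q hq
        refine ⟨l, fun e he => ?_⟩
        have h := LineGrp.O_FE L hc he (L.O_m c hc)
        calc g l * c * e * (g l * c)⁻¹ = g l * (c * e) * c⁻¹ * (g l)⁻¹ := by group
          _ = _ := by rw [h]; group }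

end Cfsg.Agent.OddHalf.D7.Uni.Quad

end

-- merged: Cfsg.Agent.OddHalf.D7.Uni.Plane
section

/-!
# No `ℤ/4` phantom over a totally isotropic plane, group form (K = U_n(2), n ≥ 6; helper850, bb ODD 9603 (B))

`y v = w_⟨v⟩ t` of order 4 for the points `⟨v⟩` of a totally isotropic plane, `a H` (`H` a hermitian `3 × 3`
matrix) the elements of `A_Π`, `y v ^ 2 = a (v v*)`. If the `y v` commute: contradiction.
-/

set_option autoImplicit false

namespace Cfsg.Agent.OddHalf.D7.Uni.Plane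

open Matrix Cfsg.Agent.OddHalf.D7.Uni.PlaneCore

variable {G : Type*} [Group G] {F : Type*} [Field F] [Fintype F] [DecidableEq F] {σ : F →+* F}

theorem no_phantom (h4 : Fintype.card F = 4) (h2 : ∀ x : F, x + x = 0)
    (hσσ : ∀ x, σ (σ x) = x) (w : F) (hw : σ w ≠ w)
    (t : G) (tt : t * t = 1) (y : (Fin 3 → F) → G) (a : Matrix (Fin 3) (Fin 3) F → G)
    (hys : ∀ (c : F) v, c ≠ 0 → y (c • v) = y v)
    (a_add : ∀ H H', Herm σ H → Herm σ H' → a (H + H') = a H * a H')
    (a_ker : ∀ H, Herm σ H → a H = 1 → H = 0)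
    (y_sq : ∀ v, v ≠ 0 → y v * y v = a (rk σ v))
    (y_t : ∀ v, v ≠ 0 → t * y v * t = (y v)⁻¹)
    (a_t : ∀ H, Herm σ H → t * a H = a H * t)
    (y_y : ∀ v, v ≠ 0 → ∀ v', v' ≠ 0 → y v * y v' = y v' * y v)
    (y_a : ∀ v, v ≠ 0 → ∀ H, Herm σ H → y v * a H = a H * y v)
    (hK : ∀ M : Matrix (Fin 3) (Fin 3) F, M.det = 1 → ∃ k : G,
      (∀ v, v ≠ 0 → k * y v * k⁻¹ = y (M.mulVec v)) ∧
        ∀ H, Herm σ H → k * a H * k⁻¹ = a (M * H * st σ M))
    (O : Set G) (O_y : ∀ o ∈ O, ∀ v, v ≠ 0 → o * y v = y v * o)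
    (O_a : ∀ o ∈ O, ∀ H, Herm σ H → o * a H = a H * o)
    (K2 : ∀ c, c * t = t * c → (∀ o ∈ O, c * o = o * c) →
      ∃ H, Herm σ H ∧ (c = a H ∨ c = t * a H)) : False := by
  classical
  set X : Set G := {g | (∃ v, v ≠ 0 ∧ g = y v) ∨ ∃ H, Herm σ H ∧ g = a H} with hX
  have hXc : ∀ g ∈ X, ∀ g' ∈ X, g * g' = g' * g := by
    rintro g (⟨v, hv, rfl⟩ | ⟨H, hH, rfl⟩) g' (⟨v', hv', rfl⟩ | ⟨H', hH', rfl⟩)
    · exact y_y v hv v' hv'
    · exact y_a v hv H' hH'
    · exact (y_a v' hv' H hH).symm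
    · rw [← a_add _ _ hH hH', add_comm, a_add _ _ hH' hH]
  let _ : CommGroup (Subgroup.closure X) := Subgroup.closureCommGroupOfComm hXc
  have a_zero : a 0 = 1 := by
    have := a_add 0 0 herm_zero herm_zero
    rw [add_zero] at this
    exact left_eq_mul.mp this
  have a_sq : ∀ H, Herm σ H → a H * a H = 1 := by
    intro H hH
    rw [← a_add _ _ hH hH]
    have : H + H = 0 := by ext i j; exact h2 _
    rw [this, a_zero]
  have a_inv : ∀ H, Herm σ H → (a H)⁻¹ = a H := fun H hH => inv_eq_of_mul_eq_one_left (a_sq H hH)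
  -- `t` inverts `⟨X⟩`, `O` centralises it
  have hYc : ∀ g ∈ Subgroup.closure X, ∀ g' ∈ Subgroup.closure X, g * g' = g' * g := by
    intro g hg g' hg'
    exact congrArg Subtype.val (mul_comm (⟨g, hg⟩ : Subgroup.closure X) ⟨g', hg'⟩)
  have tinv : t⁻¹ = t := inv_eq_of_mul_eq_one_left tt
  have hYt : ∀ g ∈ Subgroup.closure X, t * g * t = g⁻¹ := by
    intro g hg
    induction hg using Subgroup.closure_induction with
    | mem g hg =>
      rcases hg with ⟨v, hv, rfl⟩ | ⟨H, hH, rfl⟩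
      · exact y_t v hv
      · rw [a_t H hH, mul_assoc, tt, mul_one, a_inv H hH]
    | one => rw [mul_one, tt, inv_one]
    | mul g g' hg hg' ih ih' =>
      have e : t * (g * g') * t = (t * g * t) * (t * g' * t) := by
        calc t * (g * g') * t = t * g * 1 * g' * t := by group
          _ = (t * g * t) * (t * g' * t) := by rw [← tt]; group
      rw [e, ih, ih', _root_.mul_inv_rev]
      exact hYc _ (inv_mem hg) _ (inv_mem hg')
    | inv g hg ih =>
      have e : t * g⁻¹ * t = (t * g * t)⁻¹ := by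
        rw [_root_.mul_inv_rev, _root_.mul_inv_rev, tinv]; group
      rw [e, ih]
  have hYO : ∀ o ∈ O, ∀ g ∈ Subgroup.closure X, o * g = g * o := by
    intro o ho g hg
    induction hg using Subgroup.closure_induction with
    | mem g hg =>
      rcases hg with ⟨v, hv, rfl⟩ | ⟨H, hH, rfl⟩
      · exact O_y o ho v hv
      · exact O_a o ho H hH
    | one => simp
    | mul g g' _ _ ih ih' => rw [← mul_assoc, ih, mul_assoc, ih', mul_assoc]
    | inv g _ ih => exact ((show Commute o g from ih).inv_right).eq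
  have ymem : ∀ v, v ≠ 0 → y v ∈ Subgroup.closure X := fun v hv =>
    Subgroup.subset_closure (Or.inl ⟨v, hv, rfl⟩)
  have amem : ∀ H, Herm σ H → a H ∈ Subgroup.closure X := fun H hH =>
    Subgroup.subset_closure (Or.inr ⟨H, hH, rfl⟩)
  -- `t ∉ ⟨X⟩`
  have v₀ : (![1, 0, 0] : Fin 3 → F) ≠ 0 := fun e => one_ne_zero (congrFun e 0)
  have tnot : t ∉ Subgroup.closure X := by
    intro ht
    have h1 := hYc _ ht _ (ymem _ v₀)
    have h3 : a (rk σ ![1, 0, 0]) = 1 := by
      rw [← y_sq _ v₀]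
      have h5 := y_t _ v₀
      rw [h1, mul_assoc, tt, mul_one] at h5
      exact eq_inv_iff_mul_eq_one.mp h5
    have h5 := a_ker _ (herm_rk hσσ _) h3
    have := congrFun (congrFun h5 0) 0
    simp [rk] at this
  -- the additive picture
  let yA : (Fin 3 → F) → Additive (Subgroup.closure X) := fun v =>
    if h : v ≠ 0 then Additive.ofMul ⟨y v, ymem v h⟩ else 0
  let αA : Matrix (Fin 3) (Fin 3) F → Additive (Subgroup.closure X) := fun H =>
    if h : Herm σ H then Additive.ofMul ⟨a H, amem H h⟩ else 0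
  have yA_pos : ∀ v (h : v ≠ 0), yA v = Additive.ofMul ⟨y v, ymem v h⟩ := fun v h => dif_pos h
  have αA_pos : ∀ H (h : Herm σ H), αA H = Additive.ofMul ⟨a H, amem H h⟩ := fun H h => dif_pos h
  have ext' : ∀ x x' : Additive (Subgroup.closure X),
      ((x.toMul : Subgroup.closure X) : G) = ((x'.toMul : Subgroup.closure X) : G) → x = x' := by
    intro x x' h
    exact Additive.toMul.injective (Subtype.ext h)
  refine core (A := Additive (Subgroup.closure X)) h4 h2 hσσ w hw yA αA ?_ ?_ ?_ ?_ ?_ ?_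
  · intro c v hc
    by_cases hv : v = 0
    · rw [hv, smul_zero]
    · have hcv : c • v ≠ 0 := smul_ne_zero hc hv
      rw [yA_pos _ hcv, yA_pos _ hv]
      apply ext'
      exact hys c v hc
  · intro H H' hH hH'
    rw [αA_pos _ hH, αA_pos _ hH', αA_pos _ (herm_add hH hH')]
    apply ext'
    exact a_add H H' hH hH'
  · intro H hH h
    rw [αA_pos _ hH] at h
    have : (⟨a H, amem H hH⟩ : Subgroup.closure X) = 1 := congrArg Additive.toMul h
    exact a_ker H hH (congrArg Subtype.val this)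
  · intro v hv
    rw [yA_pos _ hv, αA_pos _ (herm_rk hσσ _)]
    apply ext'
    exact y_sq v hv
  · intro M hM
    obtain ⟨k, hky, hka⟩ := hK M hM
    have hMinj : ∀ v, v ≠ 0 → M.mulVec v ≠ 0 := by
      intro v hv e
      apply hv
      have hu : IsUnit M.det := by rw [hM]; exact isUnit_one
      exact (Matrix.mulVec_injective_of_isUnit ((Matrix.isUnit_iff_isUnit_det M).mpr hu))
        (by rw [e, Matrix.mulVec_zero])
    have hk : ∀ g ∈ Subgroup.closure X, k * g * k⁻¹ ∈ Subgroup.closure X := by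
      intro g hg
      induction hg using Subgroup.closure_induction with
      | mem g hg =>
        rcases hg with ⟨v, hv, rfl⟩ | ⟨H, hH, rfl⟩
        · rw [hky v hv]; exact ymem _ (hMinj v hv)
        · rw [hka H hH]; exact amem _ (herm_conj hσσ M hH)
      | one => simp
      | mul g g' _ _ ih ih' =>
        have : k * (g * g') * k⁻¹ = (k * g * k⁻¹) * (k * g' * k⁻¹) := by group
        rw [this]; exact mul_mem ih ih'
      | inv g _ ih =>
        have : k * g⁻¹ * k⁻¹ = (k * g * k⁻¹)⁻¹ := by group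
        rw [this]; exact inv_mem ih
    let κ : Subgroup.closure X →* Subgroup.closure X :=
      { toFun := fun g => ⟨k * (g : G) * k⁻¹, hk _ g.2⟩
        map_one' := Subtype.ext (by simp)
        map_mul' := fun g g' => Subtype.ext (by
          show k * ((g : G) * (g' : G)) * k⁻¹ = (k * (g : G) * k⁻¹) * (k * (g' : G) * k⁻¹)
          group) }
    refine ⟨MonoidHom.toAdditive κ, fun v hv => ?_, fun H hH => ?_⟩
    · rw [yA_pos _ hv, yA_pos _ (hMinj v hv)]
      apply ext'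
      exact hky v hv
    · rw [αA_pos _ hH, αA_pos _ (herm_conj hσσ M hH)]
      apply ext'
      exact hka H hH
  · intro x hx
    obtain ⟨g, hg⟩ : ∃ g : Subgroup.closure X, g = x.toMul := ⟨_, rfl⟩
    have hgg : (g : G) * (g : G) = 1 := by
      have : g * g = 1 := by rw [hg]; exact congrArg Additive.toMul hx
      exact congrArg Subtype.val this
    have hgt : (g : G) * t = t * (g : G) := by
      have h1 := hYt _ g.2
      rw [inv_eq_of_mul_eq_one_left hgg] at h1
      calc (g : G) * t = (t * (g : G) * t) * t := by rw [h1]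
        _ = t * (g : G) := by rw [mul_assoc, tt, mul_one]
    obtain ⟨H, hH, e | e⟩ := K2 _ hgt (fun o ho => (hYO o ho _ g.2).symm)
    · refine ⟨H, hH, ?_⟩
      rw [αA_pos _ hH]
      apply ext'
      rw [← hg]
      exact e
    · exfalso
      apply tnot
      have : t = (g : G) * (a H)⁻¹ := by rw [e]; group
      rw [this]
      exact mul_mem g.2 (inv_mem (amem H hH))

end Cfsg.Agent.OddHalf.D7.Uni.Plane

end

-- merged: Cfsg.Agent.OddHalf.D7.Uni.PlaneGlue
section

/-!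
# ODD D7, `K = PSU_n(2)`, `n ≥ 6`: two orthogonal doubles commute (helper850)

`Y u` = the `K`-equivariant choice of an element of `W u` outside `X u`; `two_absurd`: the phantom
`[w_p, w_r] = z_p z_r` of `LineGrp.comm_of_two` is impossible (`Plane.no_phantom` in the totally isotropic plane
`⟨p, r, x⟩`).
-/

set_option autoImplicit false

namespace Cfsg.Agent.OddHalf.D7.Uni.PlaneGlue

open Cfsg Cfsg.Agent.LieClassical.HermBasic Cfsg.Agent.LieClassical.HermSiegel
  Cfsg.Agent.LieClassical.HermGen Cfsg.Agent.LieClassical.SUBasic Matrix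
  Cfsg.Agent.ClassicalGeometry.PSUAutBasic Cfsg.Agent.ClassicalGeometry.PSUAutSylow
  Cfsg.Agent.ClassicalGeometry.PSUAutUnip Cfsg.Agent.ClassicalGeometry.PSUAutPhi
  Cfsg.Agent.KFacts.Unit Cfsg.Agent.OddHalf.D7.Uni.Face Cfsg.Agent.OddHalf.D7.Uni.PlaneCore

variable {F : Type*} [Field F] [Fintype F] {q n : ℕ}

omit [Fintype F] in
/-- two independent columns extend to a matrix of determinant one -/
theorem exists_det_one (v v' : Fin 3 → F) (hv : v ≠ 0) (h : ∀ c : F, v' ≠ c • v) :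
    ∃ M : Matrix (Fin 3) (Fin 3) F, M.det = 1 ∧ (∀ i, M i 0 = v i) ∧ ∀ i, M i 1 = v' i := by
  have key : ∀ x : Fin 3 → F, x 0 * (v 1 * v' 2 - v 2 * v' 1) + x 1 * (v 2 * v' 0 - v 0 * v' 2) +
      x 2 * (v 0 * v' 1 - v 1 * v' 0) = 1 →
      ∃ M : Matrix (Fin 3) (Fin 3) F, M.det = 1 ∧ (∀ i, M i 0 = v i) ∧ ∀ i, M i 1 = v' i := by
    intro x hx
    refine ⟨Matrix.of fun i k => ![v i, v' i, x i] k, ?_, fun i => rfl, fun i => rfl⟩
    rw [Matrix.det_fin_three]
    simp only [Matrix.of_apply, Matrix.cons_val_zero, Matrix.cons_val_one, Matrix.cons_val]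
    linear_combination hx
  by_cases h0 : v 1 * v' 2 - v 2 * v' 1 = 0
  · by_cases h1 : v 2 * v' 0 - v 0 * v' 2 = 0
    · by_cases h2 : v 0 * v' 1 - v 1 * v' 0 = 0
      · exfalso
        obtain ⟨k, hk⟩ := Function.ne_iff.1 hv
        have hk' : v k ≠ 0 := hk
        refine h (v' k / v k) (funext fun i => ?_)
        rw [Pi.smul_apply, smul_eq_mul, div_mul_eq_mul_div, eq_div_iff hk']
        fin_cases k <;> fin_cases i <;> simp only [Fin.mk_zero, Fin.mk_one, Fin.reduceFinMk] <;>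
          [linear_combination h2; linear_combination -h1; linear_combination -h2; linear_combination h0; linear_combination h1; linear_combination -h0]
      · exact key ![0, 0, (v 0 * v' 1 - v 1 * v' 0)⁻¹] (by simp [inv_mul_cancel₀ h2])
    · exact key ![0, (v 2 * v' 0 - v 0 * v' 2)⁻¹, 0] (by simp [inv_mul_cancel₀ h1])
  · exact key ![(v 1 * v' 2 - v 2 * v' 1)⁻¹, 0, 0] (by simp [inv_mul_cancel₀ h0])

section

variable {G : Type*} [Group G] {t : G} {j : PSU n F q →* G} {W : (Fin n → F) → Subgroup G}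
  {hF : Fintype.card F = q ^ 2}

/-- the transvection of the point `⟨u⟩` -/
noncomputable def Z (hF : Fintype.card F = q ^ 2) (j : PSU n F q →* G) (u : Fin n → F) : G :=
  fj n F q j (Np hF u 1)

theorem cube (hF : Fintype.card F = q ^ 2) (hq : q = 2) {c : F} (hc : c ≠ 0) : c ^ 3 = 1 := by
  have := FiniteField.pow_card_sub_one_eq_one c hc
  rwa [hF, hq] at this

theorem Z_conj [CharP F 2] {u : Fin n → F} (hu : hermForm n F q u u = 0) (g : SU n F q) :
    fj n F q j g * Z hF j u * (fj n F q j g)⁻¹ = Z hF j (act g u) := by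
  rw [Z, Z, ← map_inv, ← map_mul, ← map_mul, Np, conj_Sg hF (isS_np hu (one_pow q)), act_zero, Np]

theorem Z_smul [CharP F 2] (hq : q = 2) {u : Fin n → F} (hu : hermForm n F q u u = 0) {c : F} (hc : c ≠ 0) :
    Z hF j (c • u) = Z hF j u := by
  rw [Z, Z]
  congr 1
  have hu' : hermForm n F q (c • u) (c • u) = 0 := by rw [herm_smul_left, herm_smul_right, hu, mul_zero, mul_zero]
  apply ext_act
  intro v
  rw [act_Np hF hu' (one_pow q), act_Np hF hu (one_pow q), herm_smul_right]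
  have h3 := cube hF hq hc
  funext i
  simp only [Pi.add_apply, Pi.smul_apply, smul_eq_mul]
  have : c ^ q * c = 1 := by rw [hq]; linear_combination h3
  linear_combination hermForm n F q v u * u i * this

/-- the elements of `RR u` for `q = 2` -/
theorem mem_RR_two [CharP F 2] (hq : q = 2) {u : Fin n → F} (hu : hermForm n F q u u = 0) {x : PSU n F q}
    (hx : x ∈ RR hF u hu) : j x = 1 ∨ j x = Z hF j u := by
  obtain ⟨μ, hμ, rfl⟩ := mem_RR.1 hx
  have hμ2 : μ * (1 + μ) = 0 := by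
    rw [hq] at hμ
    linear_combination hμ
  rcases mul_eq_zero.1 hμ2 with h | h
  · left
    subst h
    rw [transv_zero, map_one, map_one]
  · right
    have h1 : μ = 1 := by
      have : μ + 1 = 0 := by rw [add_comm]; exact h
      rw [CharTwo.add_eq_zero] at this
      exact this
    subst h1
    rw [Z, fj_apply, Np, Sg_eq hF (isS_np hu (one_pow q))]
    rfl

theorem Z_mem [CharP F 2] {u : Fin n → F} (hu : hermForm n F q u u = 0) :
    ∃ x ∈ RR hF u hu, j x = Z hF j u := by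
  have h1 : (1 : F) + 1 ^ q = 0 := by rw [one_pow]; exact CharTwo.add_self_eq_zero 1
  refine ⟨pr n F q (transv hF u hu 1 h1), mem_RR.2 ⟨1, h1, rfl⟩, ?_⟩
  rw [Z, fj_apply, Np, Sg_eq hF (isS_np hu (one_pow q))]
  rfl

theorem Z_sq [CharP F 2] {u : Fin n → F} (hu : hermForm n F q u u = 0) : Z hF j u * Z hF j u = 1 := by
  rw [Z, ← map_mul]
  have : Np hF u 1 * Np hF u 1 = 1 := by
    apply ext_act
    intro v
    rw [act_mul, act_Np hF hu (one_pow q), act_Np hF hu (one_pow q), act_one, herm_add_left, herm_smul_left, hu,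
      mul_zero, add_zero, add_assoc, ← add_smul, CharTwo.add_self_eq_zero, zero_smul, add_zero]
  rw [this, map_one]

variable (D : Dbl hF t j W)

include D

theorem Z_ne [CharP F 2] (hn : 3 ≤ n) {u : Fin n → F} (hu0 : u ≠ 0) (hu : hermForm n F q u u = 0) :
    Z hF j u ≠ 1 := by
  intro h
  have h1 : Np hF u 1 = 1 := D.toSit.eq_one hF hn hu0
    (by rw [act_Np hF hu (one_pow q), hu, mul_zero, zero_smul, add_zero]) h
  obtain ⟨f, -, -, hfu⟩ := exists_partner hF hu0 hu
  have h2 := congrArg (fun g => act g f) h1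
  simp only [act_one] at h2
  rw [act_Np hF hu (one_pow q), hfu, mul_one, one_smul, add_eq_left] at h2
  exact hu0 h2

/-- `Z u` commutes with `W u` -/
theorem Z_comm [CharP F 2] {u : Fin n → F} (hu0 : u ≠ 0) (hu : hermForm n F q u u = 0) {w : G} (hw : w ∈ W u) :
    w * Z hF j u = Z hF j u * w :=
  D.cent hu0 hu w hw _ (by rw [act_Np hF hu (one_pow q), hu, mul_zero, zero_smul, add_zero])

/-- `Z r` commutes with `W u` for `r ⟂ u` -/
theorem Z_comm' [CharP F 2] {u r : Fin n → F} (hu0 : u ≠ 0) (hu : hermForm n F q u u = 0)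
    (hr : hermForm n F q r r = 0) (hur : hermForm n F q u r = 0) {w : G} (hw : w ∈ W u) :
    w * Z hF j r = Z hF j r * w :=
  D.cent hu0 hu w hw _ (by rw [act_Np hF hr (one_pow q), hur, mul_zero, zero_smul, add_zero])

/-- the two elements of `W u` outside `X u` -/
theorem eq_or_of_brk [CharP F 2] (hq : q = 2) {u : Fin n → F} (hu0 : u ≠ 0) (hu : hermForm n F q u u = 0) {w w' : G}
    (hw : w ∈ W u) (hw' : w' ∈ W u) (h : t * w * t = w * Z hF j u) (h' : t * w' * t = w' * Z hF j u) :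
    w' = w ∨ w' = w * Z hF j u := by
  have hz := Z_comm D hu0 hu hw
  have hz' := Z_comm D hu0 hu hw'
  have h1 : t * (w⁻¹ * w') = (w⁻¹ * w') * t := by
    have e1 : t * w⁻¹ * t = w⁻¹ * (Z hF j u)⁻¹ := by
      have ht : t⁻¹ = t := inv_eq_of_mul_eq_one_left D.tt
      calc t * w⁻¹ * t = (t⁻¹ * w * t⁻¹)⁻¹ := by group
        _ = (w * Z hF j u)⁻¹ := by rw [ht, h]
        _ = w⁻¹ * (Z hF j u)⁻¹ := by rw [hz]; group
    calc t * (w⁻¹ * w') = t * w⁻¹ * (t * t) * w' * (t * t) := by rw [D.tt]; group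
      _ = (t * w⁻¹ * t) * (t * w' * t) * t := by group
      _ = w⁻¹ * (Z hF j u)⁻¹ * (w' * Z hF j u) * t := by rw [e1, h']
      _ = w⁻¹ * w' * t := by rw [hz']; group
  have h0 : w⁻¹ * w' ∈ (RR hF u hu).map j := D.fix hu0 hu _ ((W u).mul_mem ((W u).inv_mem hw) hw') h1
  obtain ⟨x, hx, e⟩ := h0
  rcases mem_RR_two (j := j) hq hu hx with h2 | h2
  · left
    have h3 : w⁻¹ * w' = 1 := by rw [← h2]; exact e.symm
    exact (inv_mul_eq_one.1 h3).symm
  · right
    have h3 : w⁻¹ * w' = Z hF j u := by rw [← h2]; exact e.symm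
    rw [← h3]; group

/-- `K_⟨u⟩` centralises `W u` -/
theorem conj_fix [CharP F 2] (hq : q = 2) {u : Fin n → F} (hu0 : u ≠ 0) (hu : hermForm n F q u u = 0) {w : G}
    (hw : w ∈ W u) (h : t * w * t = w * Z hF j u) (hZ1 : Z hF j u ≠ 1) {g : SU n F q} {c : F} (hc : c ≠ 0)
    (hg : act g u = c • u) : fj n F q j g * w * (fj n F q j g)⁻¹ = w := by
  obtain ⟨k, hk⟩ : ∃ k, k = fj n F q j g := ⟨_, rfl⟩
  have hkt : t * k = k * t := by rw [hk]; exact D.tj _
  have hmem : k * w * k⁻¹ ∈ W u := by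
    have h1 := D.conj hu0 hu g w hw
    rw [hg, D.smul hu0 hu hc] at h1
    rw [hk]; exact h1
  have hkZ : k * Z hF j u * k⁻¹ = Z hF j u := by
    rw [hk, Z_conj hu, hg, Z_smul hq hu hc]
  have hbrk : t * (k * w * k⁻¹) * t = (k * w * k⁻¹) * Z hF j u := by
    have hkt' : k⁻¹ * t = t * k⁻¹ := by
      calc k⁻¹ * t = k⁻¹ * (t * k) * k⁻¹ := by group
        _ = t * k⁻¹ := by rw [hkt]; group
    calc t * (k * w * k⁻¹) * t = (t * k) * w * (k⁻¹ * t) := by group
      _ = k * (t * w * t) * k⁻¹ := by rw [hkt, hkt']; group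
      _ = (k * w * k⁻¹) * (k * Z hF j u * k⁻¹) := by rw [h]; group
      _ = _ := by rw [hkZ]
  rw [← hk]
  rcases eq_or_of_brk D hq hu0 hu hw hmem h hbrk with h1 | h1
  · exact h1
  · exfalso
    -- `g³` fixes `u`
    have hg3 : act (g * g * g) u = u := by
      rw [act_mul, act_mul, hg, act_smul, hg, act_smul, act_smul, hg, smul_smul, smul_smul]
      have : c * c * c = 1 := by rw [← cube hF hq hc]; ring
      rw [this, one_smul]
    have h3 := D.cent hu0 hu w hw _ hg3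
    rw [map_mul, map_mul, ← hk] at h3
    have h4 : k * w = w * Z hF j u * k := by rw [← h1]; group
    have hkZ' : k * Z hF j u = Z hF j u * k := by
      calc k * Z hF j u = (k * Z hF j u * k⁻¹) * k := by group
        _ = _ := by rw [hkZ]
    have hzz := Z_sq (hF := hF) (j := j) hu
    obtain ⟨z, hz⟩ : ∃ z, z = Z hF j u := ⟨_, rfl⟩
    rw [← hz] at h4 hkZ' hzz
    have h5 : k * (k * w) = w * (k * k) := by
      rw [h4]
      calc k * (w * z * k) = (k * w) * z * k := by group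
        _ = w * z * (k * z) * k := by rw [h4]; group
        _ = w * (z * z) * (k * k) := by rw [hkZ']; group
        _ = w * (k * k) := by rw [hzz, mul_one]
    have h6 : k * k * k * w = w * z * (k * k * k) := by
      calc k * k * k * w = k * (k * (k * w)) := by group
        _ = (k * w) * (k * k) := by rw [h5]; group
        _ = w * z * (k * k * k) := by rw [h4]; group
    rw [h6] at h3
    have h7 : w = w * z := mul_right_cancel h3
    have h8 : z = 1 := by
      have := h7.symm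
      rwa [mul_eq_left] at this
    exact absurd (hz.symm.trans h8) hZ1

/-- the equivariant choice -/
theorem exists_Y [CharP F 2] (hq : q = 2) (hn : 3 ≤ n) {p : Fin n → F} (hp0 : p ≠ 0)
    (hpp : hermForm n F q p p = 0) {v : G} (hv : v ∈ W p) (h1 : t * v * t = v * Z hF j p) :
    ∃ Y : (Fin n → F) → G, Y p = v ∧
      (∀ u, u ≠ 0 → hermForm n F q u u = 0 → Y u ∈ W u ∧ t * Y u * t = Y u * Z hF j u) ∧
      (∀ u, u ≠ 0 → hermForm n F q u u = 0 → ∀ (g : SU n F q) (c : F) (u' : Fin n → F), c ≠ 0 → act g u = c • u' →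
        fj n F q j g * Y u * (fj n F q j g)⁻¹ = Y u') := by
  classical
  have hex : ∀ u : Fin n → F, u ≠ 0 → hermForm n F q u u = 0 → ∃ g : SU n F q, act g p = u := by
    intro u hu0 hu
    obtain ⟨g, -, hg⟩ := exists_map_iso hF hn le_rfl (mem_coordSub_top p) (mem_coordSub_top u) hp0 hu0 hpp hu
    exact ⟨g, hg⟩
  have hZp := Z_ne D hn hp0 hpp
  -- the value
  have hval : ∀ (g g' : SU n F q) (c : F), c ≠ 0 → act g p = c • act g' p →
      fj n F q j g * v * (fj n F q j g)⁻¹ = fj n F q j g' * v * (fj n F q j g')⁻¹ := by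
    intro g g' c hc h
    have h4 : act (g'⁻¹ * g) p = c • p := by rw [act_mul, h, act_smul, act_inv_act]
    have h5 := conj_fix D hq hp0 hpp hv h1 hZp hc h4
    rw [map_mul, map_inv] at h5
    calc fj n F q j g * v * (fj n F q j g)⁻¹
        = fj n F q j g' * (((fj n F q j g')⁻¹ * fj n F q j g) * v * ((fj n F q j g')⁻¹ * fj n F q j g)⁻¹) *
          (fj n F q j g')⁻¹ := by group
      _ = _ := by rw [h5]
  let Y : (Fin n → F) → G := fun u =>
    if h : ∃ g : SU n F q, act g p = u then fj n F q j h.choose * v * (fj n F q j h.choose)⁻¹ else 1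
  have hY : ∀ (g : SU n F q) (c : F) (u : Fin n → F), c ≠ 0 → act g p = c • u →
      Y u = fj n F q j g * v * (fj n F q j g)⁻¹ := by
    intro g c u hc h
    have hu : u = c⁻¹ • act g p := by rw [h, smul_smul, inv_mul_cancel₀ hc, one_smul]
    have hu0 : u ≠ 0 := by
      rw [hu]
      exact smul_ne_zero (inv_ne_zero hc) (fun h0 => hp0 ((act_eq_zero g).1 h0))
    have huu : hermForm n F q u u = 0 := by
      rw [hu, herm_smul_left, herm_smul_right, herm_act, hpp, mul_zero, mul_zero]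
    have hexu := hex u hu0 huu
    have e1 : Y u = fj n F q j hexu.choose * v * (fj n F q j hexu.choose)⁻¹ := dif_pos hexu
    rw [e1]
    exact (hval g hexu.choose c hc (by rw [h, hexu.choose_spec])).symm
  refine ⟨Y, ?_, ?_, ?_⟩
  · have := hY 1 1 p one_ne_zero (by rw [act_one, one_smul])
    rw [this, map_one, one_mul, inv_one, mul_one]
  · intro u hu0 hu
    obtain ⟨g, hg⟩ := hex u hu0 hu
    have e1 := hY g 1 u one_ne_zero (by rw [hg, one_smul])
    obtain ⟨k, hk⟩ : ∃ k, k = fj n F q j g := ⟨_, rfl⟩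
    have hkt : t * k = k * t := by rw [hk]; exact D.tj _
    have hkt' : k⁻¹ * t = t * k⁻¹ := by
      calc k⁻¹ * t = k⁻¹ * (t * k) * k⁻¹ := by group
        _ = t * k⁻¹ := by rw [hkt]; group
    refine ⟨?_, ?_⟩
    · rw [e1]
      have := D.conj hp0 hpp g v hv
      rwa [hg] at this
    · rw [e1, ← hk]
      have hZ : k * Z hF j p * k⁻¹ = Z hF j u := by rw [hk, Z_conj hpp, hg]
      calc t * (k * v * k⁻¹) * t = (t * k) * v * (k⁻¹ * t) := by group
        _ = k * (t * v * t) * k⁻¹ := by rw [hkt, hkt']; group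
        _ = (k * v * k⁻¹) * (k * Z hF j p * k⁻¹) := by rw [h1]; group
        _ = _ := by rw [hZ]
  · intro u hu0 hu g c u' hc h
    obtain ⟨g₀, hg₀⟩ := hex u hu0 hu
    rw [hY g₀ 1 u one_ne_zero (by rw [hg₀, one_smul]), hY (g * g₀) c u' hc (by rw [act_mul, hg₀, h]), map_mul]
    group

/-- **The phantom is impossible.** -/
theorem two_absurd [CharP F 2] (hq : q = 2) (hn : 6 ≤ n) {p r : Fin n → F} (hp0 : p ≠ 0)
    (hpp : hermForm n F q p p = 0) (hrr : hermForm n F q r r = 0) (hpr : hermForm n F q p r = 0)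
    (hind : LinearIndependent F ![p, r]) {v u : G} (hv : v ∈ W p) (hu : u ∈ W r)
    (h1 : t * v * t = v * Z hF j p) (h2 : t * u * t = u * Z hF j r)
    (h3 : v * u = u * v * (Z hF j p * Z hF j r)) : False := by
  classical
  have hrp : hermForm n F q r p = 0 := herm_eq_zero_swap hF hpr
  have hr0 : r ≠ 0 := by
    intro h
    exact hind.ne_zero 1 h
  have ht : t⁻¹ = t := inv_eq_of_mul_eq_one_left D.tt
  obtain ⟨Y, hYp, hYW, hYc⟩ := exists_Y D hq (by omega) hp0 hpp hv h1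
  -- the base pair
  have hbase : Y p * Y r = Y r * Y p * (Z hF j p * Z hF j r) := by
    have hrW := hYW r hr0 hrr
    rw [hYp]
    rcases eq_or_of_brk D hq hr0 hrr hu hrW.1 h2 hrW.2 with e | e
    · rw [e]; exact h3
    · have c1 : v * Z hF j r = Z hF j r * v := Z_comm' D hp0 hpp hrr hpr hv
      rw [e]
      calc v * (u * Z hF j r) = (v * u) * Z hF j r := by group
        _ = u * v * (Z hF j p * Z hF j r) * Z hF j r := by rw [h3]
        _ = u * (v * Z hF j r) * (Z hF j p * Z hF j r) := by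
          have c2 : Z hF j p * Z hF j r = Z hF j r * Z hF j p := by
            obtain ⟨x, hx, ex⟩ := Z_mem (hF := hF) (j := j) hpp
            exact Z_comm' D hp0 hpp hrr hpr (by rw [← ex]; exact D.X_le hp0 hpp ⟨x, hx, rfl⟩)
          calc u * v * (Z hF j p * Z hF j r) * Z hF j r = u * v * (Z hF j r * Z hF j p) * Z hF j r := by rw [c2]
            _ = _ := by group
        _ = u * Z hF j r * v * (Z hF j p * Z hF j r) := by rw [c1]; group
  -- the frame of the plane
  obtain ⟨f₂, E₂⟩ := exists_Frm hF hind (fun i j => by fin_cases i <;> fin_cases j <;> assumption)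
  obtain ⟨x, x', hxx, hx1, hx2, hx3, hx4⟩ := exists_third hF hn E₂
  have E := Frm.snoc hF E₂ hxx hx1 hx2 hx3 hx4
  obtain ⟨e, he⟩ : ∃ e, e = (Fin.snoc (α := fun _ => Fin n → F) ![p, r] x : Fin 3 → (Fin n → F)) := ⟨_, rfl⟩
  obtain ⟨f, hf⟩ : ∃ f, f = (Fin.snoc (α := fun _ => Fin n → F) f₂ x' : Fin 3 → (Fin n → F)) := ⟨_, rfl⟩
  rw [← he, ← hf] at E
  have he0 : e 0 = p := by rw [he]; rfl
  have he1 : e 1 = r := by rw [he]; rfl
  -- vectors of the plane
  obtain ⟨vec, hvec⟩ : ∃ vec : (Fin 3 → F) → (Fin n → F), vec = fun v => ∑ i, v i • e i := ⟨_, rfl⟩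
  have vdef : ∀ v, vec v = ∑ i, v i • e i := fun v => by rw [hvec]
  have viso : ∀ v v', hermForm n F q (vec v) (vec v') = 0 := by
    intro v v'
    rw [vdef, vdef, herm_sum_right hF]
    exact Finset.sum_eq_zero fun k _ => by rw [herm_smul_right, E.herm_sum_e, mul_zero]
  have vsmul : ∀ (c : F) v, vec (c • v) = c • vec v := by
    intro c v
    rw [vdef, vdef, Finset.smul_sum]
    exact Finset.sum_congr rfl fun k _ => by rw [Pi.smul_apply, smul_eq_mul, mul_smul]
  have vne : ∀ v, v ≠ 0 → vec v ≠ 0 := by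
    intro v hv0 h
    apply hv0
    apply E.indep
    rw [← vdef, h]
    simp
  have vfix : ∀ g : SU n F q, (∀ k, act g (e k) = e k) → ∀ v, act g (vec v) = vec v := by
    intro g hg v
    rw [vdef, act_sum]
    exact Finset.sum_congr rfl fun k _ => by rw [act_smul, hg]
  have vmap : ∀ (g : SU n F q) (M : Matrix (Fin 3) (Fin 3) F), (∀ k, act g (e k) = ∑ i, M i k • e i) →
      ∀ v, act g (vec v) = vec (M.mulVec v) := by
    intro g M hg v
    rw [vdef, vdef, act_sum]
    simp only [act_smul, hg, Finset.smul_sum, smul_smul]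
    rw [Finset.sum_comm]
    refine Finset.sum_congr rfl fun i _ => ?_
    rw [← Finset.sum_smul]
    congr 1
    rw [Matrix.mulVec, dotProduct]
    exact Finset.sum_congr rfl fun k _ => mul_comm _ _
  have hskew : ∀ H, Herm (sig hF) H ↔ IsSkew q H := by
    intro H
    constructor
    · intro h i k
      have := h k i
      rw [sig_apply] at this
      rw [this]
      exact CharTwo.add_self_eq_zero _
    · intro h i k
      have := h k i
      rw [sig_apply]
      exact (CharTwo.add_eq_zero.1 this).symm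
  have hne1 : e 0 ≠ 0 := by rw [he0]; exact hp0
  have afix : ∀ (H : Matrix (Fin 3) (Fin 3) F) (hH : IsSkew q H) k, act (aEl hF E H hH) (e k) = e k := by
    intro H hH k
    rw [act_aEl]
    have : ∑ i, (∑ l, H i l * hermForm n F q (e k) (e l)) • e i = 0 :=
      Finset.sum_eq_zero fun i _ => by
        rw [Finset.sum_eq_zero fun l _ => by rw [E.ee, mul_zero], zero_smul]
    rw [this, add_zero]
  obtain ⟨w₀, hw₀⟩ := exists_not_fixed hF
  let y : (Fin 3 → F) → G := fun v => if v = 0 then 1 else Y (vec v) * t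
  have ypos : ∀ v, v ≠ 0 → y v = Y (vec v) * t := fun v hv0 => if_neg hv0
  let a : Matrix (Fin 3) (Fin 3) F → G := fun H => if h : IsSkew q H then fj n F q j (aEl hF E H h) else 1
  have apos : ∀ H (h : IsSkew q H), a H = fj n F q j (aEl hF E H h) := fun H h => dif_pos h
  have YW : ∀ v, v ≠ 0 → Y (vec v) ∈ W (vec v) := fun v hv0 => (hYW _ (vne v hv0) (viso v v)).1
  have Yb : ∀ v, v ≠ 0 → t * Y (vec v) * t = Y (vec v) * Z hF j (vec v) :=
    fun v hv0 => (hYW _ (vne v hv0) (viso v v)).2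
  have Ysq : ∀ v, v ≠ 0 → Y (vec v) * Y (vec v) = 1 := fun v hv0 => D.sq hq (vne v hv0) (viso v v) _ (YW v hv0)
  have Ysm : ∀ (c : F) v, c ≠ 0 → v ≠ 0 → Y (c • vec v) = Y (vec v) := by
    intro c v hc hv0
    have := hYc (c • vec v) (smul_ne_zero hc (vne v hv0)) (by rw [← vsmul]; exact viso _ _) 1 c (vec v) hc
      (by rw [act_one])
    rw [← this, map_one, one_mul, inv_one, mul_one]
  refine Plane.no_phantom (σ := sig hF) (by rw [hF, hq]; norm_num) CharTwo.add_self_eq_zero (pow_q_pow_q hF) w₀ hw₀ t D.tt y a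
    ?_ ?_ ?_ ?_ ?_ ?_ ?_ ?_ ?_ {o | ∃ g : SU n F q, (∀ k, act g (e k) = e k) ∧ o = fj n F q j g} ?_ ?_ ?_
  · -- hys
    intro c v hc
    by_cases hv0 : v = 0
    · rw [hv0, smul_zero]
    · rw [ypos _ (smul_ne_zero hc hv0), ypos _ hv0, vsmul, Ysm c v hc hv0]
  · -- a_add
    intro H H' hH hH'
    rw [hskew] at hH hH'
    rw [apos _ hH, apos _ hH', apos _ (hH.add hF hH'), ← map_mul, aEl_mul]
  · -- a_ker
    intro H hH h
    rw [hskew] at hH
    rw [apos _ hH] at h
    have h5 := D.toSit.eq_one hF (by omega) hne1 (afix H hH 0) h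
    have h6 : aEl hF E (0 : Matrix (Fin 3) (Fin 3) F) (IsSkew.zero (by omega)) = 1 := by
      apply ext_act
      intro v
      rw [act_aEl, act_one]
      simp
    exact aEl_inj hF E (h5.trans h6.symm)
  · -- y_sq
    intro v hv0
    have hs := (hskew _).1 (herm_rk (σ := sig hF) (pow_q_pow_q hF) v)
    rw [ypos v hv0, apos _ hs]
    have e1 : Y (vec v) * t * (Y (vec v) * t) = Z hF j (vec v) := by
      calc Y (vec v) * t * (Y (vec v) * t) = Y (vec v) * (t * Y (vec v) * t) := by group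
        _ = (Y (vec v) * Y (vec v)) * Z hF j (vec v) := by rw [Yb v hv0]; group
        _ = _ := by rw [Ysq v hv0, one_mul]
    rw [e1, Z]
    congr 1
    apply ext_act
    intro x
    rw [act_Np hF (viso v v) (one_pow q), act_aEl, one_mul, vdef, herm_sum_right hF, Finset.smul_sum]
    congr 1
    refine Finset.sum_congr rfl fun i _ => ?_
    rw [smul_smul]
    congr 1
    rw [Finset.sum_mul]
    refine Finset.sum_congr rfl fun k _ => ?_
    rw [herm_smul_right]
    show v k ^ q * hermForm n F q x (e k) * v i = v i * (v k) ^ q * hermForm n F q x (e k)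
    ring
  · -- y_t
    intro v hv0
    rw [ypos v hv0]
    calc t * (Y (vec v) * t) * t = t * Y (vec v) * (t * t) := by group
      _ = t⁻¹ * (Y (vec v) * Y (vec v)) * (Y (vec v))⁻¹ * (Y (vec v) * Y (vec v)) := by
        rw [D.tt, Ysq v hv0, ht, mul_one, mul_one, mul_one]
        congr 1
        exact eq_inv_of_mul_eq_one_left (Ysq v hv0)
      _ = (Y (vec v) * t)⁻¹ := by
        rw [Ysq v hv0, _root_.mul_inv_rev]; group
  · -- a_t
    intro H hH
    rw [hskew] at hH
    rw [apos _ hH]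
    exact D.tj _
  · -- y_y
    intro v hv0 v' hv0'
    rw [ypos v hv0, ypos v' hv0']
    by_cases hdep : ∃ c : F, v' = c • v
    · obtain ⟨c, rfl⟩ := hdep
      have hc : c ≠ 0 := by
        rintro rfl
        exact hv0' (zero_smul _ _)
      rw [vsmul, Ysm c v hc hv0]
    · push Not at hdep
      obtain ⟨M, hM, hM0, hM1⟩ := exists_det_one v v' hv0 hdep
      obtain ⟨g, hg, -⟩ := exists_SL hF E hM
      have hgp : act g p = vec v := by
        rw [← he0, hg, vdef]
        exact Finset.sum_congr rfl fun i _ => by rw [hM0]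
      have hgr : act g r = vec v' := by
        rw [← he1, hg, vdef]
        exact Finset.sum_congr rfl fun i _ => by rw [hM1]
      obtain ⟨k, hk⟩ : ∃ k, k = fj n F q j g := ⟨_, rfl⟩
      have k1 : k * Y p * k⁻¹ = Y (vec v) := by
        rw [hk]; exact hYc p hp0 hpp g 1 _ one_ne_zero (by rw [hgp, one_smul])
      have k2 : k * Y r * k⁻¹ = Y (vec v') := by
        rw [hk]; exact hYc r hr0 hrr g 1 _ one_ne_zero (by rw [hgr, one_smul])
      have k3 : k * Z hF j p * k⁻¹ = Z hF j (vec v) := by rw [hk, Z_conj hpp, hgp]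
      have k4 : k * Z hF j r * k⁻¹ = Z hF j (vec v') := by rw [hk, Z_conj hrr, hgr]
      have hpair : Y (vec v) * Y (vec v') = Y (vec v') * Y (vec v) * (Z hF j (vec v) * Z hF j (vec v')) := by
        calc Y (vec v) * Y (vec v') = (k * Y p * k⁻¹) * (k * Y r * k⁻¹) := by rw [k1, k2]
          _ = k * (Y p * Y r) * k⁻¹ := by group
          _ = (k * Y r * k⁻¹) * (k * Y p * k⁻¹) * ((k * Z hF j p * k⁻¹) * (k * Z hF j r * k⁻¹)) := by
            rw [hbase]; group
          _ = _ := by rw [k1, k2, k3, k4]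
      have zz := Z_sq (hF := hF) (j := j) (viso v' v')
      calc Y (vec v) * t * (Y (vec v') * t) = Y (vec v) * (t * Y (vec v') * t) := by group
        _ = (Y (vec v) * Y (vec v')) * Z hF j (vec v') := by rw [Yb v' hv0']; group
        _ = Y (vec v') * Y (vec v) * Z hF j (vec v) * (Z hF j (vec v') * Z hF j (vec v')) := by
          rw [hpair]; group
        _ = Y (vec v') * (t * Y (vec v) * t) := by rw [zz, Yb v hv0]; group
        _ = _ := by group
  · -- y_a
    intro v hv0 H hH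
    rw [hskew] at hH
    rw [ypos v hv0, apos _ hH]
    have c1 := D.cent (vne v hv0) (viso v v) _ (YW v hv0) (aEl hF E H hH) (vfix _ (afix H hH) v)
    have c2 : t * fj n F q j (aEl hF E H hH) = fj n F q j (aEl hF E H hH) * t := D.tj _
    rw [mul_assoc, c2, ← mul_assoc, c1, mul_assoc]
  · -- hK
    intro M hM
    obtain ⟨g, hg, -⟩ := exists_SL hF E hM
    refine ⟨fj n F q j g, fun v hv0 => ?_, fun H hH => ?_⟩
    · have hMv : M.mulVec v ≠ 0 := by
        intro h
        apply hv0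
        have hu : IsUnit M.det := by rw [hM]; exact isUnit_one
        exact (Matrix.mulVec_injective_of_isUnit ((Matrix.isUnit_iff_isUnit_det M).mpr hu))
          (by rw [h, Matrix.mulVec_zero])
      rw [ypos v hv0, ypos _ hMv]
      have c1 := hYc (vec v) (vne v hv0) (viso v v) g 1 (vec (M.mulVec v)) one_ne_zero
        (by rw [vmap g M hg, one_smul])
      have c2 : t * fj n F q j g = fj n F q j g * t := D.tj _
      rw [← c1]
      calc fj n F q j g * (Y (vec v) * t) * (fj n F q j g)⁻¹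
          = fj n F q j g * Y (vec v) * (fj n F q j g)⁻¹ * (fj n F q j g * t) * (fj n F q j g)⁻¹ := by group
        _ = _ := by rw [← c2]; group
    · have hH' := herm_conj (σ := sig hF) (pow_q_pow_q hF) M hH
      rw [hskew] at hH hH'
      rw [apos _ hH, apos _ hH', ← map_inv, ← map_mul, ← map_mul, conj_aEl hF E hH hg]
      rfl
  · -- O_y
    rintro _ ⟨g, hg, rfl⟩ v hv0
    rw [ypos v hv0]
    have c1 := D.cent (vne v hv0) (viso v v) _ (YW v hv0) g (vfix g hg v)
    have c2 : t * fj n F q j g = fj n F q j g * t := D.tj _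
    rw [mul_assoc, c2, ← mul_assoc, ← c1, mul_assoc]
  · -- O_a
    rintro _ ⟨g, hg, rfl⟩ H hH
    rw [hskew] at hH
    rw [apos _ hH, ← map_mul, ← map_mul]
    congr 1
    have h5 : ∀ k, act g (e k) = ∑ i, (1 : Matrix (Fin 3) (Fin 3) F) i k • e i := by
      intro k
      rw [hg, Finset.sum_eq_single k]
      · rw [Matrix.one_apply_eq, one_smul]
      · intro i _ hik
        rw [Matrix.one_apply_ne hik, zero_smul]
      · intro h; exact absurd (Finset.mem_univ k) h
    have h6 := conj_aEl hF E hH h5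
    have h7 : (1 : Matrix (Fin 3) (Fin 3) F) * H * (1 : Matrix (Fin 3) (Fin 3) F)ᵀ.map (· ^ q) = H := by
      have : (1 : Matrix (Fin 3) (Fin 3) F)ᵀ.map (· ^ q) = 1 := by
        rw [Matrix.transpose_one]
        exact Matrix.map_one _ (zero_pow (by omega)) (one_pow q)
      rw [this, Matrix.one_mul, Matrix.mul_one]
    rw [aEl_congr hF E _ hH h7, mul_inv_eq_iff_eq_mul] at h6
    exact h6
  · -- K2
    intro c hc hO
    obtain ⟨α, hα⟩ := D.toSit.exists_aut hc
    have h5 : ∀ g : SU n F q, (∀ k, act g (e k) = e k) → α (pr n F q g) = pr n F q g := by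
      intro g hg
      apply D.inj
      rw [← hα]
      have := hO _ ⟨g, hg, rfl⟩
      rw [fj_apply] at this
      rw [this, mul_inv_cancel_right]
    obtain ⟨H, hH, hH'⟩ := autCent_frame hF (by omega) E (by norm_num) α h5
    refine ⟨H, (hskew H).2 hH, ?_⟩
    rw [apos _ hH]
    exact D.toSit.eq_or hc (fun x => by rw [hα, hH'])

omit D in
theorem indep_of_P2 {p p' r r' : Fin n → F} (H : P2 q p p' r r') : LinearIndependent F ![p, r] := by
  rw [LinearIndependent.pair_iff]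
  intro a b h
  have h1 := congrArg (fun x => hermForm n F q x p') h
  have h2 := congrArg (fun x => hermForm n F q x r') h
  simp only [herm_add_left, herm_smul_left, H.pp', H.rp', H.pr', H.rr', herm_zero_left, mul_one, mul_zero, add_zero,
    zero_add] at h1 h2
  exact ⟨h1, h2⟩

/-- **The alternative of `LineGrp.comm_of_two` is resolved**: `[W p, W r] = 1`. -/
theorem comm [CharP F 2] (hq : q = 2) (hn : 6 ≤ n) {p p' r r' : Fin n → F} (H : P2 q p p' r r') {v u : G}
    (hv : v ∈ W p) (hu : u ∈ W r)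
    (h : v * u = u * v ∨ (t * v * t = v * fj n F q j (Np hF p 1) ∧ t * u * t = u * fj n F q j (Np hF r 1) ∧
      v * u = u * v * (fj n F q j (Np hF p 1) * fj n F q j (Np hF r 1)))) : v * u = u * v := by
  rcases h with h | ⟨h1, h2, h3⟩
  · exact h
  · exact absurd (two_absurd D hq hn H.p_ne H.pp H.rr H.pr (indep_of_P2 H) hv hu h1 h2 h3) not_false

end

end Cfsg.Agent.OddHalf.D7.Uni.PlaneGlue

end

-- merged: Cfsg.Agent.OddHalf.D7.Uni.FaceComm
section

/-!
# `Tor`, `Scale`, the swap; all `W s`, `s ∈ l`, commute for a totally isotropic line `l` (ODD D7, `K = PSU_n(q)`)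
-/

set_option autoImplicit false
set_option linter.unusedSimpArgs false
set_option linter.unusedSectionVars false

namespace Cfsg.Agent.OddHalf.D7.Uni.Face

open Cfsg Cfsg.Agent.LieClassical.HermBasic Cfsg.Agent.LieClassical.HermSiegel
  Cfsg.Agent.LieClassical.HermGen Cfsg.Agent.LieClassical.SUBasic Matrix
  Cfsg.Agent.ClassicalGeometry.PSUAutBasic Cfsg.Agent.ClassicalGeometry.PSUAutSylow
  Cfsg.Agent.ClassicalGeometry.PSUAutUnip Cfsg.Agent.ClassicalGeometry.PSUAutPhi
  Cfsg.Agent.KFacts.Unit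

variable {F : Type*} [Field F] [Fintype F] {q n : ℕ} {G : Type*} [Group G] {t : G} {j : PSU n F q →* G}
  {W : (Fin n → F) → Subgroup G}

omit [Fintype F] in
theorem P2.lf {p p' r r' : Fin n → F} (H : P2 q p p' r r') : KFacts.UniTwo.LF q p r p' r' where
  ee := H.pp
  ff := H.rr
  ef := H.pr
  e'e' := H.p'p'
  f'f' := H.r'r'
  e'f' := H.p'r'
  ee' := H.pp'
  ff' := H.rr'
  ef' := H.pr'
  fe' := H.rp'

theorem conj_Np (hF : Fintype.card F = q ^ 2) [CharP F 2] {u : Fin n → F} (hu : hermForm n F q u u = 0) {x c : F}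
    (hx : x ^ q = x) {g : SU n F q} (hg : act g u = c • u) : g * Np hF u x * g⁻¹ = Np hF u (c * c ^ q * x) := by
  have hcu : hermForm n F q (c • u) (c • u) = 0 := by rw [herm_smul_left, herm_smul_right, hu]; ring
  have hx' : (c * c ^ q * x) ^ q = c * c ^ q * x := by rw [mul_pow, norm_pow_q hF, hx]
  rw [Np, conj_Sg hF (isS_np hu hx), act_zero, hg]
  apply ext_act
  intro v
  rw [act_Sg hF (isS_np hcu hx), act_Np hF hu hx', herm_zero_right hF, smul_zero, add_zero, sub_zero,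
    herm_smul_right, smul_smul]
  congr 2
  ring

theorem conj_Mm (hF : Fintype.card F = q ^ 2) {p r : Fin n → F} (hp : hermForm n F q p p = 0)
    (hr : hermForm n F q r r = 0) (hrp : hermForm n F q r p = 0) (μ : F) {a b : F} {g : SU n F q}
    (hg : act g p = a • p) (hg' : act g r = b • r) : g * Mm hF p r μ * g⁻¹ = Mm hF p r (a * b ^ q * μ) := by
  have h1 : IsSiegel q (a • p) (μ ^ q • b • r) 0 := by
    refine isS_vec hF ?_ ?_ ?_ _
    · rw [herm_smul_left, herm_smul_right, hp]; ring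
    · rw [herm_smul_left, herm_smul_right, hrp]; ring
    · rw [herm_smul_left, herm_smul_right, hr]; ring
  rw [Mm, conj_Sg hF (isS_vec hF hp hrp hr _), act_smul, hg, hg']
  apply ext_act
  intro v
  rw [act_Sg hF h1, act_Mm hF hp hr hrp]
  simp only [herm_smul_right, mul_pow, pow_q_pow_q hF]
  module

/-- `Defs.Tor` -/
theorem Dbl.tor {hF : Fintype.card F = q ^ 2} [CharP F 2] (D : Dbl hF t j W) (hn : 4 ≤ n) {p p' r r' : Fin n → F}
    (H : P2 q p p' r r') : ∃ h : G, Defs.Tor (sig hF) t (W p) (W r) (fun x => fj n F q j (Np hF p x))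
      (fun y => fj n F q j (Np hF r y)) (fun μ => fj n F q j (Mm hF p r μ)) h := by
  obtain ⟨s, hs, hs1⟩ := KFacts.UniTwo.exists_norm_one_ne hF
  obtain ⟨h0, h0', h1⟩ := KFacts.UniTwo.LF.tor_aux hF hs
  have hodd := KFacts.UniTwo.LF.q_add_one_odd hF CharTwo.add_self_eq_zero
  have hsq : s ^ (q + 1) = 1 := by rw [pow_succ, mul_comm]; exact hs
  have hsq' : s⁻¹ ^ (q + 1) = 1 := by rw [inv_pow, hsq, inv_one]
  have hpow := H.lf.dS_pow hF h0 h0' h1 hsq hsq'
  have hs' : s⁻¹ * s⁻¹ ^ q = 1 := by rw [inv_pow, ← mul_inv, hs, inv_one]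
  have ge := H.lf.dS_e hF h0 h0' h1
  have gf := H.lf.dS_f hF h0 h0' h1
  set d := H.lf.dS hF s s⁻¹ h0 h0' h1 with hd
  have C := coord D.toSit hF (by omega) H
  refine ⟨fj n F q j d, (D.tj _).symm, fun w hw => (D.cent_odd H.p_ne H.pp hs ge hodd hpow hw).symm,
    fun w hw => (D.cent_odd H.r_ne H.rr hs' gf hodd hpow hw).symm, ?_⟩
  intro x μ y hx hy h2
  have h3 : d * Np hF p x * d⁻¹ = Np hF p x := by
    rw [conj_Np hF H.pp hx ge, hs, one_mul]
  have h4 : d * Np hF r y * d⁻¹ = Np hF r y := by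
    rw [conj_Np hF H.rr hy gf, hs', one_mul]
  have hsqi : s⁻¹ ^ q = s := by
    rw [inv_pow, inv_eq_iff_eq_inv]
    exact (eq_inv_of_mul_eq_one_right hs)
  have h5 : d * Mm hF p r μ * d⁻¹ = Mm hF p r (s * s * μ) := by
    rw [conj_Mm hF H.pp H.rr H.rp μ ge gf, hsqi]
  have h6 : fj n F q j (Np hF p x) * fj n F q j (Mm hF p r (s * s * μ)) * fj n F q j (Np hF r y) =
      fj n F q j (Np hF p x) * fj n F q j (Mm hF p r μ) * fj n F q j (Np hF r y) := by
    have e1 : d * (Np hF p x * Mm hF p r μ * Np hF r y) * d⁻¹ = Np hF p x * Mm hF p r (s * s * μ) * Np hF r y := by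
      rw [← h5]
      calc d * (Np hF p x * Mm hF p r μ * Np hF r y) * d⁻¹ = (d * Np hF p x * d⁻¹) * (d * Mm hF p r μ * d⁻¹) *
            (d * Np hF r y * d⁻¹) := by group
        _ = _ := by rw [h3, h4]
    have e2 := congrArg (fj n F q j) e1
    simp only [map_mul, map_inv] at e2
    rw [← e2, h2, mul_inv_cancel_right]
  have h7 := (Line.A_inj C hx hy hx hy h6).2.1
  by_contra hμ
  have h8 : s * s = 1 := by
    have h9 : s * s * μ = 1 * μ := by rw [one_mul]; exact h7
    exact mul_right_cancel₀ hμ h9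
  apply hs1
  have h9 : (s + 1) * (s + 1) = 0 := by
    have h10 := CharTwo.add_self_eq_zero s
    have h11 := CharTwo.add_self_eq_zero (1 : F)
    linear_combination h8 + h10 + h11
  have h10 := mul_self_eq_zero.1 h9
  have h11 := eq_neg_of_add_eq_zero_left h10
  rwa [CharTwo.neg_eq] at h11

/-- square roots of fixed elements -/
theorem exists_sqrt_fix [CharP F 2] {ν : F} (hν : ν ^ q = ν) :
    ∃ b : F, b * b = ν ∧ b ^ q = b := by
  obtain ⟨b, hb⟩ := FiniteField.isSquare_of_char_two (ringChar.eq F 2) ν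
  have hb' : b ^ q * b ^ q = b * b := by rw [← mul_pow, ← hb, hν]
  refine ⟨b, hb.symm, ?_⟩
  have h9 : (b ^ q + b) * (b ^ q + b) = 0 := by
    have h10 := CharTwo.add_self_eq_zero (b ^ q * b)
    have h11 := CharTwo.add_self_eq_zero (b * b)
    linear_combination hb' + h10 + h11
  have h10 := mul_self_eq_zero.1 h9
  have h11 := eq_neg_of_add_eq_zero_left h10
  rwa [CharTwo.neg_eq] at h11

/-- `Defs.Scale` -/
theorem Dbl.scale {hF : Fintype.card F = q ^ 2} [CharP F 2] (D : Dbl hF t j W) {p p' r r' : Fin n → F}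
    (H : P2 q p p' r r') : Defs.Scale (sig hF) t (W p) (W r) (fun x => fj n F q j (Np hF p x))
      (fun y => fj n F q j (Np hF r y)) := by
  intro ν hν hν0
  obtain ⟨b, hb, hbq⟩ := exists_sqrt_fix hν
  have hb0 : b ≠ 0 := by
    rintro rfl
    rw [mul_zero] at hb
    exact hν0 hb.symm
  have h1 : (b * 1) ^ q = b * 1 := by rw [mul_one, hbq]
  have ge := H.lf.dS_e hF hb0 one_ne_zero h1
  have gf := H.lf.dS_f hF hb0 one_ne_zero h1
  set d := H.lf.dS hF b 1 hb0 one_ne_zero h1 with hd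
  refine ⟨fj n F q j d, (D.tj _).symm, ?_, ?_, ?_, ?_⟩
  · intro w hw
    have := D.conj H.p_ne H.pp d w hw
    rwa [ge, D.smul H.p_ne H.pp hb0] at this
  · intro w hw
    have := D.conj H.r_ne H.rr d w hw
    rwa [gf, one_smul] at this
  · intro x hx
    show fj n F q j d * fj n F q j (Np hF p x) * (fj n F q j d)⁻¹ = fj n F q j (Np hF p (ν * x))
    rw [← map_mul, ← map_inv, ← map_mul, conj_Np hF H.pp hx ge, hbq, hb]
  · intro y hy
    show fj n F q j d * fj n F q j (Np hF r y) * (fj n F q j d)⁻¹ = fj n F q j (Np hF r y)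
    rw [← map_mul, ← map_inv, ← map_mul, conj_Np hF H.rr hy gf, one_pow, mul_one, one_mul]

/-- `q > 2`: a fixed element different from `0`, `1`. -/
theorem exists_fixed (hF : Fintype.card F = q ^ 2) (hq : 2 < q) : ∃ k : F, sig hF k = k ∧ k ≠ 0 ∧ k ≠ 1 := by
  classical
  by_contra hcon
  push Not at hcon
  have h1 := card_fixed hF
  have h2 : Nat.card {x : F // x ^ q = x} ≤ Nat.card (({0, 1} : Finset F) : Set F) := by
    refine Nat.card_le_card_of_injective (fun x => ⟨x.1, ?_⟩) (fun x y h => ?_)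
    · by_cases h0 : x.1 = 0
      · simp only [h0, _root_.Finset.coe_insert, _root_.Finset.coe_singleton, _root_.Set.mem_insert_iff, _root_.Set.mem_singleton_iff, _root_.zero_ne_one, _root_.or_false]
      · have := hcon x.1 x.2 h0
        simp only [this, _root_.Finset.coe_insert, _root_.Finset.coe_singleton, _root_.Set.mem_insert_iff, _root_.one_ne_zero, _root_.Set.mem_singleton_iff, _root_.or_true]
    · exact Subtype.ext (Subtype.mk.inj h)
  have h3 : Nat.card (({0, 1} : Finset F) : Set F) ≤ 2 := by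
    rw [Nat.card_coe_set_eq, Set.ncard_coe_finset]
    exact Finset.card_le_two
  omega

/-- `q = 2`: the fixed elements are `0` and `1`. -/
theorem fixed_two (hF : Fintype.card F = q ^ 2) (hq : q = 2) : ∀ k : F, sig hF k = k → k = 0 ∨ k = 1 := by
  subst hq
  intro k hk
  have h1 : k ^ 2 = k := hk
  have h2 : k * (k - 1) = 0 := by linear_combination h1
  rcases mul_eq_zero.1 h2 with h3 | h3
  · exact Or.inl h3
  · exact Or.inr (sub_eq_zero.1 h3)

theorem OE_swap (p r : Fin n → F) : OE n F q j r p = OE n F q j p r := by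
  rw [OE, OE, inf_comm]

theorem Dbl.line' {hF : Fintype.card F = q ^ 2} [CharP F 2] (D : Dbl hF t j W) (hn : 4 ≤ n) {p p' r r' : Fin n → F}
    (H : P2 q p p' r r') :
    Defs.Line (sig hF) t (OE n F q j p r) (W r) (W p) (fun x => fj n F q j (Np hF r x)) (fun y => fj n F q j (Np hF p y))
      (fun μ => fj n F q j (Mm hF r p μ)) (fun l => fj n F q j (Mm hF r p' l)) := by
  rw [← OE_swap]
  exact D.line hn H.swap

theorem Dbl.pr_large {hF : Fintype.card F = q ^ 2} [CharP F 2] (D : Dbl hF t j W) (hn : 4 ≤ n) (hq : 2 < q)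
    {p p' r r' : Fin n → F} (H : P2 q p p' r r') : ∀ v ∈ W p, ∀ u ∈ W r, v * u = u * v := by
  intro v hv u hu
  obtain ⟨h, T⟩ := D.tor hn H
  obtain ⟨h', T'⟩ := D.tor hn H.swap
  exact LineGrp.comm_of_large (D.line hn H) (D.line' hn H) T T' (D.scale H) (D.scale H.swap)
    (exists_fixed hF hq) hv hu

section P2

variable {p p' r r' : Fin n → F}

theorem P2.of_lf (hF : Fintype.card F = q ^ 2) (H : KFacts.UniTwo.LF q p r p' r') : P2 q p p' r r' where
  pp := H.ee
  p'p' := H.e'e'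
  pp' := H.ee'
  p'p := H.e'e hF
  rr := H.ff
  r'r' := H.f'f'
  rr' := H.ff'
  r'r := H.f'f hF
  pr := H.ef
  rp := H.fe hF
  pr' := H.ef'
  r'p := H.f'e hF
  p'r := H.e'f hF
  rp' := H.fe'
  p'r' := H.e'f'
  r'p' := H.f'e' hF

theorem exists_P2 (hF : Fintype.card F = q ^ 2) (hn : 4 ≤ n) (hp0 : p ≠ 0) (hp : hermForm n F q p p = 0) :
    ∃ p' r r', P2 q p p' r r' := by
  obtain ⟨f, e', f', H⟩ := KFacts.UniTwo.exists_LF hF hn hp0 hp
  exact ⟨e', f, f', P2.of_lf hF H⟩

theorem exists_P2_of (hF : Fintype.card F = q ^ 2) (hp : hermForm n F q p p = 0) (hr : hermForm n F q r r = 0)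
    (hpr : hermForm n F q p r = 0) (hind : ∀ a b : F, a • p + b • r = 0 → a = 0 ∧ b = 0) :
    ∃ p' r', P2 q p p' r r' := by
  obtain ⟨e', f', H⟩ := KFacts.UniTwo.exists_LF_of hF hp hr hpr hind
  exact ⟨e', f', P2.of_lf hF H⟩

/-- the pair `(r + l p, r)` of the line `⟨p, r⟩` -/
theorem P2.shift [CharP F 2] (hF : Fintype.card F = q ^ 2) (H : P2 q p p' r r') {l : F} (hl : l ≠ 0) :
    P2 q (r + l • p) ((l⁻¹) ^ q • p') r (r' + (l⁻¹) ^ q • p') := by
  have e1 : l * l⁻¹ = 1 := mul_inv_cancel₀ hl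
  have e2 : l ^ q * l⁻¹ ^ q = 1 := by rw [← mul_pow, e1, one_pow]
  have e3 : (l⁻¹ ^ q) ^ q = l⁻¹ := pow_q_pow_q hF _
  have h2 : (2 : F) = 0 := CharTwo.two_eq_zero
  constructor <;>
    simp only [herm_add_left, herm_smul_left, herm_add_right hF, herm_smul_right, H.pp, H.p'p', H.pp', H.p'p, H.rr,
      H.r'r', H.rr', H.r'r, H.pr, H.rp, H.pr', H.r'p, H.p'r, H.rp', H.p'r', H.r'p', e3, mul_zero, add_zero,
      zero_add, mul_one, e1, e2] <;>
    first
      | done
      | linear_combination e1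
      | fail
      | linear_combination h2
      | linear_combination e1 + h2


end P2

/-- all `W p`, `W r` with `p ⊥ r` commute -/
def PR (q : ℕ) (W : (Fin n → F) → Subgroup G) : Prop :=
  ∀ p p' r r', P2 q p p' r r' → ∀ v ∈ W p, ∀ u ∈ W r, v * u = u * v

theorem q_cases (hF : Fintype.card F = q ^ 2) : 2 < q ∨ q = 2 := by
  have := two_le hF
  omega

/-- `q = 2`: `[W p, W r] = 1`. -/
theorem Dbl.pr_two {hF : Fintype.card F = q ^ 2} [CharP F 2] (D : Dbl hF t j W) (hn : 6 ≤ n) (hq : q = 2) :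
    PR q W := by
  intro p p' r r' H v hv u hu
  obtain ⟨g, hg1, hg2⟩ := exists_map_Frm hF (by omega) H.frm H.swap.frm
  have gp : act g p = r := by simpa using hg1 0
  have gr : act g r = p := by simpa using hg1 1
  obtain ⟨h, T⟩ := D.tor (by omega) H
  refine PlaneGlue.comm D hq hn H hv hu ?_
  refine LineGrp.comm_of_two (s := fj n F q j g) (D.line (by omega) H) T (fixed_two hF hq) (D.tj _).symm
    ?_ ?_ ?_ ?_ hv hu
  · intro w hw
    have := D.conj H.p_ne H.pp g w hw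
    rwa [gp] at this
  · intro w hw
    have := D.conj H.r_ne H.rr g w hw
    rwa [gr] at this
  · intro x hx
    have e1 : g * Np hF p x * g⁻¹ = Np hF r x := by
      rw [Np, conj_Sg hF (isS_np H.pp hx), act_zero, gp, Np]
    show fj n F q j g * fj n F q j (Np hF p x) * (fj n F q j g)⁻¹ = fj n F q j (Np hF r x)
    rw [← e1, map_mul, map_mul, map_inv]
  · intro x hx
    have e1 : g * Np hF r x * g⁻¹ = Np hF p x := by
      rw [Np, conj_Sg hF (isS_np H.rr hx), act_zero, gr, Np]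
    show fj n F q j g * fj n F q j (Np hF r x) * (fj n F q j g)⁻¹ = fj n F q j (Np hF p x)
    rw [← e1, map_mul, map_mul, map_inv]

/-- `[W p, W r] = 1` -/
theorem Dbl.pr {hF : Fintype.card F = q ^ 2} [CharP F 2] (D : Dbl hF t j W) (hn : 6 ≤ n) : PR q W := by
  rcases q_cases hF with hq | hq
  · intro p p' r r' H
    exact D.pr_large (by omega) hq H
  · exact D.pr_two hn hq

section Comm

variable {hF : Fintype.card F = q ^ 2} [CharP F 2] (D : Dbl hF t j W) (hn : 4 ≤ n) (hpr : PR q W)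

include D hn hpr

/-- `W p` is abelian. -/
theorem Dbl.ab {p : Fin n → F} (hp0 : p ≠ 0) (hp : hermForm n F q p p = 0) {v w : G} (hv : v ∈ W p) (hw : w ∈ W p) :
    v * w = w * v := by
  obtain ⟨p', r, r', H⟩ := exists_P2 hF hn hp0 hp
  exact Line.ab_of_comm (D.line hn H) (hpr _ _ _ _ H) hv hw

theorem Dbl.comm {p p' r r' : Fin n → F} (H : P2 q p p' r r') :
    LineGrp.Comm (W p) (W r) (fun l => fj n F q j (Mm hF p r' l)) where
  pp v hv u hu := D.ab hn hpr H.p_ne H.pp hv hu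
  pr v hv u hu := hpr _ _ _ _ H v hv u hu
  rr l u hu v hv := by
    have h1 : fj n F q j (Mm hF p r' l) * u * (fj n F q j (Mm hF p r' l))⁻¹ ∈ W (r + l • p) := by
      have := D.conj H.r_ne H.rr (Mm hF p r' l) u hu
      rwa [Gg_r hF H] at this
    by_cases hl : l = 0
    · rw [hl, zero_smul, add_zero] at h1
      rw [hl]
      exact D.ab hn hpr H.r_ne H.rr h1 hv
    · exact hpr _ _ _ _ (H.shift hF hl) _ h1 v hv

/-- `W p` is elementary abelian. -/
theorem Dbl.elem {p : Fin n → F} (hp0 : p ≠ 0) (hp : hermForm n F q p p = 0) {w : G}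
    (hw : w ∈ W p) : w * w = 1 := by
  rcases q_cases hF with hq | hq
  · obtain ⟨p', r, r', H⟩ := exists_P2 hF hn hp0 hp
    exact (LineGrp.line_main (D.line hn H.swap) (D.comm hn hpr H.swap) hw (Or.inl (exists_fixed hF hq))).1
  · exact D.sq hq hp0 hp w hw

/-- `EL` for every totally isotropic line -/
theorem Dbl.el {p p' r r' : Fin n → F} (H : P2 q p p' r r') :
    Quad.EL (sig hF) t (Subgroup.closure (LineGrp.gens (W p) (W r) (fun μ => fj n F q j (Mm hF p r μ))
      (fun l => fj n F q j (Mm hF p r' l)))) (W p) ((QQ hF p H.pp).map j) (fun x => fj n F q j (Np hF p x))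
      (fun y => fj n F q j (Np hF r y)) (fun μ => fj n F q j (Mm hF p r μ)) (fun l => fj n F q j (Mm hF p r' l)) := by
  refine Quad.EL.of_line (D.line hn H) (D.comm hn hpr H) (fun w hw => D.elem hn hpr H.p_ne H.pp hw)
    (fun w hw => D.elem hn hpr H.r_ne H.rr hw) ?_ ?_ ?_ ?_
  · intro l
    exact Subgroup.mem_map_of_mem j (mem_QQ.2 ⟨_, _, isS_vec hF H.pp H.r'p H.r'r' _, by rw [Mm, Sg_eq]⟩)
  · intro x hx
    exact Subgroup.mem_map_of_mem j (mem_QQ.2 ⟨_, _, isS_np H.pp hx, by rw [Np, Sg_eq]⟩)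
  · intro μ
    exact Subgroup.mem_map_of_mem j (mem_QQ.2 ⟨_, _, isS_vec hF H.pp H.rp H.rr _, by rw [Mm, Sg_eq]⟩)
  · rintro _ ⟨x, hx, rfl⟩
    obtain ⟨w, μ, h, rfl⟩ := mem_QQ.1 hx
    have h1 : act (siegel hF p w μ h) r = r + hermForm n F q r w • p := by
      rw [act_siegel, H.rp, zero_smul, add_zero, mul_zero, zero_sub, CharTwo.neg_eq]
    have h2 : act (siegel hF p w μ h) p = p := by
      rw [act_siegel, H.pp, zero_smul, add_zero, mul_zero, zero_sub, herm_eq_zero_swap hF h.orth, neg_zero, zero_smul,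
        add_zero]
    refine ⟨hermForm n F q r w, fj n F q j ((Mm hF p r' (hermForm n F q r w))⁻¹ * siegel hF p w μ h),
      mem_OE.2 ⟨_, ?_, ?_, rfl⟩, ?_⟩
    · rw [act_mul, h2]
      exact ((act_eq_iff _).1 (Gg_p hF H _)).symm
    · rw [act_mul, h1]
      exact ((act_eq_iff _).1 (Gg_r hF H _)).symm
    · rw [map_mul, map_inv, mul_inv_cancel_left, fj_apply]

end Comm

end Cfsg.Agent.OddHalf.D7.Uni.Face

end

private theorem dce_18e91027eab7 : _root_.True := by
  try have : _root_.True := by simp only [_root_.Cfsg.Agent.OddHalf.D7.Uni.Face.OE.eq_1]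
  try have : _root_.True := by simp only [_root_.Cfsg.Agent.KFacts.UniTwo.mS.congr_simp]
  try have : _root_.True := by simp only [_root_.Cfsg.Agent.OddHalf.D7.Uni.PlaneGlue.Z.eq_1]
  try have : _root_.True := by simp only [_root_.Cfsg.Agent.KFacts.UniTwo.tS.congr_simp]
  try have : _root_.True := by simp only [_root_.Cfsg.Agent.OddHalf.D7.Uni.Face.sig.congr_simp]
  try have : _root_.True := by simp only [_root_.Cfsg.Agent.KFacts.UniTwo.tS.eq_1]
  try have : _root_.True := by simp only [_root_.Cfsg.Agent.OddHalf.D7.Uni.PlaneGlue.Z.congr_simp]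
  try have : _root_.True := by simp only [_root_.Cfsg.Agent.KFacts.UniTwo.LF.dS.eq_1]
  try have : _root_.True := by simp only [_root_.Cfsg.Agent.KFacts.UniTwo.mS.eq_1]
  exact _root_.True.intro
end

-- part: OddHalf/D7TwF4/Norm_mg
section
prune_inst 0x400303424402200000018000000001c02ca00019200688000c0800c4005882b422401012084a01010180222002000004000980040420000000a000400000400000088100480480000000000000004000000000000000000000000000000000000000000000
set_option linter.all false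
open scoped Cfsg.Agent.FastGrp

-- part: OddHalf/D7TwF4/NEl
section
/-!
# D7, `K = ²F₄(q)`: the elements `n` of section 1.3 (text: helper544, bb ODD 13028)

`NEl S i t a φ u n` : `n` moves `t` to `t x` with `x = e a 0 u` in the centre of the root group `X_{2a}`, centralises
`X_{2a±1}, X_{2a±2}, X_{2a±3}`, acts on `X_{2a}`, `X_{2a±4}` through the additive map `φ` (`φ (σ p) = φ 1 * p`).
-/

set_option autoImplicit false

namespace Cfsg.Agent.OddHalf.D7TwF4

open Cfsg.Agent.KFacts.TwF4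

/-- the elements of section 1.3 -/
structure NEl {F : Type*} [Field F] {σ : F →+* F} {Y G : Type*} [Group Y] [Group G] (S : Sys σ Y) (i : Y →* G) (t : G)
    (a : ZMod 8) (φ : F → F) (u : F) (n : G) : Prop where
  tau : n⁻¹ * t * n = t * i (S.e a 0 u)
  z : ∀ v, n * i (S.e a 0 v) = i (S.e a 0 v) * n
  o0 : ∀ s, n * i (S.o a s) = i (S.o a s) * n
  o1 : ∀ s, n * i (S.o (a + 1) s) = i (S.o (a + 1) s) * n
  om1 : ∀ s, n * i (S.o (a - 1) s) = i (S.o (a - 1) s) * n
  om2 : ∀ s, n * i (S.o (a - 2) s) = i (S.o (a - 2) s) * n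
  e1 : ∀ p w, n * i (S.e (a + 1) p w) = i (S.e (a + 1) p w) * n
  em1 : ∀ p w, n * i (S.e (a - 1) p w) = i (S.e (a - 1) p w) * n
  x0 : ∀ p w, n⁻¹ * i (S.e a p w) * n = i (S.e a p (w + φ p))
  xp : ∀ q v, n⁻¹ * i (S.e (a + 2) q v) * n = i (S.e (a + 2) q v * S.o a (φ q) * S.e (a + 1) 0 (φ v))
  xm : ∀ q v, n⁻¹ * i (S.e (a - 2) q v) * n = i (S.e (a - 2) q v * S.o (a - 1) (φ q) * S.e (a - 1) 0 (φ v))
  add : ∀ p q, φ (p + q) = φ p + φ q
  phi : ∀ p, φ (σ p) = φ 1 * p

namespace NEl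

variable {F : Type*} [Field F] {σ : F →+* F} {Y G : Type*} [Group Y] [Group G] {S : Sys σ Y} {i : Y →* G} {t : G}
  {a : ZMod 8} {φ : F → F} {u : F} {n : G}

theorem phi_zero (h : NEl S i t a φ u n) : φ 0 = 0 := by
  have := h.phi 0
  rwa [map_zero, mul_zero] at this

/-- the rotation carries position `a` to position `a + 1` -/
theorem rot (h : NEl S i t a φ u n) (ht : ∀ y, t * i y = i y * t) :
    NEl S i t (a + 1) φ u (i S.rot * n * (i S.rot)⁻¹) := by
  have hro : ∀ b s, i (S.o (b + 1) s) = i S.rot * i (S.o b s) * (i S.rot)⁻¹ := fun b s => by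
    rw [← map_inv, ← map_mul, ← map_mul, S.rot_o]
  have hre : ∀ b p w, i (S.e (b + 1) p w) = i S.rot * i (S.e b p w) * (i S.rot)⁻¹ := fun b p w => by
    rw [← map_inv, ← map_mul, ← map_mul, S.rot_e]
  have hc : ∀ r x : G, n * x = x * n → (r * n * r⁻¹) * (r * x * r⁻¹) = r * x * r⁻¹ * (r * n * r⁻¹) := by
    intro r x hx
    calc (r * n * r⁻¹) * (r * x * r⁻¹) = r * (n * x) * r⁻¹ := by group
      _ = r * (x * n) * r⁻¹ := by rw [hx]
      _ = _ := by group
  have hj : ∀ r x : G, (r * n * r⁻¹)⁻¹ * (r * x * r⁻¹) * (r * n * r⁻¹) = r * (n⁻¹ * x * n) * r⁻¹ := by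
    intro r x; group
  have a2 : a + 1 - 1 = (a - 1) + 1 := by ring
  have a3 : a + 1 - 2 = (a - 2) + 1 := by ring
  have a4 : a + 1 + 2 = (a + 2) + 1 := by ring
  refine
    { tau := ?_
      z := fun v => ?_
      o0 := fun s => ?_
      o1 := fun s => ?_
      om1 := fun s => ?_
      om2 := fun s => ?_
      e1 := fun p w => ?_
      em1 := fun p w => ?_
      x0 := fun p w => ?_
      xp := fun q v => ?_
      xm := fun q v => ?_
      add := h.add
      phi := h.phi }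
  · have h1 : t = i S.rot * t * (i S.rot)⁻¹ := by rw [← ht, mul_inv_cancel_right]
    rw [hre]
    calc (i S.rot * n * (i S.rot)⁻¹)⁻¹ * t * (i S.rot * n * (i S.rot)⁻¹)
        = (i S.rot * n * (i S.rot)⁻¹)⁻¹ * (i S.rot * t * (i S.rot)⁻¹) * (i S.rot * n * (i S.rot)⁻¹) := by rw [← h1]
      _ = i S.rot * (n⁻¹ * t * n) * (i S.rot)⁻¹ := hj _ _
      _ = (i S.rot * t * (i S.rot)⁻¹) * (i S.rot * i (S.e a 0 u) * (i S.rot)⁻¹) := by rw [h.tau]; group
      _ = _ := by rw [← h1]
  · rw [hre]; exact hc _ _ (h.z v)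
  · rw [hro]; exact hc _ _ (h.o0 s)
  · rw [hro]; exact hc _ _ (h.o1 s)
  · rw [a2, hro]; exact hc _ _ (h.om1 s)
  · rw [a3, hro]; exact hc _ _ (h.om2 s)
  · rw [hre]; exact hc _ _ (h.e1 p w)
  · rw [a2, hre]; exact hc _ _ (h.em1 p w)
  · rw [hre, hj, h.x0, ← hre]
  · rw [a4, map_mul, map_mul, hre (a + 2), hj, h.xp, map_mul, map_mul, hro a, hre (a + 1)]
    simp only [mul_assoc, inv_mul_cancel_left]
  · rw [a3, a2, map_mul, map_mul, hre (a - 2), hj, h.xm, map_mul, map_mul, hro (a - 1), hre (a - 1)]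
    simp only [mul_assoc, inv_mul_cancel_left]

end NEl

end Cfsg.Agent.OddHalf.D7TwF4
end

-- part: OddHalf/D7TwF4/Norm
section
-- merged: Cfsg.Agent.OddHalf.D7TwF4.NormE
section

/-!
# D7, `K = ²F₄(q)`: coordinates on `E_4 = Z_2 X_3 Z_4 X_5 Z_6` (helper467)

* `EE a b z c d` : the coordinates; `mem_Q2`;
* `Act x t p r s` : the action of `x ∈ Q` on `E_4`; `exists_act`;
* `EE_e4` : the action of `X_8`;
* `comm_Q1` : `[PL, Q1] ≤ E_4`;
* `sT d` : the torus of the Levi complement.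
-/

set_option autoImplicit false
set_option maxHeartbeats 400000

namespace Cfsg.Agent.OddHalf.D7TwF4.NormE

open Cfsg.Agent.KFacts.TwF4 Cfsg.Agent.SplitTwo.ZS

universe u w

variable {F : Type w} [Field F] {σ : F →+* F} {Y : Type u} [Group Y] (S : Full σ Y)

include S in
theorem char2 (x : F) : x + x = 0 := by
  rw [← two_mul, S.two, zero_mul]

theorem ze (a : ZMod 8) (u v : F) : S.e a 0 u * S.e a 0 v = S.e a 0 (u + v) := by
  rw [S.e_mul, add_zero, zero_mul, add_zero]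

theorem zi (a : ZMod 8) (u : F) : (S.e a 0 u)⁻¹ = S.e a 0 u := by
  rw [inv_eq_iff_mul_eq_one, ze, char2 S, S.e_zero]

theorem e_split (a : ZMod 8) (p u : F) : S.e a p u = S.e a p 0 * S.e a 0 u := by
  rw [S.e_mul, add_zero, zero_add, map_zero, mul_zero, add_zero]

/-- coordinates on `E_4` -/
def EE (a b z c d : F) : Y := S.e 1 0 a * S.o 1 b * S.e 2 0 z * S.o 2 c * S.e 3 0 d

theorem Q2_comm {x y : Y} (hx : x ∈ S.Q2) (hy : y ∈ S.Q2) : x * y = y * x :=
  S.Q1_comm (Subgroup.mem_sup_right hx) hy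

theorem EE_mem (a b z c d : F) : EE S a b z c d ∈ S.Q2 :=
  mul_mem (mul_mem (mul_mem (mul_mem (S.q2_1 a) (S.q2_2 b)) (S.q2_3 z)) (S.q2_4 c)) (S.q2_5 d)

theorem EE_mul (a b z c d a' b' z' c' d' : F) :
    EE S a b z c d * EE S a' b' z' c' d' = EE S (a + a') (b + b') (z + z') (c + c') (d + d') := by
  unfold EE
  have C : ∀ x y, x ∈ S.Q2 → y ∈ S.Q2 → Commute x y := fun x y hx hy => Q2_comm S hx hy
  have m2 := mul_mem (S.q2_1 a') (S.q2_2 b')
  have m3 := mul_mem m2 (S.q2_3 z')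
  have m4 := mul_mem m3 (S.q2_4 c')
  rw [(C _ _ (S.q2_5 d) m4).mul_mul_mul_comm, (C _ _ (S.q2_4 c) m3).mul_mul_mul_comm,
    (C _ _ (S.q2_3 z) m2).mul_mul_mul_comm, (C _ _ (S.q2_2 b) (S.q2_1 a')).mul_mul_mul_comm, ze, ze, ze, S.o_add,
    S.o_add]

theorem EE_a (a : F) : S.e 1 0 a = EE S a 0 0 0 0 := by
  unfold EE; simp only [S.o_zero, S.e_zero, mul_one]
theorem EE_b (b : F) : S.o 1 b = EE S 0 b 0 0 0 := by
  unfold EE; simp only [S.o_zero, S.e_zero, mul_one, one_mul]
theorem EE_z (z : F) : S.e 2 0 z = EE S 0 0 z 0 0 := by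
  unfold EE; simp only [S.o_zero, S.e_zero, mul_one, one_mul]
theorem EE_c (c : F) : S.o 2 c = EE S 0 0 0 c 0 := by
  unfold EE; simp only [S.o_zero, S.e_zero, mul_one, one_mul]
theorem EE_d (d : F) : S.e 3 0 d = EE S 0 0 0 0 d := by
  unfold EE; simp only [S.o_zero, S.e_zero, one_mul]

theorem EE_zero : EE S 0 0 0 0 0 = 1 := by rw [← EE_a, S.e_zero]

theorem EE_inv (a b z c d : F) : (EE S a b z c d)⁻¹ = EE S a b z c d := by
  rw [inv_eq_iff_mul_eq_one, EE_mul]
  simp only [char2 S]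
  exact EE_zero S

theorem EE_split (a b z c d : F) : EE S a b z c d =
    EE S a 0 0 0 0 * (EE S 0 b 0 0 0 * (EE S 0 0 z 0 0 * (EE S 0 0 0 c 0 * EE S 0 0 0 0 d))) := by
  simp only [EE_mul, add_zero, zero_add]

theorem EE_one {a b z c d : F} (h : EE S a b z c d = 1) : a = 0 ∧ b = 0 ∧ z = 0 ∧ c = 0 ∧ d = 0 := by
  have Z8 := S.zsys8
  unfold EE at h
  have m3 : ∀ a' b', (3 : ℤ) ≥ a' → 3 ≤ b' → S.o 1 b ∈ J S.XZ a' b' := fun a' b' h1 h2 => mem_J (S.mX3 b) h1 h2
  have m4 : ∀ a' b', (4 : ℤ) ≥ a' → 4 ≤ b' → S.e 2 0 z ∈ J S.XZ a' b' := fun a' b' h1 h2 => mem_J (S.mX4 0 z) h1 h2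
  have m5 : ∀ a' b', (5 : ℤ) ≥ a' → 5 ≤ b' → S.o 2 c ∈ J S.XZ a' b' := fun a' b' h1 h2 => mem_J (S.mX5 c) h1 h2
  have m6 : ∀ a' b', (6 : ℤ) ≥ a' → 6 ≤ b' → S.e 3 0 d ∈ J S.XZ a' b' := fun a' b' h1 h2 => mem_J (S.mX6 0 d) h1 h2
  have h2 : S.e 1 0 a = 1 := by
    refine Z8.inter 2 _ (S.mX2 0 a) ?_
    have e : S.e 1 0 a = (S.o 1 b * S.e 2 0 z * S.o 2 c * S.e 3 0 d)⁻¹ := by
      rw [eq_inv_iff_mul_eq_one, ← h]; group
    rw [e]
    exact inv_mem (mul_mem (mul_mem (mul_mem (m3 _ _ (by norm_num) (by norm_num)) (m4 _ _ (by norm_num) (by norm_num)))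
      (m5 _ _ (by norm_num) (by norm_num))) (m6 _ _ (by norm_num) (by norm_num)))
  rw [h2, one_mul] at h
  have h3 : S.o 1 b = 1 := by
    refine Z8.inter 3 _ (S.mX3 b) ?_
    have e : S.o 1 b = (S.e 2 0 z * S.o 2 c * S.e 3 0 d)⁻¹ := by
      rw [eq_inv_iff_mul_eq_one, ← h]; group
    rw [e]
    exact inv_mem (mul_mem (mul_mem (m4 _ _ (by norm_num) (by norm_num))
      (m5 _ _ (by norm_num) (by norm_num))) (m6 _ _ (by norm_num) (by norm_num)))
  rw [h3, one_mul] at h
  have h4 : S.e 2 0 z = 1 := by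
    refine Z8.inter 4 _ (S.mX4 0 z) ?_
    have e : S.e 2 0 z = (S.o 2 c * S.e 3 0 d)⁻¹ := by
      rw [eq_inv_iff_mul_eq_one, ← h]; group
    rw [e]
    exact inv_mem (mul_mem (m5 _ _ (by norm_num) (by norm_num)) (m6 _ _ (by norm_num) (by norm_num)))
  rw [h4, one_mul] at h
  have h5 : S.o 2 c = 1 := by
    refine Z8.inter 5 _ (S.mX5 c) ?_
    rw [mul_eq_one_iff_eq_inv.1 h]
    exact inv_mem (m6 _ _ (by norm_num) (by norm_num))
  rw [h5, one_mul] at h
  exact ⟨(S.e_eq_one h2).2, S.o_eq_one h3, (S.e_eq_one h4).2, S.o_eq_one h5, (S.e_eq_one h).2⟩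

theorem EE_inj {a b z c d a' b' z' c' d' : F} (h : EE S a b z c d = EE S a' b' z' c' d') :
    a = a' ∧ b = b' ∧ z = z' ∧ c = c' ∧ d = d' := by
  have h1 : EE S (a + a') (b + b') (z + z') (c + c') (d + d') = 1 := by
    rw [← EE_mul, h, EE_mul]
    simp only [char2 S]
    exact EE_zero S
  have key : ∀ x y : F, x + y = 0 → x = y := by
    intro x y hxy
    calc x = x + (y + y) := by rw [char2 S, add_zero]
      _ = y := by rw [← add_assoc, hxy, zero_add]
  obtain ⟨h2, h3, h4, h5, h6⟩ := EE_one S h1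
  exact ⟨key _ _ h2, key _ _ h3, key _ _ h4, key _ _ h5, key _ _ h6⟩

theorem mem_Q2 {x : Y} (hx : x ∈ S.Q2) : ∃ a b z c d, x = EE S a b z c d := by
  let K : Subgroup Y :=
    { carrier := {x | ∃ a b z c d, x = EE S a b z c d}
      one_mem' := ⟨0, 0, 0, 0, 0, (EE_zero S).symm⟩
      mul_mem' := by
        rintro _ _ ⟨a, b, z, c, d, rfl⟩ ⟨a', b', z', c', d', rfl⟩
        exact ⟨_, _, _, _, _, EE_mul S _ _ _ _ _ _ _ _ _ _⟩
      inv_mem' := by
        rintro _ ⟨a, b, z, c, d, rfl⟩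
        exact ⟨_, _, _, _, _, EE_inv S _ _ _ _ _⟩ }
  have : S.Q2 ≤ K := S.Q2_le (fun u => ⟨_, _, _, _, _, EE_a S u⟩) (fun u => ⟨_, _, _, _, _, EE_b S u⟩)
    (fun u => ⟨_, _, _, _, _, EE_z S u⟩) (fun u => ⟨_, _, _, _, _, EE_c S u⟩) (fun u => ⟨_, _, _, _, _, EE_d S u⟩)
  exact this hx

/-! ### the action of `Q` -/

/-- the action of `x` on `E_4` -/
def Act (x : Y) (t p r s : F) : Prop :=
  ∀ a b z c d, EE S a b z c d * x = x * EE S a b (z + t * d + p * c + r * b + s * a) c d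

variable {S} in
theorem Act.mul {x y : Y} {t p r s t' p' r' s' : F} (hx : Act S x t p r s) (hy : Act S y t' p' r' s') :
    Act S (x * y) (t + t') (p + p') (r + r') (s + s') := by
  intro a b z c d
  rw [← mul_assoc, hx, mul_assoc, hy, ← mul_assoc]
  congr 2
  ring

theorem act_one : Act S 1 0 0 0 0 := by
  intro a b z c d
  rw [mul_one, one_mul]
  congr 1
  ring

variable {S} in
theorem Act.congr {x : Y} {t p r s t' p' r' s' : F} (hx : Act S x t p r s) (h1 : t = t') (h2 : p = p') (h3 : r = r')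
    (h4 : s = s') : Act S x t' p' r' s' := by
  rw [← h1, ← h2, ← h3, ← h4]; exact hx

variable {S} in
theorem Act.inv {x : Y} {t p r s : F} (hx : Act S x t p r s) : Act S x⁻¹ t p r s := by
  intro a b z c d
  have h := hx a b (z + t * d + p * c + r * b + s * a) c d
  have e : z + t * d + p * c + r * b + s * a + t * d + p * c + r * b + s * a = z := by
    have h1 := char2 S (t * d)
    have h2 := char2 S (p * c)
    have h3 := char2 S (r * b)
    have h4 := char2 S (s * a)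
    linear_combination h1 + h2 + h3 + h4
  rw [e] at h
  rw [mul_inv_eq_iff_eq_mul, mul_assoc, h, inv_mul_cancel_left]

theorem act_of {x : Y} {t p r s : F} (h1 : ∀ a, EE S a 0 0 0 0 * x = x * EE S a 0 (s * a) 0 0)
    (h2 : ∀ b, EE S 0 b 0 0 0 * x = x * EE S 0 b (r * b) 0 0)
    (h3 : ∀ z, EE S 0 0 z 0 0 * x = x * EE S 0 0 z 0 0)
    (h4 : ∀ c, EE S 0 0 0 c 0 * x = x * EE S 0 0 (p * c) c 0)
    (h5 : ∀ d, EE S 0 0 0 0 d * x = x * EE S 0 0 (t * d) 0 d) : Act S x t p r s := by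
  intro a b z c d
  rw [EE_split, mul_assoc, mul_assoc, mul_assoc, mul_assoc, h5, ← mul_assoc (EE S 0 0 0 c 0), h4,
    ← mul_assoc (EE S 0 0 z 0 0), ← mul_assoc (EE S 0 0 z 0 0), h3, ← mul_assoc (EE S 0 b 0 0 0),
    ← mul_assoc (EE S 0 b 0 0 0), ← mul_assoc (EE S 0 b 0 0 0), h2, ← mul_assoc (EE S a 0 0 0 0),
    ← mul_assoc (EE S a 0 0 0 0), ← mul_assoc (EE S a 0 0 0 0), ← mul_assoc (EE S a 0 0 0 0), h1]
  simp only [mul_assoc, EE_mul, add_zero, zero_add]
  congr 2
  ring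

theorem act_of_comm {x : Y} (h1 : ∀ a, S.e 1 0 a * x = x * S.e 1 0 a)
    (h2 : ∀ b, S.o 1 b * x = x * S.o 1 b) (h3 : ∀ z, S.e 2 0 z * x = x * S.e 2 0 z)
    (h4 : ∀ c, S.o 2 c * x = x * S.o 2 c) (h5 : ∀ d, S.e 3 0 d * x = x * S.e 3 0 d) : Act S x 0 0 0 0 := by
  refine act_of S (fun a => ?_) (fun b => ?_) (fun z => ?_) (fun c => ?_) (fun d => ?_)
  · rw [zero_mul, ← EE_a, h1]
  · rw [zero_mul, ← EE_b, h2]
  · rw [← EE_z, h3]
  · rw [zero_mul, ← EE_c, h4]
  · rw [zero_mul, ← EE_d, h5]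

theorem act_Q1 {x : Y} (hx : x ∈ S.Q1) : Act S x 0 0 0 0 :=
  act_of_comm S (fun a => (S.Q1_comm hx (S.q2_1 a)).symm) (fun a => (S.Q1_comm hx (S.q2_2 a)).symm)
    (fun a => (S.Q1_comm hx (S.q2_3 a)).symm) (fun a => (S.Q1_comm hx (S.q2_4 a)).symm)
    (fun a => (S.Q1_comm hx (S.q2_5 a)).symm)

theorem act_EE (a b z c d : F) : Act S (EE S a b z c d) 0 0 0 0 := act_Q1 S (Subgroup.mem_sup_right (EE_mem S a b z c d))

theorem act_o1 (t : F) : Act S (S.o 1 t) 0 0 0 0 := by rw [EE_b]; exact act_EE S _ _ _ _ _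
theorem act_o2 (t : F) : Act S (S.o 2 t) 0 0 0 0 := by rw [EE_c]; exact act_EE S _ _ _ _ _
theorem act_e2 (p u : F) : Act S (S.e 2 p u) 0 0 0 0 := act_Q1 S (Subgroup.mem_sup_left (S.mX4 p u))

theorem z4_comm {k : ℤ} (h1 : 0 ≤ k) (h2 : k ≤ 8) {x : Y} (hx : x ∈ S.XZ k) (v : F) :
    S.e 2 0 v * x = x * S.e 2 0 v := (S.comm_Z4 h1 h2 hx v).symm

/-- `X_1` -/
theorem act_o0 (t : F) : Act S (S.o 0 t) t 0 0 0 := by
  refine act_of S (fun a => ?_) (fun b => ?_) (fun z => ?_) (fun c => ?_) (fun d => ?_)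
  · rw [zero_mul, ← EE_a]; exact (S.o_e1 0 t 0 a).symm
  · rw [zero_mul, ← EE_b]; exact (S.o_o1 0 t b).symm
  · rw [← EE_z]; exact z4_comm S (k := 1) (by norm_num) (by norm_num) (S.mX1 t) z
  · rw [zero_mul, ← EE_c]; exact (S.o_o2 0 t c).symm
  · have r1 : S.o 0 t * S.e 3 0 d = S.e 3 0 d * S.o 0 t * S.e 1 0 (σ t * 0) * S.o 1 (t * σ 0) *
      S.e 2 0 (t * 0 * σ 0 + t * d) := S.o_e3 0 t 0 d
    rw [map_zero, mul_zero, mul_zero, mul_zero, zero_add, S.o_zero, S.e_zero, mul_one, mul_one] at r1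
    have e : S.e 3 0 d * S.o 0 t = S.o 0 t * S.e 3 0 d * S.e 2 0 (t * d) := by
      rw [r1, mul_assoc, ze, char2 S, S.e_zero, mul_one]
    rw [← EE_d, e, mul_assoc]
    congr 1
    rw [EE_d, EE_z, EE_mul]
    simp only [add_zero, zero_add]

/-- `X_2` -/
theorem act_e1 (p u : F) : Act S (S.e 1 p u) 0 p 0 0 := by
  refine act_of S (fun a => ?_) (fun b => ?_) (fun z => ?_) (fun c => ?_) (fun d => ?_)
  · rw [zero_mul, ← EE_a, S.e_mul, S.e_mul, map_zero]
    congr 1 <;> ring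
  · rw [zero_mul, ← EE_b]; exact (S.e_o0 1 p u b).symm
  · rw [← EE_z]; exact z4_comm S (k := 2) (by norm_num) (by norm_num) (S.mX2 p u) z
  · have r1 : S.e 1 p u * S.o 2 c = S.o 2 c * S.e 1 p u * S.e 2 0 (p * c) := S.e_o1 1 p u c
    have e : S.o 2 c * S.e 1 p u = S.e 1 p u * S.o 2 c * S.e 2 0 (p * c) := by
      rw [r1, mul_assoc, ze, char2 S, S.e_zero, mul_one]
    rw [← EE_c, e, mul_assoc]
    congr 1
    rw [EE_c, EE_z, EE_mul]
    simp only [add_zero, zero_add]
  · rw [zero_mul, ← EE_d]; exact (S.e_e2 1 p u 0 d).symm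

/-- `X_6` -/
theorem act_e3 (p u : F) : Act S (S.e 3 p u) 0 0 p 0 := by
  refine act_of S (fun a => ?_) (fun b => ?_) (fun z => ?_) (fun c => ?_) (fun d => ?_)
  · rw [zero_mul, ← EE_a]; exact S.e_e2 1 0 a p u
  · have r1 : S.o 1 b * S.e 3 p u = S.e 3 p u * S.o 1 b * S.e 2 0 (b * p) := S.o_e2 1 b p u
    rw [← EE_b, r1, mul_assoc]
    congr 1
    rw [EE_b, EE_z, EE_mul]
    simp only [add_zero, zero_add]
    rw [mul_comm]
  · rw [← EE_z]; exact z4_comm S (k := 6) (by norm_num) (by norm_num) (S.mX6 p u) z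
  · rw [zero_mul, ← EE_c]; exact S.o_e1 2 c p u
  · rw [zero_mul, ← EE_d, S.e_mul, S.e_mul, map_zero]
    congr 1 <;> ring

/-- `X_7` -/
theorem act_o3 (s : F) : Act S (S.o 3 s) 0 0 0 s := by
  refine act_of S (fun a => ?_) (fun b => ?_) (fun z => ?_) (fun c => ?_) (fun d => ?_)
  · have : S.e 1 0 a * S.o 3 s = S.o 3 s * S.e 1 0 a * S.e 2 0 (0 * σ 0 * s + a * s) * S.o 2 (σ 0 * s) * S.e 3 0 (0 * σ s) :=
        S.e_o2 1 0 a s
    rw [map_zero, zero_mul, zero_mul, zero_mul, zero_add, S.o_zero, S.e_zero, mul_one, mul_one] at this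
    rw [← EE_a, this, mul_assoc]
    congr 1
    rw [EE_a, EE_z, EE_mul]
    simp only [add_zero, zero_add]
    rw [mul_comm]
  · rw [zero_mul, ← EE_b]; exact S.o_o2 1 b s
  · rw [← EE_z]; exact z4_comm S (k := 7) (by norm_num) (by norm_num) (S.mX7 s) z
  · rw [zero_mul, ← EE_c]; exact S.o_o1 2 c s
  · rw [zero_mul, ← EE_d]; exact (S.comm_Z6 (k := 7) (by norm_num) (by norm_num) (S.mX7 s) d).symm

/-- every element of `Q` acts -/
theorem exists_act {x : Y} (hx : x ∈ S.Q) : ∃ t p r s, Act S x t p r s := by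
  let K : Subgroup Y :=
    { carrier := {x | ∃ t p r s, Act S x t p r s}
      one_mem' := ⟨0, 0, 0, 0, act_one S⟩
      mul_mem' := by
        rintro _ _ ⟨a, b, z, c, h⟩ ⟨a', b', z', c', h'⟩
        exact ⟨_, _, _, _, h.mul h'⟩
      inv_mem' := by
        rintro _ ⟨a, b, z, c, h⟩
        exact ⟨_, _, _, _, h.inv⟩ }
  have : S.Q ≤ K := by
    refine J_le fun k h1 h2 x hx => ?_
    interval_cases k
    · obtain ⟨t, rfl⟩ := S.X1 hx; exact ⟨_, _, _, _, act_o0 S t⟩
    · obtain ⟨p, t, rfl⟩ := S.X2 hx; exact ⟨_, _, _, _, act_e1 S p t⟩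
    · obtain ⟨t, rfl⟩ := S.X3 hx; exact ⟨_, _, _, _, act_o1 S t⟩
    · obtain ⟨p, t, rfl⟩ := S.X4 hx; exact ⟨_, _, _, _, act_e2 S p t⟩
    · obtain ⟨t, rfl⟩ := S.X5 hx; exact ⟨_, _, _, _, act_o2 S t⟩
    · obtain ⟨p, t, rfl⟩ := S.X6 hx; exact ⟨_, _, _, _, act_e3 S p t⟩
    · obtain ⟨t, rfl⟩ := S.X7 hx; exact ⟨_, _, _, _, act_o3 S t⟩
  exact this hx

/-- `[Q, E_4] ≤ Z_4` -/
theorem Q_Q2_comm {x w : Y} (hx : x ∈ S.Q) (hw : w ∈ S.Q2) : ∃ z, w * x = x * w * S.e 2 0 z := by
  obtain ⟨t, p, r, s, h⟩ := exists_act S hx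
  obtain ⟨a, b, z, c, d, rfl⟩ := mem_Q2 S hw
  refine ⟨t * d + p * c + r * b + s * a, ?_⟩
  rw [h, mul_assoc, EE_z, EE_mul]
  simp only [add_zero]
  congr 2
  ring

/-- the action of `X_8` on `E_4` -/
theorem EE_e4 (a b z c d q v : F) : ∃ z', EE S a b z c d * S.e 4 q v =
    S.e 4 q v * EE S a (b + a * q) z' (c + a * v + b * σ q)
      (d + (a * q * v + a * q * q * σ q + a * σ v) + (b * q * σ q + b * v) + c * q) := by
  have h1 : EE S a 0 0 0 0 * S.e 4 q v = S.e 4 q v * EE S a (a * q) (σ a * q * σ q + σ a * v) (a * v)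
      (a * q * v + a * q * q * σ q + a * σ v) := by
    have := S.e_e3 1 0 a q v
    rw [show ((1 : ZMod 8) + 3) = 4 from rfl, show ((1 : ZMod 8) + 1) = 2 from rfl,
      show ((1 : ZMod 8) + 2) = 3 from rfl] at this
    simp only [map_zero, zero_mul, mul_zero, zero_add, S.o_zero, mul_one] at this
    rw [← EE_a, this, EE]
    simp only [mul_assoc]
  have h2 : EE S 0 b 0 0 0 * S.e 4 q v = S.e 4 q v * EE S 0 b (σ b * q) (b * σ q) (b * q * σ q + b * v) := by
    have := S.o_e3 1 b q v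
    rw [show ((1 : ZMod 8) + 3) = 4 from rfl, show ((1 : ZMod 8) + 1) = 2 from rfl,
      show ((1 : ZMod 8) + 2) = 3 from rfl] at this
    rw [← EE_b, this, EE, S.e_zero, one_mul]
    simp only [mul_assoc]
  have h3 : EE S 0 0 z 0 0 * S.e 4 q v = S.e 4 q v * EE S 0 0 z 0 0 := by
    rw [← EE_z]; exact z4_comm S (k := 8) (by norm_num) (by norm_num) (S.mX8 q v) z
  have h4 : EE S 0 0 0 c 0 * S.e 4 q v = S.e 4 q v * EE S 0 0 0 c (c * q) := by
    have : S.o 2 c * S.e 4 q v = S.e 4 q v * S.o 2 c * S.e 3 0 (c * q) := S.o_e2 2 c q v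
    rw [← EE_c, this, mul_assoc]
    congr 1
    rw [EE_c, EE_d, EE_mul]
    simp only [add_zero, zero_add]
  have h5 : EE S 0 0 0 0 d * S.e 4 q v = S.e 4 q v * EE S 0 0 0 0 d := by
    rw [← EE_d]; exact (S.comm_Z6 (k := 8) (by norm_num) (by norm_num) (S.mX8 q v) d).symm
  refine ⟨(σ a * q * σ q + σ a * v) + (σ b * q) + z, ?_⟩
  rw [EE_split, mul_assoc, mul_assoc, mul_assoc, mul_assoc, h5, ← mul_assoc (EE S 0 0 0 c 0), h4,
    ← mul_assoc (EE S 0 0 z 0 0), ← mul_assoc (EE S 0 0 z 0 0), h3, ← mul_assoc (EE S 0 b 0 0 0),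
    ← mul_assoc (EE S 0 b 0 0 0), ← mul_assoc (EE S 0 b 0 0 0), h2, ← mul_assoc (EE S a 0 0 0 0),
    ← mul_assoc (EE S a 0 0 0 0), ← mul_assoc (EE S a 0 0 0 0), ← mul_assoc (EE S a 0 0 0 0), h1]
  simp only [mul_assoc, EE_mul, add_zero, zero_add]
  congr 2 <;> ring

/-- the action of `X_8` on `Z_4 X_5 Z_6` -/
theorem EE_e4' (z c d q v : F) : EE S 0 0 z c d * S.e 4 q v = S.e 4 q v * EE S 0 0 z c (d + c * q) := by
  have h3 : EE S 0 0 z 0 0 * S.e 4 q v = S.e 4 q v * EE S 0 0 z 0 0 := by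
    rw [← EE_z]; exact z4_comm S (k := 8) (by norm_num) (by norm_num) (S.mX8 q v) z
  have h4 : EE S 0 0 0 c 0 * S.e 4 q v = S.e 4 q v * EE S 0 0 0 c (c * q) := by
    have : S.o 2 c * S.e 4 q v = S.e 4 q v * S.o 2 c * S.e 3 0 (c * q) := S.o_e2 2 c q v
    rw [← EE_c, this, mul_assoc]
    congr 1
    rw [EE_c, EE_d, EE_mul]
    simp only [add_zero, zero_add]
  have h5 : EE S 0 0 0 0 d * S.e 4 q v = S.e 4 q v * EE S 0 0 0 0 d := by
    rw [← EE_d]; exact (S.comm_Z6 (k := 8) (by norm_num) (by norm_num) (S.mX8 q v) d).symm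
  have e : EE S 0 0 z c d = EE S 0 0 z 0 0 * (EE S 0 0 0 c 0 * EE S 0 0 0 0 d) := by
    simp only [EE_mul, add_zero, zero_add]
  rw [e, mul_assoc, mul_assoc, h5, ← mul_assoc (EE S 0 0 0 c 0), h4, ← mul_assoc (EE S 0 0 z 0 0),
    ← mul_assoc (EE S 0 0 z 0 0), h3]
  simp only [mul_assoc, EE_mul, add_zero, zero_add]
  congr 2
  ring

/-- elements of `E_4` commuting with `X_8` modulo `Z_4` -/
theorem mem_of_comm8 {w : Y} (hw : w ∈ S.Q2) (h : ∀ q v, ∃ z, w * S.e 4 q v = S.e 4 q v * w * S.e 2 0 z) :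
    ∃ z d, w = EE S 0 0 z 0 d := by
  obtain ⟨a, b, z, c, d, rfl⟩ := mem_Q2 S hw
  have key : ∀ q v, a * q = 0 ∧ a * v + b * σ q = 0 ∧
      (a * q * v + a * q * q * σ q + a * σ v) + (b * q * σ q + b * v) + c * q = 0 := by
    intro q v
    obtain ⟨z', h1⟩ := EE_e4 S a b z c d q v
    obtain ⟨z'', h2⟩ := h q v
    rw [h1, mul_assoc (S.e 4 q v), EE_z, EE_mul] at h2
    obtain ⟨-, h3, -, h4, h5⟩ := EE_inj S (mul_left_cancel h2)
    refine ⟨?_, ?_, ?_⟩
    · linear_combination h3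
    · linear_combination h4
    · linear_combination h5
  have ha : a = 0 := by simpa using (key 1 0).1
  have hb : b = 0 := by simpa [ha] using (key 1 0).2.1
  have hc : c = 0 := by simpa only [ha, hb, _root_.mul_one, _root_.MulZeroClass.mul_zero, _root_.map_one, _root_.add_zero, _root_.map_zero, _root_.zero_add] using (key 1 0).2.2
  exact ⟨z, d, by rw [ha, hb, hc]⟩

/-! ### commutators with `Q1` -/

theorem Q2_le_PL : S.Q2 ≤ S.PL := S.Q2_le_J.trans (J_mono (by norm_num) (by norm_num))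
theorem Q1_le_PL : S.Q1 ≤ S.PL := S.Q1_le_J.trans (J_mono (by norm_num) (by norm_num))
theorem Q2_le_Q : S.Q2 ≤ S.Q := S.Q2_le_J.trans (J_mono (by norm_num) (by norm_num))
theorem Q_le_PL : S.Q ≤ S.PL := J_mono (by norm_num) (by norm_num)
theorem Q_le_U : S.Q ≤ J S.XZ 1 8 := J_mono (by norm_num) (by norm_num)
theorem U_le_PL : J S.XZ 1 8 ≤ S.PL := J_mono (by norm_num) (by norm_num)

theorem Q2_conj {g w : Y} (hg : g ∈ S.PL) (hw : w ∈ S.Q2) : g * w * g⁻¹ ∈ S.Q2 :=
  (Subgroup.mem_normalizer_iff.1 (S.Q2_norm hg) w).1 hw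

theorem Q2_conj' {g w : Y} (hg : g ∈ S.PL) (hw : w ∈ S.Q2) : g⁻¹ * w * g ∈ S.Q2 := by
  have := Q2_conj S (inv_mem hg) hw
  rwa [inv_inv] at this

/-- `[PL, X_4] ≤ E_4` -/
theorem comm_X4 {g : Y} (hg : g ∈ S.PL) (p u : F) : ∃ w ∈ S.Q2, g * S.e 2 p u = S.e 2 p u * g * w := by
  let K : Subgroup Y :=
    { carrier := {g | g ∈ S.PL ∧ ∃ w ∈ S.Q2, g * S.e 2 p u = S.e 2 p u * g * w}
      one_mem' := ⟨one_mem _, 1, one_mem _, by simp⟩
      mul_mem' := by
        rintro x y ⟨hx, w, hw, h⟩ ⟨hy, w', hw', h'⟩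
        refine ⟨mul_mem hx hy, (y⁻¹ * w * y) * w', mul_mem (Q2_conj' S hy hw) hw', ?_⟩
        calc x * y * S.e 2 p u = x * (y * S.e 2 p u) := by group
          _ = (x * S.e 2 p u) * (y * w') := by rw [h']; group
          _ = _ := by rw [h]; group
      inv_mem' := by
        rintro x ⟨hx, w, hw, h⟩
        refine ⟨inv_mem hx, x * w⁻¹ * x⁻¹, Q2_conj S hx (inv_mem hw), ?_⟩
        calc x⁻¹ * S.e 2 p u = x⁻¹ * (S.e 2 p u * x * w) * w⁻¹ * x⁻¹ := by group
          _ = x⁻¹ * (x * S.e 2 p u) * w⁻¹ * x⁻¹ := by rw [← h]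
          _ = _ := by group }
  have key : ∀ x w : Y, x ∈ S.PL → w ∈ S.Q2 → x * S.e 2 p u = S.e 2 p u * x * w → x ∈ K :=
    fun x w hx hw h => ⟨hx, w, hw, h⟩
  have key1 : ∀ x : Y, x ∈ S.PL → x * S.e 2 p u = S.e 2 p u * x → x ∈ K :=
    fun x hx h => key x 1 hx (one_mem _) (by rw [mul_one]; exact h)
  have : S.PL ≤ K := by
    refine J_le fun k h1 h2 x hx => ?_
    have hxP : x ∈ S.PL := mem_J hx h1 h2
    interval_cases k
    · obtain ⟨q, v, rfl⟩ : ∃ q v, S.e 0 q v = x := (S.mem_XZ_even 0 x).1 hx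
      exact key1 _ hxP (S.e_e2 0 q v p u)
    · obtain ⟨t, rfl⟩ := S.X1 hx
      exact key _ _ hxP (S.q2_1 (t * p)) (S.o_e2 0 t p u)
    · obtain ⟨q, v, rfl⟩ := S.X2 hx
      exact key _ _ hxP (S.q2_2 (q * p)) (S.e_e1 1 q v p u)
    · obtain ⟨t, rfl⟩ := S.X3 hx
      exact key1 _ hxP (S.o_e1 1 t p u)
    · obtain ⟨q, v, rfl⟩ := S.X4 hx
      refine key _ _ hxP (S.q2_3 (q * σ p + p * σ q)) ?_
      rw [S.e_mul, S.e_mul, S.e_mul, map_zero, mul_zero, add_zero, add_zero, add_comm q p]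
      congr 1
      linear_combination -char2 S (p * σ q)
    · obtain ⟨t, rfl⟩ := S.X5 hx
      exact key1 _ hxP (S.e_o0 2 p u t).symm
    · obtain ⟨q, v, rfl⟩ := S.X6 hx
      refine key _ _ hxP (S.q2_4 (p * q)) ?_
      have h : S.e 2 p u * S.e 3 q v = S.e 3 q v * S.e 2 p u * S.o 2 (p * q) := S.e_e1 2 p u q v
      rw [h, mul_assoc, S.o_add, char2 S, S.o_zero, mul_one]
    · obtain ⟨t, rfl⟩ := S.X7 hx
      refine key _ _ hxP (S.q2_5 (p * t)) ?_
      have h : S.e 2 p u * S.o 3 t = S.o 3 t * S.e 2 p u * S.e 3 0 (p * t) := S.e_o1 2 p u t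
      rw [h, mul_assoc, ze, char2 S, S.e_zero, mul_one]
    · obtain ⟨q, v, rfl⟩ := S.X8 hx
      exact key1 _ hxP (S.e_e2 2 p u q v).symm
  exact (this hg).2

theorem mem_Q1 {x : Y} (hx : x ∈ S.Q1) : ∃ p u, ∃ w ∈ S.Q2, x = S.e 2 p u * w := by
  obtain ⟨a, ha, w, hw, rfl⟩ := mem_sup_of_norm (A := S.XZ 4) (B := S.Q2) (fun a ha b hb => by
    rw [S.Q1_comm (Subgroup.mem_sup_left ha) hb, mul_inv_cancel_right]; exact hb) hx
  obtain ⟨p, u, rfl⟩ := S.X4 ha
  exact ⟨p, u, w, hw, rfl⟩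

/-- `[PL, Q1] ≤ E_4` -/
theorem comm_Q1 {g a : Y} (hg : g ∈ S.PL) (ha : a ∈ S.Q1) : g * a * g⁻¹ * a⁻¹ ∈ S.Q2 := by
  obtain ⟨p, u, w, hw, rfl⟩ := mem_Q1 S ha
  obtain ⟨w', hw', h⟩ := comm_X4 S hg p u
  have e : g * (S.e 2 p u * w) * g⁻¹ * (S.e 2 p u * w)⁻¹ =
      S.e 2 p u * ((g * w' * g⁻¹) * (g * w * g⁻¹) * w⁻¹) * (S.e 2 p u)⁻¹ := by
    calc g * (S.e 2 p u * w) * g⁻¹ * (S.e 2 p u * w)⁻¹ = (g * S.e 2 p u) * w * g⁻¹ * w⁻¹ * (S.e 2 p u)⁻¹ := by group
      _ = _ := by rw [h]; group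
  rw [e]
  exact Q2_conj S (Q1_le_PL S (Subgroup.mem_sup_left (S.mX4 p u)))
    (mul_mem (mul_mem (Q2_conj S hg hw') (Q2_conj S hg hw)) (inv_mem hw))

/-! ### the torus -/

/-- the torus of the Levi complement -/
def sT (d : Fˣ) : Y := S.h (Units.map (σ : F →* F) d) d

theorem c0 (d : Fˣ) : (chE σ 0 (Units.map (σ : F →* F) d) d : F) = σ d := rfl
theorem c1 (d : Fˣ) : (chE σ 1 (Units.map (σ : F →* F) d) d : F) = d := rfl
theorem c2 (d : Fˣ) : chE σ 2 (Units.map (σ : F →* F) d) d = 1 := by rw [chE_two, div_self']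
include S in
theorem c3 (d : Fˣ) : chE σ 3 (Units.map (σ : F →* F) d) d = d⁻¹ := by
  rw [chE_three, map_map σ S.sq, pow_two, div_mul_cancel_left]
theorem c4 (d : Fˣ) : chE σ 4 (Units.map (σ : F →* F) d) d = (Units.map (σ : F →* F) d)⁻¹ := rfl

theorem k0 (d : Fˣ) : (chO σ 0 (Units.map (σ : F →* F) d) d : F) = d * σ d := by
  rw [chO, Units.val_mul, zero_add, c0, c1, mul_comm]
theorem k1 (d : Fˣ) : (chO σ 1 (Units.map (σ : F →* F) d) d : F) = d := by
  rw [chO, show (1 : ZMod 8) + 1 = 2 from rfl, c2, mul_one]; rfl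
include S in
theorem k2 (d : Fˣ) : (chO σ 2 (Units.map (σ : F →* F) d) d : F) = (d : F)⁻¹ := by
  rw [chO, show (2 : ZMod 8) + 1 = 3 from rfl, c2, one_mul, c3 S, Units.val_inv_eq_inv_val]
include S in
theorem k3 (d : Fˣ) : (chO σ 3 (Units.map (σ : F →* F) d) d : F) = ((d : F) * σ d)⁻¹ := by
  rw [chO, show (3 : ZMod 8) + 1 = 4 from rfl, c3 S, c4, ← mul_inv, Units.val_inv_eq_inv_val, Units.val_mul]; rfl

theorem sT_mem (d : Fˣ) : sT S d ∈ S.Tk 4 := by
  refine ⟨S.mem_T.2 ⟨_, _, rfl⟩, Subgroup.mem_centralizer_iff.2 fun x hx => ?_⟩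
  obtain ⟨p, u, rfl⟩ := S.X4 hx
  have h := S.h_e (Units.map (σ : F →* F) d) d 2 p u
  rw [c2, Units.val_one, map_one, one_mul, one_mul, one_mul, mul_inv_eq_iff_eq_mul] at h
  exact h.symm

theorem mem_Tk4 {s : Y} (hs : s ∈ S.Tk 4) : ∃ d, s = sT S d := by
  obtain ⟨c, d, rfl⟩ := S.mem_T.1 hs.1
  have h1 := S.Tk_comm hs (S.mX4 1 0)
  have h2 := S.h_e c d 2 1 0
  rw [h1, mul_inv_cancel_right, mul_one] at h2
  have h3 : chE σ 2 c d = 1 := Units.ext (S.injE 2 _ _ _ _ h2).1.symm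
  rw [chE_two, div_eq_one] at h3
  exact ⟨d, by rw [sT, h3]⟩

theorem sT_inj {d d' : Fˣ} (h : sT S d = sT S d') : d = d' := (S.h_inj _ _ _ _ h).2

theorem sT_one : sT S 1 = 1 := by rw [sT, map_one, S.h_one]

theorem sT_PL [Finite F] (d : Fˣ) : sT S d ∈ S.PL := S.h_mem_PL d

theorem sT_e1 (d : Fˣ) (p u : F) : sT S d * S.e 1 p u * (sT S d)⁻¹ = S.e 1 (d * p) (d * σ d * u) := by
  rw [sT, S.h_e, c1]
theorem sT_o1 (d : Fˣ) (x : F) : sT S d * S.o 1 x * (sT S d)⁻¹ = S.o 1 (d * x) := by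
  rw [sT, S.h_o, k1]
theorem sT_e2 (d : Fˣ) (p u : F) : sT S d * S.e 2 p u * (sT S d)⁻¹ = S.e 2 p u := by
  rw [sT, S.h_e, c2, Units.val_one, map_one, one_mul, one_mul, one_mul]
theorem sT_o2 (d : Fˣ) (x : F) : sT S d * S.o 2 x * (sT S d)⁻¹ = S.o 2 ((d : F)⁻¹ * x) := by
  rw [sT, S.h_o, k2 S]
theorem sT_e3 (d : Fˣ) (p u : F) : sT S d * S.e 3 p u * (sT S d)⁻¹ = S.e 3 ((d : F)⁻¹ * p) (((d : F) * σ d)⁻¹ * u) := by
  rw [sT, S.h_e, c3 S, Units.val_inv_eq_inv_val, map_inv₀, ← mul_inv]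
theorem sT_o3 (d : Fˣ) (x : F) : sT S d * S.o 3 x * (sT S d)⁻¹ = S.o 3 (((d : F) * σ d)⁻¹ * x) := by
  rw [sT, S.h_o, k3 S]
theorem sT_e4 (d : Fˣ) (p u : F) : sT S d * S.e 4 p u * (sT S d)⁻¹ =
    S.e 4 ((σ (d : F))⁻¹ * p) ((σ (d : F))⁻¹ * σ (σ (d : F))⁻¹ * u) := by
  rw [sT, S.h_e, c4, Units.val_inv_eq_inv_val]; rfl

theorem sT_EE (s : Fˣ) (a b z c d : F) : sT S s * EE S a b z c d * (sT S s)⁻¹ =
    EE S (s * σ s * a) (s * b) z ((s : F)⁻¹ * c) (((s : F) * σ s)⁻¹ * d) := by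
  unfold EE
  calc sT S s * (S.e 1 0 a * S.o 1 b * S.e 2 0 z * S.o 2 c * S.e 3 0 d) * (sT S s)⁻¹ =
      (sT S s * S.e 1 0 a * (sT S s)⁻¹) * (sT S s * S.o 1 b * (sT S s)⁻¹) * (sT S s * S.e 2 0 z * (sT S s)⁻¹) *
      (sT S s * S.o 2 c * (sT S s)⁻¹) * (sT S s * S.e 3 0 d * (sT S s)⁻¹) := by group
    _ = _ := by rw [sT_e1, sT_o1, sT_e2, sT_o2, sT_e3, mul_zero, mul_zero]

/-- `n2` on `E_4` -/
theorem n2_EE (a b z c d : F) : S.n2 * EE S a b z c d * S.n2⁻¹ = EE S d c z b a := by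
  unfold EE
  have h : S.n2 * (S.e 1 0 a * S.o 1 b * S.e 2 0 z * S.o 2 c * S.e 3 0 d) * S.n2⁻¹ =
      (S.n2 * S.e 1 0 a * S.n2⁻¹) * (S.n2 * S.o 1 b * S.n2⁻¹) * (S.n2 * S.e 2 0 z * S.n2⁻¹) *
      (S.n2 * S.o 2 c * S.n2⁻¹) * (S.n2 * S.e 3 0 d * S.n2⁻¹) := by group
  rw [h, S.n2_e, S.n2_o, S.n2_e, S.n2_o, S.n2_e]
  show S.e 3 0 a * S.o 2 b * S.e 2 0 z * S.o 1 c * S.e 1 0 d = _
  rw [EE_d, EE_c, EE_z, EE_b, EE_a]
  simp only [EE_mul, add_zero, zero_add]

end Cfsg.Agent.OddHalf.D7TwF4.NormE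

end

-- merged: Cfsg.Agent.OddHalf.D7TwF4.NormSuz
section

/-!
# D7, `K = ²F₄(q)`: lemmas on the field (helper467)

* `tt0` : an additive map with a non-trivial multiplicative period is zero;
* `scal` : an additive map commuting with all multiplications is a multiplication;
* `suz` : an endomorphism of 2-power order of the Suzuki 2-group, equivariant up to a permutation of the torus, is the
  identity.
-/

set_option autoImplicit false
set_option maxHeartbeats 400000

namespace Cfsg.Agent.OddHalf.D7TwF4.NormSuz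

universe w

variable {F : Type w} [Field F] {σ : F →+* F}

theorem add_self (two : (2 : F) = 0) (x : F) : x + x = 0 := by
  rw [← two_mul, two, zero_mul]

theorem add_zero_of {g : F → F} (hg : ∀ x y, g (x + y) = g x + g y) : g 0 = 0 := by
  have := hg 0 0
  rw [add_zero] at this
  exact left_eq_add.1 this

/-- an additive map with `g (c x) = g x`, `c ≠ 1`, is zero -/
theorem tt0 (two : (2 : F) = 0) {g : F → F} (hg : ∀ x y, g (x + y) = g x + g y) {c : F} (hc : c ≠ 1)
    (h : ∀ x, g (c * x) = g x) (x : F) : g x = 0 := by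
  have h1 : c + 1 ≠ 0 := by
    intro h0
    apply hc
    have : c + 1 + 1 = 1 := by rw [h0, zero_add]
    rwa [add_assoc, add_self two, add_zero] at this
  have h2 := hg (c * ((c + 1)⁻¹ * x)) ((c + 1)⁻¹ * x)
  have h3 : c * ((c + 1)⁻¹ * x) + (c + 1)⁻¹ * x = x := by
    field_simp
  rw [h3, h, add_self two] at h2
  exact h2

/-- an additive map commuting with the multiplications -/
theorem scal {g : F → F} (hg : ∀ x y, g (x + y) = g x + g y) (h : ∀ (c : Fˣ) x, g (c * x) = c * g x) (x : F) :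
    g x = x * g 1 := by
  by_cases hx : x = 0
  · rw [hx, add_zero_of hg, zero_mul]
  · have := h (Units.mk0 x hx) 1
    rwa [mul_one] at this

theorem pow_two_eq_one (two : (2 : F) = 0) : ∀ (k : ℕ) {x : F}, x ^ (2 ^ k) = 1 → x = 1 := by
  intro k
  induction k with
  | zero => intro x h; simpa using h
  | succ k ih =>
    intro x h
    rw [pow_succ, pow_mul] at h
    apply ih
    have h1 : (x ^ 2 ^ k - 1) ^ 2 = 0 := by
      have : (x ^ 2 ^ k - 1) ^ 2 = (x ^ 2 ^ k) ^ 2 - 2 * x ^ 2 ^ k + 1 := by ring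
      rw [this, h, two]
      linear_combination two
    exact sub_eq_zero.1 (pow_eq_zero_iff two_ne_zero |>.1 h1)

/-- a multiplication of 2-power order is trivial -/
theorem scal_one (two : (2 : F) = 0) {g : F → F} {c : F} (h : ∀ x, g x = x * c) {k : ℕ}
    (hk : ∀ x, g^[2 ^ k] x = x) : c = 1 := by
  have h1 : ∀ n : ℕ, ∀ x, g^[n] x = x * c ^ n := by
    intro n
    induction n with
    | zero => intro x; simp
    | succ n ih =>
      intro x
      rw [Function.iterate_succ_apply', ih, h, pow_succ, mul_assoc]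
  have h2 := h1 (2 ^ k) 1
  rw [hk, one_mul] at h2
  exact pow_two_eq_one two k h2.symm

section suz

variable [Finite F]

theorem s1_surj (two : (2 : F) = 0) (hσ : ∀ x : F, σ (σ x) = x ^ 2) (v : F) : ∃ q : F, q * σ q = v := by
  by_cases hv : v = 0
  · exact ⟨0, by rw [hv, zero_mul]⟩
  let f : Fˣ →* Fˣ := MonoidHom.id Fˣ * Units.map (σ : F →* F)
  have hf : Function.Injective f := (injective_iff_map_eq_one f).2 fun χ h => by
    have h0 : χ * Units.map (σ : F →* F) χ = 1 := h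
    have h1 : (χ : F) * σ χ = 1 := congrArg Units.val h0
    have h2 := congrArg σ h1
    rw [map_mul, hσ, map_one] at h2
    have h3 : (χ : F) = 1 := by
      have : (χ : F) * (σ χ * χ ^ 2) = χ ^ 2 := by
        calc (χ : F) * (σ χ * χ ^ 2) = (χ * σ χ) * χ ^ 2 := by ring
          _ = _ := by rw [h1, one_mul]
      rw [h2, mul_one, pow_two] at this
      exact (mul_right_cancel₀ χ.ne_zero ((one_mul (χ : F)).trans this)).symm
    exact Units.ext h3
  obtain ⟨χ, hχ⟩ := Finite.surjective_of_injective hf (Units.mk0 v hv)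
  exact ⟨χ, congrArg Units.val hχ⟩

/-- **The Suzuki 2-group.** -/
theorem suz (hσ : ∀ x : F, σ (σ x) = x ^ 2) (two : (2 : F) = 0) (hne : ∃ x, σ x ≠ x) {a b : F → F → F}
    (ha : ∀ q v q' v', a (q + q') (v + v' + q * σ q') = a q v + a q' v')
    (hb : ∀ q v q' v', b (q + q') (v + v' + q * σ q') = b q v + b q' v' + a q v * σ (a q' v'))
    (he : ∀ χ : Fˣ, ∃ χ' : Fˣ, (∀ q v, a (χ * q) (χ * σ χ * v) = χ' * a q v) ∧
      ∀ q v, b (χ * q) (χ * σ χ * v) = χ' * σ χ' * b q v)
    (hn : ∃ q v, a q v ≠ 0) {k : ℕ}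
    (hp : ∀ q v, (fun x : F × F => (a x.1 x.2, b x.1 x.2))^[2 ^ k] (q, v) = (q, v)) :
    (∀ q v, a q v = q) ∧ ∀ q v, b q v = v := by
  have c2 := add_self two
  -- `a` does not depend on `v`
  have a0 : ∀ v, a 0 v = 0 := by
    intro v
    obtain ⟨q, rfl⟩ := s1_surj two hσ v
    have := ha q 0 q 0
    rwa [c2, add_zero, zero_add, c2] at this
  have a1 : ∀ q v, a q v = a q 0 := by
    intro q v
    have := ha q 0 0 v
    rwa [add_zero, zero_add, map_zero, mul_zero, add_zero, a0, add_zero] at this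
  have hA : ∀ q q', a (q + q') 0 = a q 0 + a q' 0 := by
    intro q q'
    have := ha q 0 q' 0
    rwa [a1 (q + q')] at this
  have hAe : ∀ χ : Fˣ, ∃ χ' : Fˣ, ∀ q, a (χ * q) 0 = χ' * a q 0 := by
    intro χ
    obtain ⟨χ', h1, -⟩ := he χ
    refine ⟨χ', fun q => ?_⟩
    have := h1 q 0
    rwa [mul_zero] at this
  have hA1 : a 1 0 ≠ 0 := by
    intro h0
    obtain ⟨q, v, hq⟩ := hn
    apply hq
    rw [a1]
    by_cases hq0 : q = 0
    · rw [hq0, a0]
    · obtain ⟨χ', h1⟩ := hAe (Units.mk0 q hq0)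
      have := h1 1
      rwa [mul_one, h0, mul_zero] at this
  set A1 := a 1 0 with hA1d
  have hmul : ∀ x y, a (x * y) 0 * A1 = a x 0 * a y 0 := by
    intro x y
    by_cases hx : x = 0
    · rw [hx, zero_mul, a0, zero_mul, zero_mul]
    · obtain ⟨χ', h1⟩ := hAe (Units.mk0 x hx)
      have e1 := h1 y
      have e2 := h1 1
      rw [mul_one] at e2
      change a (x * y) 0 = _ at e1
      change a x 0 = _ at e2
      rw [e1, e2]; ring
  -- the field automorphism
  let τ : F →+* F :=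
    { toFun := fun x => a x 0 / A1
      map_one' := div_self hA1
      map_zero' := by rw [a0, zero_div]
      map_add' := fun x y => by rw [hA, add_div]
      map_mul' := fun x y => by
        have := hmul x y
        field_simp
        linear_combination this }
  have hτ : ∀ x, a x 0 = τ x * A1 := by
    intro x
    show a x 0 = a x 0 / A1 * A1
    field_simp
  let te : F ≃+* F := RingEquiv.ofBijective τ ⟨τ.injective, Finite.surjective_of_injective τ.injective⟩
  have hte : ∀ x, te x = τ x := fun x => rfl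
  -- iterates
  have hAn : ∀ n : ℕ, ∀ q v, ((fun x : F × F => (a x.1 x.2, b x.1 x.2))^[n] (q, v)).1 = (fun x => a x 0)^[n] q := by
    intro n
    induction n with
    | zero => intro q v; rfl
    | succ n ih =>
      intro q v
      rw [Function.iterate_succ_apply', Function.iterate_succ_apply']
      show a _ _ = a _ 0
      rw [a1, ih]
  have hAk : ∀ q, (fun x => a x 0)^[2 ^ k] q = q := by
    intro q
    rw [← hAn _ q 0, hp]
  have hit : ∀ n : ℕ, ∀ x, (fun x => a x 0)^[n] x = (fun x => te x)^[n] x * (fun x => a x 0)^[n] 1 := by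
    intro n
    induction n with
    | zero => intro x; simp
    | succ n ih =>
      intro x
      rw [Function.iterate_succ_apply', Function.iterate_succ_apply', Function.iterate_succ_apply', ih]
      show a _ 0 = te _ * a _ 0
      rw [hτ, hτ ((fun x => a x 0)^[n] 1), map_mul, hte, mul_assoc]
  have h1k : (fun x => a x 0)^[2 ^ k] 1 = 1 := hAk 1
  have htk : ∀ x, te^[2 ^ k] x = x := by
    intro x
    have := hit (2 ^ k) x
    rw [h1k, mul_one, hAk] at this
    exact this.symm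
  haveI : Fintype F := Fintype.ofFinite F
  obtain ⟨m, hm, -⟩ := Cfsg.Agent.Octagon.FieldAut171.exists_rln σ hσ
  have hid : ∀ x, te x = x := Cfsg.Agent.ThreePrime.SzRel.fieldAut_eq (by rw [← Nat.card_eq_fintype_card, hm]) te k htk
  have hA' : ∀ x, a x 0 = x * A1 := by
    intro x
    rw [hτ, ← hte, hid]
  have hA1' : A1 = 1 := scal_one two hA' hAk
  have hAA : ∀ q v, a q v = q := by
    intro q v
    rw [a1, hA', hA1', mul_one]
  refine ⟨hAA, ?_⟩
  -- `b`
  have b0 : ∀ v, b 0 v = v := by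
    intro v
    obtain ⟨q, rfl⟩ := s1_surj two hσ v
    have := hb q 0 q 0
    rwa [c2, add_zero, zero_add, hAA, c2, zero_add] at this
  have b1 : ∀ q v, b q v = b q 0 + v := by
    intro q v
    have := hb q 0 0 v
    rwa [add_zero, zero_add, map_zero, mul_zero, add_zero, b0, hAA, hAA, map_zero, mul_zero, add_zero] at this
  have hC : ∀ q q', b (q + q') 0 = b q 0 + b q' 0 := by
    intro q q'
    have := hb q 0 q' 0
    rw [b1 (q + q'), hAA, hAA, add_zero, zero_add] at this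
    exact add_right_cancel this
  have hCe : ∀ q, b q 0 = q * σ q * b 1 0 := by
    intro q
    by_cases hq : q = 0
    · rw [hq, b0, zero_mul, zero_mul]
    · obtain ⟨χ', h1, h2⟩ := he (Units.mk0 q hq)
      have e1 := h1 1 0
      have e2 := h2 1 0
      rw [mul_one, mul_zero, hAA, hAA, mul_one] at e1
      rw [mul_one, mul_zero, ← e1] at e2
      exact e2
  have hc : b 1 0 = 0 := by
    obtain ⟨x, hx⟩ := hne
    have h1 := hC x 1
    rw [hCe (x + 1), hCe x, map_add, map_one] at h1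
    have h2 : (x + σ x) * b 1 0 = 0 := by
      linear_combination h1
    rcases mul_eq_zero.1 h2 with h3 | h3
    · exfalso
      apply hx
      have : x + σ x + x = x := by rw [h3, zero_add]
      rw [add_right_comm, c2, zero_add] at this
      exact this
    · exact h3
  intro q v
  rw [b1, hCe, hc, mul_zero, zero_add]

end suz

end Cfsg.Agent.OddHalf.D7TwF4.NormSuz

end

-- merged: Cfsg.Agent.OddHalf.D7TwF4.NormF
section

/-!
# D7, `K = ²F₄(q)`: the action of a 2-element on `C_Y(Z_4)` (helper467)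

`NF S f` : `f` acts on `PL = C_Y(Z_4)` as an automorphism of 2-power order preserving `U`.
Steps A - C: after a conjugation by an element of `U`, `f` is the identity on `S_4`, trivial on `U / Q`, and
`f n2 ∈ n2 Z_4`.
-/

set_option autoImplicit false
set_option maxHeartbeats 400000
set_option linter.unusedSectionVars false

namespace Cfsg.Agent.OddHalf.D7TwF4.NormF

open Cfsg.Agent.KFacts.TwF4 Cfsg.Agent.SplitTwo.ZS Cfsg.Agent.OddHalf.D7TwF4.NormE
open Cfsg.Agent.OddHalf.D7TwF4.NormSuz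
open Cfsg.Agent.KFacts.TwF4.Inv Cfsg.Agent.KFacts.TwF4.SylU Cfsg.Agent.KFacts.TwF4.Perf Cfsg.Agent.KFacts.TwF4.Arc

universe u w

variable {F : Type w} [Field F] {σ : F →+* F} {Y : Type u} [Group Y]

/-- `f` acts on `PL` as an automorphism of 2-power order preserving `U` -/
structure NF (S : Full σ Y) (f : Y → Y) : Prop where
  mul : ∀ x ∈ S.PL, ∀ y ∈ S.PL, f (x * y) = f x * f y
  mem : ∀ x ∈ S.PL, f x ∈ S.PL
  memU : ∀ x ∈ J S.XZ 1 8, f x ∈ J S.XZ 1 8
  ord : ∃ k : ℕ, ∀ x ∈ S.PL, f^[2 ^ k] x = x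

theorem R_p (S : Full σ Y) : S.R.p = 2 := by
  have h1 : S.o 0 1 ∈ S.R.X (od 0) := (S.mem_odd 0 _).2 ⟨1, rfl⟩
  obtain ⟨k, hk⟩ := S.R.isPGroup (od 0) ⟨_, h1⟩
  have hk' : S.o 0 1 ^ (S.R.p ^ k) = 1 := by simpa only [_root_.SubmonoidClass.mk_pow, _root_.OneMemClass.coe_one] using congrArg Subtype.val hk
  have : Fact (Nat.Prime 2) := ⟨Nat.prime_two⟩
  have h2 : orderOf (S.o 0 1) = 2 := orderOf_eq_prime (by rw [pow_two, S.o_add, NormE.char2 S, S.o_zero])
    (fun h => one_ne_zero (S.o_eq_one h))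
  have h3 := orderOf_dvd_of_pow_eq_one hk'
  rw [h2] at h3
  exact ((Nat.prime_dvd_prime_iff_eq Nat.prime_two S.R.prime).1 (Nat.prime_two.dvd_of_dvd_pow h3)).symm

variable [Finite F] [Finite Y]

theorem two_U (S : Full σ Y) : IsPGroup 2 (J S.XZ 1 8) :=
  isPGroup_J S.zsys8 (two_X S (R_p S)) 8 1 8 (by norm_num) (by norm_num)

namespace NF

variable {S : Full σ Y} {f : Y → Y} (N : NF S f)

include N

theorem one : f 1 = 1 := by
  have h := N.mul 1 (one_mem _) 1 (one_mem _)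
  rw [mul_one] at h
  exact mul_eq_left.1 h.symm

theorem inv {x : Y} (hx : x ∈ S.PL) : f x⁻¹ = (f x)⁻¹ := by
  have h := N.mul x hx x⁻¹ (inv_mem hx)
  rw [mul_inv_cancel, N.one] at h
  exact (inv_eq_of_mul_eq_one_right h.symm).symm

theorem conj {x y : Y} (hx : x ∈ S.PL) (hy : y ∈ S.PL) : f (x * y * x⁻¹) = f x * f y * (f x)⁻¹ := by
  rw [N.mul _ (mul_mem hx hy) _ (inv_mem hx), N.mul _ hx _ hy, N.inv hx]

theorem conj' {x y : Y} (hx : x ∈ S.PL) (hy : y ∈ S.PL) : f (x⁻¹ * y * x) = (f x)⁻¹ * f y * f x := by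
  rw [N.mul _ (mul_mem (inv_mem hx) hy) _ hx, N.mul _ (inv_mem hx) _ hy, N.inv hx]

theorem pow {x : Y} (hx : x ∈ S.PL) (n : ℕ) : f (x ^ n) = f x ^ n := by
  induction n with
  | zero => rw [pow_zero, pow_zero, N.one]
  | succ n ih => rw [pow_succ, pow_succ, N.mul _ (pow_mem hx n) _ hx, ih]

theorem it_mem {x : Y} (hx : x ∈ S.PL) (n : ℕ) : f^[n] x ∈ S.PL := by
  induction n with
  | zero => exact hx
  | succ n ih => rw [Function.iterate_succ_apply']; exact N.mem _ ih

theorem it_memU {x : Y} (hx : x ∈ J S.XZ 1 8) (n : ℕ) : f^[n] x ∈ J S.XZ 1 8 := by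
  induction n with
  | zero => exact hx
  | succ n ih => rw [Function.iterate_succ_apply']; exact N.memU _ ih

theorem surj {x : Y} (hx : x ∈ S.PL) : ∃ y ∈ S.PL, f y = x := by
  obtain ⟨k, hk⟩ := N.ord
  obtain ⟨m, hm⟩ : ∃ m, 2 ^ k = m + 1 := ⟨2 ^ k - 1, by have := Nat.one_le_two_pow (n := k); omega⟩
  refine ⟨f^[m] x, N.it_mem hx m, ?_⟩
  have h := hk x hx
  rwa [hm, Function.iterate_succ_apply'] at h

theorem surjU {x : Y} (hx : x ∈ J S.XZ 1 8) : ∃ y ∈ J S.XZ 1 8, f y = x := by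
  obtain ⟨k, hk⟩ := N.ord
  obtain ⟨m, hm⟩ : ∃ m, 2 ^ k = m + 1 := ⟨2 ^ k - 1, by have := Nat.one_le_two_pow (n := k); omega⟩
  refine ⟨f^[m] x, N.it_memU hx m, ?_⟩
  have h := hk x (U_le_PL S hx)
  rwa [hm, Function.iterate_succ_apply'] at h

theorem inj {x y : Y} (hx : x ∈ S.PL) (hy : y ∈ S.PL) (h : f x = f y) : x = y := by
  obtain ⟨k, hk⟩ := N.ord
  obtain ⟨m, hm⟩ : ∃ m, 2 ^ k = m + 1 := ⟨2 ^ k - 1, by have := Nat.one_le_two_pow (n := k); omega⟩
  have h1 := hk x hx
  have h2 := hk y hy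
  rw [hm, Function.iterate_succ_apply] at h1 h2
  rw [← h1, ← h2, h]

theorem eq_one {x : Y} (hx : x ∈ S.PL) (h : f x = 1) : x = 1 :=
  N.inj hx (one_mem _) (h.trans N.one.symm)

/-- conjugation by an element of `U` -/
theorem conjU {w : Y} (hw : w ∈ J S.XZ 1 8) : NF S (fun x => w * f x * w⁻¹) where
  mul x hx y hy := by
    show w * f (x * y) * w⁻¹ = _
    rw [N.mul x hx y hy]; group
  mem x hx := mul_mem (mul_mem (U_le_PL S hw) (N.mem x hx)) (inv_mem (U_le_PL S hw))
  memU x hx := mul_mem (mul_mem hw (N.memU x hx)) (inv_mem hw)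
  ord := by
    obtain ⟨k, hk⟩ := N.ord
    have key : ∀ m : ℕ, ∃ v ∈ J S.XZ 1 8, ∀ x ∈ S.PL, (fun x => w * f x * w⁻¹)^[m] x = v * f^[m] x * v⁻¹ := by
      intro m
      induction m with
      | zero => exact ⟨1, one_mem _, fun x _ => by simp⟩
      | succ m ih =>
        obtain ⟨v, hv, h⟩ := ih
        refine ⟨w * f v, mul_mem hw (N.memU v hv), fun x hx => ?_⟩
        rw [Function.iterate_succ_apply', h x hx, Function.iterate_succ_apply' f]
        show w * f (v * f^[m] x * v⁻¹) * w⁻¹ = _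
        rw [N.conj (U_le_PL S hv) (N.it_mem hx m)]
        group
    obtain ⟨v, hv, h⟩ := key (2 ^ k)
    obtain ⟨l, hl⟩ := two_U S ⟨v, hv⟩
    have hl' : v ^ (2 ^ l) = 1 := by simpa only [_root_.SubmonoidClass.mk_pow, _root_.OneMemClass.coe_one] using congrArg Subtype.val hl
    refine ⟨k + l, fun x hx => ?_⟩
    rw [pow_add, Function.iterate_mul]
    have h2 : ∀ n : ℕ, ((fun x => w * f x * w⁻¹)^[2 ^ k])^[n] x = v ^ n * x * (v ^ n)⁻¹ := by
      intro n
      induction n with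
      | zero => simp
      | succ n ih =>
        have hm : v ^ n * x * (v ^ n)⁻¹ ∈ S.PL :=
          mul_mem (mul_mem (pow_mem (U_le_PL S hv) n) hx) (inv_mem (pow_mem (U_le_PL S hv) n))
        rw [Function.iterate_succ_apply', ih, h _ hm, hk _ hm, pow_succ']
        group
    rw [h2, hl', one_mul, inv_one, mul_one]

/-- `f` preserves `Q` -/
theorem memQ (hF : ∃ c : Fˣ, c ≠ 1) {x : Y} (hx : x ∈ S.Q) : f x ∈ S.Q := by
  let K : Subgroup Y :=
    { carrier := {y | ∃ x ∈ S.Q, f x = y}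
      one_mem' := ⟨1, one_mem _, N.one⟩
      mul_mem' := by
        rintro _ _ ⟨x, hx, rfl⟩ ⟨y, hy, rfl⟩
        exact ⟨x * y, mul_mem hx hy, N.mul _ (Q_le_PL S hx) _ (Q_le_PL S hy)⟩
      inv_mem' := by
        rintro _ ⟨x, hx, rfl⟩
        exact ⟨x⁻¹, inv_mem hx, N.inv (Q_le_PL S hx)⟩ }
  have hK : K ≤ S.Q := by
    refine O2_PL S hF (R_p S) ?_ ?_ ?_
    · rintro _ ⟨x, hx, rfl⟩
      exact N.mem _ (Q_le_PL S hx)
    · rintro ⟨_, x, hx, rfl⟩
      obtain ⟨l, hl⟩ := two_U S ⟨x, Q_le_U S hx⟩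
      have hl' : x ^ (2 ^ l) = 1 := by simpa only [_root_.SubmonoidClass.mk_pow, _root_.OneMemClass.coe_one] using congrArg Subtype.val hl
      refine ⟨l, Subtype.ext ?_⟩
      show f x ^ (2 ^ l) = 1
      rw [← N.pow (Q_le_PL S hx), hl', N.one]
    · rintro g hg _ ⟨x, hx, rfl⟩
      obtain ⟨g', hg', rfl⟩ := N.surj hg
      exact ⟨g' * x * g'⁻¹, Perf.Q_norm S hg' hx, N.conj hg' (Q_le_PL S hx)⟩
  exact hK ⟨x, hx, rfl⟩

/-- the image of the torus element -/
theorem T_PL {t : Y} (ht : t ∈ S.T) (htP : t ∈ S.PL) : t ∈ S.Tk 4 := by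
  obtain ⟨c, d, rfl⟩ := S.mem_T.1 ht
  have h1 := S.comm_PL htP (z := S.e 2 0 1) ⟨1, rfl⟩
  have h2 := S.h_e c d 2 0 1
  rw [h1, mul_inv_cancel_right, mul_zero, mul_one] at h2
  have h3 : chE σ 2 c d = 1 := S.unit_eq_one (Units.ext (S.injE 2 _ _ _ _ h2).2.symm)
  rw [chE_two, div_eq_one] at h3
  have := sT_mem S d
  rwa [sT, h3] at this

/-- **Step A**: a torus element of prime order goes into the torus -/
theorem stepA (hF : ∃ c : Fˣ, c ≠ 1) :
    ∃ w ∈ J S.XZ 1 8, ∃ s ∈ S.Tk 4, s ≠ 1 ∧ w * f s * w⁻¹ ∈ S.Tk 4 := by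
  obtain ⟨r, c, hr, hcr, hc1⟩ := exists_prime_unit hF
  have hr2 : r ≠ 2 := ne_two S hcr hc1
  have hsr : sT S c ^ r = 1 := by rw [sT, h_pow, ← map_pow, hcr, map_one, S.h_one]
  have hsP : sT S c ∈ S.PL := sT_PL S c
  have hnc : ∀ x ∈ J S.XZ 1 8, sT S c * x * (sT S c)⁻¹ ∈ J S.XZ 1 8 := fun x hx => h_J S _ _ hx
  have hnc' : ∀ x ∈ J S.XZ 1 8, (sT S c)⁻¹ * x * sT S c ∈ J S.XZ 1 8 := fun x hx => h_J_inv S _ _ hx
  have hn : ∀ x, x ∈ J S.XZ 1 8 ↔ f (sT S c) * x * (f (sT S c))⁻¹ ∈ J S.XZ 1 8 := by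
    intro x
    constructor
    · intro hx
      obtain ⟨y, hy, rfl⟩ := N.surjU hx
      rw [← N.conj hsP (U_le_PL S hy)]
      exact N.memU _ (hnc y hy)
    · intro hx
      obtain ⟨y, hy, e⟩ := N.surjU hx
      have e1 : x = f ((sT S c)⁻¹ * y * sT S c) := by
        rw [N.conj' hsP (U_le_PL S hy), e]; group
      rw [e1]
      exact N.memU _ (hnc' y hy)
  obtain ⟨b, hb, t, ht, e⟩ := norm_U S hF (R_p S) hn
  have htP : t ∈ S.PL := by
    have : t = b⁻¹ * f (sT S c) := by rw [e]; group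
    rw [this]
    exact mul_mem (inv_mem (U_le_PL S hb)) (N.mem _ hsP)
  have ht4 : t ∈ S.Tk 4 := T_PL N ht htP
  have htU : ∀ x ∈ J S.XZ 1 8, t * x * t⁻¹ ∈ J S.XZ 1 8 := fun x hx => S.T_conj_J ht hx
  have hfr : f (sT S c) ^ r = 1 := by rw [← N.pow hsP, hsr, N.one]
  have htr : t ^ r = 1 := by
    have key : ∀ n : ℕ, ∃ b' ∈ J S.XZ 1 8, (b * t) ^ n = b' * t ^ n := by
      intro n
      induction n with
      | zero => exact ⟨1, one_mem _, by simp⟩
      | succ n ih =>
        obtain ⟨b', hb', h⟩ := ih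
        refine ⟨b * (t * b' * t⁻¹), mul_mem hb (htU b' hb'), ?_⟩
        rw [pow_succ', h, pow_succ']; group
    obtain ⟨b', hb', h⟩ := key r
    rw [← e, hfr] at h
    apply S.U_inf_T (pow_mem ht r)
    have : t ^ r = b'⁻¹ := eq_inv_of_mul_eq_one_right h.symm
    rw [this]; exact inv_mem hb'
  obtain ⟨x, hx, hxw⟩ := InvConj.conj_prime (two_U S) hr hr2 hfr htr htU (by rw [e, mul_inv_cancel_right]; exact hb)
  refine ⟨x⁻¹, inv_mem hx, sT S c, sT_mem S c, ?_, ?_⟩
  · intro h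
    exact hc1 (sT_inj S (h.trans (sT_one S).symm))
  · rw [inv_inv, hxw]; exact ht4

/-- the group of units has odd order -/
theorem odd_units : Nat.Coprime (Nat.card Fˣ) 4 := by
  have h2 : ¬ 2 ∣ Nat.card Fˣ := by
    intro h
    have : Fact (Nat.Prime 2) := ⟨Nat.prime_two⟩
    obtain ⟨x, hx⟩ := exists_prime_orderOf_dvd_card' 2 h
    have h1 : x * x = 1 := by rw [← pow_two, ← hx]; exact pow_orderOf_eq_one x
    rw [unit_sq S h1, orderOf_one] at hx
    exact absurd hx (by norm_num)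
  have h3 : Nat.Coprime (Nat.card Fˣ) 2 := by
    rw [Nat.coprime_comm, Nat.prime_two.coprime_iff_not_dvd]; exact h2
  exact Nat.Coprime.pow_right 2 h3

theorem sT_pow (d : Fˣ) (n : ℕ) : sT S d ^ n = sT S (d ^ n) := by
  rw [sT, h_pow, ← map_pow]; rfl

/-- **Step A, 2**: the torus goes into the torus -/
theorem stepA2 {s : Y} (hs : s ∈ S.Tk 4) (hs1 : s ≠ 1) (hfs : f s ∈ S.Tk 4) {s' : Y} (hs' : s' ∈ S.Tk 4) :
    f s' ∈ S.Tk 4 := by
  obtain ⟨d, rfl⟩ := mem_Tk4 S hs'
  obtain ⟨d0, rfl⟩ := mem_Tk4 S hs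
  have hfs1 : f (sT S d0) ≠ 1 := fun h => hs1 (N.eq_one (sT_PL S d0) h)
  have hc : f (sT S d) * f (sT S d0) = f (sT S d0) * f (sT S d) := by
    rw [← N.mul _ (sT_PL S d) _ (sT_PL S d0), ← N.mul _ (sT_PL S d0) _ (sT_PL S d),
      S.T_comm (S.Tk_le 4 hs') (S.Tk_le 4 hs)]
  obtain ⟨x, hx, t, ht, e⟩ := S.centralizer_Tk (N.mem _ (sT_PL S d)) hfs hfs1 hc
  have htx : Commute x t := (S.Tk_comm ht hx).symm
  obtain ⟨d', rfl⟩ := mem_Tk4 S ht
  set! n := Nat.card Fˣ with hn
  have hd : ∀ d : Fˣ, d ^ n = 1 := fun d => pow_card_eq_one'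
  have h1 : (x * sT S d') ^ n = 1 := by
    rw [← e, ← N.pow (sT_PL S d), sT_pow N, hd, sT_one, N.one]
  rw [htx.mul_pow, sT_pow N, hd, sT_one, mul_one] at h1
  have h4 : x ^ 4 = 1 := by
    obtain ⟨p, u, rfl⟩ := S.X4 hx
    have : S.e 2 p u ^ 4 = (S.e 2 p u * S.e 2 p u) * (S.e 2 p u * S.e 2 p u) := by
      rw [show (4 : ℕ) = 1 + 1 + 1 + 1 by norm_num, pow_succ, pow_succ, pow_succ, pow_one]; group
    rw [this, e_sq, ze, NormE.char2 S, S.e_zero]
  have hx1 : x = 1 := by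
    have h5 := Nat.dvd_gcd (orderOf_dvd_of_pow_eq_one h1) (orderOf_dvd_of_pow_eq_one h4)
    have h6 : Nat.gcd n 4 = 1 := odd_units N
    rw [h6, Nat.dvd_one, orderOf_eq_one_iff] at h5
    exact h5
  rw [e, hx1, one_mul]
  exact ht

end NF

end Cfsg.Agent.OddHalf.D7TwF4.NormF

end

-- merged: Cfsg.Agent.OddHalf.D7TwF4.NormB
section

/-!
# D7, `K = ²F₄(q)`: the action on `U / Q`, on the torus and on `n2` (helper467)
-/

set_option autoImplicit false
set_option maxHeartbeats 400000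
set_option linter.unusedSectionVars false

namespace Cfsg.Agent.OddHalf.D7TwF4.NormF

open Cfsg.Agent.KFacts.TwF4 Cfsg.Agent.SplitTwo.ZS Cfsg.Agent.OddHalf.D7TwF4.NormE
open Cfsg.Agent.OddHalf.D7TwF4.NormSuz
open Cfsg.Agent.KFacts.TwF4.Inv Cfsg.Agent.KFacts.TwF4.SylU Cfsg.Agent.KFacts.TwF4.Perf Cfsg.Agent.KFacts.TwF4.Arc

universe u w

variable {F : Type w} [Field F] {σ : F →+* F} {Y : Type u} [Group Y] [Finite F] [Finite Y]

section modQ

variable (S : Full σ Y)

theorem uniq8 {p u p' u' : F} (h : S.e 4 p u * (S.e 4 p' u')⁻¹ ∈ S.Q) : p = p' ∧ u = u' := by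
  have h1 : S.e 4 p u * (S.e 4 p' u')⁻¹ = 1 :=
    S.zsys8.inter' (k := 8) (mul_mem (S.mX8 p u) (inv_mem (S.mX8 p' u'))) h
  exact S.injE 4 _ _ _ _ (mul_inv_eq_one.1 h1)

theorem q_mul {x x' y y' : Y} (hx : x ∈ S.PL) (h1 : x * x'⁻¹ ∈ S.Q) (h2 : y * y'⁻¹ ∈ S.Q) :
    x * y * (x' * y')⁻¹ ∈ S.Q := by
  have e : x * y * (x' * y')⁻¹ = (x * (y * y'⁻¹) * x⁻¹) * (x * x'⁻¹) := by group
  rw [e]; exact mul_mem (Perf.Q_norm S hx h2) h1

theorem q_trans {x y z : Y} (h1 : x * y⁻¹ ∈ S.Q) (h2 : y * z⁻¹ ∈ S.Q) : x * z⁻¹ ∈ S.Q := by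
  have e : x * z⁻¹ = (x * y⁻¹) * (y * z⁻¹) := by group
  rw [e]; exact mul_mem h1 h2

theorem q_symm {x y : Y} (h1 : x * y⁻¹ ∈ S.Q) : y * x⁻¹ ∈ S.Q := by
  have e : y * x⁻¹ = (x * y⁻¹)⁻¹ := by group
  rw [e]; exact inv_mem h1

theorem q_conj {s x y : Y} (hs : s ∈ S.PL) (h : x * y⁻¹ ∈ S.Q) : (s * x * s⁻¹) * (s * y * s⁻¹)⁻¹ ∈ S.Q := by
  have e : (s * x * s⁻¹) * (s * y * s⁻¹)⁻¹ = s * (x * y⁻¹) * s⁻¹ := by group
  rw [e]; exact Perf.Q_norm S hs h

theorem mX8' (q v : F) : S.e 4 q v ∈ J S.XZ 1 8 := mem_J (S.mX8 q v) (by norm_num) (by norm_num)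

end modQ

namespace NF

variable {S : Full σ Y} {f : Y → Y} (N : NF S f)

include N

theorem q_f (hF : ∃ c : Fˣ, c ≠ 1) {x y : Y} (hx : x ∈ S.PL) (hy : y ∈ S.PL) (h : x * y⁻¹ ∈ S.Q) :
    f x * (f y)⁻¹ ∈ S.Q := by
  rw [← N.inv hy, ← N.mul _ hx _ (inv_mem hy)]; exact N.memQ hF h

/-- **Step B** -/
theorem stepB (hF : ∃ c : Fˣ, c ≠ 1) (hne : ∃ x : F, σ x ≠ x) (hS : ∀ s ∈ S.Tk 4, f s ∈ S.Tk 4) :
    (∀ s ∈ S.Tk 4, f s = s) ∧ ∀ q v, f (S.e 4 q v) * (S.e 4 q v)⁻¹ ∈ S.Q := by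
  have m8 : ∀ q v, S.e 4 q v ∈ S.PL := fun q v => U_le_PL S (mX8' S q v)
  have hex : ∀ q v, ∃ x : F × F, f (S.e 4 q v) * (S.e 4 x.1 x.2)⁻¹ ∈ S.Q := by
    intro q v
    obtain ⟨y, hy, x, hx, e⟩ := S.zsys8.split_rr (a := 1) (b := 8) (by norm_num) (by norm_num)
      (N.memU _ (mX8' S q v))
    obtain ⟨p, u, rfl⟩ := S.X8 hx
    refine ⟨(p, u), ?_⟩
    rw [e, mul_inv_cancel_right]; exact hy
  choose φ hφ using hex
  -- the map
  set! a : F → F → F := fun q v => (φ q v).1 with ha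
  set! b : F → F → F := fun q v => (φ q v).2 with hb
  have hab : ∀ q v, f (S.e 4 q v) * (S.e 4 (a q v) (b q v))⁻¹ ∈ S.Q := hφ
  have hmul : ∀ q v q' v', a (q + q') (v + v' + q * σ q') = a q v + a q' v' ∧
      b (q + q') (v + v' + q * σ q') = b q v + b q' v' + a q v * σ (a q' v') := by
    intro q v q' v'
    have h1 := q_mul S (N.mem _ (m8 q v)) (hab q v) (hab q' v')
    rw [← N.mul _ (m8 q v) _ (m8 q' v'), S.e_mul, S.e_mul] at h1
    exact uniq8 S (q_trans S (q_symm S (hab _ _)) h1)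
  have heq : ∀ d d' : Fˣ, f (sT S d) = sT S d' → (∀ q v, a ((σ (d : F))⁻¹ * q) ((σ (d : F))⁻¹ * σ (σ (d : F))⁻¹ * v) =
      (σ (d' : F))⁻¹ * a q v) ∧ ∀ q v, b ((σ (d : F))⁻¹ * q) ((σ (d : F))⁻¹ * σ (σ (d : F))⁻¹ * v) =
      (σ (d' : F))⁻¹ * σ (σ (d' : F))⁻¹ * b q v := by
    intro d d' hd
    have key : ∀ q v, a ((σ (d : F))⁻¹ * q) ((σ (d : F))⁻¹ * σ (σ (d : F))⁻¹ * v) = (σ (d' : F))⁻¹ * a q v ∧
        b ((σ (d : F))⁻¹ * q) ((σ (d : F))⁻¹ * σ (σ (d : F))⁻¹ * v) =
          (σ (d' : F))⁻¹ * σ (σ (d' : F))⁻¹ * b q v := by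
      intro q v
      have h1 := q_conj S (sT_PL S d') (hab q v)
      rw [← hd, ← N.conj (sT_PL S d) (m8 q v), hd, sT_e4, sT_e4] at h1
      exact uniq8 S (q_trans S (q_symm S (hab _ _)) h1)
    exact ⟨fun q v => (key q v).1, fun q v => (key q v).2⟩
  have hsurj : ∀ x : Fˣ, ∃ d : Fˣ, (σ (d : F))⁻¹ = x := by
    intro x
    obtain ⟨y, hy⟩ := Finite.surjective_of_injective σ.injective ((x⁻¹ : Fˣ) : F)
    have hy0 : y ≠ 0 := by
      rintro rfl
      rw [map_zero] at hy
      exact (Units.ne_zero x⁻¹) hy.symm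
    refine ⟨Units.mk0 y hy0, ?_⟩
    rw [Units.val_mk0, hy, Units.val_inv_eq_inv_val, inv_inv]
  have he : ∀ χ : Fˣ, ∃ χ' : Fˣ, (∀ q v, a (χ * q) (χ * σ χ * v) = χ' * a q v) ∧
      ∀ q v, b (χ * q) (χ * σ χ * v) = χ' * σ χ' * b q v := by
    intro χ
    obtain ⟨d, hd⟩ := hsurj χ
    obtain ⟨d', hd'⟩ := mem_Tk4 S (hS _ (sT_mem S d))
    have h1 := heq d d' hd'
    rw [hd] at h1
    refine ⟨(Units.map (σ : F →* F) d')⁻¹, ?_⟩
    have e : (((Units.map (σ : F →* F) d')⁻¹ : Fˣ) : F) = (σ (d' : F))⁻¹ := Units.val_inv_eq_inv_val _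
    rw [e]
    exact h1
  have hn : ∃ q v, a q v ≠ 0 := by
    obtain ⟨y, hy, hfy⟩ := N.surjU (mX8' S 1 0)
    obtain ⟨y', hy', x, hx, rfl⟩ := S.zsys8.split_rr (a := 1) (b := 8) (by norm_num) (by norm_num) hy
    obtain ⟨q, v, rfl⟩ := S.X8 hx
    have hyQ : y' ∈ S.Q := hy'
    refine ⟨q, v, ?_⟩
    rw [N.mul _ (Q_le_PL S hyQ) _ (m8 q v)] at hfy
    have h1 : f (S.e 4 q v) * (S.e 4 1 0)⁻¹ ∈ S.Q := by
      rw [← hfy, mul_inv_rev, mul_inv_cancel_left]
      exact inv_mem (N.memQ hF hyQ)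
    have h2 := uniq8 S (q_trans S (q_symm S (hab q v)) h1)
    rw [h2.1]; exact one_ne_zero
  obtain ⟨k, hk⟩ := N.ord
  have hit : ∀ n : ℕ, ∀ q v, f^[n] (S.e 4 q v) *
      (S.e 4 ((fun x : F × F => (a x.1 x.2, b x.1 x.2))^[n] (q, v)).1
        ((fun x : F × F => (a x.1 x.2, b x.1 x.2))^[n] (q, v)).2)⁻¹ ∈ S.Q := by
    intro n
    induction n with
    | zero => intro q v; simp
    | succ n ih =>
      intro q v
      rw [Function.iterate_succ_apply', Function.iterate_succ_apply']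
      have h1 := N.q_f hF (N.it_mem (m8 q v) n) (m8 _ _) (ih q v)
      exact q_trans S h1 (hab _ _)
  have hp : ∀ q v, (fun x : F × F => (a x.1 x.2, b x.1 x.2))^[2 ^ k] (q, v) = (q, v) := by
    intro q v
    have h1 := hit (2 ^ k) q v
    rw [hk _ (m8 q v)] at h1
    obtain ⟨h2, h3⟩ := uniq8 S h1
    exact Prod.ext h2.symm h3.symm
  obtain ⟨hA, hB⟩ := suz S.sq S.two hne (fun q v q' v' => (hmul q v q' v').1) (fun q v q' v' => (hmul q v q' v').2)
    he hn hp
  refine ⟨fun s hs => ?_, fun q v => ?_⟩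
  · obtain ⟨d, rfl⟩ := mem_Tk4 S hs
    obtain ⟨d', hd'⟩ := mem_Tk4 S (hS _ hs)
    have h1 := (heq d d' hd').1 1 0
    rw [hA, hA, mul_one, mul_one] at h1
    have h2 : d = d' := Units.ext (σ.injective (inv_injective h1))
    rw [hd', h2]
  · have := hab q v
    rwa [hA, hB] at this

theorem memX4 (hF : ∃ c : Fˣ, c ≠ 1) (hS : ∀ s ∈ S.Tk 4, f s = s) {x : Y} (hx : x ∈ S.XZ 4) : f x ∈ S.XZ 4 := by
  obtain ⟨c, hc⟩ := hF
  have hs := sT_mem S c
  have hs1 : sT S c ≠ 1 := fun h => hc (sT_inj S (h.trans (sT_one S).symm))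
  have hxQ : x ∈ S.Q := mem_J hx (by norm_num) (by norm_num)
  refine S.fix_J (k := 4) hs hs1 (a := 1) (b := 7) (by norm_num) (by norm_num) (by norm_num)
    (N.memQ ⟨c, hc⟩ hxQ) ?_
  have h1 : sT S c * x * (sT S c)⁻¹ = x := by rw [S.Tk_comm hs hx, mul_inv_cancel_right]
  have h2 := N.conj (sT_PL S c) (Q_le_PL S hxQ)
  rw [h1, hS _ hs] at h2
  exact h2.symm

/-- **Step C** -/
theorem stepC (hF : ∃ c : Fˣ, c ≠ 1) (hS : ∀ s ∈ S.Tk 4, f s = s) : ∃ z, f S.n2 = S.n2 * S.e 2 0 z := by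
  obtain ⟨c, hc⟩ := id hF
  have hs := sT_mem S c
  have hs1 : sT S c ≠ 1 := fun h => hc (sT_inj S (h.trans (sT_one S).symm))
  have hsP := sT_PL S c
  have hn := S.n2_mem
  have hy : S.n2⁻¹ * f S.n2 ∈ S.PL := mul_mem (inv_mem hn) (N.mem _ hn)
  have hcomm : (S.n2⁻¹ * f S.n2) * sT S c = sT S c * (S.n2⁻¹ * f S.n2) := by
    have h1 := S.n2_Tk hs
    have h2 := N.conj hn hsP
    rw [h1, N.inv hsP, hS _ hs] at h2
    -- `s⁻¹ = f n2 s (f n2)⁻¹`
    have h3 : f S.n2 * sT S c = (sT S c)⁻¹ * f S.n2 := by rw [h2]; group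
    have h4 : S.n2⁻¹ * (sT S c)⁻¹ = sT S c * S.n2⁻¹ := by rw [← h1]; group
    rw [mul_assoc, h3, ← mul_assoc, h4, mul_assoc]
  obtain ⟨x, hx, t, ht, e⟩ := S.centralizer_Tk hy hs hs1 hcomm
  have e1 : f S.n2 = S.n2 * (x * t) := by rw [← e]; group
  have hxP : ∀ x ∈ S.XZ 4, x ∈ S.PL := fun x hx => mem_J hx (by norm_num) (by norm_num)
  obtain ⟨d, rfl⟩ := mem_Tk4 S ht
  have htP := sT_PL S d
  have hit : ∀ n : ℕ, ∃ x' ∈ S.XZ 4, f^[n] S.n2 = S.n2 * (x' * sT S d ^ n) := by
    intro n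
    induction n with
    | zero => exact ⟨1, one_mem _, by simp⟩
    | succ n ih =>
      obtain ⟨x', hx', h⟩ := ih
      have hfx := N.memX4 hF hS hx'
      refine ⟨x * f x', mul_mem hx hfx, ?_⟩
      rw [Function.iterate_succ_apply', h, N.mul _ hn _ (mul_mem (hxP _ hx') (pow_mem htP n)),
        N.mul _ (hxP _ hx') _ (pow_mem htP n), N.pow htP, hS _ ht, e1, pow_succ']
      have h5 := S.Tk_comm ht hfx
      calc S.n2 * (x * sT S d) * (f x' * sT S d ^ n) = S.n2 * (x * (sT S d * f x') * sT S d ^ n) := by group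
        _ = _ := by rw [h5]; group
  obtain ⟨k, hk⟩ := N.ord
  obtain ⟨x', hx', h⟩ := hit (2 ^ k)
  rw [hk _ hn] at h
  have h1 : x' * sT S d ^ (2 ^ k) = 1 := by
    have : S.n2 * 1 = S.n2 * (x' * sT S d ^ (2 ^ k)) := by rw [mul_one]; exact h
    exact (mul_left_cancel this).symm
  have h2 : sT S d ^ (2 ^ k) = 1 := by
    apply S.U_inf_T (pow_mem (S.Tk_le 4 ht) _)
    rw [eq_inv_of_mul_eq_one_right h1]
    exact inv_mem (mem_J hx' (by norm_num) (by norm_num))
  have h3 : d = 1 := (torus_two S h2).2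
  rw [h3, sT_one, mul_one] at e1
  -- `f n2` is an involution
  obtain ⟨p, u, rfl⟩ := S.X4 hx
  have h4 : S.n2 * S.e 2 p u = S.e 2 p u * S.n2 := by
    have : S.n2 * S.e 2 p u * S.n2⁻¹ = S.e 2 p u := S.n2_e 2 p u
    rw [mul_inv_eq_iff_eq_mul] at this
    exact this
  have h5 : f S.n2 * f S.n2 = 1 := by rw [← N.mul _ hn _ hn, S.n2_sq, N.one]
  rw [e1] at h5
  have h6 : S.e 2 p u * S.e 2 p u = 1 := by
    calc S.e 2 p u * S.e 2 p u = (S.n2 * S.n2) * (S.e 2 p u * S.e 2 p u) := by rw [S.n2_sq, one_mul]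
      _ = S.n2 * (S.n2 * S.e 2 p u) * S.e 2 p u := by group
      _ = S.n2 * (S.e 2 p u * S.n2) * S.e 2 p u := by rw [h4]
      _ = (S.n2 * S.e 2 p u) * (S.n2 * S.e 2 p u) := by group
      _ = 1 := h5
  rw [e_sq] at h6
  have h7 : p = 0 := by
    rcases mul_eq_zero.1 (S.e_eq_one h6).2 with h | h
    · exact h
    · exact (map_eq_zero σ).1 h
  exact ⟨u, by rw [e1, h7]⟩

end NF

end Cfsg.Agent.OddHalf.D7TwF4.NormF

end

-- merged: Cfsg.Agent.OddHalf.D7TwF4.NormC
section

/-!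
# D7, `K = ²F₄(q)`: the action on `E_4` and modulo `E_4` (helper467)

`N1` : the state after steps A - C. `N2` : `f` is the identity on `S_4`, on `E_4` and modulo `E_4`, and commutes with
the conjugation by `n2`. `N1.toN2`.
-/

set_option autoImplicit false
set_option maxHeartbeats 400000
set_option linter.unusedSectionVars false

namespace Cfsg.Agent.OddHalf.D7TwF4.NormF

open Cfsg.Agent.KFacts.TwF4 Cfsg.Agent.SplitTwo.ZS Cfsg.Agent.OddHalf.D7TwF4.NormE
open Cfsg.Agent.OddHalf.D7TwF4.NormSuz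
open Cfsg.Agent.KFacts.TwF4.Inv Cfsg.Agent.KFacts.TwF4.SylU Cfsg.Agent.KFacts.TwF4.Perf Cfsg.Agent.KFacts.TwF4.Arc

universe u w

variable {F : Type w} [Field F] {σ : F →+* F} {Y : Type u} [Group Y] [Finite F] [Finite Y]

/-- the state after steps A - C -/
structure N1 (S : Full σ Y) (f : Y → Y) : Prop extends NF S f where
  fixS : ∀ s ∈ S.Tk 4, f s = s
  fn2 : ∃ z, f S.n2 = S.n2 * S.e 2 0 z
  f8 : ∀ q v, f (S.e 4 q v) * (S.e 4 q v)⁻¹ ∈ S.Q

/-- the state after step D -/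
structure N2 (S : Full σ Y) (f : Y → Y) : Prop extends NF S f where
  fixS : ∀ s ∈ S.Tk 4, f s = s
  n2c : ∀ y ∈ S.PL, f (S.n2 * y * S.n2⁻¹) = S.n2 * f y * S.n2⁻¹
  fixE : ∀ w ∈ S.Q2, f w = w
  eps : ∀ x ∈ S.PL, ∃ w ∈ S.Q2, f x = x * w

section line

variable {S : Full σ Y} {f : Y → Y} (N : NF S f)

include N

theorem NF.line_one {X : F → Y} (hX : ∀ v, X v ∈ S.PL) (hinj : Function.Injective X) {c : F}
    (h : ∀ v, f (X v) = X (v * c)) : c = 1 := by
  obtain ⟨k, hk⟩ := N.ord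
  have hit : ∀ n : ℕ, ∀ v, f^[n] (X v) = X (v * c ^ n) := by
    intro n
    induction n with
    | zero => intro v; simp
    | succ n ih => intro v; rw [Function.iterate_succ_apply', ih, h, pow_succ, mul_assoc]
  have h1 := hit (2 ^ k) 1
  rw [hk _ (hX 1), one_mul] at h1
  exact pow_two_eq_one S.two k (hinj h1).symm

end line

section gen

variable (S : Full σ Y)

theorem z_inj (a : ZMod 8) : Function.Injective (S.e a 0) := fun _ _ h => (S.injE a _ _ _ _ h).2

include S in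
/-- a torus element moving both weights -/
theorem exists_unit (hF : ∃ c : Fˣ, c ≠ 1) : ∃ s : Fˣ, (s : F)⁻¹ ≠ 1 ∧ ((s : F) * σ s)⁻¹ ≠ 1 := by
  obtain ⟨c, hc⟩ := hF
  refine ⟨c, fun h => hc ?_, fun h => hc ?_⟩
  · rw [inv_eq_one] at h
    exact Units.ext h
  · rw [inv_eq_one] at h
    exact S.unit_eq_one (Units.ext h)

include S in
theorem exists_s1 (c : Fˣ) : ∃ s : Fˣ, ((s : F) * σ s)⁻¹ = c := by
  obtain ⟨q, hq⟩ := NormSuz.s1_surj S.two S.sq ((c⁻¹ : Fˣ) : F)
  have hq0 : q ≠ 0 := by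
    rintro rfl
    rw [zero_mul] at hq
    exact (Units.ne_zero c⁻¹) hq.symm
  refine ⟨Units.mk0 q hq0, ?_⟩
  rw [Units.val_mk0, hq, Units.val_inv_eq_inv_val, inv_inv]

theorem PL1 (t : F) : S.o 0 t ∈ S.PL := mem_J (S.mX1 t) (by norm_num) (by norm_num)
theorem PL2 (p u : F) : S.e 1 p u ∈ S.PL := mem_J (S.mX2 p u) (by norm_num) (by norm_num)
theorem PL3 (t : F) : S.o 1 t ∈ S.PL := mem_J (S.mX3 t) (by norm_num) (by norm_num)
theorem PL4 (p u : F) : S.e 2 p u ∈ S.PL := mem_J (S.mX4 p u) (by norm_num) (by norm_num)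
theorem PL5 (t : F) : S.o 2 t ∈ S.PL := mem_J (S.mX5 t) (by norm_num) (by norm_num)
theorem PL6 (p u : F) : S.e 3 p u ∈ S.PL := mem_J (S.mX6 p u) (by norm_num) (by norm_num)
theorem PL7 (t : F) : S.o 3 t ∈ S.PL := mem_J (S.mX7 t) (by norm_num) (by norm_num)
theorem PL8 (p u : F) : S.e 4 p u ∈ S.PL := mem_J (S.mX8 p u) (by norm_num) (by norm_num)
theorem mQ7 (t : F) : S.o 3 t ∈ S.Q := mem_J (S.mX7 t) (by norm_num) (by norm_num)

end gen

namespace N1

variable {S : Full σ Y} {f : Y → Y} (N : N1 S f)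

include N

theorem fixT (d : Fˣ) : f (sT S d) = sT S d := N.fixS _ (sT_mem S d)

/-- equivariance -/
theorem eqv (d : Fˣ) {y : Y} (hy : y ∈ S.PL) : f (sT S d * y * (sT S d)⁻¹) = sT S d * f y * (sT S d)⁻¹ := by
  rw [N.conj (sT_PL S d) hy, N.fixT]

theorem n2c {y : Y} (hy : y ∈ S.PL) : f (S.n2 * y * S.n2⁻¹) = S.n2 * f y * S.n2⁻¹ := by
  obtain ⟨z, hz⟩ := N.fn2
  rw [N.conj S.n2_mem hy, hz]
  have h := S.comm_PL (N.mem _ hy) (z := S.e 2 0 z) ⟨z, rfl⟩
  calc S.n2 * S.e 2 0 z * f y * (S.n2 * S.e 2 0 z)⁻¹ = S.n2 * (S.e 2 0 z * f y) * (S.e 2 0 z)⁻¹ * S.n2⁻¹ := by group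
    _ = _ := by rw [← h]; group

/-- `Z_4` -/
theorem exists_z (hF : ∃ c : Fˣ, c ≠ 1) (u : F) : ∃ v, f (S.e 2 0 u) = S.e 2 0 v := by
  obtain ⟨p, rfl⟩ := NormSuz.s1_surj S.two S.sq u
  obtain ⟨p', u', h⟩ := S.X4 (N.memX4 hF N.fixS (S.mX4 p 0))
  refine ⟨p' * σ p', ?_⟩
  rw [← e_sq S 2 p 0, N.mul _ (PL4 S p 0) _ (PL4 S p 0), ← h, e_sq]

/-- `X_6'` -/
theorem fix6 (hF : ∃ c : Fˣ, c ≠ 1) (v : F) : f (S.e 3 0 v) = S.e 3 0 v := by
  have hmem : ∀ v, f (S.e 3 0 v) ∈ S.Q2 := by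
    intro v
    have r : S.e 2 1 0 * S.o 3 v = S.o 3 v * S.e 2 1 0 * S.e 3 0 (1 * v) := S.e_o1 2 1 0 v
    have e1 : S.e 3 0 v = ((S.e 2 1 0)⁻¹ * (S.o 3 v)⁻¹ * S.e 2 1 0) * S.o 3 v := by
      rw [one_mul] at r
      calc S.e 3 0 v = (S.e 2 1 0)⁻¹ * (S.o 3 v)⁻¹ * (S.o 3 v * S.e 2 1 0 * S.e 3 0 v) := by group
        _ = _ := by rw [← r]; group
    have hx := N.memX4 hF N.fixS (S.mX4 1 0)
    have hg := N.mem _ (PL7 S v)
    rw [e1, N.mul _ (mul_mem (mul_mem (inv_mem (PL4 S 1 0)) (inv_mem (PL7 S v))) (PL4 S 1 0)) _ (PL7 S v),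
      N.conj' (PL4 S 1 0) (inv_mem (PL7 S v)), N.inv (PL7 S v)]
    have h1 := comm_Q1 S (inv_mem hg) (Subgroup.mem_sup_left hx)
    have h2 := Q2_conj' S (g := f (S.e 2 1 0)) (N.mem _ (PL4 S 1 0)) h1
    have e2 : (f (S.e 2 1 0))⁻¹ * ((f (S.o 3 v))⁻¹ * f (S.e 2 1 0) * (f (S.o 3 v))⁻¹⁻¹ * (f (S.e 2 1 0))⁻¹) *
        f (S.e 2 1 0) = (f (S.e 2 1 0))⁻¹ * (f (S.o 3 v))⁻¹ * f (S.e 2 1 0) * f (S.o 3 v) := by group
    rwa [e2] at h2
  have hform : ∀ v, ∃ z d, f (S.e 3 0 v) = EE S 0 0 z 0 d := by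
    intro v
    refine mem_of_comm8 S (hmem v) fun q v' => ?_
    have hc : S.e 3 0 v * S.e 4 q v' = S.e 4 q v' * S.e 3 0 v :=
      (S.comm_Z6 (k := 8) (by norm_num) (by norm_num) (S.mX8 q v') v).symm
    have hfc : f (S.e 3 0 v) * f (S.e 4 q v') = f (S.e 4 q v') * f (S.e 3 0 v) := by
      rw [← N.mul _ (PL6 S 0 v) _ (PL8 S q v'), hc, N.mul _ (PL8 S q v') _ (PL6 S 0 v)]
    have hy := N.f8 q v'
    set y := f (S.e 4 q v') * (S.e 4 q v')⁻¹ with hyd
    have e1 : f (S.e 4 q v') = y * S.e 4 q v' := by rw [hyd]; group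
    obtain ⟨z, hz⟩ := Q_Q2_comm S (inv_mem hy) (hmem v)
    refine ⟨z, ?_⟩
    have hz4 := z4_comm S (k := 8) (by norm_num) (by norm_num) (S.mX8 q v') z
    have hz5 : S.e 2 0 z * f (S.e 4 q v') = f (S.e 4 q v') * S.e 2 0 z :=
      (S.comm_PL (N.mem _ (PL8 S q v')) (z := S.e 2 0 z) ⟨z, rfl⟩).symm
    calc f (S.e 3 0 v) * S.e 4 q v' = (f (S.e 3 0 v) * y⁻¹) * f (S.e 4 q v') := by rw [e1]; group
      _ = y⁻¹ * f (S.e 3 0 v) * (S.e 2 0 z * f (S.e 4 q v')) := by rw [hz]; group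
      _ = y⁻¹ * (f (S.e 3 0 v) * f (S.e 4 q v')) * S.e 2 0 z := by rw [hz5]; group
      _ = (y⁻¹ * f (S.e 4 q v')) * f (S.e 3 0 v) * S.e 2 0 z := by rw [hfc]; group
      _ = _ := by rw [e1]; group
  choose ζ δ h using hform
  have hadd : ∀ x y, ζ (x + y) = ζ x + ζ y ∧ δ (x + y) = δ x + δ y := by
    intro x y
    have h1 := N.mul _ (PL6 S 0 x) _ (PL6 S 0 y)
    rw [ze, h, h, h, EE_mul] at h1
    obtain ⟨-, -, h2, -, h3⟩ := EE_inj S h1
    exact ⟨h2, h3⟩
  have heqv : ∀ (s : Fˣ) x, ζ (((s : F) * σ s)⁻¹ * x) = ζ x ∧ δ (((s : F) * σ s)⁻¹ * x) = ((s : F) * σ s)⁻¹ * δ x := by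
    intro s x
    have h1 := N.eqv s (PL6 S 0 x)
    rw [sT_e3, mul_zero, h, h, sT_EE] at h1
    obtain ⟨-, -, h2, -, h3⟩ := EE_inj S h1
    exact ⟨h2, h3⟩
  obtain ⟨s, -, hs⟩ := exists_unit S hF
  have hζ : ∀ x, ζ x = 0 := tt0 S.two (fun x y => (hadd x y).1) hs (fun x => (heqv s x).1)
  have hδ : ∀ x, δ x = x * δ 1 := scal (fun x y => (hadd x y).2) fun c x => by
    obtain ⟨s, hs⟩ := exists_s1 S c
    have := (heqv s x).2
    rwa [hs] at this
  have h' : ∀ v, f (S.e 3 0 v) = S.e 3 0 (v * δ 1) := by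
    intro v
    rw [h, hζ, hδ, ← EE_d]
  have h1 : δ 1 = 1 := N.line_one (fun v => PL6 S 0 v) (z_inj S 3) h'
  rw [h', h1, mul_one]

/-- `X_2'` -/
theorem fix2 (hF : ∃ c : Fˣ, c ≠ 1) (v : F) : f (S.e 1 0 v) = S.e 1 0 v := by
  have e : S.n2 * S.e 3 0 v * S.n2⁻¹ = S.e 1 0 v := S.n2_e 3 0 v
  rw [← e, N.n2c (PL6 S 0 v), N.fix6 hF]

/-- `X_5` -/
theorem fix5 (hF : ∃ c : Fˣ, c ≠ 1) (v : F) : f (S.o 2 v) = S.o 2 v := by
  have hform : ∀ v, ∃ z, f (S.o 2 v) = EE S 0 0 z v 0 := by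
    intro v
    obtain ⟨z', h1⟩ := EE_e4 S 1 0 0 0 0 0 v
    simp only [zero_mul, mul_zero, zero_add, add_zero, one_mul, map_zero] at h1
    have hy := N.f8 0 v
    set y := f (S.e 4 0 v) * (S.e 4 0 v)⁻¹ with hyd
    have e1 : f (S.e 4 0 v) = y * S.e 4 0 v := by rw [hyd]; group
    obtain ⟨z, hz⟩ := Q_Q2_comm S hy (EE_mem S 1 0 0 0 0)
    have hz4 := z4_comm S (k := 8) (by norm_num) (by norm_num) (S.mX8 0 v) z
    have hfix : f (EE S 1 0 0 0 0) = EE S 1 0 0 0 0 := by rw [← EE_a]; exact N.fix2 hF 1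
    have hP : ∀ a b z c d, EE S a b z c d ∈ S.PL := fun a b z c d => Q2_le_PL S (EE_mem S a b z c d)
    have h2 : f (EE S 1 0 0 0 0 * S.e 4 0 v) = f (S.e 4 0 v * EE S 1 0 z' v (σ v)) := by rw [h1]
    rw [N.mul _ (hP _ _ _ _ _) _ (PL8 S 0 v), N.mul _ (PL8 S 0 v) _ (hP _ _ _ _ _), hfix, e1] at h2
    have h3 : f (EE S 1 0 z' v (σ v)) = EE S 1 0 z' v (σ v) * S.e 2 0 z := by
      have h4 : y * S.e 4 0 v * f (EE S 1 0 z' v (σ v)) = y * S.e 4 0 v * (EE S 1 0 z' v (σ v) * S.e 2 0 z) := by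
        rw [← h2]
        calc EE S 1 0 0 0 0 * (y * S.e 4 0 v) = (EE S 1 0 0 0 0 * y) * S.e 4 0 v := by group
          _ = y * EE S 1 0 0 0 0 * (S.e 2 0 z * S.e 4 0 v) := by rw [hz]; group
          _ = y * (EE S 1 0 0 0 0 * S.e 4 0 v) * S.e 2 0 z := by rw [hz4]; group
          _ = _ := by rw [h1]; group
      exact mul_left_cancel h4
    have h5 : EE S 1 0 z' v (σ v) = EE S 1 0 0 0 0 * (EE S 0 0 z' 0 0 * (S.o 2 v * EE S 0 0 0 0 (σ v))) := by
      rw [EE_c]; simp only [EE_mul, add_zero, zero_add]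
    obtain ⟨z2, hz2⟩ := N.exists_z hF z'
    have hf3 : f (EE S 0 0 z' 0 0) = EE S 0 0 z2 0 0 := by rw [← EE_z, hz2, ← EE_z]
    have hf4 : f (EE S 0 0 0 0 (σ v)) = EE S 0 0 0 0 (σ v) := by rw [← EE_d]; exact N.fix6 hF _
    have h6 : f (EE S 1 0 z' v (σ v)) = EE S 1 0 0 0 0 * (EE S 0 0 z2 0 0 * (f (S.o 2 v) * EE S 0 0 0 0 (σ v))) := by
      rw [h5, N.mul _ (hP _ _ _ _ _) _ (mul_mem (hP _ _ _ _ _) (mul_mem (PL5 S v) (hP _ _ _ _ _))),
        N.mul _ (hP _ _ _ _ _) _ (mul_mem (PL5 S v) (hP _ _ _ _ _)), N.mul _ (PL5 S v) _ (hP _ _ _ _ _), hfix, hf3, hf4]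
    rw [h6, EE_z, EE_mul] at h3
    have h7 : f (S.o 2 v) = (EE S 0 0 z2 0 0)⁻¹ * ((EE S 1 0 0 0 0)⁻¹ *
        EE S (1 + 0) (0 + 0) (z' + z) (v + 0) (σ v + 0)) * (EE S 0 0 0 0 (σ v))⁻¹ := by
      rw [← h3]; group
    refine ⟨z2 + (z' + z), ?_⟩
    rw [h7]
    simp only [EE_inv, EE_mul, add_zero, zero_add, NormE.char2 S]
  choose β h using hform
  have hadd : ∀ x y, β (x + y) = β x + β y := by
    intro x y
    have h1 := N.mul _ (PL5 S x) _ (PL5 S y)
    rw [S.o_add, h, h, h, EE_mul] at h1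
    exact (EE_inj S h1).2.2.1
  have heqv : ∀ (s : Fˣ) x, β ((s : F)⁻¹ * x) = β x := by
    intro s x
    have h1 := N.eqv s (PL5 S x)
    rw [sT_o2, h, h, sT_EE] at h1
    exact (EE_inj S h1).2.2.1
  obtain ⟨s, hs, -⟩ := exists_unit S hF
  rw [h, tt0 S.two hadd hs (heqv s), ← EE_c]

/-- `X_3` -/
theorem fix3 (hF : ∃ c : Fˣ, c ≠ 1) (v : F) : f (S.o 1 v) = S.o 1 v := by
  have e : S.n2 * S.o 2 v * S.n2⁻¹ = S.o 1 v := S.n2_o 2 v
  rw [← e, N.n2c (PL5 S v), N.fix5 hF]

/-- `Z_4` -/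
theorem fix4 (hF : ∃ c : Fˣ, c ≠ 1) (v : F) : f (S.e 2 0 v) = S.e 2 0 v := by
  obtain ⟨t, p, r, s, hact⟩ := exists_act S (N.memQ hF (mQ7 S 1))
  have hP : ∀ a b z c d, EE S a b z c d ∈ S.PL := fun a b z c d => Q2_le_PL S (EE_mem S a b z c d)
  have h1 : ∀ u, f (S.e 2 0 u) = S.e 2 0 (u * s) := by
    intro u
    have h2 := act_o3 S 1 u 0 0 0 0
    have h3 := hact u 0 0 0 0
    have h4 : f (EE S u 0 0 0 0 * S.o 3 1) = f (S.o 3 1 * EE S u 0 (0 + 0 * 0 + 0 * 0 + 0 * 0 + 1 * u) 0 0) := by rw [h2]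
    have hfix : f (EE S u 0 0 0 0) = EE S u 0 0 0 0 := by rw [← EE_a]; exact N.fix2 hF u
    rw [N.mul _ (hP _ _ _ _ _) _ (PL7 S 1), N.mul _ (PL7 S 1) _ (hP _ _ _ _ _), hfix, h3] at h4
    have h5 := mul_left_cancel h4
    have h6 : EE S u 0 (0 + 0 * 0 + 0 * 0 + 0 * 0 + 1 * u) 0 0 = EE S u 0 0 0 0 * S.e 2 0 u := by
      rw [EE_z, EE_mul]; congr 1 <;> ring
    rw [h6, N.mul _ (hP _ _ _ _ _) _ (PL4 S 0 u), hfix] at h5
    have h7 : EE S u 0 (0 + t * 0 + p * 0 + r * 0 + s * u) 0 0 = EE S u 0 0 0 0 * S.e 2 0 (u * s) := by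
      rw [EE_z, EE_mul]; congr 1 <;> ring
    rw [h7] at h5
    exact (mul_left_cancel h5).symm
  have hs : s = 1 := N.line_one (fun v => PL4 S 0 v) (z_inj S 2) h1
  rw [h1, hs, mul_one]

theorem fixE (hF : ∃ c : Fˣ, c ≠ 1) {w : Y} (hw : w ∈ S.Q2) : f w = w := by
  obtain ⟨a, b, z, c, d, rfl⟩ := mem_Q2 S hw
  have m1 := PL2 S 0 a
  have m2 := mul_mem m1 (PL3 S b)
  have m3 := mul_mem m2 (PL4 S 0 z)
  have m4 := mul_mem m3 (PL5 S c)
  unfold EE
  rw [N.mul _ m4 _ (PL6 S 0 d), N.mul _ m3 _ (PL5 S c), N.mul _ m2 _ (PL4 S 0 z), N.mul _ m1 _ (PL3 S b),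
    N.fix2 hF, N.fix3 hF, N.fix4 hF, N.fix5 hF, N.fix6 hF]

/-- modulo `Q1` -/
theorem mod1 (hF : ∃ c : Fˣ, c ≠ 1) {x : Y} (hx : x ∈ S.PL) : x⁻¹ * f x ∈ S.Q1 := by
  rw [← S.centralizer_Q2, Subgroup.mem_centralizer_iff]
  intro w hw
  have h1 := N.fixE hF (Q2_conj S hx hw)
  rw [N.conj hx (Q2_le_PL S hw), N.fixE hF hw] at h1
  calc w * (x⁻¹ * f x) = x⁻¹ * (x * w * x⁻¹) * f x := by group
    _ = x⁻¹ * (f x * w * (f x)⁻¹) * f x := by rw [h1]
    _ = _ := by group

/-- modulo `E_4` -/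
theorem mod2 (hF : ∃ c : Fˣ, c ≠ 1) {x : Y} (hx : x ∈ S.PL) : f x * x⁻¹ ∈ S.Q2 := by
  let K : Subgroup Y :=
    { carrier := {x | x ∈ S.PL ∧ f x * x⁻¹ ∈ S.Q2}
      one_mem' := ⟨one_mem _, by rw [N.one]; simp⟩
      mul_mem' := by
        rintro x y ⟨hx, h⟩ ⟨hy, h'⟩
        refine ⟨mul_mem hx hy, ?_⟩
        have e : f (x * y) * (x * y)⁻¹ = (f x * (f y * y⁻¹) * (f x)⁻¹) * (f x * x⁻¹) := by
          rw [N.mul _ hx _ hy]; group
        rw [e]
        exact mul_mem (Q2_conj S (N.mem _ hx) h') h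
      inv_mem' := by
        rintro x ⟨hx, h⟩
        refine ⟨inv_mem hx, ?_⟩
        have e : f x⁻¹ * x⁻¹⁻¹ = (f x)⁻¹ * (f x * x⁻¹)⁻¹ * f x := by
          rw [N.inv hx]; group
        rw [e]
        exact Q2_conj' S (N.mem _ hx) (inv_mem h) }
  have hK : S.PL ≤ K := by
    rw [← PL_perfect S hF, Subgroup.commutator_le]
    intro x hx y hy
    have hxy : x * y * x⁻¹ * y⁻¹ ∈ S.PL := mul_mem (mul_mem (mul_mem hx hy) (inv_mem hx)) (inv_mem hy)
    refine ⟨hxy, ?_⟩
    have ha := N.mod1 hF hx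
    have hb := N.mod1 hF hy
    set a := x⁻¹ * f x with had
    set b := y⁻¹ * f y with hbd
    have ex : f x = x * a := by rw [had]; group
    have ey : f y = y * b := by rw [hbd]; group
    have hyb : y * b ∈ S.PL := mul_mem hy (Q1_le_PL S hb)
    have c1 : a * (y * b) * a⁻¹ * (y * b)⁻¹ ∈ S.Q2 := by
      have := inv_mem (comm_Q1 S hyb ha)
      have e : (y * b * a * (y * b)⁻¹ * a⁻¹)⁻¹ = a * (y * b) * a⁻¹ * (y * b)⁻¹ := by group
      rwa [e] at this
    have c2 : b * x⁻¹ * b⁻¹ * x ∈ S.Q2 := by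
      have := inv_mem (comm_Q1 S (inv_mem hx) hb)
      have e : (x⁻¹ * b * x⁻¹⁻¹ * b⁻¹)⁻¹ = b * x⁻¹ * b⁻¹ * x := by group
      rwa [e] at this
    show f (x * y * x⁻¹ * y⁻¹) * (x * y * x⁻¹ * y⁻¹)⁻¹ ∈ S.Q2
    have e : f (x * y * x⁻¹ * y⁻¹) * (x * y * x⁻¹ * y⁻¹)⁻¹ =
        (x * (a * (y * b) * a⁻¹ * (y * b)⁻¹) * x⁻¹) * ((x * y) * (b * x⁻¹ * b⁻¹ * x) * (x * y)⁻¹) := by
      rw [N.mul _ (mul_mem (mul_mem hx hy) (inv_mem hx)) _ (inv_mem hy), N.conj hx hy, N.inv hy, ex, ey]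
      group
    rw [e]
    exact mul_mem (Q2_conj S hx c1) (Q2_conj S (mul_mem hx hy) c2)
  exact (hK hx).2

/-- **Step D** -/
theorem toN2 (hF : ∃ c : Fˣ, c ≠ 1) : N2 S f where
  toNF := N.toNF
  fixS := N.fixS
  n2c := fun y hy => N.n2c hy
  fixE := fun w hw => N.fixE hF hw
  eps := fun x hx => ⟨x⁻¹ * (f x * x⁻¹) * x, Q2_conj' S hx (N.mod2 hF hx), by group⟩

end N1

end Cfsg.Agent.OddHalf.D7TwF4.NormF

end

-- merged: Cfsg.Agent.OddHalf.D7TwF4.NormD
section

/-!
# D7, `K = ²F₄(q)`: the action on `Q` and on `X_8`, `X_0` (helper467)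

`NR S f φ` : the final form. `NF.exists_NR`: every `f` is conjugate by an element of `U` to one of the final form.
-/

set_option autoImplicit false
set_option maxHeartbeats 400000
set_option linter.unusedSectionVars false

namespace Cfsg.Agent.OddHalf.D7TwF4.NormF

open Cfsg.Agent.KFacts.TwF4 Cfsg.Agent.SplitTwo.ZS Cfsg.Agent.OddHalf.D7TwF4.NormE
open Cfsg.Agent.OddHalf.D7TwF4.NormSuz
open Cfsg.Agent.KFacts.TwF4.Inv Cfsg.Agent.KFacts.TwF4.SylU Cfsg.Agent.KFacts.TwF4.Perf Cfsg.Agent.KFacts.TwF4.Arc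

universe u w

variable {F : Type w} [Field F] {σ : F →+* F} {Y : Type u} [Group Y] [Finite F] [Finite Y]

/-- `N2` and `f = 1` on `X_7` -/
structure N3 (S : Full σ Y) (f : Y → Y) : Prop extends N2 S f where
  fix7 : ∀ s, f (S.o 3 s) = S.o 3 s

/-- the final form -/
structure NR (S : Full σ Y) (f : Y → Y) (φ : F → F) : Prop extends N3 S f where
  fix1 : ∀ s, f (S.o 0 s) = S.o 0 s
  fix2 : ∀ p u, f (S.e 1 p u) = S.e 1 p u
  fix3 : ∀ s, f (S.o 1 s) = S.o 1 s
  fix5 : ∀ s, f (S.o 2 s) = S.o 2 s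
  fix6 : ∀ p u, f (S.e 3 p u) = S.e 3 p u
  f4 : ∀ p u, f (S.e 2 p u) = S.e 2 p (u + φ p)
  f8 : ∀ q v, f (S.e 4 q v) = S.e 4 q v * S.o 2 (φ q) * S.e 3 0 (φ v)
  f0 : ∀ q v, f (S.e 0 q v) = S.e 0 q v * S.o 1 (φ q) * S.e 1 0 (φ v)
  add : ∀ x y, φ (x + y) = φ x + φ y
  phi : ∀ p q, φ (σ p * q) = p * φ q

namespace N2

variable {S : Full σ Y} {f : Y → Y} (N : N2 S f)

include N

theorem eqv (d : Fˣ) {y : Y} (hy : y ∈ S.PL) : f (sT S d * y * (sT S d)⁻¹) = sT S d * f y * (sT S d)⁻¹ := by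
  rw [N.conj (sT_PL S d) hy, N.fixS _ (sT_mem S d)]

/-- `X_7` -/
theorem form7 (hF : ∃ c : Fˣ, c ≠ 1) : ∃ g, ∀ s, f (S.o 3 s) = S.o 3 s * S.e 3 0 (g * s) := by
  have hform : ∀ s, ∃ z d, f (S.o 3 s) = S.o 3 s * EE S 0 0 z 0 d := by
    intro s
    obtain ⟨w, hw, e⟩ := N.eps _ (PL7 S s)
    obtain ⟨z, d, rfl⟩ := mem_of_comm8 S hw fun q v => by
      obtain ⟨w', hw', e'⟩ := N.eps _ (PL8 S q v)
      obtain ⟨z, hz⟩ := Q_Q2_comm S (mQ7 S s) hw'
      refine ⟨z, ?_⟩
      have hc : S.o 3 s * S.e 4 q v = S.e 4 q v * S.o 3 s := S.o_e1 3 s q v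
      have h1 : f (S.o 3 s) * f (S.e 4 q v) = f (S.e 4 q v) * f (S.o 3 s) := by
        rw [← N.mul _ (PL7 S s) _ (PL8 S q v), hc, N.mul _ (PL8 S q v) _ (PL7 S s)]
      rw [e, e'] at h1
      have hzw : S.e 2 0 z * w = w * S.e 2 0 z := Q2_comm S (S.q2_3 z) hw
      have hzw' : S.e 2 0 z * w' = w' * S.e 2 0 z := Q2_comm S (S.q2_3 z) hw'
      have hww : w' * w = w * w' := Q2_comm S hw' hw
      have h2 : S.o 3 s * (w * S.e 4 q v * w') = S.o 3 s * (S.e 4 q v * w * S.e 2 0 z * w') := by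
        calc S.o 3 s * (w * S.e 4 q v * w') = S.o 3 s * w * (S.e 4 q v * w') := by group
          _ = S.e 4 q v * (w' * S.o 3 s) * w := by rw [h1]; group
          _ = (S.e 4 q v * S.o 3 s) * w' * (S.e 2 0 z * w) := by rw [hz]; group
          _ = (S.o 3 s * S.e 4 q v) * (w' * w) * S.e 2 0 z := by rw [hzw, hc]; group
          _ = S.o 3 s * S.e 4 q v * w * (w' * S.e 2 0 z) := by rw [hww]; group
          _ = _ := by rw [← hzw']; group
      exact mul_right_cancel (mul_left_cancel h2)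
    exact ⟨z, d, e⟩
  choose ζ δ h using hform
  have hadd : ∀ x y, ζ (x + y) = ζ x + ζ y ∧ δ (x + y) = δ x + δ y := by
    intro x y
    have h1 := N.mul _ (PL7 S x) _ (PL7 S y)
    have h2 := act_o3 S y 0 0 (ζ x) 0 (δ x)
    rw [S.o_add, h, h, h] at h1
    have h3 : S.o 3 x * EE S 0 0 (ζ x) 0 (δ x) * (S.o 3 y * EE S 0 0 (ζ y) 0 (δ y)) =
        S.o 3 (x + y) * EE S 0 0 (ζ x + ζ y) 0 (δ x + δ y) := by
      calc S.o 3 x * EE S 0 0 (ζ x) 0 (δ x) * (S.o 3 y * EE S 0 0 (ζ y) 0 (δ y)) =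
          S.o 3 x * (EE S 0 0 (ζ x) 0 (δ x) * S.o 3 y) * EE S 0 0 (ζ y) 0 (δ y) := by group
        _ = (S.o 3 x * S.o 3 y) * (EE S 0 0 (ζ x + 0 * δ x + 0 * 0 + 0 * 0 + y * 0) 0 (δ x) *
            EE S 0 0 (ζ y) 0 (δ y)) := by rw [h2]; group
        _ = _ := by
          rw [S.o_add, EE_mul]
          congr 2 <;> ring
    rw [h3] at h1
    obtain ⟨-, -, h4, -, h5⟩ := EE_inj S (mul_left_cancel h1)
    exact ⟨h4, h5⟩
  have heqv : ∀ (s : Fˣ) x, ζ (((s : F) * σ s)⁻¹ * x) = ζ x ∧ δ (((s : F) * σ s)⁻¹ * x) = ((s : F) * σ s)⁻¹ * δ x := by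
    intro s x
    have h1 := N.eqv s (PL7 S x)
    have h2 : sT S s * (S.o 3 x * EE S 0 0 (ζ x) 0 (δ x)) * (sT S s)⁻¹ =
        (sT S s * S.o 3 x * (sT S s)⁻¹) * (sT S s * EE S 0 0 (ζ x) 0 (δ x) * (sT S s)⁻¹) := by group
    rw [sT_o3, h, h, h2, sT_o3, sT_EE] at h1
    obtain ⟨-, -, h3, -, h4⟩ := EE_inj S (mul_left_cancel h1)
    exact ⟨h3, h4⟩
  obtain ⟨s, -, hs⟩ := exists_unit S hF
  have hζ : ∀ x, ζ x = 0 := tt0 S.two (fun x y => (hadd x y).1) hs (fun x => (heqv s x).1)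
  have hδ : ∀ x, δ x = x * δ 1 := scal (fun x y => (hadd x y).2) fun c x => by
    obtain ⟨s, hs⟩ := exists_s1 S c
    have := (heqv s x).2
    rwa [hs] at this
  refine ⟨δ 1, fun s => ?_⟩
  rw [h, hζ, hδ, ← EE_d, mul_comm]

/-- normalisation on `X_7` -/
theorem exists_N3 (hF : ∃ c : Fˣ, c ≠ 1) : ∃ g, N3 S (fun x => S.e 2 g 0 * f x * (S.e 2 g 0)⁻¹) := by
  obtain ⟨g, hg⟩ := N.form7 hF
  have hw : S.e 2 g 0 ∈ S.Q1 := Subgroup.mem_sup_left (S.mX4 g 0)
  refine ⟨g, ?_⟩
  exact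
    { N.conjU (w := S.e 2 g 0) (mem_J (S.mX4 g 0) (by norm_num) (by norm_num)) with
      fixS := fun s hs => by
        rw [N.fixS s hs, ← S.Tk_comm hs (S.mX4 g 0), mul_inv_cancel_right]
      n2c := fun y hy => by
        have e : S.n2 * S.e 2 g 0 = S.e 2 g 0 * S.n2 := by
          have : S.n2 * S.e 2 g 0 * S.n2⁻¹ = S.e 2 g 0 := S.n2_e 2 g 0
          rw [mul_inv_eq_iff_eq_mul] at this
          exact this
        show S.e 2 g 0 * f (S.n2 * y * S.n2⁻¹) * (S.e 2 g 0)⁻¹ = _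
        rw [N.n2c y hy]
        calc S.e 2 g 0 * (S.n2 * f y * S.n2⁻¹) * (S.e 2 g 0)⁻¹ =
            (S.e 2 g 0 * S.n2) * f y * (S.e 2 g 0 * S.n2)⁻¹ := by group
          _ = _ := by rw [← e]; group
      fixE := fun w' hw' => by
        show S.e 2 g 0 * f w' * (S.e 2 g 0)⁻¹ = _
        rw [N.fixE _ hw', S.Q1_comm hw hw', mul_inv_cancel_right]
      eps := fun x hx => by
        obtain ⟨w', hw', e⟩ := N.eps x hx
        refine ⟨(x⁻¹ * S.e 2 g 0 * x⁻¹⁻¹ * (S.e 2 g 0)⁻¹) * (S.e 2 g 0 * w' * (S.e 2 g 0)⁻¹),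
          mul_mem (comm_Q1 S (inv_mem hx) hw) (Q2_conj S (Q1_le_PL S hw) hw'), ?_⟩
        show S.e 2 g 0 * f x * (S.e 2 g 0)⁻¹ = _
        rw [e]; group
      fix7 := fun s => by
        show S.e 2 g 0 * f (S.o 3 s) * (S.e 2 g 0)⁻¹ = _
        have r : S.e 2 g 0 * S.o 3 s = S.o 3 s * S.e 2 g 0 * S.e 3 0 (g * s) := S.e_o1 2 g 0 s
        rw [hg, ← mul_assoc, r, mul_assoc (S.o 3 s * S.e 2 g 0), ze, NormE.char2 S, S.e_zero]; group }

end N2

theorem exists_ne_sigma {S : Full σ Y} (hF : ∃ c : Fˣ, c ≠ 1) : ∃ x : F, σ x ≠ x := by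
  obtain ⟨c, hc⟩ := hF
  exact ⟨c, fun h => hc (s2 S (Units.ext h))⟩

namespace N3

variable {S : Full σ Y} {f : Y → Y} (N : N3 S f)

include N

theorem fix1 (s : F) : f (S.o 0 s) = S.o 0 s := by
  have e : S.n2 * S.o 3 s * S.n2⁻¹ = S.o 0 s := S.n2_o 3 s
  rw [← e, N.n2c _ (PL7 S s), N.fix7]

/-- the elements of `Q` fixed modulo `Z_4` -/
def K2 : Subgroup Y where
  carrier := {x | x ∈ S.Q ∧ ∃ z, f x = x * S.e 2 0 z}
  one_mem' := ⟨one_mem _, 0, by rw [N.one, S.e_zero, mul_one]⟩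
  mul_mem' := by
    rintro x y ⟨hx, z, h⟩ ⟨hy, z', h'⟩
    refine ⟨mul_mem hx hy, z + z', ?_⟩
    have hc : y * S.e 2 0 z = S.e 2 0 z * y := S.comm_PL (Q_le_PL S hy) ⟨z, rfl⟩
    rw [N.mul _ (Q_le_PL S hx) _ (Q_le_PL S hy), h, h', ← ze]
    calc x * S.e 2 0 z * (y * S.e 2 0 z') = x * (S.e 2 0 z * y) * S.e 2 0 z' := by group
      _ = _ := by rw [← hc]; group
  inv_mem' := by
    rintro x ⟨hx, z, h⟩
    refine ⟨inv_mem hx, z, ?_⟩
    have hc : x⁻¹ * S.e 2 0 z = S.e 2 0 z * x⁻¹ := S.comm_PL (inv_mem (Q_le_PL S hx)) ⟨z, rfl⟩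
    rw [N.inv (Q_le_PL S hx), h, mul_inv_rev, zi, hc]

theorem K2_of_fix {x : Y} (hx : x ∈ S.Q) (h : f x = x) : x ∈ N.K2 := ⟨hx, 0, by rw [h, S.e_zero, mul_one]⟩

theorem K2_E {x : Y} (hx : x ∈ S.Q2) : x ∈ N.K2 := N.K2_of_fix (Q2_le_Q S hx) (N.fixE x hx)

/-- `K2` is normalised by `PL` -/
theorem K2_conj {g x : Y} (hg : g ∈ S.PL) (hx : x ∈ N.K2) : g * x * g⁻¹ ∈ N.K2 := by
  obtain ⟨hxQ, z, h⟩ := hx
  obtain ⟨w, hw, e⟩ := N.eps g hg
  obtain ⟨z', hz'⟩ := Q_Q2_comm S hxQ hw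
  refine ⟨Perf.Q_norm S hg hxQ, z' + z, ?_⟩
  have hc : ∀ z, w⁻¹ * S.e 2 0 z = S.e 2 0 z * w⁻¹ := fun z => Q2_comm S (inv_mem hw) (S.q2_3 z)
  have hc' : g⁻¹ * S.e 2 0 (z' + z) = S.e 2 0 (z' + z) * g⁻¹ := S.comm_PL (inv_mem hg) ⟨z' + z, rfl⟩
  rw [N.conj hg (Q_le_PL S hxQ), h, e]
  calc g * w * (x * S.e 2 0 z) * (g * w)⁻¹ = g * (w * x) * S.e 2 0 z * w⁻¹ * g⁻¹ := by group
    _ = g * x * w * (S.e 2 0 z' * S.e 2 0 z) * w⁻¹ * g⁻¹ := by rw [hz']; group
    _ = g * x * w * (S.e 2 0 (z' + z) * w⁻¹) * g⁻¹ := by rw [ze]; group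
    _ = g * x * (S.e 2 0 (z' + z) * g⁻¹) := by rw [← hc]; group
    _ = _ := by rw [← hc']; group

theorem K2_conj' {g x : Y} (hg : g ∈ S.PL) (hx : x ∈ N.K2) : g⁻¹ * x * g ∈ N.K2 := by
  have := N.K2_conj (inv_mem hg) hx
  rwa [inv_inv] at this

theorem mK1 (t : F) : S.o 0 t ∈ N.K2 := N.K2_of_fix (mem_J (S.mX1 t) (by norm_num) (by norm_num)) (N.fix1 t)
theorem mK7 (t : F) : S.o 3 t ∈ N.K2 := N.K2_of_fix (mQ7 S t) (N.fix7 t)

theorem K2_pair (t v : F) : S.e 2 (σ t * v) 0 * S.e 3 (t * v) 0 ∈ N.K2 := by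
  have r := S.o_e4 0 t 0 v
  rw [show ((0 : ZMod 8) + 4) = 4 from rfl, show ((0 : ZMod 8) + 1) = 1 from rfl,
    show ((0 : ZMod 8) + 2) = 2 from rfl, show ((0 : ZMod 8) + 3) = 3 from rfl] at r
  simp only [mul_zero, zero_mul, map_zero, zero_add, add_zero] at r
  have h1 := N.K2_conj' (PL8 S 0 v) (N.mK1 t)
  rw [mul_assoc, r] at h1
  have h2 := mul_mem (inv_mem (mul_mem (mul_mem (N.mK1 t) (N.K2_E (S.q2_1 (t * σ t * v)))) (N.K2_E (S.q2_2 (t * σ t * σ v)))))
    h1
  have h3 := mul_mem h2 (inv_mem (N.mK7 (t * σ v)))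
  have hc : S.o 2 (t * σ t * v * v) * S.e 3 (t * v) 0 = S.e 3 (t * v) 0 * S.o 2 (t * σ t * v * v) := S.o_e1 2 _ _ _
  have hc2 := S.comm_PL (PL6 S (t * v) 0) (z := S.e 2 0 (t * t * σ t * v * σ v)) ⟨_, rfl⟩
  have e : (S.o 0 t * S.e 1 0 (t * σ t * v) * S.o 1 (t * σ t * σ v))⁻¹ *
      ((S.e 4 0 v)⁻¹ * (S.e 4 0 v * S.o 0 t * S.e 1 0 (t * σ t * v) * S.o 1 (t * σ t * σ v) *
        S.e 2 (σ t * v) (t * t * σ t * v * σ v) * S.o 2 (t * σ t * v * v) * S.e 3 (t * v) 0 * S.o 3 (t * σ v))) *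
      (S.o 3 (t * σ v))⁻¹ = S.e 2 (σ t * v) 0 * S.e 3 (t * v) 0 *
        (S.e 2 0 (t * t * σ t * v * σ v) * S.o 2 (t * σ t * v * v)) := by
    rw [e_split S 2 (σ t * v)]
    calc _ = S.e 2 (σ t * v) 0 * S.e 2 0 (t * t * σ t * v * σ v) * (S.o 2 (t * σ t * v * v) * S.e 3 (t * v) 0) := by group
      _ = S.e 2 (σ t * v) 0 * (S.e 2 0 (t * t * σ t * v * σ v) * S.e 3 (t * v) 0) * S.o 2 (t * σ t * v * v) := by
        rw [hc]; group
      _ = _ := by rw [← hc2]; group
  rw [e] at h3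
  have h4 := mul_mem h3 (inv_mem (N.K2_E (mul_mem (S.q2_3 (t * t * σ t * v * σ v)) (S.q2_4 (t * σ t * v * v)))))
  rwa [mul_inv_cancel_right] at h4

theorem mK4 (hF : ∃ c : Fˣ, c ≠ 1) (p : F) : S.e 2 p 0 ∈ N.K2 := by
  obtain ⟨τ, hτ⟩ := exists_ne_sigma (S := S) hF
  have hτ0 : τ ≠ 0 := by rintro rfl; exact hτ (map_zero σ)
  have hc : σ τ * τ⁻¹ ≠ 1 := by
    intro h
    apply hτ
    field_simp at h
    exact h
  have hc1 : 1 + σ τ * τ⁻¹ ≠ 0 := by
    intro h
    apply hc
    have h2 := NormE.char2 S (1 : F)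
    linear_combination h - h2
  set! v := p * (1 + σ τ * τ⁻¹)⁻¹ with hv
  have h1 := N.K2_pair 1 v
  have h2 := N.K2_pair τ (τ⁻¹ * v)
  rw [map_one, one_mul] at h1
  rw [mul_inv_cancel_left₀ hτ0, ← mul_assoc] at h2
  have h3 := mul_mem h1 (inv_mem h2)
  have e : S.e 2 v 0 * S.e 3 v 0 * (S.e 2 (σ τ * τ⁻¹ * v) 0 * S.e 3 v 0)⁻¹ =
      S.e 2 p 0 * S.e 2 0 (σ τ * τ⁻¹ * v * σ (σ τ * τ⁻¹ * v) + v * σ (σ τ * τ⁻¹ * v)) := by
    rw [mul_inv_rev, ← mul_assoc, mul_inv_cancel_right, e_inv S 2, S.e_mul, ← e_split]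
    congr 1
    · have : v + σ τ * τ⁻¹ * v = (1 + σ τ * τ⁻¹) * v := by ring
      rw [this, hv, mul_comm p, mul_inv_cancel_left₀ hc1]
    · ring
  rw [e] at h3
  have h4 := mul_mem h3 (inv_mem (N.K2_E (S.q2_3 (σ τ * τ⁻¹ * v * σ (σ τ * τ⁻¹ * v) + v * σ (σ τ * τ⁻¹ * v)))))
  rwa [mul_inv_cancel_right] at h4

theorem mK6 (hF : ∃ c : Fˣ, c ≠ 1) (p : F) : S.e 3 p 0 ∈ N.K2 := by
  have h1 := N.K2_pair 1 p
  rw [map_one, one_mul] at h1
  have h2 := mul_mem (inv_mem (N.mK4 hF p)) h1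
  rwa [inv_mul_cancel_left] at h2

/-- `X_6` is fixed -/
theorem fix6 (hF : ∃ c : Fˣ, c ≠ 1) (p u : F) : f (S.e 3 p u) = S.e 3 p u := by
  have hform : ∀ p, ∃ z, f (S.e 3 p 0) = S.e 3 p 0 * S.e 2 0 z := fun p => (N.mK6 hF p).2
  choose ζ h using hform
  have hadd : ∀ x y, ζ (x + y) = ζ x + ζ y := by
    intro x y
    have h1 := N.mul _ (PL6 S x 0) _ (PL6 S y 0)
    have e1 : S.e 3 x 0 * S.e 3 y 0 = S.e 3 (x + y) 0 * S.e 3 0 (x * σ y) := by
      rw [S.e_mul, ← e_split]; congr 1; ring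
    rw [e1, N.mul _ (PL6 S _ 0) _ (PL6 S 0 _), N.fixE _ (S.q2_5 _), h, h, h] at h1
    have c1 := S.comm_PL (PL6 S y 0) (z := S.e 2 0 (ζ x)) ⟨_, rfl⟩
    have c2 := S.comm_PL (PL6 S 0 (x * σ y)) (z := S.e 2 0 (ζ (x + y))) ⟨_, rfl⟩
    have h2 : S.e 3 (x + y) 0 * S.e 3 0 (x * σ y) * S.e 2 0 (ζ (x + y)) =
        S.e 3 (x + y) 0 * S.e 3 0 (x * σ y) * S.e 2 0 (ζ x + ζ y) := by
      calc S.e 3 (x + y) 0 * S.e 3 0 (x * σ y) * S.e 2 0 (ζ (x + y)) =
          S.e 3 (x + y) 0 * (S.e 3 0 (x * σ y) * S.e 2 0 (ζ (x + y))) := by group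
        _ = S.e 3 (x + y) 0 * S.e 2 0 (ζ (x + y)) * S.e 3 0 (x * σ y) := by rw [c2]; group
        _ = S.e 3 x 0 * (S.e 2 0 (ζ x) * S.e 3 y 0) * S.e 2 0 (ζ y) := by rw [h1]; group
        _ = (S.e 3 x 0 * S.e 3 y 0) * (S.e 2 0 (ζ x) * S.e 2 0 (ζ y)) := by rw [← c1]; group
        _ = _ := by rw [e1, ze]
    exact (S.injE 2 _ _ _ _ (mul_left_cancel h2)).2
  have heqv : ∀ (s : Fˣ) x, ζ ((s : F)⁻¹ * x) = ζ x := by
    intro s x
    have h1 := N.eqv s (PL6 S x 0)
    have h2 : sT S s * (S.e 3 x 0 * S.e 2 0 (ζ x)) * (sT S s)⁻¹ =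
        (sT S s * S.e 3 x 0 * (sT S s)⁻¹) * (sT S s * S.e 2 0 (ζ x) * (sT S s)⁻¹) := by group
    rw [sT_e3, mul_zero, h, h, h2, sT_e3, mul_zero, sT_e2] at h1
    exact (S.injE 2 _ _ _ _ (mul_left_cancel h1)).2
  obtain ⟨s, hs, -⟩ := exists_unit S hF
  rw [e_split, N.mul _ (PL6 S p 0) _ (PL6 S 0 u), N.fixE _ (S.q2_5 u), h, tt0 S.two hadd hs (heqv s), S.e_zero,
    mul_one]

theorem fix2 (hF : ∃ c : Fˣ, c ≠ 1) (p u : F) : f (S.e 1 p u) = S.e 1 p u := by
  have e : S.n2 * S.e 3 p u * S.n2⁻¹ = S.e 1 p u := S.n2_e 3 p u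
  rw [← e, N.n2c _ (PL6 S p u), N.fix6 hF]

theorem exists_phi (hF : ∃ c : Fˣ, c ≠ 1) : ∃ φ : F → F, (∀ x y, φ (x + y) = φ x + φ y) ∧
    ∀ p u, f (S.e 2 p u) = S.e 2 p (u + φ p) := by
  have hform : ∀ p, ∃ z, f (S.e 2 p 0) = S.e 2 p 0 * S.e 2 0 z := fun p => (N.mK4 hF p).2
  choose φ h using hform
  have h4 : ∀ p u, f (S.e 2 p u) = S.e 2 p (u + φ p) := by
    intro p u
    rw [e_split, N.mul _ (PL4 S p 0) _ (PL4 S 0 u), N.fixE _ (S.q2_3 u), h, mul_assoc, ze, ← e_split, add_comm]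
  refine ⟨φ, fun x y => ?_, h4⟩
  have h1 := N.mul _ (PL4 S x 0) _ (PL4 S y 0)
  rw [S.e_mul, h4, h4, h4, S.e_mul] at h1
  have h2 := (S.injE 2 _ _ _ _ h1).2
  linear_combination h2

section eight

variable {φ : F → F} (hadd : ∀ x y, φ (x + y) = φ x + φ y) (h4 : ∀ p u, f (S.e 2 p u) = S.e 2 p (u + φ p))

include hadd h4

theorem move4 (p u : F) : f (S.e 2 p u) = S.e 2 p u * S.e 2 0 (φ p) := by
  rw [h4, e_split S 2 p u, e_split S 2 p (u + φ p), mul_assoc, ze]

/-- `X_8`: the first form -/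
theorem form8 (hF : ∃ c : Fˣ, c ≠ 1) (q v : F) : ∃ z c d, f (S.e 4 q v) = S.e 4 q v * EE S 0 0 z c d ∧
    (∀ p, p * c = φ (σ p * q)) ∧ d = q * c + φ (q * σ q + v) := by
  obtain ⟨w, hw, e⟩ := N.eps _ (PL8 S q v)
  obtain ⟨a, b, z, c, d, rfl⟩ := mem_Q2 S hw
  have hEP : ∀ a b z c d, EE S a b z c d ∈ S.PL := fun a b z c d => Q2_le_PL S (EE_mem S a b z c d)
  -- the general principle
  have key : ∀ (x R : Y) (y t p r s : F), x ∈ S.PL → R ∈ S.PL → x * S.e 4 q v = S.e 4 q v * R → f x = x →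
      f R = R * S.e 2 0 y → Act S R t p r s → t * d + p * c + r * b + s * a = y := by
    intro x R y t p r s hx hR h1 hfx hfR hact
    have h2 := congrArg f h1
    rw [N.mul _ hx _ (PL8 S q v), N.mul _ (PL8 S q v) _ hR, hfx, hfR, e] at h2
    have h3 : S.e 4 q v * (R * EE S a b z c d) =
        S.e 4 q v * (R * (EE S a b (z + t * d + p * c + r * b + s * a) c d * S.e 2 0 y)) := by
      calc S.e 4 q v * (R * EE S a b z c d) = (S.e 4 q v * R) * EE S a b z c d := by group
        _ = x * (S.e 4 q v * EE S a b z c d) := by rw [← h1]; group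
        _ = S.e 4 q v * (EE S a b z c d * R) * S.e 2 0 y := by rw [h2]; group
        _ = _ := by rw [hact]; group
    have h5 := mul_left_cancel (mul_left_cancel h3)
    rw [EE_z, EE_mul] at h5
    obtain ⟨-, -, h6, -, -⟩ := EE_inj S h5
    have c0 := NormE.char2 S y
    linear_combination -c0 - h6
  -- `a = 0`
  have ha : a = 0 := by
    have h1 := key (S.o 3 1) (S.o 3 1) 0 0 0 0 1 (PL7 S 1) (PL7 S 1) (S.o_e1 3 1 q v) (N.fix7 1)
      (by rw [N.fix7, S.e_zero, mul_one]) (act_o3 S 1)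
    linear_combination h1
  have hb : b = 0 := by
    have h1 := key (S.e 3 1 0) (S.e 3 1 0 * S.o 3 (1 * q)) 0 (0 + 0) (0 + 0) (1 + 0) (0 + 1 * q) (PL6 S 1 0)
      (mul_mem (PL6 S 1 0) (PL7 S _))
      (by
        have : S.e 3 1 0 * S.e 4 q v = S.e 4 q v * S.e 3 1 0 * S.o 3 (1 * q) := S.e_e1 3 1 0 q v
        rw [this, mul_assoc]) (N.fix6 hF 1 0)
      (by rw [N.mul _ (PL6 S 1 0) _ (PL7 S _), N.fix6 hF, N.fix7, S.e_zero, mul_one])
      ((act_e3 S 1 0).mul (act_o3 S (1 * q)))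
    rw [ha] at h1
    linear_combination h1
  have hz : ∀ (g : Y) (y : F), g ∈ S.PL → g * S.e 2 0 y = S.e 2 0 y * g := fun g y hg => S.comm_PL hg ⟨y, rfl⟩
  refine ⟨z, c, d, by rw [e, ha, hb], fun p => ?_, ?_⟩
  · -- `X_2`
    have r := S.e_e3 1 p 0 q v
    rw [show ((1 : ZMod 8) + 3) = 4 from rfl, show ((1 : ZMod 8) + 1) = 2 from rfl,
      show ((1 : ZMod 8) + 2) = 3 from rfl] at r
    generalize p * σ p * q + 0 * q = B1 at r
    generalize p * 0 * v + p * p * σ p * v + σ 0 * q * σ q + σ 0 * v = B2 at r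
    generalize 0 * v = B3 at r
    generalize p * σ p * q * q * σ q + p * σ p * σ v + 0 * q * v + 0 * q * q * σ q + 0 * σ v = B4 at r
    generalize p * q * σ q + p * v = B5 at r
    have m1 := PL2 S p 0
    have m2 := mul_mem m1 (PL3 S B1)
    have m3 := mul_mem m2 (PL4 S (σ p * q) B2)
    have m4 := mul_mem m3 (PL5 S B3)
    have m5 := mul_mem m4 (PL6 S (p * σ q) B4)
    have m6 := mul_mem m5 (PL7 S B5)
    have hfR : f (S.e 1 p 0 * S.o 1 B1 * S.e 2 (σ p * q) B2 * S.o 2 B3 * S.e 3 (p * σ q) B4 * S.o 3 B5) =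
        S.e 1 p 0 * S.o 1 B1 * S.e 2 (σ p * q) B2 * S.o 2 B3 * S.e 3 (p * σ q) B4 * S.o 3 B5 *
          S.e 2 0 (φ (σ p * q)) := by
      rw [N.mul _ m5 _ (PL7 S B5), N.mul _ m4 _ (PL6 S _ B4), N.mul _ m3 _ (PL5 S B3), N.mul _ m2 _ (PL4 S _ B2),
        N.mul _ m1 _ (PL3 S B1), N.fix2 hF, N.fixE _ (S.q2_2 B1), N.fixE _ (S.q2_4 B3), N.fix6 hF, N.fix7,
        N.move4 hadd h4]
      calc S.e 1 p 0 * S.o 1 B1 * (S.e 2 (σ p * q) B2 * S.e 2 0 (φ (σ p * q))) * S.o 2 B3 * S.e 3 (p * σ q) B4 *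
            S.o 3 B5 = S.e 1 p 0 * S.o 1 B1 * S.e 2 (σ p * q) B2 *
              (S.e 2 0 (φ (σ p * q)) * (S.o 2 B3 * S.e 3 (p * σ q) B4 * S.o 3 B5)) := by group
        _ = _ := by rw [← hz _ _ (mul_mem (mul_mem (PL5 S B3) (PL6 S _ B4)) (PL7 S B5))]; group
    have h1 := key (S.e 1 p 0) _ (φ (σ p * q)) _ _ _ _ m1 m6 (by rw [r]; group) (N.fix2 hF p 0) hfR
      ((((((act_e1 S p 0).mul (act_o1 S B1)).mul (act_e2 S (σ p * q) B2)).mul (act_o2 S B3)).mul
        (act_e3 S (p * σ q) B4)).mul (act_o3 S B5))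
    rw [ha, hb] at h1
    linear_combination h1
  · -- `X_1`
    have r := S.o_e4 0 1 q v
    rw [show ((0 : ZMod 8) + 4) = 4 from rfl, show ((0 : ZMod 8) + 1) = 1 from rfl,
      show ((0 : ZMod 8) + 2) = 2 from rfl, show ((0 : ZMod 8) + 3) = 3 from rfl] at r
    simp only [map_one, one_mul] at r
    generalize q * σ q + v = A2 at r ⊢
    generalize q * v + q * q * σ q + σ v = A7 at r
    generalize q * v * v + q * q * σ q * v + v * σ v = A5 at r
    generalize σ q * σ v + q * q * σ q * σ q + v * v = A4 at r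
    generalize q * v * v + q * σ q * σ v + q * q * q * σ q * σ q = A6 at r
    have m1 := PL1 S 1
    have m2 := mul_mem m1 (PL2 S q A2)
    have m3 := mul_mem m2 (PL3 S A7)
    have m4 := mul_mem m3 (PL4 S A2 A5)
    have m5 := mul_mem m4 (PL5 S A4)
    have m6 := mul_mem m5 (PL6 S v A6)
    have m7 := mul_mem m6 (PL7 S A7)
    have hfR : f (S.o 0 1 * S.e 1 q A2 * S.o 1 A7 * S.e 2 A2 A5 * S.o 2 A4 * S.e 3 v A6 * S.o 3 A7) =
        S.o 0 1 * S.e 1 q A2 * S.o 1 A7 * S.e 2 A2 A5 * S.o 2 A4 * S.e 3 v A6 * S.o 3 A7 * S.e 2 0 (φ A2) := by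
      rw [N.mul _ m6 _ (PL7 S A7), N.mul _ m5 _ (PL6 S _ _), N.mul _ m4 _ (PL5 S _), N.mul _ m3 _ (PL4 S _ _),
        N.mul _ m2 _ (PL3 S _), N.mul _ m1 _ (PL2 S _ _), N.fix1, N.fix2 hF, N.fixE _ (S.q2_2 A7),
        N.fixE _ (S.q2_4 A4), N.fix6 hF, N.fix7, N.move4 hadd h4]
      calc S.o 0 1 * S.e 1 q A2 * S.o 1 A7 * (S.e 2 A2 A5 * S.e 2 0 (φ A2)) * S.o 2 A4 * S.e 3 v A6 * S.o 3 A7 =
            S.o 0 1 * S.e 1 q A2 * S.o 1 A7 * S.e 2 A2 A5 *
              (S.e 2 0 (φ A2) * (S.o 2 A4 * S.e 3 v A6 * S.o 3 A7)) := by group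
        _ = _ := by rw [← hz _ _ (mul_mem (mul_mem (PL5 S A4) (PL6 S _ _)) (PL7 S A7))]; group
    have h1 := key (S.o 0 1) _ (φ A2) _ _ _ _ m1 m7 (by rw [r]; group) (N.fix1 1) hfR
      (((((((act_o0 S 1).mul (act_e1 S q A2)).mul (act_o1 S A7)).mul (act_e2 S A2 A5)).mul (act_o2 S A4)).mul
        (act_e3 S v A6)).mul (act_o3 S A7))
    rw [ha, hb] at h1
    have c0 := NormE.char2 S (q * c)
    linear_combination h1 - c0

theorem form8' (hF : ∃ c : Fˣ, c ≠ 1) : (∀ p q, φ (σ p * q) = p * φ q) ∧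
    ∀ q v, f (S.e 4 q v) = S.e 4 q v * EE S 0 0 0 (φ q) (φ v) := by
  have hphi : ∀ p q, φ (σ p * q) = p * φ q := by
    intro p q
    obtain ⟨z, c, d, -, h2, -⟩ := N.form8 hadd h4 hF q 0
    have h3 := h2 1
    rw [map_one, one_mul, one_mul] at h3
    rw [← h2 p, h3]
  have hform : ∀ q v, ∃ z, f (S.e 4 q v) = S.e 4 q v * EE S 0 0 z (φ q) (φ v) := by
    intro q v
    obtain ⟨z, c, d, h1, h2, h3⟩ := N.form8 hadd h4 hF q v
    refine ⟨z, ?_⟩
    have hc : c = φ q := by
      have := h2 1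
      rwa [map_one, one_mul, one_mul] at this
    have hd : d = φ v := by
      have e1 := hphi q q
      rw [h3, hc, hadd, mul_comm q (σ q), e1]
      linear_combination NormE.char2 S (q * φ q)
    rw [h1, hc, hd]
  choose ζ h using hform
  have hζ : ∀ q v q' v', ζ (q + q') (v + v' + q * σ q') = ζ q v + ζ q' v' := by
    intro q v q' v'
    have h1 := N.mul _ (PL8 S q v) _ (PL8 S q' v')
    rw [S.e_mul, h, h, h] at h1
    have h2 : S.e 4 q v * EE S 0 0 (ζ q v) (φ q) (φ v) * (S.e 4 q' v' * EE S 0 0 (ζ q' v') (φ q') (φ v')) =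
        S.e 4 (q + q') (v + v' + q * σ q') *
          EE S (0 + 0) (0 + 0) (ζ q v + ζ q' v') (φ q + φ q') (φ v + φ q * q' + φ v') := by
      calc S.e 4 q v * EE S 0 0 (ζ q v) (φ q) (φ v) * (S.e 4 q' v' * EE S 0 0 (ζ q' v') (φ q') (φ v')) =
          S.e 4 q v * (EE S 0 0 (ζ q v) (φ q) (φ v) * S.e 4 q' v') * EE S 0 0 (ζ q' v') (φ q') (φ v') := by group
        _ = (S.e 4 q v * S.e 4 q' v') * (EE S 0 0 (ζ q v) (φ q) (φ v + φ q * q') *
            EE S 0 0 (ζ q' v') (φ q') (φ v')) := by rw [EE_e4']; group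
        _ = _ := by rw [S.e_mul, EE_mul]
    rw [h2] at h1
    exact (EE_inj S (mul_left_cancel h1)).2.2.1
  have heqv : ∀ (s : Fˣ) q v, ζ ((σ (s : F))⁻¹ * q) ((σ (s : F))⁻¹ * σ (σ (s : F))⁻¹ * v) = ζ q v := by
    intro s q v
    have h1 := N.eqv s (PL8 S q v)
    have h2 : sT S s * (S.e 4 q v * EE S 0 0 (ζ q v) (φ q) (φ v)) * (sT S s)⁻¹ =
        (sT S s * S.e 4 q v * (sT S s)⁻¹) * (sT S s * EE S 0 0 (ζ q v) (φ q) (φ v) * (sT S s)⁻¹) := by group
    rw [sT_e4, h, h, h2, sT_e4, sT_EE] at h1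
    exact (EE_inj S (mul_left_cancel h1)).2.2.1
  obtain ⟨c, hc⟩ := id hF
  have hσc : Units.map (σ : F →* F) c ≠ 1 := Perf.σ_ne hc
  have hw1 : (σ (c : F))⁻¹ ≠ 1 := by
    intro h0
    rw [inv_eq_one] at h0
    exact hσc (Units.ext h0)
  have hw2 : (σ (c : F))⁻¹ * σ (σ (c : F))⁻¹ ≠ 1 := by
    intro h0
    rw [map_inv₀, ← mul_inv, inv_eq_one] at h0
    exact hσc (S.unit_eq_one (Units.ext h0))
  have z1 : ∀ v, ζ 0 v = 0 := by
    refine tt0 S.two (g := fun v => ζ 0 v) (fun x y => ?_) hw2 (fun v => ?_)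
    · have := hζ 0 x 0 y
      rwa [add_zero, zero_mul, add_zero] at this
    · have := heqv c 0 v
      rwa [mul_zero] at this
  have z2 : ∀ q v, ζ q v = ζ q 0 := by
    intro q v
    have := hζ q 0 0 v
    rwa [add_zero, zero_add, map_zero, mul_zero, add_zero, z1, add_zero] at this
  have z3 : ∀ q, ζ q 0 = 0 := by
    refine tt0 S.two (g := fun q => ζ q 0) (fun x y => ?_) hw1 (fun q => ?_)
    · have := hζ x 0 y 0
      rwa [z2 (x + y)] at this
    · have := heqv c q 0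
      rwa [mul_zero] at this
  exact ⟨hphi, fun q v => by rw [h, z2, z3]⟩

end eight

/-- **the final form** -/
theorem toNR (hF : ∃ c : Fˣ, c ≠ 1) : ∃ φ, NR S f φ := by
  obtain ⟨φ, hadd, h4⟩ := N.exists_phi hF
  obtain ⟨hphi, h8⟩ := N.form8' hadd h4 hF
  refine ⟨φ, ?_⟩
  exact
    { N with
      fix1 := N.fix1
      fix2 := N.fix2 hF
      fix3 := fun s => N.fixE _ (S.q2_2 s)
      fix5 := fun s => N.fixE _ (S.q2_4 s)
      fix6 := N.fix6 hF
      f4 := h4
      f8 := fun q v => by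
        rw [h8, mul_assoc, EE_c, EE_d, EE_mul]
        simp only [add_zero, zero_add]
      f0 := fun q v => by
        have e : S.n2 * S.e 4 q v * S.n2⁻¹ = S.e 0 q v := S.n2_e 4 q v
        have e1 : S.n2 * (S.e 4 q v * EE S 0 0 0 (φ q) (φ v)) * S.n2⁻¹ =
            (S.n2 * S.e 4 q v * S.n2⁻¹) * (S.n2 * EE S 0 0 0 (φ q) (φ v) * S.n2⁻¹) := by group
        rw [← e, N.n2c _ (PL8 S q v), h8, e1, n2_EE, mul_assoc (S.n2 * S.e 4 q v * S.n2⁻¹) (S.o 1 (φ q)), EE_b, EE_a,
          EE_mul]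
        simp only [add_zero, zero_add]
      add := hadd
      phi := hphi }

end N3

namespace NF

variable {S : Full σ Y} {f : Y → Y} (N : NF S f)

include N

/-- **The action of a 2-element on `C_Y(Z_4)`.** -/
theorem exists_NR (hF : ∃ c : Fˣ, c ≠ 1) : ∃ w ∈ J S.XZ 1 8, ∃ φ, NR S (fun x => w * f x * w⁻¹) φ := by
  obtain ⟨w1, hw1, s, hs, hs1, hfs⟩ := N.stepA hF
  have M := N.conjU hw1
  have hS : ∀ s' ∈ S.Tk 4, w1 * f s' * w1⁻¹ ∈ S.Tk 4 := fun s' hs' => M.stepA2 hs hs1 hfs hs'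
  obtain ⟨h1, h2⟩ := M.stepB hF (exists_ne_sigma (S := S) hF) hS
  have M1 : N1 S (fun x => w1 * f x * w1⁻¹) :=
    { M with
      fixS := h1
      fn2 := M.stepC hF h1
      f8 := h2 }
  obtain ⟨g, M3⟩ := (M1.toN2 hF).exists_N3 hF
  obtain ⟨φ, M4⟩ := M3.toNR hF
  refine ⟨S.e 2 g 0 * w1, mul_mem (mem_J (S.mX4 g 0) (by norm_num) (by norm_num)) hw1, φ, ?_⟩
  have e : (fun x => S.e 2 g 0 * w1 * f x * (S.e 2 g 0 * w1)⁻¹) =
      fun x => S.e 2 g 0 * (w1 * f x * w1⁻¹) * (S.e 2 g 0)⁻¹ := by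
    funext x; group
  rw [e]; exact M4

end NF

end Cfsg.Agent.OddHalf.D7TwF4.NormF

end

-- merged: Cfsg.Agent.OddHalf.D7TwF4.Norm
section

/-!
# D7, `K = ²F₄(q)`: the elements `n` of sections 1.1 - 1.3 (helper467)

`exists_NEl : Pos S i t → ∀ u, ∃ φ n, NEl S.toSys i t 2 φ u n`.
-/

set_option autoImplicit false
set_option maxHeartbeats 400000
set_option linter.unusedSectionVars false

namespace Cfsg.Agent.OddHalf.D7TwF4.Norm

open Cfsg.Agent.KFacts.TwF4 Cfsg.Agent.SplitTwo.ZS Cfsg.Agent.OddHalf.D7TwF4.Defs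
open Cfsg.Agent.OddHalf.D7TwF4.NormE Cfsg.Agent.OddHalf.D7TwF4.NormF

universe u v w

variable {F : Type w} [Field F] {σ : F →+* F} {Y : Type u} [Group Y] {G : Type v} [Group G]
  {S : Full σ Y} {i : Y →* G} {t : G} (P : Pos S i t)

/-- the normaliser -/
def NN (S : Full σ Y) (i : Y →* G) (t : G) : Subgroup G where
  carrier := {g | g ∈ Subgroup.normalizer (TT S i t : Set G) ∧ (∃ z ∈ S.Zc 2, g * t * g⁻¹ = t * i z) ∧
    (∀ z ∈ S.Zc 2, ∃ z' ∈ S.Zc 2, g * i z * g⁻¹ = i z') ∧ ∀ z ∈ S.Zc 2, ∃ z' ∈ S.Zc 2, g⁻¹ * i z * g = i z'}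
  one_mem' := ⟨one_mem _, ⟨1, one_mem _, by simp⟩, fun z hz => ⟨z, hz, by simp⟩, fun z hz => ⟨z, hz, by simp⟩⟩
  mul_mem' := by
    rintro g h ⟨h1, ⟨z, hz, h2⟩, h3, h4⟩ ⟨k1, ⟨w, hw, k2⟩, k3, k4⟩
    refine ⟨mul_mem h1 k1, ?_, fun z hz => ?_, fun z hz => ?_⟩
    · obtain ⟨w', hw', h5⟩ := h3 w hw
      refine ⟨z * w', mul_mem hz hw', ?_⟩
      calc g * h * t * (g * h)⁻¹ = g * (h * t * h⁻¹) * g⁻¹ := by group
        _ = (g * t * g⁻¹) * (g * i w * g⁻¹) := by rw [k2]; group
        _ = _ := by rw [h2, h5, map_mul, mul_assoc]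
    · obtain ⟨w', hw', h5⟩ := k3 z hz
      obtain ⟨w'', hw'', h6⟩ := h3 w' hw'
      refine ⟨w'', hw'', ?_⟩
      rw [← h6, ← h5]; group
    · obtain ⟨w', hw', h5⟩ := h4 z hz
      obtain ⟨w'', hw'', h6⟩ := k4 w' hw'
      refine ⟨w'', hw'', ?_⟩
      rw [← h6, ← h5]; group
  inv_mem' := by
    rintro g ⟨h1, ⟨z, hz, h2⟩, h3, h4⟩
    refine ⟨inv_mem h1, ?_, fun z hz => ?_, fun z hz => ?_⟩
    · obtain ⟨w', hw', h5⟩ := h4 z hz
      refine ⟨w'⁻¹, inv_mem hw', ?_⟩
      rw [map_inv, eq_mul_inv_iff_mul_eq, ← h5]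
      calc g⁻¹ * t * g⁻¹⁻¹ * (g⁻¹ * i z * g) = g⁻¹ * (t * i z) * g := by group
        _ = g⁻¹ * (g * t * g⁻¹) * g := by rw [h2]
        _ = t := by group
    · obtain ⟨w', hw', h5⟩ := h4 z hz
      exact ⟨w', hw', by rw [inv_inv]; exact h5⟩
    · obtain ⟨w', hw', h5⟩ := h3 z hz
      exact ⟨w', hw', by rw [inv_inv]; exact h5⟩

include P

theorem t_conj_i (y : Y) : t * i y * t⁻¹ = i y := by rw [P.ti, mul_inv_cancel_right]

/-- the elements of `T` -/
theorem mem_TT {x : G} : x ∈ TT S i t ↔ ∃ y ∈ UY S, x = i y ∨ x = t * i y := by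
  constructor
  · intro hx
    obtain ⟨a, ha, b, hb, rfl⟩ := mem_sup_of_norm (A := Subgroup.zpowers t) (B := (UY S).map i) (fun a ha b hb => by
      obtain ⟨n, rfl⟩ := Subgroup.mem_zpowers_iff.1 ha
      obtain ⟨y, hy, rfl⟩ := hb
      have hc : Commute t (i y) := P.ti y
      rw [(hc.zpow_left n).eq, mul_inv_cancel_right]
      exact ⟨y, hy, rfl⟩) hx
    obtain ⟨n, rfl⟩ := Subgroup.mem_zpowers_iff.1 ha
    obtain ⟨y, hy, rfl⟩ := hb
    refine ⟨y, hy, ?_⟩
    have ht2 : t ^ (2 : ℤ) = 1 := by rw [zpow_two]; exact P.tt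
    rcases Int.even_or_odd' n with ⟨m, h | h⟩
    · left; rw [h, zpow_mul, ht2, one_zpow, one_mul]
    · right; rw [h, zpow_add, zpow_mul, ht2, one_zpow, one_mul, zpow_one]
  · rintro ⟨y, hy, rfl | rfl⟩
    · exact Subgroup.mem_sup_right ⟨y, hy, rfl⟩
    · exact mul_mem (Subgroup.mem_sup_left (Subgroup.mem_zpowers t)) (Subgroup.mem_sup_right ⟨y, hy, rfl⟩)

theorem Z_ne : S.e 2 0 1 ≠ 1 := fun h => one_ne_zero (S.e_eq_one h).2

/-- the centraliser of `⟨t⟩ Z_4` -/
theorem cent_form {c : G} (hct : c * t = t * c) (hc : ∀ z ∈ S.Zc 2, c * i z = i z * c) :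
    ∃ y ∈ S.PL, c = i y ∨ c = t * i y := by
  have : Finite F := P.finF
  obtain ⟨y, hy⟩ := P.cZ c hct hc
  refine ⟨y, ?_, hy⟩
  rw [← S.centralizer_z (z := S.e 2 0 1) ⟨1, rfl⟩ (Z_ne P), Subgroup.mem_centralizer_singleton_iff]
  apply P.inj
  have h1 := hc (S.e 2 0 1) ⟨1, rfl⟩
  rw [map_mul, map_mul]
  rcases hy with rfl | rfl
  · exact h1
  · have h2 : t * (i y * i (S.e 2 0 1)) = t * (i (S.e 2 0 1) * i y) := by
      calc t * (i y * i (S.e 2 0 1)) = t * i y * i (S.e 2 0 1) := by group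
        _ = (i (S.e 2 0 1) * t) * i y := by rw [h1]; group
        _ = _ := by rw [← P.ti]; group
    exact mul_left_cancel h2

theorem mem_NN {g : G} : g ∈ NN S i t ↔ g ∈ Subgroup.normalizer (TT S i t : Set G) ∧
    (∃ z ∈ S.Zc 2, g * t * g⁻¹ = t * i z) ∧
    (∀ z ∈ S.Zc 2, ∃ z' ∈ S.Zc 2, g * i z * g⁻¹ = i z') ∧ ∀ z ∈ S.Zc 2, ∃ z' ∈ S.Zc 2, g⁻¹ * i z * g = i z' := Iff.rfl

theorem exists_NN : ∃ n ∈ NN S i t, n * t * n⁻¹ ≠ t := by
  obtain ⟨n, h1, h2, h3, h4, h5⟩ := P.fus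
  exact ⟨n, ⟨h1, h3, h4, h5⟩, h2⟩

/-- the torus lies in the normaliser -/
theorem torus_NN {h : Y} (hh : h ∈ S.T) : i h ∈ NN S i t := by
  have key : ∀ h ∈ S.T, ∀ x ∈ TT S i t, i h * x * (i h)⁻¹ ∈ TT S i t := by
    intro h hh x hx
    obtain ⟨y, hy, hxy⟩ := (mem_TT P).1 hx
    refine (mem_TT P).2 ⟨h * y * h⁻¹, S.T_conj_J hh hy, ?_⟩
    rcases hxy with rfl | rfl
    · left; rw [map_mul, map_mul, map_inv]
    · right
      rw [map_mul, map_mul, map_inv]
      calc i h * (t * i y) * (i h)⁻¹ = (i h * t) * i y * (i h)⁻¹ := by group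
        _ = _ := by rw [← P.ti]; group
  refine ⟨?_, ⟨1, one_mem _, by rw [← P.ti, mul_inv_cancel_right, map_one, mul_one]⟩, fun z hz => ?_, fun z hz => ?_⟩
  · rw [Subgroup.mem_normalizer_iff]
    intro x
    refine ⟨fun hx => key h hh x hx, fun hx => ?_⟩
    have := key h⁻¹ (inv_mem hh) _ hx
    have e : i h⁻¹ * (i h * x * (i h)⁻¹) * (i h⁻¹)⁻¹ = x := by rw [map_inv]; group
    rwa [e] at this
  · exact ⟨h * z * h⁻¹, S.T_conj_Zc hh hz, by rw [map_mul, map_mul, map_inv]⟩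
  · have := S.T_conj_Zc (inv_mem hh) hz
    rw [inv_inv] at this
    exact ⟨h⁻¹ * z * h, this, by rw [map_mul, map_mul, map_inv]⟩

/-- `N` is transitive on `t Z_4` -/
theorem trans {x : G} {u0 u : F} (hx : x⁻¹ * t * x = t * i (S.e 2 0 u0)) (hu0 : u0 ≠ 0) (hu : u ≠ 0) :
    ∃ h ∈ S.T, (i h * x * (i h)⁻¹)⁻¹ * t * (i h * x * (i h)⁻¹) = t * i (S.e 2 0 u) := by
  have : Finite F := P.finF
  obtain ⟨h, hh, e⟩ := S.T_trans hu0 hu
  refine ⟨h, hh, ?_⟩
  have h1 : (i h)⁻¹ * t * i h = t := by rw [mul_assoc, P.ti, inv_mul_cancel_left]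
  have h2 : i h * t * (i h)⁻¹ = t := by rw [← P.ti, mul_inv_cancel_right]
  calc (i h * x * (i h)⁻¹)⁻¹ * t * (i h * x * (i h)⁻¹) = i h * (x⁻¹ * ((i h)⁻¹ * t * i h) * x) * (i h)⁻¹ := by group
    _ = (i h * t * (i h)⁻¹) * (i h * i (S.e 2 0 u0) * (i h)⁻¹) := by rw [h1, hx]; group
    _ = _ := by rw [h2, ← map_inv, ← map_mul, ← map_mul, e]

theorem form_NN {n : G} (hn : n ∈ NN S i t) : ∃ u, n⁻¹ * t * n = t * i (S.e 2 0 u) := by
  obtain ⟨-, ⟨z, ⟨u, rfl⟩, h⟩, -, -⟩ := (mem_NN P).1 (inv_mem hn)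
  rw [inv_inv] at h
  exact ⟨u, h⟩

theorem index_eq : ((Subgroup.centralizer {t}).subgroupOf (NN S i t)).index = Nat.card F := by
  have hu : ∀ n : NN S i t, ∃ u, (n : G) * t * (n : G)⁻¹ = t * i (S.e 2 0 u) := by
    intro n
    obtain ⟨-, ⟨z, ⟨u, rfl⟩, h⟩, -, -⟩ := (mem_NN P).1 n.2
    exact ⟨u, h⟩
  choose f hf using hu
  have key : ∀ a b : NN S i t, a⁻¹ * b ∈ (Subgroup.centralizer {t}).subgroupOf (NN S i t) ↔ f a = f b := by
    intro a b
    rw [Subgroup.mem_subgroupOf, Subgroup.mem_centralizer_singleton_iff]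
    constructor
    · intro h
      have h1 : (a : G) * t * (a : G)⁻¹ = (b : G) * t * (b : G)⁻¹ := by
        have h2 : ((a : G)⁻¹ * b) * t = t * ((a : G)⁻¹ * b) := h
        calc (a : G) * t * (a : G)⁻¹ = a * (t * ((a : G)⁻¹ * b)) * (b : G)⁻¹ := by group
          _ = _ := by rw [← h2]; group
      rw [hf, hf] at h1
      exact (S.injE 2 _ _ _ _ (P.inj (mul_left_cancel h1))).2
    · intro h
      have h1 : (a : G) * t * (a : G)⁻¹ = (b : G) * t * (b : G)⁻¹ := by rw [hf, hf, h]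
      show ((a : G)⁻¹ * b) * t = t * ((a : G)⁻¹ * b)
      calc ((a : G)⁻¹ * b) * t = (a : G)⁻¹ * ((b : G) * t * (b : G)⁻¹) * b := by group
        _ = _ := by rw [← h1]; group
  rw [Subgroup.index]
  refine Nat.card_congr (Equiv.ofBijective (Quotient.lift f (fun a b hab => ?_)) ⟨?_, ?_⟩)
  · exact (key a b).1 (QuotientGroup.leftRel_apply.1 hab)
  · intro x y
    induction x using Quotient.inductionOn with | h a => ?_
    induction y using Quotient.inductionOn with | h b => ?_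
    intro hab
    exact Quotient.sound (QuotientGroup.leftRel_apply.2 ((key a b).2 hab))
  · intro u
    obtain ⟨n, hn, hnt⟩ := exists_NN P
    obtain ⟨u0, hu0⟩ := form_NN P (inv_mem hn)
    rw [inv_inv] at hu0
    have hu00 : u0 ≠ 0 := by
      rintro rfl
      rw [S.e_zero, map_one, mul_one] at hu0
      exact hnt hu0
    by_cases h0 : u = 0
    · refine ⟨Quotient.mk'' 1, ?_⟩
      show f 1 = u
      have h1 := hf 1
      rw [h0]
      have h2 : t * i (S.e 2 0 (f 1)) = t * 1 := by rw [← h1]; simp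
      exact (S.e_eq_one (P.inj ((mul_left_cancel h2).trans (map_one i).symm))).2
    · obtain ⟨h, hh, e⟩ := trans P (x := n⁻¹) (u0 := u0) (u := u) (by rw [inv_inv]; exact hu0) hu00 h0
      have hm : i h * n * (i h)⁻¹ ∈ NN S i t := mul_mem (mul_mem (torus_NN P hh) hn) (inv_mem (torus_NN P hh))
      refine ⟨Quotient.mk'' ⟨_, hm⟩, ?_⟩
      show f ⟨_, hm⟩ = u
      have h1 := hf ⟨_, hm⟩
      have h2 : t * i (S.e 2 0 (f ⟨_, hm⟩)) = t * i (S.e 2 0 u) := by
        rw [← h1, ← e]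
        show i h * n * (i h)⁻¹ * t * (i h * n * (i h)⁻¹)⁻¹ = _
        group
      exact (S.injE 2 _ _ _ _ (P.inj (mul_left_cancel h2))).2

/-- **1.2**: the 2-elements -/
theorem exists_two (u : F) : ∃ n ∈ NN S i t, (∃ k : ℕ, n ^ (2 ^ k) = 1) ∧ n⁻¹ * t * n = t * i (S.e 2 0 u) := by
  have : Finite F := P.finF
  have : Finite G := P.finG
  by_cases hu : u = 0
  · exact ⟨1, one_mem _, ⟨0, by simp⟩, by rw [hu, S.e_zero]; simp⟩
  have h2 : 2 ∣ ((Subgroup.centralizer {t}).subgroupOf (NN S i t)).index := by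
    rw [index_eq P]
    obtain ⟨m, hm, -⟩ := Cfsg.Agent.Octagon.FieldAut171.exists_rln σ S.sq
    rw [hm]
    exact dvd_pow_self 2 (by omega)
  have : Fact (Nat.Prime 2) := ⟨Nat.prime_two⟩
  obtain ⟨R⟩ : Nonempty (Sylow 2 (NN S i t)) := inferInstance
  obtain ⟨x, hxR, hxt⟩ : ∃ x ∈ R, ¬ ((x : G) * t = t * x) := by
    by_contra hcon
    push Not at hcon
    have hle : (R : Subgroup (NN S i t)) ≤ (Subgroup.centralizer {t}).subgroupOf (NN S i t) := by
      intro x hx
      rw [Subgroup.mem_subgroupOf, Subgroup.mem_centralizer_singleton_iff]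
      exact hcon x hx
    exact R.not_dvd_index (h2.trans (Subgroup.index_dvd_of_le hle))
  obtain ⟨k, hk⟩ := R.2 ⟨x, hxR⟩
  have hk' : (x : G) ^ (2 ^ k) = 1 := by
    have h1 := congrArg Subtype.val hk
    have h3 := congrArg Subtype.val h1
    simpa only [_root_.SubmonoidClass.mk_pow, _root_.SubmonoidClass.coe_pow, _root_.OneMemClass.coe_one] using h3
  obtain ⟨u0, hu0⟩ := form_NN P x.2
  have hu00 : u0 ≠ 0 := by
    rintro rfl
    rw [S.e_zero, map_one, mul_one] at hu0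
    apply hxt
    calc (x : G) * t = x * ((x : G)⁻¹ * t * x) := by rw [hu0]
      _ = _ := by group
  obtain ⟨h, hh, e⟩ := trans P hu0 hu00 hu
  refine ⟨i h * x * (i h)⁻¹, mul_mem (mul_mem (torus_NN P hh) x.2) (inv_mem (torus_NN P hh)), ⟨k, ?_⟩, e⟩
  rw [conj_pow, hk']; group

/-- the normaliser acts on `PL` -/
theorem act_PL (hF : ∃ c : Fˣ, c ≠ 1) {g : G} (hg : g ∈ NN S i t) {x : Y} (hx : x ∈ S.PL) :
    ∃ y ∈ S.PL, g * i x * g⁻¹ = i y := by
  have : Finite F := P.finF
  have : Finite G := P.finG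
  have : Finite Y := Finite.of_injective i P.inj
  obtain ⟨-, ⟨w, hw, e⟩, -, h2⟩ := (mem_NN P).1 hg
  obtain ⟨w1, hw1, e1⟩ := h2 w hw
  -- `g (i x) g⁻¹` centralises `t` and `Z_4`
  have hform : ∀ x ∈ S.PL, ∃ y ∈ S.PL, g * i x * g⁻¹ = i y ∨ g * i x * g⁻¹ = t * i y := by
    intro x hx
    have hZ : ∀ z ∈ S.Zc 2, (g * i x * g⁻¹) * i z = i z * (g * i x * g⁻¹) := by
      intro z hz
      obtain ⟨z', hz', e'⟩ := h2 z hz
      have h3 : i x * i z' = i z' * i x := by rw [← map_mul, S.comm_PL hx hz', map_mul]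
      calc (g * i x * g⁻¹) * i z = g * (i x * (g⁻¹ * i z * g)) * g⁻¹ := by group
        _ = g * ((g⁻¹ * i z * g) * i x) * g⁻¹ := by rw [e', h3]
        _ = _ := by group
    refine cent_form P ?_ hZ
    -- `t = g (t z⁻¹) g⁻¹`
    have e2 : t = g * (t * (i w1)⁻¹) * g⁻¹ := by
      rw [← e1]
      calc t = (g * t * g⁻¹) * (i w)⁻¹ := by rw [e]; group
        _ = _ := by group
    have h3 : i x * (t * (i w1)⁻¹) = (t * (i w1)⁻¹) * i x := by
      have h4 : i x * (i w1)⁻¹ = (i w1)⁻¹ * i x := by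
        rw [← map_inv, ← map_mul, S.comm_PL hx (inv_mem hw1), map_mul]
      calc i x * (t * (i w1)⁻¹) = (i x * t) * (i w1)⁻¹ := by group
        _ = t * (i x * (i w1)⁻¹) := by rw [← P.ti]; group
        _ = _ := by rw [h4]; group
    calc (g * i x * g⁻¹) * t = (g * i x * g⁻¹) * (g * (t * (i w1)⁻¹) * g⁻¹) := by rw [← e2]
      _ = g * (i x * (t * (i w1)⁻¹)) * g⁻¹ := by group
      _ = (g * (t * (i w1)⁻¹) * g⁻¹) * (g * i x * g⁻¹) := by rw [h3]; group
      _ = _ := by rw [← e2]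
  let K : Subgroup Y :=
    { carrier := {x | ∃ y ∈ S.PL, g * i x * g⁻¹ = i y}
      one_mem' := ⟨1, one_mem _, by simp⟩
      mul_mem' := by
        rintro x x' ⟨y, hy, h⟩ ⟨y', hy', h'⟩
        refine ⟨y * y', mul_mem hy hy', ?_⟩
        rw [map_mul, map_mul, ← h, ← h']; group
      inv_mem' := by
        rintro x ⟨y, hy, h⟩
        refine ⟨y⁻¹, inv_mem hy, ?_⟩
        rw [map_inv, map_inv, ← h]; group }
  have hK : S.PL ≤ K := by
    rw [← Perf.PL_perfect S hF, Subgroup.commutator_le]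
    intro x hx y hy
    obtain ⟨x', hx', ex⟩ := hform x hx
    obtain ⟨y', hy', ey⟩ := hform y hy
    refine ⟨x' * y' * x'⁻¹ * y'⁻¹, mul_mem (mul_mem (mul_mem hx' hy') (inv_mem hx')) (inv_mem hy'), ?_⟩
    have e3 : g * i (x * y * x⁻¹ * y⁻¹) * g⁻¹ = (g * i x * g⁻¹) * (g * i y * g⁻¹) * (g * i x * g⁻¹)⁻¹ *
        (g * i y * g⁻¹)⁻¹ := by
      rw [map_mul, map_mul, map_mul, map_inv, map_inv]; group
    have ht : ∀ z : G, t * (t * z) = z := fun z => by rw [← mul_assoc, P.tt, one_mul]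
    have hti := P.ti
    have h1 : ∀ a b : G, (∃ y : Y, b = i y) → (t * a) * b * (t * a)⁻¹ * b⁻¹ = t * (a * b * a⁻¹ * b⁻¹) * t⁻¹ := by
      rintro a _ ⟨y, rfl⟩
      have h5 : (i y)⁻¹ * t = t * (i y)⁻¹ := by rw [← map_inv, ← P.ti]
      calc (t * a) * i y * (t * a)⁻¹ * (i y)⁻¹ = t * (a * i y * a⁻¹) * (t⁻¹ * (i y)⁻¹) := by group
        _ = t * (a * i y * a⁻¹) * ((i y * t)⁻¹) := by rw [mul_inv_rev]
        _ = t * (a * i y * a⁻¹) * ((t * i y)⁻¹) := by rw [P.ti]
        _ = _ := by group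
    have h2 : ∀ a b : G, (∃ y : Y, a = i y) → a * (t * b) * a⁻¹ * (t * b)⁻¹ = t * (a * b * a⁻¹ * b⁻¹) * t⁻¹ := by
      rintro _ b ⟨y, rfl⟩
      calc i y * (t * b) * (i y)⁻¹ * (t * b)⁻¹ = (i y * t) * b * (i y)⁻¹ * b⁻¹ * t⁻¹ := by group
        _ = (t * i y) * b * (i y)⁻¹ * b⁻¹ * t⁻¹ := by rw [P.ti]
        _ = _ := by group
    show g * i (x * y * x⁻¹ * y⁻¹) * g⁻¹ = _
    have hconj : ∀ z : Y, t * i z * t⁻¹ = i z := t_conj_i P
    have base : i x' * i y' * (i x')⁻¹ * (i y')⁻¹ = i (x' * y' * x'⁻¹ * y'⁻¹) := by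
      rw [map_mul, map_mul, map_mul, map_inv, map_inv]
    rw [e3]
    rcases ex with ex | ex <;> rcases ey with ey | ey <;> rw [ex, ey]
    · exact base
    · rw [h2 _ _ ⟨x', rfl⟩, base, hconj]
    · rw [h1 _ _ ⟨y', rfl⟩, base, hconj]
    · have h6 : t * i x' * (t * i y') * (t * i x')⁻¹ * (t * i y')⁻¹ =
          t * (i x' * (t * i y') * (i x')⁻¹ * (t * i y')⁻¹) * t⁻¹ := by
        have h7 : t⁻¹ * (t * i y')⁻¹ = (t * i y')⁻¹ * t⁻¹ := by
          rw [← mul_inv_rev, ← mul_inv_rev, mul_assoc t, ← P.ti]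
        calc t * i x' * (t * i y') * (t * i x')⁻¹ * (t * i y')⁻¹ =
            t * i x' * (t * i y') * (i x')⁻¹ * (t⁻¹ * (t * i y')⁻¹) := by group
          _ = _ := by rw [h7]; group
      rw [h6, h2 _ _ ⟨x', rfl⟩, base, hconj, hconj]
  exact hK hx

theorem act_U (hF : ∃ c : Fˣ, c ≠ 1) {g : G} (hg : g ∈ NN S i t) {x : Y} (hx : x ∈ J S.XZ 1 8) :
    ∃ y ∈ J S.XZ 1 8, g * i x * g⁻¹ = i y := by
  obtain ⟨y, -, e⟩ := act_PL P hF hg (U_le_PL S hx)
  obtain ⟨h1, -⟩ := (mem_NN P).1 hg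
  have h2 : g * i x * g⁻¹ ∈ TT S i t :=
    (Subgroup.mem_normalizer_iff.1 h1 _).1 ((mem_TT P).2 ⟨x, hx, Or.inl rfl⟩)
  obtain ⟨y', hy', h3⟩ := (mem_TT P).1 h2
  rcases h3 with h3 | h3
  · exact ⟨y', hy', h3⟩
  · exact absurd (h3.symm.trans e) P.t_mul_ne

/-- **Sections 1.1 - 1.3.** -/
theorem exists_NEl (u : F) : ∃ (φ : F → F) (n : G), NEl S.toSys i t 2 φ u n := by
  have : Finite F := P.finF
  have : Finite G := P.finG
  have : Finite Y := Finite.of_injective i P.inj
  have hF : ∃ c : Fˣ, c ≠ 1 := by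
    by_contra hcon
    push Not at hcon
    have h1 : Nat.card Fˣ = Nat.card F - 1 := Nat.card_units F
    have h2 : Nat.card Fˣ = 1 := by
      have : Subsingleton Fˣ := ⟨fun a b => by rw [hcon a, hcon b]⟩
      exact Nat.card_of_subsingleton 1
    have := P.big
    omega
  obtain ⟨n, hn, ⟨k, hk⟩, hnt⟩ := exists_two P u
  -- the action of `n⁻¹`
  have hex : ∀ x ∈ S.PL, ∃ y, y ∈ S.PL ∧ n⁻¹ * i x * n = i y := by
    intro x hx
    obtain ⟨y, hy, e⟩ := act_PL P hF (inv_mem hn) hx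
    rw [inv_inv] at e
    exact ⟨y, hy, e⟩
  choose! f hf using hex
  have hit : ∀ m : ℕ, ∀ x ∈ S.PL, f^[m] x ∈ S.PL ∧ i (f^[m] x) = (n⁻¹) ^ m * i x * n ^ m := by
    intro m
    induction m with
    | zero => intro x hx; exact ⟨hx, by simp⟩
    | succ m ih =>
      intro x hx
      obtain ⟨h1, h2⟩ := ih x hx
      obtain ⟨h3, h4⟩ := hf _ h1
      rw [Function.iterate_succ_apply']
      refine ⟨h3, ?_⟩
      rw [← h4, h2, pow_succ', pow_succ]; group
  have N : NF S f :=
    { mul := fun x hx y hy => by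
        apply P.inj
        rw [← (hf _ (mul_mem hx hy)).2, map_mul, map_mul, ← (hf x hx).2, ← (hf y hy).2]; group
      mem := fun x hx => (hf x hx).1
      memU := fun x hx => by
        obtain ⟨y, hy, e⟩ := act_U P hF (inv_mem hn) hx
        rw [inv_inv, (hf x (U_le_PL S hx)).2] at e
        rw [P.inj e]; exact hy
      ord := ⟨k, fun x hx => by
        apply P.inj
        rw [(hit _ x hx).2, hk, inv_pow, hk]; simp⟩ }
  obtain ⟨w, hw, φ, M⟩ := N.exists_NR hF
  have hconj : ∀ x ∈ S.PL, ∀ y, w * f x * w⁻¹ = y → (n * (i w)⁻¹)⁻¹ * i x * (n * (i w)⁻¹) = i y := by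
    rintro x hx y rfl
    rw [map_mul, map_mul, ← (hf x hx).2, map_inv]; group
  have hfix : ∀ x ∈ S.PL, w * f x * w⁻¹ = x → (n * (i w)⁻¹) * i x = i x * (n * (i w)⁻¹) := by
    intro x hx h
    have h1 := hconj x hx _ h
    calc (n * (i w)⁻¹) * i x = (n * (i w)⁻¹) * ((n * (i w)⁻¹)⁻¹ * i x * (n * (i w)⁻¹)) := by rw [h1]
      _ = _ := by group
  have PL0 : ∀ q v, S.e 0 q v ∈ S.PL := fun q v =>
    mem_J (k := 0) ((S.mem_XZ_even 0 _).2 ⟨q, v, rfl⟩) (by norm_num) (by norm_num)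
  refine ⟨φ, n * (i w)⁻¹, ?_⟩
  exact
    { tau := by
        have h1 := S.comm_PL (U_le_PL S hw) (z := S.e 2 0 u) ⟨u, rfl⟩
        calc (n * (i w)⁻¹)⁻¹ * t * (n * (i w)⁻¹) = i w * (n⁻¹ * t * n) * (i w)⁻¹ := by group
          _ = (i w * t) * i (S.e 2 0 u) * (i w)⁻¹ := by rw [hnt]; group
          _ = t * i (w * S.e 2 0 u * w⁻¹) := by rw [← P.ti, map_mul, map_mul, map_inv]; group
          _ = _ := by rw [h1, mul_inv_cancel_right]
      z := fun v => hfix _ (PL4 S 0 v) (M.fixE _ (S.q2_3 v))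
      o0 := fun s => hfix _ (PL5 S s) (M.fix5 s)
      o1 := fun s => hfix _ (PL7 S s) (M.fix7 s)
      om1 := fun s => hfix _ (PL3 S s) (M.fix3 s)
      om2 := fun s => hfix _ (PL1 S s) (M.fix1 s)
      e1 := fun p w' => hfix _ (PL6 S p w') (M.fix6 p w')
      em1 := fun p w' => hfix _ (PL2 S p w') (M.fix2 p w')
      x0 := fun p w' => hconj _ (PL4 S p w') _ (M.f4 p w')
      xp := fun q v => hconj _ (PL8 S q v) _ (M.f8 q v)
      xm := fun q v => hconj _ (PL0 q v) _ (M.f0 q v)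
      add := M.add
      phi := fun p => by
        have := M.phi p 1
        rw [mul_one] at this
        rw [this, mul_comm] }

end Cfsg.Agent.OddHalf.D7TwF4.Norm

end
end

-- part: OddHalf/D7TwF4/WMk
section
-- merged: Cfsg.Agent.OddHalf.D7TwF4.CKill
section

/-!
# D7, `K = ²F₄(q)`: section 1.4, the constant `c` of an element `n` is zero (helper853; text: helper544, bb ODD 13028)

* `NO_conj` : the action of `B0_5 = NO` on `X_4`;
* `phi_eq_zero` : `NEl 2 φ u n` for all `u` implies `φ = 0`;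
* `exists_cent` : for every `u` some `n` centralising `P_4 = PL` has `t n t = n * i (e 2 0 u)`.
-/

set_option autoImplicit false
set_option linter.unusedSectionVars false

namespace Cfsg.Agent.OddHalf.D7TwF4.CKill

open Cfsg.Agent.KFacts.TwF4 Cfsg.Agent.SplitTwo.ZS Cfsg.Agent.OddHalf.D7TwF4.Defs

universe u v w

variable {F : Type w} [Field F] {σ : F →+* F} {Y : Type u} [Group Y] (S : Full σ Y)

/-- the action of `NO` on `X_4` -/
theorem NO_conj {y : Y} (hy : y ∈ S.NO) : ∃ b4 b6 b7 : F, ∀ p w,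
    y⁻¹ * S.e 2 p w * y = S.e 2 p (w + b4 * σ p + p * σ b4) * S.o 2 (p * b6) * S.e 3 0 (p * b7) := by
  obtain ⟨u, v, r, hr, rfl⟩ := S.mem_NO_iff.1 hy
  have Z := S.zsys8
  obtain ⟨x3, hx3, r4, hr4, rfl⟩ := Z.split_ll (by norm_num) (by norm_num) hr
  obtain ⟨x4, hx4, r5, hr5, rfl⟩ := Z.split_ll (by norm_num) (by norm_num) hr4
  obtain ⟨x5, hx5, r6, hr6, rfl⟩ := Z.split_ll (by norm_num) (by norm_num) hr5
  obtain ⟨x6, hx6, r7, hr7, rfl⟩ := Z.split_ll (by norm_num) (by norm_num) hr6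
  have hx7 := mem_of_J_self hr7 (by norm_num)
  obtain ⟨b3, rfl⟩ := S.X3 (by simpa using hx3)
  obtain ⟨b4, w4, rfl⟩ := S.X4 (by simpa using hx4)
  obtain ⟨b5, rfl⟩ := S.X5 (by simpa using hx5)
  obtain ⟨b6, w6, rfl⟩ := S.X6 (by simpa using hx6)
  obtain ⟨b7, rfl⟩ := S.X7 (by simpa using hx7)
  refine ⟨b4, b6, b7, fun p w => ?_⟩
  -- the moves `X * g = g * X'`
  have g1 : S.e 2 p w * S.e 1 0 u = S.e 1 0 u * S.e 2 p w := by
    have h : S.e 1 0 u * S.e 2 p w = S.e 2 p w * S.e 1 0 u * S.o 1 (0 * p) := S.e_e1 1 0 u p w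
    rw [zero_mul, S.o_zero, mul_one] at h
    exact h.symm
  have g2 : S.e 2 p w * S.o 1 b3 = S.o 1 b3 * S.e 2 p w := (S.o_e1 1 b3 p w).symm
  have g3 : S.e 2 p w * S.e 2 b4 w4 = S.e 2 b4 w4 * S.e 2 p (w + b4 * σ p + p * σ b4) := by
    rw [S.e_mul, S.e_mul, add_comm p b4]
    congr 1
    linear_combination (-(b4 * σ p)) * S.two
  have g4 : ∀ w', S.e 2 p w' * S.o 2 b5 = S.o 2 b5 * S.e 2 p w' := fun w' => S.e_o0 2 p w' b5
  have g5 : ∀ w', S.e 2 p w' * S.e 3 b6 w6 = S.e 3 b6 w6 * (S.e 2 p w' * S.o 2 (p * b6)) := fun w' => by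
    rw [← mul_assoc]; exact S.e_e1 2 p w' b6 w6
  have g6 : ∀ w', S.e 2 p w' * S.o 3 b7 = S.o 3 b7 * (S.e 2 p w' * S.e 3 0 (p * b7)) := fun w' => by
    rw [← mul_assoc]; exact S.e_o1 2 p w' b7
  have g6' : S.o 2 (p * b6) * S.o 3 b7 = S.o 3 b7 * S.o 2 (p * b6) := S.o_o1 2 _ _
  have g6'' : S.e 3 0 (p * b7) * S.o 2 (p * b6) = S.o 2 (p * b6) * S.e 3 0 (p * b7) := (S.o_e1 2 _ _ _).symm
  have g7 : ∀ w', S.e 2 p w' * S.e 4 0 v = S.e 4 0 v * S.e 2 p w' := fun w' => S.e_e2 2 p w' 0 v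
  have g7' : S.o 2 (p * b6) * S.e 4 0 v = S.e 4 0 v * S.o 2 (p * b6) := by
    have h : S.o 2 (p * b6) * S.e 4 0 v = S.e 4 0 v * S.o 2 (p * b6) * S.e 3 0 (p * b6 * 0) := S.o_e2 2 _ _ _
    rwa [mul_zero, S.e_zero, mul_one] at h
  have g7'' : S.e 3 0 (p * b7) * S.e 4 0 v = S.e 4 0 v * S.e 3 0 (p * b7) := by
    have h : S.e 3 0 (p * b7) * S.e 4 0 v = S.e 4 0 v * S.e 3 0 (p * b7) * S.o 3 (0 * 0) := S.e_e1 3 _ _ _ _
    rwa [zero_mul, S.o_zero, mul_one] at h
  set w' := w + b4 * σ p + p * σ b4 with hw'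
  have key : S.e 2 p w * (S.e 1 0 u * (S.o 1 b3 * (S.e 2 b4 w4 * (S.o 2 b5 * (S.e 3 b6 w6 * S.o 3 b7)))) * S.e 4 0 v)
      = (S.e 1 0 u * (S.o 1 b3 * (S.e 2 b4 w4 * (S.o 2 b5 * (S.e 3 b6 w6 * S.o 3 b7)))) * S.e 4 0 v) *
        (S.e 2 p w' * S.o 2 (p * b6) * S.e 3 0 (p * b7)) := by
    calc S.e 2 p w * (S.e 1 0 u * (S.o 1 b3 * (S.e 2 b4 w4 * (S.o 2 b5 * (S.e 3 b6 w6 * S.o 3 b7)))) * S.e 4 0 v)
        = (S.e 2 p w * S.e 1 0 u) * (S.o 1 b3 * (S.e 2 b4 w4 * (S.o 2 b5 * (S.e 3 b6 w6 * S.o 3 b7)))) * S.e 4 0 v := by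
          group
      _ = S.e 1 0 u * ((S.e 2 p w * S.o 1 b3) * (S.e 2 b4 w4 * (S.o 2 b5 * (S.e 3 b6 w6 * S.o 3 b7)))) * S.e 4 0 v := by
          rw [g1]; group
      _ = S.e 1 0 u * (S.o 1 b3 * ((S.e 2 p w * S.e 2 b4 w4) * (S.o 2 b5 * (S.e 3 b6 w6 * S.o 3 b7)))) * S.e 4 0 v := by
          rw [g2]; group
      _ = S.e 1 0 u * (S.o 1 b3 * (S.e 2 b4 w4 * ((S.e 2 p w' * S.o 2 b5) * (S.e 3 b6 w6 * S.o 3 b7)))) * S.e 4 0 v := by
          rw [g3]; group
      _ = S.e 1 0 u * (S.o 1 b3 * (S.e 2 b4 w4 * (S.o 2 b5 * ((S.e 2 p w' * S.e 3 b6 w6) * S.o 3 b7)))) * S.e 4 0 v := by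
          rw [g4]; group
      _ = S.e 1 0 u * (S.o 1 b3 * (S.e 2 b4 w4 * (S.o 2 b5 * (S.e 3 b6 w6 * (S.e 2 p w' *
            (S.o 2 (p * b6) * S.o 3 b7)))))) * S.e 4 0 v := by
          rw [g5]; group
      _ = S.e 1 0 u * (S.o 1 b3 * (S.e 2 b4 w4 * (S.o 2 b5 * (S.e 3 b6 w6 * ((S.e 2 p w' * S.o 3 b7) *
            S.o 2 (p * b6)))))) * S.e 4 0 v := by
          rw [g6']; group
      _ = S.e 1 0 u * (S.o 1 b3 * (S.e 2 b4 w4 * (S.o 2 b5 * (S.e 3 b6 w6 * (S.o 3 b7 * (S.e 2 p w' *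
            (S.e 3 0 (p * b7) * S.o 2 (p * b6)))))))) * S.e 4 0 v := by
          rw [g6]; group
      _ = S.e 1 0 u * (S.o 1 b3 * (S.e 2 b4 w4 * (S.o 2 b5 * (S.e 3 b6 w6 * S.o 3 b7)))) * (S.e 2 p w' *
            (S.o 2 (p * b6) * (S.e 3 0 (p * b7) * S.e 4 0 v))) := by
          rw [g6'']; group
      _ = S.e 1 0 u * (S.o 1 b3 * (S.e 2 b4 w4 * (S.o 2 b5 * (S.e 3 b6 w6 * S.o 3 b7)))) * (S.e 2 p w' *
            ((S.o 2 (p * b6) * S.e 4 0 v) * S.e 3 0 (p * b7))) := by
          rw [g7'']; group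
      _ = S.e 1 0 u * (S.o 1 b3 * (S.e 2 b4 w4 * (S.o 2 b5 * (S.e 3 b6 w6 * S.o 3 b7)))) * ((S.e 2 p w' * S.e 4 0 v) *
            (S.o 2 (p * b6) * S.e 3 0 (p * b7))) := by
          rw [g7']; group
      _ = _ := by rw [g7]; group
  rw [mul_assoc, key, inv_mul_cancel_left]

/-- uniqueness in `X_4 X_5 X_6` -/
theorem V5_uniq {p w w' s c c' : F} (h : S.e 2 p w * S.o 2 s * S.e 3 0 c = S.e 2 p w' * S.e 3 0 c') : c = c' := by
  have Z := S.zsys8
  have h1 : S.e 3 0 c * (S.e 3 0 c')⁻¹ = (S.e 2 p w * S.o 2 s)⁻¹ * S.e 2 p w' := by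
    calc S.e 3 0 c * (S.e 3 0 c')⁻¹ = (S.e 2 p w * S.o 2 s)⁻¹ * (S.e 2 p w * S.o 2 s * S.e 3 0 c) * (S.e 3 0 c')⁻¹ := by
          group
      _ = _ := by rw [h]; group
  have m6 : S.e 3 0 c * (S.e 3 0 c')⁻¹ ∈ J S.XZ 6 6 :=
    mul_mem (mem_J (S.mX6 0 c) le_rfl le_rfl) (inv_mem (mem_J (S.mX6 0 c') le_rfl le_rfl))
  have m45 : S.e 3 0 c * (S.e 3 0 c')⁻¹ ∈ J S.XZ 4 5 := by
    rw [h1]
    refine mul_mem (inv_mem (mul_mem (mem_J (S.mX4 p w) (by norm_num) (by norm_num))
      (mem_J (S.mX5 s) (by norm_num) (by norm_num)))) (mem_J (S.mX4 p w') (by norm_num) (by norm_num))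
  have h2 := Z.inter_one 1 m6 m45 (by norm_num) (by norm_num) (by norm_num) (by norm_num) (Or.inr (by norm_num))
  exact (S.injE 3 0 c 0 c' (mul_inv_eq_one.1 h2)).2

section Core

variable {S} {G : Type v} [Group G] {i : Y →* G} {t : G}

/-- a commutator commutes with `x` -/
theorem comm_aux {n z x : G} (h1 : z * x = x * z) (h2 : z * (n * x * n⁻¹) = n * x * n⁻¹ * z) :
    (n⁻¹ * z⁻¹ * n * z) * x = x * (n⁻¹ * z⁻¹ * n * z) := by
  have h3 : z⁻¹ * (n * x * n⁻¹) * z = n * x * n⁻¹ := by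
    rw [mul_assoc, ← h2, inv_mul_cancel_left]
  calc (n⁻¹ * z⁻¹ * n * z) * x = n⁻¹ * z⁻¹ * n * (z * x) := by group
    _ = n⁻¹ * z⁻¹ * (n * x * n⁻¹) * n * z := by rw [h1]; group
    _ = n⁻¹ * (z⁻¹ * (n * x * n⁻¹) * z) * z⁻¹ * n * z := by group
    _ = n⁻¹ * (n * x * n⁻¹) * z⁻¹ * n * z := by rw [h3]
    _ = x * (n⁻¹ * z⁻¹ * n * z) := by group

/-- the image of `t` under a commutator -/
theorem tau_aux {n z z' m m' : G} (h1 : n * t * n⁻¹ = t * z') (htz : t * z = z * t)
    (h2 : z * z' * z⁻¹ = z' * m) (h3 : n⁻¹ * (t * z') * n = t) (h4 : n⁻¹ * m * n = m')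
    (h5 : z⁻¹ * m' * z = m') : (n⁻¹ * z⁻¹ * n * z)⁻¹ * t * (n⁻¹ * z⁻¹ * n * z) = t * m' := by
  have e1 : z * (t * z') * z⁻¹ = t * (z' * m) := by
    calc z * (t * z') * z⁻¹ = (z * t) * z' * z⁻¹ := by group
      _ = t * (z * z' * z⁻¹) := by rw [← htz]; group
      _ = _ := by rw [h2]
  have e2 : z⁻¹ * t * z = t := by rw [mul_assoc, htz, inv_mul_cancel_left]
  calc (n⁻¹ * z⁻¹ * n * z)⁻¹ * t * (n⁻¹ * z⁻¹ * n * z)
      = z⁻¹ * (n⁻¹ * (z * (n * t * n⁻¹) * z⁻¹) * n) * z := by group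
    _ = z⁻¹ * (n⁻¹ * (t * (z' * m)) * n) * z := by rw [h1, e1]
    _ = z⁻¹ * ((n⁻¹ * (t * z') * n) * (n⁻¹ * m * n)) * z := by group
    _ = z⁻¹ * (t * m') * z := by rw [h3, h4]
    _ = (z⁻¹ * t * z) * (z⁻¹ * m' * z) := by group
    _ = t * m' := by rw [e2, h5]

/-- **1.4, the core.** -/
theorem core (P : Pos S i t) {a : F} {φ φ2 φ4 φ6 : F → F} {n8 n2 n4 n6 : G} (h8 : NEl S.toSys i t 4 φ a n8)
    (h2 : NEl S.toSys i t 1 φ2 1 n2) (h4 : NEl S.toSys i t 2 φ4 (φ2 (σ a)) n4) (h6 : NEl S.toSys i t 3 φ6 (φ a) n6) :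
    φ 1 = 0 := by
  set! R := P.sys with hR
  have ti := P.ti
  -- squares and commutation inside `J_5`
  have ch : (2 : F) = 0 := S.two
  have dbl : ∀ x : F, x + x = 0 := S.add_self
  have sqE : ∀ (b : ZMod 8) (x : F), R.e b 0 x * R.e b 0 x = 1 := fun b x => by
    rw [R.e_mul, zero_add, zero_mul, add_zero, dbl]
    show i (S.e b 0 0) = 1
    rw [S.e_zero, map_one]
  have sqO : ∀ (b : ZMod 8) (x : F), R.o b x * R.o b x = 1 := fun b x => by
    rw [R.o_add, dbl]
    show i (S.o b 0) = 1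
    rw [S.o_zero, map_one]
  have o0 : ∀ b : ZMod 8, R.o b 0 = 1 := fun b => by
    show i (S.o b 0) = 1
    rw [S.o_zero, map_one]
  have e0 : ∀ b : ZMod 8, R.e b 0 0 = 1 := fun b => by
    show i (S.e b 0 0) = 1
    rw [S.e_zero, map_one]
  have tE : ∀ (b : ZMod 8) (p w : F), t * R.e b p w = R.e b p w * t := fun b p w => ti _
  have tO : ∀ (b : ZMod 8) (x : F), t * R.o b x = R.o b x * t := fun b x => ti _
  -- the elements
  have a8 : n8⁻¹ * t * n8 = t * R.e 4 0 a := h8.tau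
  have a2 : n2⁻¹ * t * n2 = t * R.e 1 0 1 := h2.tau
  have a4 : n4⁻¹ * t * n4 = t * R.e 2 0 (φ2 (σ a)) := h4.tau
  have a6 : n6⁻¹ * t * n6 = t * R.e 3 0 (φ a) := h6.tau
  have b8z : ∀ v, n8 * R.e 4 0 v = R.e 4 0 v * n8 := h8.z
  have b8D : ∀ s, n8 * R.o 3 s = R.o 3 s * n8 := h8.om1
  have b8B : ∀ s, n8 * R.o 2 s = R.o 2 s * n8 := h8.om2
  have b8C : ∀ v, n8 * R.e 3 0 v = R.e 3 0 v * n8 := h8.em1 0
  have b8X : ∀ p w, n8⁻¹ * R.e 2 p w * n8 = R.e 2 p w * R.o 3 (φ p) * R.e 3 0 (φ w) := fun p w => by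
    have h : n8⁻¹ * i (S.e 2 p w) * n8 = i (S.e 2 p w * S.o 3 (φ p) * S.e 3 0 (φ w)) := h8.xm p w
    rw [map_mul, map_mul] at h
    exact h
  have b2z : ∀ v, n2 * R.e 1 0 v = R.e 1 0 v * n2 := h2.z
  have b2B : ∀ s, n2 * R.o 2 s = R.o 2 s * n2 := h2.o1
  have b2X : ∀ p w, n2 * R.e 2 p w = R.e 2 p w * n2 := h2.e1
  have b2C : ∀ v, n2⁻¹ * R.e 3 0 v * n2 = R.e 3 0 v * R.e 2 0 (φ2 v) := fun v => by
    have h : n2⁻¹ * i (S.e 3 0 v) * n2 = i (S.e 3 0 v * S.o 1 (φ2 0) * S.e 2 0 (φ2 v)) := h2.xp 0 v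
    rw [h2.phi_zero, S.o_zero, mul_one, map_mul] at h
    exact h
  have b4A : ∀ v, n4 * R.e 2 0 v = R.e 2 0 v * n4 := h4.z
  have b4B : ∀ s, n4 * R.o 2 s = R.o 2 s * n4 := h4.o0
  have b4C : ∀ v, n4 * R.e 3 0 v = R.e 3 0 v * n4 := h4.e1 0
  have b4X : ∀ p w, n4⁻¹ * R.e 2 p w * n4 = R.e 2 p (w + φ4 p) := h4.x0
  have b6C : ∀ v, n6 * R.e 3 0 v = R.e 3 0 v * n6 := h6.z
  have b6B : ∀ s, n6 * R.o 2 s = R.o 2 s * n6 := h6.om1
  have b6X : ∀ p w, n6 * R.e 2 p w = R.e 2 p w * n6 := h6.em1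
  -- relations
  have rAB : ∀ u s, R.e 2 0 u * R.o 2 s = R.o 2 s * R.e 2 0 u := fun u s => R.e_o0 2 0 u s
  have rBC : ∀ s v, R.o 2 s * R.e 3 0 v = R.e 3 0 v * R.o 2 s := fun s v => R.o_e1 2 s 0 v
  have rXC : ∀ p u v, R.e 2 p u * R.e 3 0 v = R.e 3 0 v * R.e 2 p u := fun p u v => by
    have h : R.e 2 p u * R.e 3 0 v = R.e 3 0 v * R.e 2 p u * R.o 2 (p * 0) := R.e_e1 2 p u 0 v
    rwa [mul_zero, o0, mul_one] at h
  have rAC := rXC 0
  have rDC : ∀ s v, R.o 3 s * R.e 3 0 v = R.e 3 0 v * R.o 3 s := fun s v => (R.e_o0 3 0 v s).symm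
  have rAD : ∀ u s, R.e 2 0 u * R.o 3 s = R.o 3 s * R.e 2 0 u := fun u s => by
    have h : R.e 2 0 u * R.o 3 s = R.o 3 s * R.e 2 0 u * R.e 3 0 (0 * s) := R.e_o1 2 0 u s
    rwa [zero_mul, e0, mul_one] at h
  have z2X : ∀ p w, R.e 1 0 1 * R.e 2 p w = R.e 2 p w * R.e 1 0 1 := fun p w => by
    have h : R.e 1 0 1 * R.e 2 p w = R.e 2 p w * R.e 1 0 1 * R.o 1 (0 * p) := R.e_e1 1 0 1 p w
    rwa [zero_mul, o0, mul_one] at h
  have z2B : ∀ s, R.e 1 0 1 * R.o 2 s = R.o 2 s * R.e 1 0 1 := fun s => by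
    have h : R.e 1 0 1 * R.o 2 s = R.o 2 s * R.e 1 0 1 * R.e 2 0 (0 * s) := R.e_o1 1 0 1 s
    rwa [zero_mul, e0, mul_one] at h
  have z2C : ∀ v, R.e 1 0 1 * R.e 3 0 v = R.e 3 0 v * R.e 1 0 1 := fun v => R.e_e2 1 0 1 0 v
  have z2D : ∀ s, R.e 1 0 1 * R.o 3 s = R.o 3 s * R.e 1 0 1 * R.e 2 0 s := fun s => by
    have h : R.e 1 0 1 * R.o 3 s = R.o 3 s * R.e 1 0 1 * R.e 2 0 (0 * σ 0 * s + 1 * s) * R.o 2 (σ 0 * s) *
      R.e 3 0 (0 * σ s) := R.e_o2 1 0 1 s
    rwa [map_zero, zero_mul, zero_mul, zero_add, one_mul, zero_mul, o0, e0, mul_one, mul_one] at h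
  have z8X : ∀ p w, R.e 4 0 a * R.e 2 p w = R.e 2 p w * R.e 4 0 a := fun p w => (R.e_e2 2 p w 0 a).symm
  have z8B : ∀ s, R.e 4 0 a * R.o 2 s = R.o 2 s * R.e 4 0 a := fun s => by
    have h : R.o 2 s * R.e 4 0 a = R.e 4 0 a * R.o 2 s * R.e 3 0 (s * 0) := R.o_e2 2 s 0 a
    rw [mul_zero, e0, mul_one] at h
    exact h.symm
  have z8C : ∀ v, R.e 4 0 a * R.e 3 0 v = R.e 3 0 v * R.e 4 0 a := fun v => by
    have h : R.e 3 0 v * R.e 4 0 a = R.e 4 0 a * R.e 3 0 v * R.o 3 (0 * 0) := R.e_e1 3 0 v 0 a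
    rw [mul_zero, o0, mul_one] at h
    exact h.symm
  have z28 : R.e 1 0 1 * R.e 4 0 a = R.e 4 0 a * R.e 1 0 1 * (R.e 2 0 a * R.o 2 a * R.e 3 0 (σ a)) := by
    have h := R.e_e3 1 0 1 0 a
    simp only [map_zero, map_one, zero_mul, mul_zero, zero_add, add_zero, one_mul, mul_one] at h
    have h' : R.e 1 0 1 * R.e 4 0 a = R.e 4 0 a * R.e 1 0 1 * R.o 1 0 * R.e 2 0 a * R.o 2 a * R.e 3 0 (σ a) *
      R.o 3 0 := h
    rw [o0, o0, mul_one, mul_one] at h'
    rw [h']; group
  have tz2 : t * R.e 1 0 1 = R.e 1 0 1 * t := tE _ _ _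
  have tz8 : t * R.e 4 0 a = R.e 4 0 a * t := tE _ _ _
  have s2 : R.e 1 0 1 * R.e 1 0 1 = 1 := sqE _ _
  have s8 : R.e 4 0 a * R.e 4 0 a = 1 := sqE _ _
  have b2z' : n2 * R.e 1 0 1 = R.e 1 0 1 * n2 := b2z 1
  have b8z' : n8 * R.e 4 0 a = R.e 4 0 a * n8 := b8z a
  have z2m : R.e 1 0 1 * (R.e 2 0 a * R.o 2 a * R.e 3 0 (σ a)) = R.e 2 0 a * R.o 2 a * R.e 3 0 (σ a) * R.e 1 0 1 := by
    calc R.e 1 0 1 * (R.e 2 0 a * R.o 2 a * R.e 3 0 (σ a)) = (R.e 1 0 1 * R.e 2 0 a) * R.o 2 a * R.e 3 0 (σ a) := by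
          group
      _ = R.e 2 0 a * (R.e 1 0 1 * R.o 2 a) * R.e 3 0 (σ a) := by rw [z2X]; group
      _ = R.e 2 0 a * R.o 2 a * (R.e 1 0 1 * R.e 3 0 (σ a)) := by rw [z2B]; group
      _ = _ := by rw [z2C]; group
  have z8m : R.e 4 0 a * (R.e 2 0 a * R.o 2 a * R.e 3 0 (σ a)) = R.e 2 0 a * R.o 2 a * R.e 3 0 (σ a) * R.e 4 0 a := by
    calc R.e 4 0 a * (R.e 2 0 a * R.o 2 a * R.e 3 0 (σ a)) = (R.e 4 0 a * R.e 2 0 a) * R.o 2 a * R.e 3 0 (σ a) := by
          group
      _ = R.e 2 0 a * (R.e 4 0 a * R.o 2 a) * R.e 3 0 (σ a) := by rw [z8X]; group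
      _ = R.e 2 0 a * R.o 2 a * (R.e 4 0 a * R.e 3 0 (σ a)) := by rw [z8B]; group
      _ = _ := by rw [z8C]; group
  have mm : (R.e 2 0 a * R.o 2 a * R.e 3 0 (σ a)) * (R.e 2 0 a * R.o 2 a * R.e 3 0 (σ a)) = 1 := by
    calc (R.e 2 0 a * R.o 2 a * R.e 3 0 (σ a)) * (R.e 2 0 a * R.o 2 a * R.e 3 0 (σ a))
        = R.e 2 0 a * R.o 2 a * (R.e 3 0 (σ a) * R.e 2 0 a) * R.o 2 a * R.e 3 0 (σ a) := by group
      _ = R.e 2 0 a * (R.o 2 a * R.e 2 0 a) * (R.e 3 0 (σ a) * R.o 2 a) * R.e 3 0 (σ a) := by rw [← rAC]; group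
      _ = (R.e 2 0 a * R.e 2 0 a) * (R.o 2 a * R.o 2 a) * (R.e 3 0 (σ a) * R.e 3 0 (σ a)) := by
        rw [← rAB, ← rBC]; group
      _ = 1 := by rw [sqE, sqE, sqO]; group
  set! z2 := R.e 1 0 1 with hz2; rewrite [← hz2] at z2m b2z' s2 tz2 z28 z2D z2C z2B z2X a2
  set! z8 := R.e 4 0 a with hz8; rewrite [← hz8] at z28 z8m b8z' s8 tz8 z8C z8B z8X a8
  set! m := R.e 2 0 a * R.o 2 a * R.e 3 0 (σ a) with hm; rewrite [← hm] at z28 z8m z2m mm
  have mi : m⁻¹ = m := inv_eq_of_mul_eq_one_left mm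
  -- the commutator `h'`
  have n2m : n2⁻¹ * m * n2 = m * R.e 2 0 (φ2 (σ a)) := by
    have e1 : n2⁻¹ * R.e 2 0 a * n2 = R.e 2 0 a := by rw [mul_assoc, ← b2X, inv_mul_cancel_left]
    have e2 : n2⁻¹ * R.o 2 a * n2 = R.o 2 a := by rw [mul_assoc, ← b2B, inv_mul_cancel_left]
    calc n2⁻¹ * m * n2 = (n2⁻¹ * R.e 2 0 a * n2) * (n2⁻¹ * R.o 2 a * n2) * (n2⁻¹ * R.e 3 0 (σ a) * n2) := by
          rw [hm]; group
      _ = _ := by rw [e1, e2, b2C, hm]; group
  have n8m : n8⁻¹ * m * n8 = m * R.e 3 0 (φ a) := by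
    have e1 : n8⁻¹ * R.e 2 0 a * n8 = R.e 2 0 a * R.e 3 0 (φ a) := by rw [b8X, h8.phi_zero, o0, mul_one]
    have e2 : n8⁻¹ * R.o 2 a * n8 = R.o 2 a := by rw [mul_assoc, ← b8B, inv_mul_cancel_left]
    have e3 : n8⁻¹ * R.e 3 0 (σ a) * n8 = R.e 3 0 (σ a) := by rw [mul_assoc, ← b8C, inv_mul_cancel_left]
    have e4 : R.e 3 0 (φ a) * R.e 3 0 (σ a) = R.e 3 0 (σ a) * R.e 3 0 (φ a) := by
      rw [R.e_mul, R.e_mul]; congr 1; ring
    calc n8⁻¹ * m * n8 = (n8⁻¹ * R.e 2 0 a * n8) * (n8⁻¹ * R.o 2 a * n8) * (n8⁻¹ * R.e 3 0 (σ a) * n8) := by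
          rw [hm]; group
      _ = R.e 2 0 a * (R.e 3 0 (φ a) * R.o 2 a) * R.e 3 0 (σ a) := by rw [e1, e2, e3]; group
      _ = R.e 2 0 a * R.o 2 a * (R.e 3 0 (φ a) * R.e 3 0 (σ a)) := by rw [← rBC]; group
      _ = _ := by rw [e4, hm]; group
  have T1 : (n2⁻¹ * z8⁻¹ * n2 * z8)⁻¹ * t * (n2⁻¹ * z8⁻¹ * n2 * z8) = t * (m * R.e 2 0 (φ2 (σ a))) := by
    refine tau_aux (z' := z2) (m := m) ?_ tz8 ?_ ?_ n2m ?_
    · calc n2 * t * n2⁻¹ = n2 * ((t * z2) * z2) * n2⁻¹ := by rw [mul_assoc t, s2, mul_one]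
        _ = n2 * ((n2⁻¹ * t * n2) * z2) * n2⁻¹ := by rw [a2]
        _ = t * (n2 * z2) * n2⁻¹ := by group
        _ = t * z2 := by rw [b2z']; group
    · calc z8 * z2 * z8⁻¹ = z2 * z8 * m⁻¹ * z8⁻¹ := by rw [z28]; group
        _ = z2 * (z8 * m) * z8⁻¹ := by rw [mi]; group
        _ = z2 * m := by rw [z8m]; group
    · calc n2⁻¹ * (t * z2) * n2 = (n2⁻¹ * t * n2) * (n2⁻¹ * (z2 * n2)) := by group
        _ = t * z2 * z2 := by rw [a2, ← b2z']; group
        _ = t := by rw [mul_assoc, s2, mul_one]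
    · calc z8⁻¹ * (m * R.e 2 0 (φ2 (σ a))) * z8 = z8⁻¹ * m * (R.e 2 0 (φ2 (σ a)) * z8) := by group
        _ = z8⁻¹ * (m * z8) * R.e 2 0 (φ2 (σ a)) := by rw [← z8X]; group
        _ = _ := by rw [← z8m]; group
  have T2 : (n8⁻¹ * z2⁻¹ * n8 * z2)⁻¹ * t * (n8⁻¹ * z2⁻¹ * n8 * z2) = t * (m * R.e 3 0 (φ a)) := by
    refine tau_aux (z' := z8) (m := m) ?_ tz2 ?_ ?_ n8m ?_
    · calc n8 * t * n8⁻¹ = n8 * ((t * z8) * z8) * n8⁻¹ := by rw [mul_assoc t, s8, mul_one]
        _ = n8 * ((n8⁻¹ * t * n8) * z8) * n8⁻¹ := by rw [a8]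
        _ = t * (n8 * z8) * n8⁻¹ := by group
        _ = t * z8 := by rw [b8z']; group
    · calc z2 * z8 * z2⁻¹ = z8 * (z2 * m) * z2⁻¹ := by rw [z28]; group
        _ = z8 * m := by rw [z2m]; group
    · calc n8⁻¹ * (t * z8) * n8 = (n8⁻¹ * t * n8) * (n8⁻¹ * (z8 * n8)) := by group
        _ = t * z8 * z8 := by rw [a8, ← b8z']; group
        _ = t := by rw [mul_assoc, s8, mul_one]
    · calc z2⁻¹ * (m * R.e 3 0 (φ a)) * z2 = z2⁻¹ * m * (R.e 3 0 (φ a) * z2) := by group
        _ = z2⁻¹ * (m * z2) * R.e 3 0 (φ a) := by rw [← z2C]; group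
        _ = _ := by rw [← z2m]; group
  set! h' := n2⁻¹ * z8⁻¹ * n2 * z8 with hh'; rewrite [← hh'] at T1
  set! h := n8⁻¹ * z2⁻¹ * n8 * z2 with hh; rewrite [← hh] at T2
  have n4m : n4 * m = m * n4 := by
    calc n4 * m = (n4 * R.e 2 0 a) * R.o 2 a * R.e 3 0 (σ a) := by rw [hm]; group
      _ = R.e 2 0 a * (n4 * R.o 2 a) * R.e 3 0 (σ a) := by rw [b4A]; group
      _ = R.e 2 0 a * R.o 2 a * (n4 * R.e 3 0 (σ a)) := by rw [b4B]; group
      _ = _ := by rw [b4C, hm]; group
  have n6m : n6 * m = m * n6 := by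
    calc n6 * m = (n6 * R.e 2 0 a) * R.o 2 a * R.e 3 0 (σ a) := by rw [hm]; group
      _ = R.e 2 0 a * (n6 * R.o 2 a) * R.e 3 0 (σ a) := by rw [b6X]; group
      _ = R.e 2 0 a * R.o 2 a * (n6 * R.e 3 0 (σ a)) := by rw [b6B]; group
      _ = _ := by rw [b6C, hm]; group
  have mA : m * R.e 2 0 (φ2 (σ a)) = R.e 2 0 (φ2 (σ a)) * m := by
    have e4 : R.e 2 0 a * R.e 2 0 (φ2 (σ a)) = R.e 2 0 (φ2 (σ a)) * R.e 2 0 a := by
      rw [R.e_mul, R.e_mul]; (with_reducible congr 1); ring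
    calc m * R.e 2 0 (φ2 (σ a)) = R.e 2 0 a * R.o 2 a * (R.e 3 0 (σ a) * R.e 2 0 (φ2 (σ a))) := by rw [hm]; group
      _ = R.e 2 0 a * (R.o 2 a * R.e 2 0 (φ2 (σ a))) * R.e 3 0 (σ a) := by rw [← rAC]; group
      _ = (R.e 2 0 a * R.e 2 0 (φ2 (σ a))) * R.o 2 a * R.e 3 0 (σ a) := by rw [← rAB]; group
      _ = _ := by rw [e4, hm]; group
  have T3 : (h' * n4 * n6)⁻¹ * t * (h' * n4 * n6) = t * (m * R.e 3 0 (φ a)) := by
    have e1 : n4⁻¹ * (t * (m * R.e 2 0 (φ2 (σ a)))) * n4 = t * m := by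
      calc n4⁻¹ * (t * (m * R.e 2 0 (φ2 (σ a)))) * n4
          = (n4⁻¹ * t * n4) * (n4⁻¹ * (m * (R.e 2 0 (φ2 (σ a)) * n4))) := by group
        _ = (n4⁻¹ * t * n4) * (n4⁻¹ * ((m * n4) * R.e 2 0 (φ2 (σ a)))) := by rw [← b4A]; group
        _ = t * (R.e 2 0 (φ2 (σ a)) * m) * R.e 2 0 (φ2 (σ a)) := by rw [← n4m, a4]; group
        _ = t * m * (R.e 2 0 (φ2 (σ a)) * R.e 2 0 (φ2 (σ a))) := by rw [← mA]; group
        _ = t * m := by rw [sqE, mul_one]
    have e2 : n6⁻¹ * (t * m) * n6 = t * (m * R.e 3 0 (φ a)) := by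
      have mC : R.e 3 0 (φ a) * m = m * R.e 3 0 (φ a) := by
        have e4 : R.e 3 0 (φ a) * R.e 3 0 (σ a) = R.e 3 0 (σ a) * R.e 3 0 (φ a) := by
          rw [R.e_mul, R.e_mul]; (with_reducible congr 1); ring
        calc R.e 3 0 (φ a) * m = (R.e 3 0 (φ a) * R.e 2 0 a) * R.o 2 a * R.e 3 0 (σ a) := by rw [hm]; group
          _ = R.e 2 0 a * (R.e 3 0 (φ a) * R.o 2 a) * R.e 3 0 (σ a) := by rw [← rAC]; group
          _ = R.e 2 0 a * R.o 2 a * (R.e 3 0 (φ a) * R.e 3 0 (σ a)) := by rw [← rBC]; group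
          _ = _ := by rw [e4, hm]; group
      calc n6⁻¹ * (t * m) * n6 = (n6⁻¹ * t * n6) * (n6⁻¹ * (m * n6)) := by group
        _ = t * (R.e 3 0 (φ a) * m) := by rw [← n6m, a6]; group
        _ = _ := by rw [mC]
    calc (h' * n4 * n6)⁻¹ * t * (h' * n4 * n6) = n6⁻¹ * (n4⁻¹ * (h'⁻¹ * t * h') * n4) * n6 := by group
      _ = _ := by rw [T1, e1, e2]
  set! g := h' * n4 * n6 * h⁻¹ with hg
  have gt : g * t = t * g := by
    have e1 : (h' * n4 * n6)⁻¹ * t * (h' * n4 * n6) = h⁻¹ * t * h := by rw [T3, T2]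
    calc g * t = (h' * n4 * n6) * (h⁻¹ * t * h) * h⁻¹ := by rw [hg]; group
      _ = (h' * n4 * n6) * ((h' * n4 * n6)⁻¹ * t * (h' * n4 * n6)) * h⁻¹ := by rw [e1]
      _ = t * g := by rw [hg]; group
  -- conjugation by `n2`, `n8` from the other side
  have c2C : ∀ v, n2 * R.e 3 0 v * n2⁻¹ = R.e 3 0 v * R.e 2 0 (φ2 v) := fun v => by
    have e1 := b2C v
    have e2 : R.e 3 0 v = n2 * R.e 3 0 v * n2⁻¹ * R.e 2 0 (φ2 v) := by
      calc R.e 3 0 v = n2 * (n2⁻¹ * R.e 3 0 v * n2) * n2⁻¹ := by group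
        _ = n2 * R.e 3 0 v * (R.e 2 0 (φ2 v) * n2⁻¹) := by rw [e1]; group
        _ = n2 * R.e 3 0 v * (n2⁻¹ * (n2 * R.e 2 0 (φ2 v)) * n2⁻¹) := by group
        _ = _ := by rw [b2X]; group
    calc n2 * R.e 3 0 v * n2⁻¹ = (n2 * R.e 3 0 v * n2⁻¹ * R.e 2 0 (φ2 v)) * R.e 2 0 (φ2 v) := by
          rw [mul_assoc _ (R.e 2 0 (φ2 v)), sqE, mul_one]
      _ = _ := by rw [← e2]
  have c8X : ∀ p w, n8 * R.e 2 p w * n8⁻¹ = R.e 2 p w * R.o 3 (φ p) * R.e 3 0 (φ w) := fun p w => by
    have e1 := b8X p w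
    have e3 : R.o 3 (φ p) * R.e 3 0 (φ w) * n8⁻¹ = n8⁻¹ * (R.o 3 (φ p) * R.e 3 0 (φ w)) := by
      have e4 : n8 * (R.o 3 (φ p) * R.e 3 0 (φ w)) = (R.o 3 (φ p) * R.e 3 0 (φ w)) * n8 := by
        rw [← mul_assoc, b8D, mul_assoc, b8C, ← mul_assoc]
      calc R.o 3 (φ p) * R.e 3 0 (φ w) * n8⁻¹ = n8⁻¹ * (n8 * (R.o 3 (φ p) * R.e 3 0 (φ w))) * n8⁻¹ := by group
        _ = _ := by rw [e4]; group
    have e2 : R.e 2 p w = n8 * R.e 2 p w * n8⁻¹ * (R.o 3 (φ p) * R.e 3 0 (φ w)) := by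
      calc R.e 2 p w = n8 * (n8⁻¹ * R.e 2 p w * n8) * n8⁻¹ := by group
        _ = n8 * R.e 2 p w * (R.o 3 (φ p) * R.e 3 0 (φ w) * n8⁻¹) := by rw [e1]; group
        _ = _ := by rw [e3]; group
    have e5 : (R.o 3 (φ p) * R.e 3 0 (φ w)) * (R.o 3 (φ p) * R.e 3 0 (φ w)) = 1 := by
      calc (R.o 3 (φ p) * R.e 3 0 (φ w)) * (R.o 3 (φ p) * R.e 3 0 (φ w))
          = R.o 3 (φ p) * (R.e 3 0 (φ w) * R.o 3 (φ p)) * R.e 3 0 (φ w) := by group
        _ = (R.o 3 (φ p) * R.o 3 (φ p)) * (R.e 3 0 (φ w) * R.e 3 0 (φ w)) := by rw [← rDC]; group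
        _ = 1 := by rw [sqO, sqE, one_mul]
    calc n8 * R.e 2 p w * n8⁻¹ = (n8 * R.e 2 p w * n8⁻¹ * (R.o 3 (φ p) * R.e 3 0 (φ w))) *
          (R.o 3 (φ p) * R.e 3 0 (φ w)) := by
          rw [mul_assoc _ (R.o 3 (φ p) * R.e 3 0 (φ w)) (R.o 3 (φ p) * R.e 3 0 (φ w)), e5, mul_one]
      _ = _ := by rw [← e2]; group
  -- `g` centralises `J_5`
  have conj_of : ∀ {n x : G}, n * x = x * n → n * x * n⁻¹ = x := fun h => by rw [h, mul_inv_cancel_right]
  have comm_g : ∀ {x : G}, h' * x = x * h' → n4 * x = x * n4 → n6 * x = x * n6 → h * x = x * h → g * x = x * g := by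
    intro x h1 h2 h3 h4
    have h5 : h⁻¹ * x = x * h⁻¹ := by rw [inv_mul_eq_iff_eq_mul, ← mul_assoc, h4, mul_inv_cancel_right]
    calc g * x = h' * n4 * n6 * (h⁻¹ * x) := by rw [hg]; group
      _ = h' * n4 * (n6 * x) * h⁻¹ := by rw [h5]; group
      _ = h' * (n4 * x) * n6 * h⁻¹ := by rw [h3]; group
      _ = (h' * x) * n4 * n6 * h⁻¹ := by rw [h2]; group
      _ = x * g := by rw [h1, hg]; group
  have gA : ∀ u, g * R.e 2 0 u = R.e 2 0 u * g := fun u => by
    refine comm_g (comm_aux (z8X 0 u) ?_) (b4A u) (b6X 0 u) (comm_aux (z2X 0 u) ?_)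
    · rw [conj_of (b2X 0 u)]; exact z8X 0 u
    · rw [c8X, h8.phi_zero, o0, mul_one, ← mul_assoc, z2X, mul_assoc, z2C, ← mul_assoc]
  have gB : ∀ u, g * R.o 2 u = R.o 2 u * g := fun u => by
    refine comm_g (comm_aux (z8B u) ?_) (b4B u) (b6B u) (comm_aux (z2B u) ?_)
    · rw [conj_of (b2B u)]; exact z8B u
    · rw [conj_of (b8B u)]; exact z2B u
  have gC : ∀ u, g * R.e 3 0 u = R.e 3 0 u * g := fun u => by
    refine comm_g (comm_aux (z8C u) ?_) (b4C u) (b6C u) (comm_aux (z2C u) ?_)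
    · rw [c2C, ← mul_assoc, z8C, mul_assoc, z8X, ← mul_assoc]
    · rw [conj_of (b8C u)]; exact z2C u
  -- so `g` lies in `⟨t⟩ × NO`
  obtain ⟨y, hy, hgy⟩ : ∃ y ∈ Subgroup.centralizer (S.V5 : Set Y), g = i y ∨ g = t * i y := by
    refine P.lift (a := 2) (fun z hz => ?_) gt ?_
    · obtain ⟨u, rfl⟩ := hz
      exact S.mem_V5.2 ⟨u, 0, 0, by rw [S.o_zero, S.e_zero, mul_one, mul_one]; rfl⟩
    · intro y hy
      obtain ⟨u, s, v, rfl⟩ := S.mem_V5.1 hy
      rw [map_mul, map_mul]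
      show g * (R.e 2 0 u * R.o 2 s * R.e 3 0 v) = R.e 2 0 u * R.o 2 s * R.e 3 0 v * g
      calc g * (R.e 2 0 u * R.o 2 s * R.e 3 0 v) = (g * R.e 2 0 u) * R.o 2 s * R.e 3 0 v := by group
        _ = R.e 2 0 u * (g * R.o 2 s) * R.e 3 0 v := by rw [gA]; group
        _ = R.e 2 0 u * R.o 2 s * (g * R.e 3 0 v) := by rw [gB]; group
        _ = _ := by rw [gC]; group
  rw [S.centralizer_V5] at hy
  obtain ⟨b4', b6', b7', hb⟩ := NO_conj S hy
  have key : ∀ p, p * b7' = φ (φ p) := by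
    intro p
    -- the action of `g` on `X_4`, through `y`
    have k1 : g⁻¹ * R.e 2 p 0 * g = i (S.e 2 p (0 + b4' * σ p + p * σ b4') * S.o 2 (p * b6') * S.e 3 0 (p * b7')) := by
      have k2 : i (y⁻¹ * S.e 2 p 0 * y) = (i y)⁻¹ * R.e 2 p 0 * i y := by rw [map_mul, map_mul, map_inv]; rfl
      rw [← hb, k2]
      rcases hgy with e | e
      · rw [e]
      · rw [e, mul_inv_rev, P.t_inv]
        calc (i y)⁻¹ * t * R.e 2 p 0 * (t * i y) = (i y)⁻¹ * (t * R.e 2 p 0) * t * i y := by group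
          _ = (i y)⁻¹ * R.e 2 p 0 * (t * t) * i y := by rw [tE]; group
          _ = _ := by rw [P.tt, mul_one]
    -- directly
    have k3 : h'⁻¹ * R.e 2 p 0 * h' = R.e 2 p 0 := by
      have e1 : h' * R.e 2 p 0 = R.e 2 p 0 * h' := by
        refine comm_aux (z8X p 0) ?_
        rw [conj_of (b2X p 0)]; exact z8X p 0
      rw [mul_assoc, ← e1, inv_mul_cancel_left]
    have k4 : n6⁻¹ * (n4⁻¹ * R.e 2 p 0 * n4) * n6 = R.e 2 p (0 + φ4 p) := by
      rw [b4X, mul_assoc, ← b6X, inv_mul_cancel_left]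
    have k5 : ∀ w, h * R.e 2 p w * h⁻¹ = R.e 2 p w * R.e 2 0 (φ p) * R.e 3 0 (φ (φ p)) := by
      intro w
      have d1 : z2 * R.e 2 p w * z2⁻¹ = R.e 2 p w := conj_of (z2X p w)
      have d2 : z2⁻¹ * R.o 3 (φ p) * z2 = R.o 3 (φ p) * R.e 2 0 (φ p) := by
        have d3 : z2 * R.e 2 0 (φ p) = R.e 2 0 (φ p) * z2 := z2X 0 _
        calc z2⁻¹ * R.o 3 (φ p) * z2 = z2⁻¹ * (R.o 3 (φ p) * z2 * R.e 2 0 (φ p)) * (R.e 2 0 (φ p))⁻¹ := by group
          _ = z2⁻¹ * (z2 * R.o 3 (φ p)) * (R.e 2 0 (φ p))⁻¹ := by rw [z2D]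
          _ = R.o 3 (φ p) * (R.e 2 0 (φ p))⁻¹ := by group
          _ = _ := by rw [inv_eq_of_mul_eq_one_left (sqE _ _)]
      have d4 : z2⁻¹ * R.e 3 0 (φ w) * z2 = R.e 3 0 (φ w) := by rw [mul_assoc, ← z2C, inv_mul_cancel_left]
      have d5 : z2⁻¹ * R.e 2 p w * z2 = R.e 2 p w := by rw [mul_assoc, ← z2X, inv_mul_cancel_left]
      have d6 : n8⁻¹ * R.o 3 (φ p) * n8 = R.o 3 (φ p) := by rw [mul_assoc, ← b8D, inv_mul_cancel_left]
      have d7 : n8⁻¹ * R.e 3 0 (φ w) * n8 = R.e 3 0 (φ w) := by rw [mul_assoc, ← b8C, inv_mul_cancel_left]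
      have d8 : n8⁻¹ * R.e 2 0 (φ p) * n8 = R.e 2 0 (φ p) * R.e 3 0 (φ (φ p)) := by
        rw [b8X, h8.phi_zero, o0, mul_one]
      have d9 : R.e 3 0 (φ (φ p)) * R.e 3 0 (φ w) = R.e 3 0 (φ w) * R.e 3 0 (φ (φ p)) := by
        rw [R.e_mul, R.e_mul]; (with_reducible congr 1); ring
      calc h * R.e 2 p w * h⁻¹
          = n8⁻¹ * (z2⁻¹ * (n8 * (z2 * R.e 2 p w * z2⁻¹) * n8⁻¹) * z2) * n8 := by rw [hh]; group
        _ = n8⁻¹ * (z2⁻¹ * (R.e 2 p w * R.o 3 (φ p) * R.e 3 0 (φ w)) * z2) * n8 := by rw [d1, c8X]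
        _ = n8⁻¹ * ((z2⁻¹ * R.e 2 p w * z2) * (z2⁻¹ * R.o 3 (φ p) * z2) * (z2⁻¹ * R.e 3 0 (φ w) * z2)) * n8 := by
            group
        _ = n8⁻¹ * (R.e 2 p w * (R.o 3 (φ p) * R.e 2 0 (φ p)) * R.e 3 0 (φ w)) * n8 := by rw [d5, d2, d4]
        _ = (n8⁻¹ * R.e 2 p w * n8) * (n8⁻¹ * R.o 3 (φ p) * n8) * (n8⁻¹ * R.e 2 0 (φ p) * n8) *
              (n8⁻¹ * R.e 3 0 (φ w) * n8) := by group
        _ = (R.e 2 p w * R.o 3 (φ p) * R.e 3 0 (φ w)) * R.o 3 (φ p) * (R.e 2 0 (φ p) * R.e 3 0 (φ (φ p))) *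
              R.e 3 0 (φ w) := by rw [b8X, d6, d8, d7]
        _ = R.e 2 p w * R.o 3 (φ p) * (R.e 3 0 (φ w) * R.o 3 (φ p)) * R.e 2 0 (φ p) *
              (R.e 3 0 (φ (φ p)) * R.e 3 0 (φ w)) := by group
        _ = R.e 2 p w * (R.o 3 (φ p) * R.o 3 (φ p)) * (R.e 3 0 (φ w) * R.e 2 0 (φ p)) * R.e 3 0 (φ w) *
              R.e 3 0 (φ (φ p)) := by rw [← rDC, d9]; group
        _ = R.e 2 p w * R.e 2 0 (φ p) * (R.e 3 0 (φ w) * R.e 3 0 (φ w)) * R.e 3 0 (φ (φ p)) := by
            rw [sqO, ← rAC]; group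
        _ = _ := by rw [sqE, mul_one]
    have k6 : g⁻¹ * R.e 2 p 0 * g = R.e 2 p (0 + φ4 p) * R.e 2 0 (φ p) * R.e 3 0 (φ (φ p)) := by
      calc g⁻¹ * R.e 2 p 0 * g = h * (n6⁻¹ * (n4⁻¹ * (h'⁻¹ * R.e 2 p 0 * h') * n4) * n6) * h⁻¹ := by rw [hg]; group
        _ = _ := by rw [k3, k4, k5]
    rw [k1] at k6
    have k7 : R.e 2 p (0 + φ4 p) * R.e 2 0 (φ p) * R.e 3 0 (φ (φ p)) = i (S.e 2 p (0 + φ4 p + φ p) *
        S.e 3 0 (φ (φ p))) := by
      rw [R.e_mul, map_zero, mul_zero, add_zero, add_zero, map_mul]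
      rfl
    rw [k7] at k6
    exact V5_uniq S (P.inj k6)
  -- the field argument
  by_contra hc
  have hsurj : ∀ x : F, ∃ r, σ r = x := by
    have := P.finF
    exact fun x => (Finite.injective_iff_surjective.1 σ.injective) x
  have k8 : ∀ s : F, s ^ 2 * (σ (φ 1)⁻¹ * b7') = φ 1 * s := by
    intro s
    have e1 := key (σ ((φ 1)⁻¹ * σ s))
    rw [h8.phi, ← mul_assoc, mul_inv_cancel₀ hc, one_mul, h8.phi, map_mul, S.sq] at e1
    rw [← e1]; ring
  have k9 : σ (φ 1)⁻¹ * b7' = φ 1 := by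
    have := k8 1
    rwa [one_pow, one_mul, mul_one] at this
  have k10 : ∀ s : F, s = 0 ∨ s = 1 := by
    intro s
    have e1 := k8 s
    rw [k9] at e1
    have e2 : φ 1 * (s * (s - 1)) = 0 := by linear_combination e1
    rcases mul_eq_zero.1 e2 with h | h
    · exact absurd h hc
    · rcases mul_eq_zero.1 h with h | h
      · exact Or.inl h
      · exact Or.inr (sub_eq_zero.1 h)
  have := P.finF
  have hle : Nat.card F ≤ Nat.card (Fin 2) := by
    refine Nat.card_le_card_of_surjective (fun k : Fin 2 => if k = 0 then (0 : F) else 1) ?_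
    intro s
    rcases k10 s with rfl | rfl
    · exact ⟨0, rfl⟩
    · exact ⟨1, rfl⟩
  have hb := P.big
  have h2' : Nat.card (Fin 2) = 2 := by simp
  omega

/-- rotation of the elements of 1.3 -/
theorem rotN (P : Pos S i t) {a : ZMod 8} {φ : F → F} {u : F} {n : G} (h : NEl S.toSys i t a φ u n) (k : ℕ) :
    ∃ n', NEl S.toSys i t (a + k) φ u n' := by
  induction k with
  | zero => exact ⟨n, by simpa using h⟩
  | succ k ih =>
    obtain ⟨n', hn'⟩ := ih
    refine ⟨i S.rot * n' * (i S.rot)⁻¹, ?_⟩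
    have e : a + ((k + 1 : ℕ) : ZMod 8) = a + k + 1 := by push_cast; ring
    rw [e]
    exact hn'.rot P.ti

/-- **1.4**: the constant is zero. -/
theorem phi_eq_zero (P : Pos S i t) (hn : ∀ u : F, ∃ (φ : F → F) (n : G), NEl S.toSys i t 2 φ u n) {φ : F → F} {u : F}
    {n : G} (h : NEl S.toSys i t 2 φ u n) (x : F) : φ x = 0 := by
  obtain ⟨n8, h8⟩ := rotN P h 2
  obtain ⟨φ2, m2, h2⟩ := hn 1
  obtain ⟨n2, h2⟩ := rotN P h2 7
  obtain ⟨φ4, n4, h4⟩ := hn (φ2 (σ u))
  obtain ⟨φ6, m6, h6⟩ := hn (φ u)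
  obtain ⟨n6, h6⟩ := rotN P h6 1
  have h1 : φ 1 = 0 := core P h8 h2 h4 h6
  have := P.finF
  obtain ⟨r, rfl⟩ := (Finite.injective_iff_surjective.1 σ.injective) x
  rw [h.phi, h1, zero_mul]

/-- the elements `w` centralising `P_4` with `[w, t] = i (e 2 0 u)` -/
theorem exists_cent (P : Pos S i t) (hn : ∀ u : F, ∃ (φ : F → F) (n : G), NEl S.toSys i t 2 φ u n) (u : F) :
    ∃ w : G, (∀ y ∈ S.PL, w * i y = i y * w) ∧ t * w * t = w * i (S.e 2 0 u) := by
  obtain ⟨φ, n, h⟩ := hn u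
  have h0 := phi_eq_zero P hn h
  refine ⟨n, ?_, ?_⟩
  · have hle : S.PL ≤ (Subgroup.centralizer ({n} : Set G)).comap i := by
      refine J_le fun k h1 h2 y hy => ?_
      rw [Subgroup.mem_comap, Subgroup.mem_centralizer_singleton_iff]
      have e2 : ∀ {x : G}, n⁻¹ * x * n = x → x * n = n * x := fun {x} hx => by
        calc x * n = n * (n⁻¹ * x * n) := by group
          _ = n * x := by rw [hx]
      have hk : k = 0 ∨ k = 1 ∨ k = 2 ∨ k = 3 ∨ k = 4 ∨ k = 5 ∨ k = 6 ∨ k = 7 ∨ k = 8 := by omega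
      rcases hk with rfl | rfl | rfl | rfl | rfl | rfl | rfl | rfl | rfl
      · obtain ⟨p, w, rfl⟩ := (S.mem_XZ_even 0 y).1 hy
        have h3 : n⁻¹ * i (S.e 0 p w) * n = i (S.e 0 p w * S.o 1 (φ p) * S.e 1 0 (φ w)) := h.xm p w
        rw [h0, h0, S.o_zero, S.e_zero, mul_one, mul_one] at h3
        exact e2 h3
      · obtain ⟨x, rfl⟩ := S.X1 hy
        exact (h.om2 x).symm
      · obtain ⟨p, w, rfl⟩ := S.X2 hy
        exact (h.em1 p w).symm
      · obtain ⟨x, rfl⟩ := S.X3 hy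
        exact (h.om1 x).symm
      · obtain ⟨p, w, rfl⟩ := S.X4 hy
        have h3 := h.x0 p w
        rw [h0, add_zero] at h3
        exact e2 h3
      · obtain ⟨x, rfl⟩ := S.X5 hy
        exact (h.o0 x).symm
      · obtain ⟨p, w, rfl⟩ := S.X6 hy
        exact (h.e1 p w).symm
      · obtain ⟨x, rfl⟩ := S.X7 hy
        exact (h.o1 x).symm
      · obtain ⟨p, w, rfl⟩ := S.X8 hy
        have h3 : n⁻¹ * i (S.e 4 p w) * n = i (S.e 4 p w * S.o 2 (φ p) * S.e 3 0 (φ w)) := h.xp p w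
        rw [h0, h0, S.o_zero, S.e_zero, mul_one, mul_one] at h3
        exact e2 h3
    intro y hy
    exact (Subgroup.mem_centralizer_singleton_iff.1 (hle hy)).symm
  · calc t * n * t = n * (n⁻¹ * t * n) * t := by group
      _ = n * (t * (i (S.e 2 0 u) * t)) := by rw [h.tau]; group
      _ = n * (t * t) * i (S.e 2 0 u) := by rw [← P.ti]; group
      _ = _ := by rw [P.tt, mul_one]

end Core

end Cfsg.Agent.OddHalf.D7TwF4.CKill

end

-- merged: Cfsg.Agent.OddHalf.D7TwF4.WMk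
section

/-!
# D7, `K = ²F₄(q)`: sections 1.5 - 1.7, the groups `W_a` (helper853; text: helper544, bb ODD 13028)

`Wst i t Z` : the group of the `w` centralising `i C_Y(Z)` with `[w, t] ∈ i Z`.

* `g_mem`, `g_sq` : `[w, x_1(a)] ∈ Wst Z_4`, an involution, for `w ∈ Wst Z_6`;
* `closed2` : `WS i t Z_4` is closed under multiplication (it is `Z_4 × {[w, x_1(a)]}`);
* `exists_WData` : the output of section 1, from elements of `C_G(P_4)` moving `t` to `t z`.
-/

set_option autoImplicit false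
set_option linter.unusedSectionVars false

namespace Cfsg.Agent.OddHalf.D7TwF4.WMk

open Cfsg.Agent.KFacts.TwF4 Cfsg.Agent.SplitTwo.ZS Cfsg.Agent.OddHalf.D7TwF4.Defs

universe u v w

variable {F : Type w} [Field F] {σ : F →+* F} {Y : Type u} [Group Y] {S : Full σ Y} {G : Type v} [Group G]
  {i : Y →* G} {t : G}

/-- the elements centralising `i C_Y(Z)` with `[w, t] ∈ i Z` -/
def Wst (P : Pos S i t) (a : ZMod 8) : Subgroup G where
  carrier := {w | (∀ y : Y, (∀ z ∈ S.Zc a, y * z = z * y) → w * i y = i y * w) ∧ ∃ z ∈ S.Zc a, t * w * t = w * i z}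
  one_mem' := ⟨fun y _ => by rw [one_mul, mul_one], 1, one_mem _, by rw [mul_one, P.tt, map_one, mul_one]⟩
  mul_mem' := by
    rintro v w ⟨hv, z, hz, ev⟩ ⟨hw, z', hz', ew⟩
    refine ⟨fun y hy => by rw [mul_assoc, hw y hy, ← mul_assoc, hv y hy, mul_assoc], z * z', mul_mem hz hz', ?_⟩
    have hzz : ∀ x ∈ S.Zc a, z * x = x * z := by
      rintro _ ⟨x, rfl⟩
      obtain ⟨u, rfl⟩ := hz
      rw [S.e_mul, S.e_mul]
      congr 1
      ring
    have h1 := hw z hzz
    calc t * (v * w) * t = t * v * 1 * w * t := by group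
      _ = (t * v * t) * (t * w * t) := by rw [← P.tt]; group
      _ = v * (i z * w) * i z' := by rw [ev, ew]; group
      _ = v * w * i (z * z') := by rw [← h1, map_mul]; group
  inv_mem' := by
    rintro w ⟨hw, z, hz, ew⟩
    refine ⟨fun y hy => ?_, z⁻¹, inv_mem hz, ?_⟩
    · have h1 := hw y hy
      rw [inv_mul_eq_iff_eq_mul, ← mul_assoc, h1, mul_inv_cancel_right]
    · have hzz : ∀ x ∈ S.Zc a, z⁻¹ * x = x * z⁻¹ := by
        rintro _ ⟨x, rfl⟩
        obtain ⟨u, hu⟩ := inv_mem hz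
        rw [← hu, S.e_mul, S.e_mul]
        congr 1
        ring
      have h1 := hw z⁻¹ hzz
      have h2 : w⁻¹ * i z⁻¹ = i z⁻¹ * w⁻¹ := by
        rw [inv_mul_eq_iff_eq_mul, ← mul_assoc, h1, mul_inv_cancel_right]
      calc t * w⁻¹ * t = (t⁻¹ * w * t⁻¹)⁻¹ := by group
        _ = (t * w * t)⁻¹ := by rw [P.t_inv]
        _ = w⁻¹ * i z⁻¹ := by rw [ew, mul_inv_rev, h2, map_inv]

/-- naturality of `Wst` -/
theorem Wst_conj (P : Pos S i t) {a b : ZMod 8} {g : Y} (hg : ∀ z, z ∈ S.Zc a ↔ g * z * g⁻¹ ∈ S.Zc b) {w : G}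
    (hw : w ∈ Wst P a) : i g * w * (i g)⁻¹ ∈ Wst P b := by
  obtain ⟨h2, z, hz, h3⟩ := hw
  have hgt := P.ti g
  have hgt' : t * (i g)⁻¹ = (i g)⁻¹ * t := by
    have := P.ti g⁻¹
    rwa [map_inv] at this
  refine ⟨?_, g * z * g⁻¹, (hg z).1 hz, ?_⟩
  · intro y hy
    have h5 := h2 (g⁻¹ * y * g) (by
      intro z hz
      have h6 := hy _ ((hg z).1 hz)
      calc g⁻¹ * y * g * z = g⁻¹ * (y * (g * z * g⁻¹)) * g := by group
        _ = z * (g⁻¹ * y * g) := by rw [h6]; group)
    rw [map_mul, map_mul, map_inv] at h5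
    calc i g * w * (i g)⁻¹ * i y = i g * (w * ((i g)⁻¹ * i y * i g)) * (i g)⁻¹ := by group
      _ = i y * (i g * w * (i g)⁻¹) := by rw [h5]; group
  · rw [map_mul, map_mul, map_inv]
    calc t * (i g * w * (i g)⁻¹) * t = (t * i g) * w * ((i g)⁻¹ * t) := by group
      _ = i g * (t * w * t) * (i g)⁻¹ := by rw [hgt, ← hgt']; group
      _ = i g * w * (i g)⁻¹ * (i g * i z * (i g)⁻¹) := by rw [h3]; group

section

variable (P : Pos S i t)

include P

/-- `C_Y(Z_4) = P_4` -/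
theorem mem_PL_of_comm {y : Y} (hy : ∀ z ∈ S.Zc 2, y * z = z * y) : y ∈ S.PL := by
  have := P.finF
  have h1 : S.e 2 0 1 ≠ 1 := fun h => one_ne_zero (S.e_eq_one h).2
  rw [← S.centralizer_z (z := S.e 2 0 1) ⟨1, rfl⟩ h1, Subgroup.mem_centralizer_singleton_iff]
  exact hy _ ⟨1, rfl⟩

theorem comm_PL {w : G} (hw : w ∈ Wst P 2) {y : Y} (hy : y ∈ S.PL) : w * i y = i y * w :=
  hw.1 y fun _ hz => S.comm_PL hy hz

theorem mk2 {w : G} (h1 : ∀ y ∈ S.PL, w * i y = i y * w) {u : F} (h2 : t * w * t = w * i (S.e 2 0 u)) : w ∈ Wst P 2 :=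
  ⟨fun _ hy => h1 _ (mem_PL_of_comm P hy), _, ⟨u, rfl⟩, h2⟩

/-- the kernel of `τ` -/
theorem ker2 {w : G} (hw : w ∈ Wst P 2) (hwt : w * t = t * w) : ∃ u, w = i (S.e 2 0 u) ∨ w = t * i (S.e 2 0 u) := by
  obtain ⟨y, hy, h⟩ := P.lift (A := (S.PL : Set Y)) (a := 2) (fun z hz => by
    obtain ⟨u, rfl⟩ := hz
    exact mem_J (S.mX4 0 u) (by norm_num) (by norm_num)) hwt (fun y hy => comm_PL P hw hy)
  obtain ⟨u, rfl⟩ := S.center_PL (g := y) (fun x hx => ((Subgroup.mem_centralizer_iff.1 hy) x hx).symm)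
  exact ⟨u, h⟩

/-- the torus element `h c (σ c)` centralises `X_6` -/
theorem h_six (c : Fˣ) (p w : F) : S.h c (Units.map (σ : F →* F) c) * S.e 3 p w *
    (S.h c (Units.map (σ : F →* F) c))⁻¹ = S.e 3 p w := by
  rw [S.h_e, chE_three, div_self', Units.val_one, map_one, one_mul, one_mul, one_mul]

theorem h_one (c : Fˣ) (x : F) : S.h c (Units.map (σ : F →* F) c) * S.o 0 x *
    (S.h c (Units.map (σ : F →* F) c))⁻¹ = S.o 0 (c * σ c * x) := by
  rw [S.h_o]
  congr 1

theorem h_four (c : Fˣ) (x : F) : S.h c (Units.map (σ : F →* F) c) * S.e 2 0 x *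
    (S.h c (Units.map (σ : F →* F) c))⁻¹ = S.e 2 0 (c * σ c * x) := by
  have h1 : chE σ 2 c (Units.map (σ : F →* F) c) = c := by
    rw [chE_two, map_map σ S.sq, pow_two, mul_div_cancel_right]
  rw [S.h_e, h1, mul_zero]

/-- `[w, x_1(a)]` -/
def gx (i : Y →* G) (S : Full σ Y) (w : G) (a : F) : G := w * i (S.o 0 a) * w⁻¹ * (i (S.o 0 a))⁻¹

theorem r14 (a u : F) : i (S.o 0 a) * i (S.e 2 0 u) = i (S.e 2 0 u) * i (S.o 0 a) := by
  rw [← map_mul, ← map_mul, S.comm_Z4 (k := 1) (by norm_num) (by norm_num) (S.mX1 a) u]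

theorem r16 (a u : F) : i (S.o 0 a) * i (S.e 3 0 u) = i (S.e 3 0 u) * i (S.o 0 a) * i (S.e 2 0 (a * u)) := by
  have r1 : S.o 0 a * S.e 3 0 u = S.e 3 0 u * S.o 0 a * S.e 1 0 (σ a * 0) * S.o 1 (a * σ 0) *
      S.e 2 0 (a * 0 * σ 0 + a * u) := S.o_e3 0 a 0 u
  rw [map_zero, mul_zero, mul_zero, zero_mul, zero_add, S.o_zero, S.e_zero, mul_one, mul_one] at r1
  rw [← map_mul, r1, map_mul, map_mul]

/-- the commutator with `t` -/
theorem gx_t {w : G} {u : F} (hw : ∀ y : Y, (∀ z ∈ S.Zc 3, y * z = z * y) → w * i y = i y * w)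
    (h : t * w * t = w * i (S.e 3 0 u)) (a : F) : t * gx i S w a * t = gx i S w a * i (S.e 2 0 (a * u)) := by
  have c4 : ∀ v, w * i (S.e 2 0 v) = i (S.e 2 0 v) * w := fun v => hw _ (by
    rintro _ ⟨x, rfl⟩
    have h := S.e_e1 2 0 v 0 x
    rw [mul_zero, S.o_zero, mul_one] at h
    exact h)
  have c6 : ∀ v, w * i (S.e 3 0 v) = i (S.e 3 0 v) * w := fun v => hw _ (by
    rintro _ ⟨x, rfl⟩
    rw [S.e_mul, S.e_mul]; congr 1; ring)
  have h1 : t * w⁻¹ * t = w⁻¹ * (i (S.e 3 0 u))⁻¹ := by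
    have e : t * w⁻¹ * t = (t * w * t)⁻¹ := by
      calc t * w⁻¹ * t = (t⁻¹ * w * t⁻¹)⁻¹ := by group
        _ = _ := by rw [P.t_inv]
    rw [e, h, c6, mul_inv_rev]
  have hx : t * i (S.o 0 a) * t = i (S.o 0 a) := by rw [P.ti, mul_assoc, P.tt, mul_one]
  have hx' : t * (i (S.o 0 a))⁻¹ * t = (i (S.o 0 a))⁻¹ := by
    have := P.ti (S.o 0 a)⁻¹
    rw [map_inv] at this
    rw [this, mul_assoc, P.tt, mul_one]
  have h2 : i (S.e 3 0 u) * i (S.o 0 a) * (i (S.e 3 0 u))⁻¹ = i (S.e 2 0 (a * u)) * i (S.o 0 a) := by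
    have h3 := r16 P (t := t) a u
    have h4 : i (S.e 3 0 u) * i (S.o 0 a) = i (S.o 0 a) * i (S.e 3 0 u) * (i (S.e 2 0 (a * u)))⁻¹ := by
      rw [h3]; group
    have h5 : (i (S.e 3 0 u) : G) * i (S.e 2 0 (a * u)) = i (S.e 2 0 (a * u)) * i (S.e 3 0 u) := by
      have h := S.e_e1 2 0 (a * u) 0 u
      rw [mul_zero, S.o_zero, mul_one] at h
      rw [← map_mul, ← map_mul]
      exact (congrArg i h).symm
    have h6 : (i (S.e 2 0 (a * u)))⁻¹ = i (S.e 2 0 (a * u)) := by
      rw [← map_inv]; congr 1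
      apply inv_eq_of_mul_eq_one_left
      rw [S.e_mul, add_zero, zero_mul, add_zero, S.add_self, S.e_zero]
    rw [h4, h6]
    calc i (S.o 0 a) * i (S.e 3 0 u) * i (S.e 2 0 (a * u)) * (i (S.e 3 0 u))⁻¹
        = i (S.o 0 a) * (i (S.e 3 0 u) * i (S.e 2 0 (a * u))) * (i (S.e 3 0 u))⁻¹ := by group
      _ = i (S.o 0 a) * i (S.e 2 0 (a * u)) := by rw [h5]; group
      _ = _ := r14 P (t := t) a _
  calc t * gx i S w a * t = t * w * 1 * i (S.o 0 a) * 1 * w⁻¹ * 1 * (i (S.o 0 a))⁻¹ * t := by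
        rw [gx]; group
    _ = (t * w * t) * (t * i (S.o 0 a) * t) * (t * w⁻¹ * t) * (t * (i (S.o 0 a))⁻¹ * t) := by
        rw [← P.tt]; group
    _ = w * (i (S.e 3 0 u) * i (S.o 0 a)) * (w⁻¹ * (i (S.e 3 0 u))⁻¹) * (i (S.o 0 a))⁻¹ := by
        rw [h, hx, h1, hx']; group
    _ = w * (i (S.e 3 0 u) * i (S.o 0 a) * (i (S.e 3 0 u))⁻¹) * w⁻¹ * (i (S.o 0 a))⁻¹ := by
        have e : w⁻¹ * (i (S.e 3 0 u))⁻¹ = (i (S.e 3 0 u))⁻¹ * w⁻¹ := by
          rw [← mul_inv_rev, ← c6, mul_inv_rev]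
        rw [e]; group
    _ = (w * i (S.e 2 0 (a * u))) * i (S.o 0 a) * w⁻¹ * (i (S.o 0 a))⁻¹ := by rw [h2]; group
    _ = i (S.e 2 0 (a * u)) * gx i S w a := by rw [c4, gx]; group
    _ = _ := by
      -- `x_4'(a u)` commutes with everything
      have e1 : i (S.e 2 0 (a * u)) * w = w * i (S.e 2 0 (a * u)) := (c4 _).symm
      have e2 : i (S.e 2 0 (a * u)) * w⁻¹ = w⁻¹ * i (S.e 2 0 (a * u)) := by
        rw [eq_inv_mul_iff_mul_eq, ← mul_assoc, c4, mul_inv_cancel_right]
      have e3 := r14 P (t := t) a (a * u)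
      have e4 : i (S.e 2 0 (a * u)) * (i (S.o 0 a))⁻¹ = (i (S.o 0 a))⁻¹ * i (S.e 2 0 (a * u)) := by
        rw [eq_inv_mul_iff_mul_eq, ← mul_assoc, e3, mul_inv_cancel_right]
      rw [gx]
      calc i (S.e 2 0 (a * u)) * (w * i (S.o 0 a) * w⁻¹ * (i (S.o 0 a))⁻¹)
          = (i (S.e 2 0 (a * u)) * w) * i (S.o 0 a) * w⁻¹ * (i (S.o 0 a))⁻¹ := by group
        _ = w * (i (S.e 2 0 (a * u)) * i (S.o 0 a)) * w⁻¹ * (i (S.o 0 a))⁻¹ := by rw [e1]; group
        _ = w * i (S.o 0 a) * (i (S.e 2 0 (a * u)) * w⁻¹) * (i (S.o 0 a))⁻¹ := by rw [← e3]; group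
        _ = w * i (S.o 0 a) * w⁻¹ * (i (S.e 2 0 (a * u)) * (i (S.o 0 a))⁻¹) := by rw [e2]; group
        _ = _ := by rw [e4]; group

/-- elements of `Wst 3` commute with `X_2, …, X_10` -/
theorem comm_P6 {w : G} (hw : w ∈ Wst P 3) {k : ℤ} (h1 : 2 ≤ k) (h2 : k ≤ 10) {y : Y} (hy : y ∈ S.XZ k) :
    w * i y = i y * w := hw.1 y (by rintro _ ⟨v, rfl⟩; exact S.comm_Z6 h1 h2 hy v)

/-- `[w, x_1(a)]` commutes with `Q_5` -/
theorem gx_comm {w : G} (hw : w ∈ Wst P 3) (a : F) {y : Y} (hy : y ∈ J S.XZ 2 8) :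
    gx i S w a * i y = i y * gx i S w a := by
  have hcw : ∀ x ∈ J S.XZ 2 8, w * i x = i x * w := by
    have : J S.XZ 2 8 ≤ (Subgroup.centralizer ({w} : Set G)).comap i := J_le fun k h1 h2 x hx => by
      rw [Subgroup.mem_comap, Subgroup.mem_centralizer_singleton_iff]
      exact (comm_P6 P hw h1 (by omega) hx).symm
    intro x hx
    exact (Subgroup.mem_centralizer_singleton_iff.1 (this hx)).symm
  have hy' : (S.o 0 a)⁻¹ * y * S.o 0 a ∈ J S.XZ 2 8 := by
    have h1 := S.zsys8.le_normalizer (a := 2) (b := 8) (by norm_num)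
    have h2 : S.o 0 a ∈ Subgroup.normalizer (J S.XZ 2 8 : Set Y) := h1 (mem_J (S.mX1 a) (by norm_num) (by norm_num))
    have h3 := (Subgroup.mem_normalizer_iff.1 (inv_mem h2) y).1 hy
    rwa [inv_inv] at h3
  have h1 := hcw _ hy
  have h2 := hcw _ hy'
  have h3 : w⁻¹ * i ((S.o 0 a)⁻¹ * y * S.o 0 a) = i ((S.o 0 a)⁻¹ * y * S.o 0 a) * w⁻¹ := by
    rw [inv_mul_eq_iff_eq_mul, ← mul_assoc, h2, mul_inv_cancel_right]
  rw [map_mul, map_mul, map_inv] at h3
  rw [gx]
  calc w * i (S.o 0 a) * w⁻¹ * (i (S.o 0 a))⁻¹ * i y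
      = w * i (S.o 0 a) * (w⁻¹ * ((i (S.o 0 a))⁻¹ * i y * i (S.o 0 a))) * (i (S.o 0 a))⁻¹ := by group
    _ = (w * i y) * i (S.o 0 a) * w⁻¹ * (i (S.o 0 a))⁻¹ := by rw [h3]; group
    _ = _ := by rw [h1]; group

/-- the hypothesis: the output of section 1.4 -/
def HC (_P : Pos S i t) : Prop := ∀ u : F, ∃ w : G, (∀ y ∈ S.PL, w * i y = i y * w) ∧ t * w * t = w * i (S.e 2 0 u)

/-- first step: `[w, x_1(a)] ∈ x_6'(β) Wst 2` -/
theorem gx_form (hc : HC P) {w : G} (hw : w ∈ Wst P 3) (a : F) : ∃ β : F, ∃ m ∈ Wst P 2,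
    gx i S w a = i (S.e 3 0 β) * m := by
  obtain ⟨hw1, z, ⟨u, rfl⟩, hw2⟩ := id hw
  obtain ⟨m, hm1, hm2⟩ := hc (a * u)
  have hmW : m ∈ Wst P 2 := mk2 P hm1 hm2
  have h1 := gx_t P hw1 hw2 a
  have h2 : gx i S w a * m⁻¹ * t = t * (gx i S w a * m⁻¹) := by
    have h3 : t * m⁻¹ * t = (i (S.e 2 0 (a * u)))⁻¹ * m⁻¹ := by
      have e : t * m⁻¹ * t = (t * m * t)⁻¹ := by
        calc t * m⁻¹ * t = (t⁻¹ * m * t⁻¹)⁻¹ := by group
          _ = _ := by rw [P.t_inv]
      rw [e, hm2, mul_inv_rev]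
    have h4 : t * (gx i S w a * m⁻¹) * t = gx i S w a * m⁻¹ := by
      calc t * (gx i S w a * m⁻¹) * t = t * gx i S w a * 1 * m⁻¹ * t := by group
        _ = (t * gx i S w a * t) * (t * m⁻¹ * t) := by rw [← P.tt]; group
        _ = _ := by rw [h1, h3]; group
    calc gx i S w a * m⁻¹ * t = (t * (gx i S w a * m⁻¹) * t) * t := by rw [h4]
      _ = t * (gx i S w a * m⁻¹) * (t * t) := by group
      _ = _ := by rw [P.tt, mul_one]
  have hmJ : ∀ y ∈ J S.XZ 2 8, m⁻¹ * i y = i y * m⁻¹ := fun y hy => by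
    have h3 := hm1 y (J_mono (by norm_num) (by norm_num) hy)
    rw [inv_mul_eq_iff_eq_mul, ← mul_assoc, h3, mul_inv_cancel_right]
  obtain ⟨y, hy, h⟩ := P.lift (A := (J S.XZ 2 8 : Set Y)) (a := 2) (fun z hz => by
    obtain ⟨u, rfl⟩ := hz
    exact mem_J (S.mX4 0 u) (by norm_num) (by norm_num)) h2 (fun y hy => by
    rw [mul_assoc, hmJ y hy, ← mul_assoc, gx_comm P hw a hy, mul_assoc])
  rw [S.centralizer_J28] at hy
  obtain ⟨α, β, rfl⟩ := hy
  have hcomm : S.e 2 0 α * S.e 3 0 β = S.e 3 0 β * S.e 2 0 α := by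
    have h := S.e_e1 2 0 α 0 β
    rw [mul_zero, S.o_zero, mul_one] at h
    exact h
  have hz : i (S.e 2 0 α) ∈ Wst P 2 := by
    refine ⟨fun y hy => ?_, 1, one_mem _, ?_⟩
    · rw [← map_mul, ← map_mul, hy _ ⟨α, rfl⟩]
    · rw [P.ti, mul_assoc, P.tt, map_one]
  have htW : t ∈ Wst P 2 := ⟨fun y _ => P.ti y, 1, one_mem _, by rw [P.tt, one_mul, map_one, mul_one]⟩
  refine ⟨β, ?_⟩
  have e0 : gx i S w a = gx i S w a * m⁻¹ * m := by group
  rcases h with h | h
  · refine ⟨i (S.e 2 0 α) * m, mul_mem hz hmW, ?_⟩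
    rw [e0, h, hcomm, map_mul, mul_assoc]
  · refine ⟨t * i (S.e 2 0 α) * m, mul_mem (mul_mem htW hz) hmW, ?_⟩
    rw [e0, h, hcomm, map_mul]
    calc t * (i (S.e 3 0 β) * i (S.e 2 0 α)) * m = (t * i (S.e 3 0 β)) * i (S.e 2 0 α) * m := by group
      _ = _ := by rw [P.ti]; group

/-- additivity -/
theorem gx_add (w : G) (a b : F) : gx i S w (a + b) = gx i S w a * (i (S.o 0 a) * gx i S w b * (i (S.o 0 a))⁻¹) := by
  rw [gx, gx, gx, ← S.o_add, map_mul]
  group

/-- some unit `c ≠ 1` -/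
theorem exists_c : ∃ c : Fˣ, (c : F) * σ c ≠ 1 := by
  by_contra hcon
  push Not at hcon
  have := P.finF
  have h1 : ∀ x : F, x = 0 ∨ x = 1 := by
    intro x
    by_cases hx : x = 0
    · exact Or.inl hx
    · right
      have h2 := hcon (Units.mk0 x hx)
      have h3 := S.unit_eq_one (x := Units.mk0 x hx) (Units.ext h2)
      exact congrArg Units.val h3
  have hle : Nat.card F ≤ Nat.card (Fin 2) := by
    refine Nat.card_le_card_of_surjective (fun k : Fin 2 => if k = 0 then (0 : F) else 1) ?_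
    intro s
    rcases h1 s with rfl | rfl
    · exact ⟨0, rfl⟩
    · exact ⟨1, rfl⟩
  have hb := P.big
  have h2' : Nat.card (Fin 2) = 2 := by simp
  omega

/-- the torus element normalises `Z_{2a}` -/
theorem h_Zc (c d : Fˣ) (a : ZMod 8) (z : Y) : z ∈ S.Zc a ↔ S.h c d * z * (S.h c d)⁻¹ ∈ S.Zc a := by
  constructor
  · exact fun hz => S.T_conj_Zc (S.mem_T.2 ⟨c, d, rfl⟩) hz
  · intro hz
    have h1 := S.T_conj_Zc (S.mem_T.2 ⟨c⁻¹, d⁻¹, rfl⟩) hz
    rw [← S.h_inv] at h1
    have e : (S.h c d)⁻¹ * (S.h c d * z * (S.h c d)⁻¹) * (S.h c d)⁻¹⁻¹ = z := by group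
    rwa [e] at h1

/-- **`[w, x_1(a)] ∈ Wst 2`** -/
theorem gx_mem (hc : HC P) {w : G} (hw : w ∈ Wst P 3) (a' : F) : gx i S w a' ∈ Wst P 2 := by
  obtain ⟨c, hcc⟩ := exists_c P
  set! h := S.h c (Units.map (σ : F →* F) c) with hh
  set l : F := c * σ c with hl
  have hl1 : l + 1 ≠ 0 := by
    intro h0
    apply hcc
    have h2 := S.two
    linear_combination h0 - h2
  set! a : F := a' / (l + 1) with ha
  have hsum : l * a + a = a' := by rw [ha]; field_simp
  obtain ⟨β, m, hm, hg⟩ := gx_form P hc hw a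
  -- conjugate by the torus element
  have hwh : w * i h = i h * w := hw.1 h (by
    rintro _ ⟨v, rfl⟩
    have h1 := h_six P (t := t) c 0 v
    rw [← hh] at h1
    exact mul_inv_eq_iff_eq_mul.1 h1)
  have hg2 : gx i S w (l * a) = i (S.e 3 0 β) * (i h * m * (i h)⁻¹) := by
    have h1 := h_one P (t := t) c a
    rw [← hh, ← hl] at h1
    have h2 : i (S.o 0 (l * a)) = i h * i (S.o 0 a) * (i h)⁻¹ := by rw [← h1, map_mul, map_mul, map_inv]
    have h3 : i h * i (S.e 3 0 β) * (i h)⁻¹ = i (S.e 3 0 β) := by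
      rw [← map_mul, ← map_inv, ← map_mul, hh, h_six P (t := t)]
    have h4 : w⁻¹ * i h = i h * w⁻¹ := by rw [inv_mul_eq_iff_eq_mul, ← mul_assoc, hwh, mul_inv_cancel_right]
    calc gx i S w (l * a) = (w * i h) * i (S.o 0 a) * (i h)⁻¹ * w⁻¹ * i h * (i (S.o 0 a))⁻¹ * (i h)⁻¹ := by
          rw [gx, h2]; group
      _ = i h * w * i (S.o 0 a) * (i h)⁻¹ * (w⁻¹ * i h) * (i (S.o 0 a))⁻¹ * (i h)⁻¹ := by rw [hwh]; group
      _ = i h * gx i S w a * (i h)⁻¹ := by rw [h4, gx]; group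
      _ = (i h * i (S.e 3 0 β) * (i h)⁻¹) * (i h * m * (i h)⁻¹) := by rw [hg]; group
      _ = _ := by rw [h3]
  have hm' : i h * m * (i h)⁻¹ ∈ Wst P 2 := Wst_conj P (fun z => h_Zc P (t := t) c _ 2 z) hm
  set m' := i h * m * (i h)⁻¹ with hm'd
  -- the sum
  have x1 : ∀ {v : G}, v ∈ Wst P 2 → v * i (S.o 0 (l * a)) = i (S.o 0 (l * a)) * v := fun hv =>
    comm_PL P hv (mem_J (S.mX1 _) (by norm_num) (by norm_num))
  have x6 : ∀ {v : G}, v ∈ Wst P 2 → v * i (S.e 3 0 β) = i (S.e 3 0 β) * v := fun hv =>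
    comm_PL P hv (mem_J (S.mX6 0 _) (by norm_num) (by norm_num))
  have hz : i (S.e 2 0 (l * a * β)) ∈ Wst P 2 := by
    refine ⟨fun y hy => ?_, 1, one_mem _, ?_⟩
    · rw [← map_mul, ← map_mul, hy _ ⟨_, rfl⟩]
    · rw [P.ti, mul_assoc, P.tt, map_one]
  have s6 : i (S.e 3 0 β) * i (S.e 3 0 β) = 1 := by
    rw [← map_mul, S.e_mul, add_zero, zero_mul, add_zero, S.add_self, S.e_zero, map_one]
  rw [← hsum, gx_add P (t := t), hg2, hg]
  have e : i (S.e 3 0 β) * m' * (i (S.o 0 (l * a)) * (i (S.e 3 0 β) * m) * (i (S.o 0 (l * a)))⁻¹) =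
      m' * i (S.e 2 0 (l * a * β)) * m := by
    calc i (S.e 3 0 β) * m' * (i (S.o 0 (l * a)) * (i (S.e 3 0 β) * m) * (i (S.o 0 (l * a)))⁻¹)
        = i (S.e 3 0 β) * m' * (i (S.o 0 (l * a)) * i (S.e 3 0 β)) * m * (i (S.o 0 (l * a)))⁻¹ := by group
      _ = i (S.e 3 0 β) * (m' * i (S.e 3 0 β)) * (i (S.o 0 (l * a)) * (i (S.e 2 0 (l * a * β)) * m)) *
            (i (S.o 0 (l * a)))⁻¹ := by
          rw [r16 P (t := t)]; group
      _ = (i (S.e 3 0 β) * i (S.e 3 0 β)) * m' * (i (S.e 2 0 (l * a * β)) * m) := by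
          rw [← x1 (mul_mem hz hm), x6 hm']; group
      _ = _ := by rw [s6]; group
  rw [e]
  exact mul_mem (mul_mem hm' hz) hm

/-- `[w, x_1(a)]` is an involution -/
theorem gx_sq (hc : HC P) {w : G} (hw : w ∈ Wst P 3) (a : F) : gx i S w a * gx i S w a = 1 := by
  have h1 : gx i S w a * i (S.o 0 a) = i (S.o 0 a) * gx i S w a :=
    comm_PL P (gx_mem P hc hw a) (mem_J (S.mX1 _) (by norm_num) (by norm_num))
  have h2 : i (S.o 0 a) * i (S.o 0 a) = 1 := by rw [← map_mul, S.o_add, S.add_self, S.o_zero, map_one]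
  have h3 : gx i S w a * i (S.o 0 a) = w * i (S.o 0 a) * w⁻¹ := by rw [gx]; group
  calc gx i S w a * gx i S w a = gx i S w a * gx i S w a * (i (S.o 0 a) * i (S.o 0 a)) := by rw [h2, mul_one]
    _ = gx i S w a * (gx i S w a * i (S.o 0 a)) * i (S.o 0 a) := by group
    _ = gx i S w a * (i (S.o 0 a) * gx i S w a) * i (S.o 0 a) := by rw [h1]
    _ = (gx i S w a * i (S.o 0 a)) * (gx i S w a * i (S.o 0 a)) := by group
    _ = w * (i (S.o 0 a) * i (S.o 0 a)) * w⁻¹ := by rw [h3]; group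
    _ = 1 := by rw [h2]; group

/-- `a ↦ [w, x_1(a)]` is a homomorphism -/
theorem gx_mul (hc : HC P) {w : G} (hw : w ∈ Wst P 3) (a b : F) :
    gx i S w (a + b) = gx i S w a * gx i S w b := by
  rw [gx_add P (t := t)]
  have h1 : gx i S w b * i (S.o 0 a) = i (S.o 0 a) * gx i S w b :=
    comm_PL P (gx_mem P hc hw b) (mem_J (S.mX1 _) (by norm_num) (by norm_num))
  rw [← h1, mul_inv_cancel_right]

/-! ### transport -/

theorem rotk_Zc (k : ℤ) (a : ℤ) (z : Y) : z ∈ S.Zc (a : ZMod 8) ↔ S.rot ^ k * z * (S.rot ^ k)⁻¹ ∈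
    S.Zc ((a + k : ℤ) : ZMod 8) := by
  have e : ((a + k : ℤ) : ZMod 8) = (a : ZMod 8) + (k : ZMod 8) := by push_cast; rfl
  rw [e, ← S.map_Zc k a]
  constructor
  · intro hz
    exact ⟨z, hz, rfl⟩
  · rintro ⟨x, hx, hxz⟩
    have h : S.rot ^ k * x * (S.rot ^ k)⁻¹ = S.rot ^ k * z * (S.rot ^ k)⁻¹ := hxz
    rwa [← mul_left_cancel (mul_right_cancel h)]

theorem n1_Zc (z : Y) : z ∈ S.Zc 2 ↔ S.n1 * z * S.n1⁻¹ ∈ S.Zc 3 := by
  constructor
  · rintro ⟨u, rfl⟩
    exact ⟨u, (S.n1_e 2 0 u).symm⟩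
  · rintro ⟨u, hu⟩
    have h1 : S.n1⁻¹ * S.e 3 0 u * S.n1 = S.e 2 0 u := S.n1_e' 3 0 u
    have h2 : z = S.n1⁻¹ * (S.n1 * z * S.n1⁻¹) * S.n1 := by group
    rw [h2, ← hu, h1]
    exact ⟨u, rfl⟩

theorem n1_Zc' (z : Y) : z ∈ S.Zc 3 ↔ S.n1 * z * S.n1⁻¹ ∈ S.Zc 2 := by
  constructor
  · rintro ⟨u, rfl⟩
    exact ⟨u, (S.n1_e 3 0 u).symm⟩
  · rintro ⟨u, hu⟩
    have h1 : S.n1⁻¹ * S.e 2 0 u * S.n1 = S.e 3 0 u := S.n1_e' 2 0 u
    have h2 : z = S.n1⁻¹ * (S.n1 * z * S.n1⁻¹) * S.n1 := by group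
    rw [h2, ← hu, h1]
    exact ⟨u, rfl⟩

/-- an element of `Wst 3` over `x_6'(1)` -/
theorem exists_w1 (hc : HC P) : ∃ w ∈ Wst P 3, t * w * t = w * i (S.e 3 0 1) := by
  obtain ⟨m, hm1, hm2⟩ := hc 1
  have hm := mk2 P hm1 hm2
  refine ⟨i S.n1 * m * (i S.n1)⁻¹, Wst_conj P (fun z => n1_Zc P (t := t) z) hm, ?_⟩
  have h1 : (i (S.e 3 0 1) : G) = i S.n1 * i (S.e 2 0 1) * (i S.n1)⁻¹ := by
    rw [← map_mul, ← map_inv, ← map_mul, S.n1_e]
    rfl
  have h2 : (i S.n1)⁻¹ * t = t * (i S.n1)⁻¹ := by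
    have := P.ti S.n1⁻¹
    rw [map_inv] at this
    exact this.symm
  rw [h1]
  calc t * (i S.n1 * m * (i S.n1)⁻¹) * t = (t * i S.n1) * m * ((i S.n1)⁻¹ * t) := by group
    _ = i S.n1 * (t * m * t) * (i S.n1)⁻¹ := by rw [P.ti, h2]; group
    _ = _ := by rw [hm2]; group

/-! ### the group `W 2` -/

theorem e2_mul (u v : F) : S.e 2 0 u * S.e 2 0 v = S.e 2 0 (u + v) := by
  rw [S.e_mul, add_zero, zero_mul, add_zero]

/-- the elements of `WS i t Z_4` are the `[w, x_1(a)] z` -/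
theorem form2 (hc : HC P) {w : G} (hw : w ∈ Wst P 3) (hw1 : t * w * t = w * i (S.e 3 0 1)) (v : G) :
    v ∈ WS i t (S.Zc 2) ↔ ∃ a u, v = gx i S w a * i (S.e 2 0 u) := by
  have hg : ∀ a, t * gx i S w a * t = gx i S w a * i (S.e 2 0 a) := fun a => by
    have := gx_t P hw.1 hw1 a
    rwa [mul_one] at this
  have hm := fun a => gx_mem P hc hw a
  have hz : ∀ u, i (S.e 2 0 u) ∈ Wst P 2 := fun u => by
    refine ⟨fun y hy => ?_, 1, one_mem _, ?_⟩
    · rw [← map_mul, ← map_mul, hy _ ⟨_, rfl⟩]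
    · rw [P.ti, mul_assoc, P.tt, map_one]
  have hgz : ∀ a u, gx i S w a * i (S.e 2 0 u) = i (S.e 2 0 u) * gx i S w a := fun a u =>
    comm_PL P (hm a) (mem_J (S.mX4 0 u) (by norm_num) (by norm_num))
  have sqz : ∀ u, i (S.e 2 0 u) * i (S.e 2 0 u) = 1 := fun u => by
    rw [← map_mul, e2_mul P (t := t), S.add_self, S.e_zero, map_one]
  constructor
  · rintro ⟨h1, h2, ⟨z, ⟨a, rfl⟩, h3⟩, h4⟩
    have hv : v ∈ Wst P 2 := ⟨h2, _, ⟨a, rfl⟩, h3⟩
    have h5 : v * gx i S w a ∈ Wst P 2 := mul_mem hv (hm a)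
    have h6 : v * gx i S w a * t = t * (v * gx i S w a) := by
      have h7 : t * (v * gx i S w a) * t = v * gx i S w a := by
        calc t * (v * gx i S w a) * t = t * v * 1 * gx i S w a * t := by group
          _ = (t * v * t) * (t * gx i S w a * t) := by rw [← P.tt]; group
          _ = v * (i (S.e 2 0 a) * gx i S w a) * i (S.e 2 0 a) := by rw [h3, hg]; group
          _ = v * gx i S w a * (i (S.e 2 0 a) * i (S.e 2 0 a)) := by rw [← hgz]; group
          _ = _ := by rw [sqz, mul_one]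
      calc v * gx i S w a * t = (t * (v * gx i S w a) * t) * t := by rw [h7]
        _ = t * (v * gx i S w a) * (t * t) := by group
        _ = _ := by rw [P.tt, mul_one]
    obtain ⟨u, h7 | h7⟩ := ker2 P h5 h6
    · refine ⟨a, u, ?_⟩
      rw [hgz, ← h7, mul_assoc, gx_sq P hc hw a, mul_one]
    · exfalso
      have h8 : v = t * i (S.e 2 0 u) * gx i S w a := by rw [← h7, mul_assoc, gx_sq P hc hw a, mul_one]
      have h9 : v * v = i (S.e 2 0 a) := by
        calc v * v = (t * i (S.e 2 0 u)) * gx i S w a * t * i (S.e 2 0 u) * gx i S w a := by rw [h8]; group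
          _ = i (S.e 2 0 u) * (t * gx i S w a * t) * (i (S.e 2 0 u) * gx i S w a) := by rw [P.ti]; group
          _ = (i (S.e 2 0 u) * gx i S w a) * i (S.e 2 0 a) * (i (S.e 2 0 u) * gx i S w a) := by rw [hg]; group
          _ = (gx i S w a * (i (S.e 2 0 u) * i (S.e 2 0 a))) * (gx i S w a * i (S.e 2 0 u)) := by
            rw [← hgz]; group
          _ = (gx i S w a * (i (S.e 2 0 a) * i (S.e 2 0 u))) * (gx i S w a * i (S.e 2 0 u)) := by
            rw [← map_mul, e2_mul P (t := t), add_comm, ← e2_mul P (t := t), map_mul]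
          _ = i (S.e 2 0 a) * (gx i S w a * (i (S.e 2 0 u) * gx i S w a)) * i (S.e 2 0 u) := by
            rw [← mul_assoc (gx i S w a), hgz]; group
          _ = i (S.e 2 0 a) * (gx i S w a * gx i S w a) * (i (S.e 2 0 u) * i (S.e 2 0 u)) := by rw [← hgz]; group
          _ = _ := by rw [gx_sq P hc hw a, sqz]; group
      rw [h1] at h9
      have ha : a = 0 := by
        have h10 : S.e 2 0 a = 1 := P.inj (by rw [← h9, map_one])
        exact (S.e_eq_one h10).2
      apply h4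
      refine ⟨_, ⟨u, rfl⟩, ?_⟩
      rw [h8, ha]
      have h11 : gx i S w 0 = 1 := by rw [gx, S.o_zero, map_one]; group
      rw [h11, mul_one]
  · rintro ⟨a, u, rfl⟩
    have hv := mul_mem (hm a) (hz u)
    refine ⟨?_, hv.1, hv.2, ?_⟩
    · calc gx i S w a * i (S.e 2 0 u) * (gx i S w a * i (S.e 2 0 u))
          = gx i S w a * (i (S.e 2 0 u) * gx i S w a) * i (S.e 2 0 u) := by group
        _ = (gx i S w a * gx i S w a) * (i (S.e 2 0 u) * i (S.e 2 0 u)) := by rw [← hgz]; group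
        _ = 1 := by rw [gx_sq P hc hw a, sqz, one_mul]
    · rintro ⟨z, ⟨x, rfl⟩, h⟩
      have h1 : gx i S w a = t * (i (S.e 2 0 x) * (i (S.e 2 0 u))⁻¹) := by
        rw [← mul_assoc, ← h, mul_inv_cancel_right]
      have h2 : t * gx i S w a * t = gx i S w a := by
        rw [h1, ← map_inv, ← map_mul]
        have e : t * i (S.e 2 0 x * (S.e 2 0 u)⁻¹) * t = i (S.e 2 0 x * (S.e 2 0 u)⁻¹) := by
          rw [P.ti, mul_assoc, P.tt, mul_one]
        calc t * (t * i (S.e 2 0 x * (S.e 2 0 u)⁻¹)) * t = t * (t * i (S.e 2 0 x * (S.e 2 0 u)⁻¹) * t) := by group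
          _ = t * i (S.e 2 0 x * (S.e 2 0 u)⁻¹) := by rw [e]
      have h3 : i (S.e 2 0 a) = 1 := by
        have := hg a
        rw [h2] at this
        exact (mul_eq_left.1 this.symm)
      have ha : a = 0 := (S.e_eq_one (P.inj (h3.trans (map_one i).symm))).2
      rw [ha] at h1
      have h11 : gx i S w 0 = 1 := by rw [gx, S.o_zero, map_one]; group
      rw [h11, ← map_inv, ← map_mul] at h1
      apply P.tY (S.e 2 0 x * (S.e 2 0 u)⁻¹)
      calc i (S.e 2 0 x * (S.e 2 0 u)⁻¹) = t * (t * i (S.e 2 0 x * (S.e 2 0 u)⁻¹)) := by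
            rw [← mul_assoc, P.tt, one_mul]
        _ = t := by rw [← h1, mul_one]

/-- `WS i t Z_4` is closed under multiplication -/
theorem closed2 (hc : HC P) {v v' : G} (hv : v ∈ WS i t (S.Zc 2)) (hv' : v' ∈ WS i t (S.Zc 2)) :
    v * v' ∈ WS i t (S.Zc 2) := by
  obtain ⟨w, hw, hw1⟩ := exists_w1 P hc
  rw [form2 P hc hw hw1] at hv hv' ⊢
  obtain ⟨a, u, rfl⟩ := hv
  obtain ⟨b, x, rfl⟩ := hv'
  refine ⟨a + b, u + x, ?_⟩
  have hgz : gx i S w b * i (S.e 2 0 u) = i (S.e 2 0 u) * gx i S w b :=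
    comm_PL P (gx_mem P hc hw b) (mem_J (S.mX4 0 u) (by norm_num) (by norm_num))
  rw [gx_mul P hc hw, ← e2_mul P (t := t), map_mul]
  calc gx i S w a * i (S.e 2 0 u) * (gx i S w b * i (S.e 2 0 x))
      = gx i S w a * (i (S.e 2 0 u) * gx i S w b) * i (S.e 2 0 x) := by group
    _ = _ := by rw [← hgz]; group

/-- two elements of `WS` with the same `[·, t]` -/
theorem uniq2 (hc : HC P) {v v' : G} (hv : v ∈ WS i t (S.Zc 2)) (hv' : v' ∈ WS i t (S.Zc 2)) {z : Y}
    (h : t * v * t = v * i z) (h' : t * v' * t = v' * i z) : ∃ x, v = v' * i (S.e 2 0 x) := by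
  obtain ⟨w, hw, hw1⟩ := exists_w1 P hc
  have h1 := closed2 P hc hv hv'
  obtain ⟨a, u, e⟩ := (form2 P hc hw hw1 _).1 h1
  have hcomm : v' * i z = i z * v' := by
    obtain ⟨-, h2, ⟨z', hz', h3⟩, -⟩ := hv'
    have e1 : i z = i z' := mul_left_cancel (h'.symm.trans h3)
    rw [e1]
    refine h2 z' fun x hx => ?_
    obtain ⟨x, rfl⟩ := hx
    obtain ⟨u, rfl⟩ := hz'
    rw [S.e_mul, S.e_mul]; congr 1; ring
  have sqz : i z * i z = 1 := by
    obtain ⟨-, -, ⟨z', ⟨u, rfl⟩, h3⟩, -⟩ := hv'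
    have e1 : i z = i (S.e 2 0 u) := mul_left_cancel (h'.symm.trans h3)
    rw [e1, ← map_mul, e2_mul P (t := t), S.add_self, S.e_zero, map_one]
  have h2 : t * (v * v') * t = v * v' := by
    calc t * (v * v') * t = t * v * 1 * v' * t := by group
      _ = (t * v * t) * (t * v' * t) := by rw [← P.tt]; group
      _ = v * (i z * v') * i z := by rw [h, h']; group
      _ = v * v' * (i z * i z) := by rw [← hcomm]; group
      _ = _ := by rw [sqz, mul_one]
  have h3 : t * (v * v') * t = v * v' * i (S.e 2 0 a) := by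
    have h4 : t * gx i S w a * t = gx i S w a * i (S.e 2 0 a) := by
      have := gx_t P hw.1 hw1 a
      rwa [mul_one] at this
    have h5 : t * i (S.e 2 0 u) * t = i (S.e 2 0 u) := by rw [P.ti, mul_assoc, P.tt, mul_one]
    rw [e]
    calc t * (gx i S w a * i (S.e 2 0 u)) * t = t * gx i S w a * 1 * i (S.e 2 0 u) * t := by group
      _ = (t * gx i S w a * t) * (t * i (S.e 2 0 u) * t) := by rw [← P.tt]; group
      _ = gx i S w a * (i (S.e 2 0 a) * i (S.e 2 0 u)) := by rw [h4, h5]; group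
      _ = gx i S w a * (i (S.e 2 0 u) * i (S.e 2 0 a)) := by
        rw [← map_mul, e2_mul P (t := t), add_comm, ← e2_mul P (t := t), map_mul]
      _ = _ := by group
  have ha : a = 0 := by
    rw [h2] at h3
    have h4 : i (S.e 2 0 a) = 1 := mul_eq_left.1 h3.symm
    exact (S.e_eq_one (P.inj (h4.trans (map_one i).symm))).2
  have h11 : gx i S w 0 = 1 := by rw [gx, S.o_zero, map_one]; group
  rw [ha, h11, one_mul] at e
  refine ⟨u, ?_⟩
  have hv'z : v' * i (S.e 2 0 u) = i (S.e 2 0 u) * v' := by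
    refine hv'.2.1 _ fun x hx => ?_
    obtain ⟨x, rfl⟩ := hx
    rw [S.e_mul, S.e_mul]; congr 1; ring
  have h12 : v' * v' = 1 := hv'.1
  rw [hv'z, ← e, mul_assoc, h12, mul_one]

/-- elements of `WS` over a given element of `Z_4` -/
theorem exists2 (hc : HC P) (a : F) : ∃ v ∈ WS i t (S.Zc 2), t * v * t = v * i (S.e 2 0 a) := by
  obtain ⟨w, hw, hw1⟩ := exists_w1 P hc
  refine ⟨gx i S w a, (form2 P hc hw hw1 _).2 ⟨a, 0, by rw [S.e_zero, map_one, mul_one]⟩, ?_⟩
  have := gx_t P hw.1 hw1 a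
  rwa [mul_one] at this

/-- the commutator of elements of `WS Z_4` and `WS Z_6`: first form -/
theorem comm_form {v w : G} (hv : v ∈ WS i t (S.Zc 2)) (hw : w ∈ WS i t (S.Zc 3)) :
    ∃ α β, v * w * v⁻¹ * w⁻¹ = i (S.e 2 0 α * S.e 3 0 β) ∨ v * w * v⁻¹ * w⁻¹ = t * i (S.e 2 0 α * S.e 3 0 β) := by
  obtain ⟨-, hv2, ⟨z, ⟨a, rfl⟩, hv3⟩, -⟩ := hv
  obtain ⟨-, hw2, ⟨z', ⟨b, rfl⟩, hw3⟩, -⟩ := hw
  have c46 : ∀ x y, S.e 2 0 x * S.e 3 0 y = S.e 3 0 y * S.e 2 0 x := fun x y => by
    have h := S.e_e1 2 0 x 0 y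
    rw [mul_zero, S.o_zero, mul_one] at h
    exact h
  have v4 : v * i (S.e 2 0 a) = i (S.e 2 0 a) * v := hv2 _ (by
    rintro _ ⟨x, rfl⟩; rw [S.e_mul, S.e_mul]; congr 1; ring)
  have v6 : v * i (S.e 3 0 b) = i (S.e 3 0 b) * v := hv2 _ (by
    rintro _ ⟨x, rfl⟩; exact (c46 x b).symm)
  have w4 : w * i (S.e 2 0 a) = i (S.e 2 0 a) * w := hw2 _ (by
    rintro _ ⟨x, rfl⟩; exact c46 a x)
  have w6 : w * i (S.e 3 0 b) = i (S.e 3 0 b) * w := hw2 _ (by
    rintro _ ⟨x, rfl⟩; rw [S.e_mul, S.e_mul]; congr 1; ring)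
  have hvJ : ∀ y ∈ J S.XZ 2 8, v * i y = i y * v := fun y hy =>
    hv2 y fun _ hz => S.comm_PL (J_mono (by norm_num) (by norm_num) hy) hz
  have hwJ : ∀ y ∈ J S.XZ 2 8, w * i y = i y * w := by
    have : J S.XZ 2 8 ≤ (Subgroup.centralizer ({w} : Set G)).comap i := J_le fun k h1 h2 x hx => by
      rw [Subgroup.mem_comap, Subgroup.mem_centralizer_singleton_iff]
      exact (hw2 x (by rintro _ ⟨v, rfl⟩; exact S.comm_Z6 h1 (by omega) hx v)).symm
    intro x hx
    exact (Subgroup.mem_centralizer_singleton_iff.1 (this hx)).symm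
  have inv_of : ∀ {x y : G}, x * y = y * x → x⁻¹ * y = y * x⁻¹ := fun {x y} h => by
    rw [inv_mul_eq_iff_eq_mul, ← mul_assoc, h, mul_inv_cancel_right]
  have hct : v * w * v⁻¹ * w⁻¹ * t = t * (v * w * v⁻¹ * w⁻¹) := by
    have tinv : ∀ x : G, t * x⁻¹ * t = (t * x * t)⁻¹ := fun x => by
      calc t * x⁻¹ * t = (t⁻¹ * x * t⁻¹)⁻¹ := by group
        _ = _ := by rw [P.t_inv]
    have e1 : t * (v * w * v⁻¹ * w⁻¹) * t = v * w * v⁻¹ * w⁻¹ := by
      calc t * (v * w * v⁻¹ * w⁻¹) * t = t * v * 1 * w * 1 * v⁻¹ * 1 * w⁻¹ * t := by group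
        _ = (t * v * t) * (t * w * t) * (t * v⁻¹ * t) * (t * w⁻¹ * t) := by rw [← P.tt]; group
        _ = (v * i (S.e 2 0 a)) * (w * i (S.e 3 0 b)) * (v * i (S.e 2 0 a))⁻¹ * (w * i (S.e 3 0 b))⁻¹ := by
          rw [tinv, tinv, hv3, hw3]
        _ = (i (S.e 2 0 a) * v) * (w * i (S.e 3 0 b)) * (i (S.e 2 0 a) * v)⁻¹ * (w * i (S.e 3 0 b))⁻¹ := by rw [v4]
        _ = i (S.e 2 0 a) * v * w * (i (S.e 3 0 b) * v⁻¹) * (i (S.e 2 0 a))⁻¹ * (i (S.e 3 0 b))⁻¹ * w⁻¹ := by group
        _ = i (S.e 2 0 a) * v * w * v⁻¹ * (i (S.e 3 0 b) * (i (S.e 2 0 a))⁻¹) * (i (S.e 3 0 b))⁻¹ * w⁻¹ := by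
          rw [← inv_of v6]; group
        _ = i (S.e 2 0 a) * v * w * v⁻¹ * ((i (S.e 2 0 a))⁻¹ * w⁻¹) := by
          have h2 : i (S.e 3 0 b) * (i (S.e 2 0 a))⁻¹ = (i (S.e 2 0 a))⁻¹ * i (S.e 3 0 b) := by
            have := congrArg i (c46 a b)
            rw [map_mul, map_mul] at this
            exact (inv_of this).symm
          rw [h2]; group
        _ = i (S.e 2 0 a) * v * w * (v⁻¹ * w⁻¹ * (i (S.e 2 0 a))⁻¹) := by
          have h2 : (i (S.e 2 0 a))⁻¹ * w⁻¹ = w⁻¹ * (i (S.e 2 0 a))⁻¹ := by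
            rw [← mul_inv_rev, w4, mul_inv_rev]
          rw [h2]; group
        _ = (i (S.e 2 0 a) * v) * w * v⁻¹ * w⁻¹ * (i (S.e 2 0 a))⁻¹ := by group
        _ = v * (i (S.e 2 0 a) * w) * v⁻¹ * w⁻¹ * (i (S.e 2 0 a))⁻¹ := by rw [← v4]; group
        _ = v * w * (i (S.e 2 0 a) * v⁻¹) * w⁻¹ * (i (S.e 2 0 a))⁻¹ := by rw [← w4]; group
        _ = v * w * v⁻¹ * (i (S.e 2 0 a) * w⁻¹) * (i (S.e 2 0 a))⁻¹ := by rw [← inv_of v4]; group
        _ = v * w * v⁻¹ * w⁻¹ := by rw [← inv_of w4]; group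
    calc v * w * v⁻¹ * w⁻¹ * t = (t * (v * w * v⁻¹ * w⁻¹) * t) * t := by rw [e1]
      _ = t * (v * w * v⁻¹ * w⁻¹) * (t * t) := by group
      _ = _ := by rw [P.tt, mul_one]
  obtain ⟨y, hy, h⟩ := P.lift (A := (J S.XZ 2 8 : Set Y)) (a := 2) (fun z hz => by
    obtain ⟨u, rfl⟩ := hz
    exact mem_J (S.mX4 0 u) (by norm_num) (by norm_num)) hct (fun y hy => by
    have e1 := hvJ y hy
    have e2 := hwJ y hy
    have e3 := inv_of e1
    have e4 := inv_of e2
    calc v * w * v⁻¹ * w⁻¹ * i y = v * w * v⁻¹ * (w⁻¹ * i y) := by group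
      _ = v * w * (v⁻¹ * i y) * w⁻¹ := by rw [e4]; group
      _ = v * (w * i y) * v⁻¹ * w⁻¹ := by rw [e3]; group
      _ = (v * i y) * w * v⁻¹ * w⁻¹ := by rw [e2]; group
      _ = _ := by rw [e1]; group)
  rw [S.centralizer_J28] at hy
  obtain ⟨α, β, rfl⟩ := hy
  exact ⟨α, β, h⟩

/-- **1.6, half**: `[W_4, W_6] ≤ Z_4` -/
theorem comm_Z4 (hc : HC P) {v w : G} (hv : v ∈ WS i t (S.Zc 2)) (hw : w ∈ WS i t (S.Zc 3)) :
    ∃ x, v * w * v⁻¹ * w⁻¹ = i (S.e 2 0 x) := by
  obtain ⟨c, hcc⟩ := exists_c P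
  set! h := S.h c (Units.map (σ : F →* F) c) with hh
  set l : F := c * σ c with hl
  have hl1 : l + 1 ≠ 0 := by
    intro h0
    apply hcc
    have h2 := S.two
    linear_combination h0 - h2
  obtain ⟨-, -, ⟨z, ⟨a, rfl⟩, hv3⟩, -⟩ := id hv
  obtain ⟨s, hs, hs3⟩ := exists2 P hc (a / (l + 1))
  -- `s' = s^h`
  have hs' : i h * s * (i h)⁻¹ ∈ WS i t (S.Zc 2) := WS_conj P.ti (fun z => h_Zc P (t := t) c _ 2 z) hs
  have hht : t * (i h)⁻¹ = (i h)⁻¹ * t := by
    have := P.ti h⁻¹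
    rwa [map_inv] at this
  have hs'3 : t * (i h * s * (i h)⁻¹) * t = i h * s * (i h)⁻¹ * i (S.e 2 0 (l * (a / (l + 1)))) := by
    have h1 : i (S.e 2 0 (l * (a / (l + 1)))) = i h * i (S.e 2 0 (a / (l + 1))) * (i h)⁻¹ := by
      rw [← map_mul, ← map_inv, ← map_mul, hh, h_four P (t := t)]
    rw [h1]
    calc t * (i h * s * (i h)⁻¹) * t = (t * i h) * s * ((i h)⁻¹ * t) := by group
      _ = i h * (t * s * t) * (i h)⁻¹ := by rw [P.ti, ← hht]; group
      _ = _ := by rw [hs3]; group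
  have hsum : a / (l + 1) + l * (a / (l + 1)) = a := by
    field_simp
    ring
  set s' := i h * s * (i h)⁻¹ with hs'd
  have ss : s * s = 1 := hs.1
  have si : s⁻¹ = s := inv_eq_of_mul_eq_one_left ss
  have s4 : ∀ x, s * i (S.e 2 0 x) = i (S.e 2 0 x) * s := fun x => hs.2.1 _ (by
    rintro _ ⟨y, rfl⟩; rw [S.e_mul, S.e_mul]; congr 1; ring)
  -- `v = s' s z`
  have h1 : s' * s ∈ WS i t (S.Zc 2) := closed2 P hc hs' hs
  have h2 : t * (s' * s) * t = s' * s * i (S.e 2 0 a) := by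
    calc t * (s' * s) * t = t * s' * 1 * s * t := by group
      _ = (t * s' * t) * (t * s * t) := by rw [← P.tt]; group
      _ = s' * (i (S.e 2 0 (l * (a / (l + 1)))) * s) * i (S.e 2 0 (a / (l + 1))) := by rw [hs'3, hs3]; group
      _ = s' * s * (i (S.e 2 0 (l * (a / (l + 1)))) * i (S.e 2 0 (a / (l + 1)))) := by rw [← s4]; group
      _ = _ := by rw [← map_mul, e2_mul P (t := t), add_comm, hsum]
  obtain ⟨x, hx⟩ := uniq2 P hc hv h1 hv3 h2
  -- `z` commutes with `w`
  have c46 : ∀ x y, S.e 2 0 x * S.e 3 0 y = S.e 3 0 y * S.e 2 0 x := fun x y => by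
    have h := S.e_e1 2 0 x 0 y
    rw [mul_zero, S.o_zero, mul_one] at h
    exact h
  have w4 : ∀ y, w * i (S.e 2 0 y) = i (S.e 2 0 y) * w := fun y => hw.2.1 _ (by
    rintro _ ⟨x, rfl⟩; exact c46 y x)
  have hwh : w * i h = i h * w := hw.2.1 h (by
    rintro _ ⟨v, rfl⟩
    have h1 := h_six P (t := t) c 0 v
    rw [← hh] at h1
    exact mul_inv_eq_iff_eq_mul.1 h1)
  have inv_of : ∀ {x y : G}, x * y = y * x → x⁻¹ * y = y * x⁻¹ := fun {x y} h => by
    rw [inv_mul_eq_iff_eq_mul, ← mul_assoc, h, mul_inv_cancel_right]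
  obtain ⟨α, β, hf⟩ := comm_form P hs hw
  -- the commutator with `s'`
  have e0 : s' * w * s'⁻¹ * w⁻¹ = i h * (s * w * s⁻¹ * w⁻¹) * (i h)⁻¹ := by
    have e1 : (i h)⁻¹ * w = w * (i h)⁻¹ := (inv_of hwh.symm)
    have e2 : w⁻¹ * i h = i h * w⁻¹ := inv_of hwh
    calc s' * w * s'⁻¹ * w⁻¹ = i h * s * ((i h)⁻¹ * w) * i h * s⁻¹ * (i h)⁻¹ * w⁻¹ := by rw [hs'd]; group
      _ = i h * s * w * s⁻¹ * ((i h)⁻¹ * w⁻¹) := by rw [e1]; group
      _ = _ := by
        have e3 : (i h)⁻¹ * w⁻¹ = w⁻¹ * (i h)⁻¹ := by rw [← mul_inv_rev, hwh, mul_inv_rev]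
        rw [e3]; group
  have eA : i h * i (S.e 2 0 α * S.e 3 0 β) * (i h)⁻¹ = i (S.e 2 0 (l * α) * S.e 3 0 β) := by
    have e1 := h_four P (t := t) c α
    have e2 := h_six P (t := t) c 0 β
    rw [← hh] at e1 e2
    rw [← map_mul, ← map_inv, ← map_mul]
    congr 1
    calc h * (S.e 2 0 α * S.e 3 0 β) * h⁻¹ = (h * S.e 2 0 α * h⁻¹) * (h * S.e 3 0 β * h⁻¹) := by group
      _ = _ := by rw [e1, e2]
  -- the commutator with `s' s`
  have e5 : v * w * v⁻¹ * w⁻¹ = (s' * s) * (s * w * s⁻¹ * w⁻¹)⁻¹ * (s' * s)⁻¹ * (s' * w * s'⁻¹ * w⁻¹) := by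
    have e6 : v * w * v⁻¹ = (s' * s) * w * (s' * s)⁻¹ := by
      rw [hx]
      calc s' * s * i (S.e 2 0 x) * w * (s' * s * i (S.e 2 0 x))⁻¹
          = s' * s * (i (S.e 2 0 x) * w) * (i (S.e 2 0 x))⁻¹ * (s' * s)⁻¹ := by group
        _ = _ := by rw [← w4]; group
    rw [e6]
    have e7 : (s' * s) * (s * w * s⁻¹ * w⁻¹)⁻¹ * (s' * s)⁻¹ * (s' * w * s'⁻¹ * w⁻¹) =
        s' * s * w * (s * w⁻¹ * (s⁻¹ * s⁻¹)) * (w * s'⁻¹ * w⁻¹) := by group
    have e8 : s⁻¹ * s⁻¹ = 1 := by rw [si, ss]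
    rw [e7, e8]
    calc s' * s * w * (s' * s)⁻¹ * w⁻¹ = s' * s * w * s⁻¹ * s'⁻¹ * w⁻¹ := by group
      _ = s' * s * w * s * s'⁻¹ * w⁻¹ := by rw [si]
      _ = _ := by group
  -- `s' s` commutes with `Z_4 Z_6` and moves `t` by `Z_4`
  have k46 : ∀ p q, (s' * s) * i (S.e 2 0 p * S.e 3 0 q) * (s' * s)⁻¹ = i (S.e 2 0 p * S.e 3 0 q) := fun p q => by
    have : (s' * s) * i (S.e 2 0 p * S.e 3 0 q) = i (S.e 2 0 p * S.e 3 0 q) * (s' * s) := h1.2.1 _ (by
      rintro _ ⟨y, rfl⟩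
      calc S.e 2 0 p * S.e 3 0 q * S.e 2 0 y = S.e 2 0 p * (S.e 3 0 q * S.e 2 0 y) := by group
        _ = (S.e 2 0 p * S.e 2 0 y) * S.e 3 0 q := by rw [← c46]; group
        _ = S.e 2 0 y * (S.e 2 0 p * S.e 3 0 q) := by
          rw [e2_mul P (t := t), add_comm, ← e2_mul P (t := t)]; group)
    rw [this, mul_inv_cancel_right]
  have kt : (s' * s) * t * (s' * s)⁻¹ = t * i (S.e 2 0 a) := by
    have e1 : (s' * s) * i (S.e 2 0 a) = i (S.e 2 0 a) * (s' * s) := h1.2.1 _ (by
      rintro _ ⟨y, rfl⟩; rw [S.e_mul, S.e_mul]; congr 1; ring)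
    calc (s' * s) * t * (s' * s)⁻¹ = t * (t * (s' * s) * t) * (s' * s)⁻¹ := by
          calc (s' * s) * t * (s' * s)⁻¹ = 1 * (s' * s) * t * (s' * s)⁻¹ := by group
            _ = _ := by rw [← P.tt]; group
      _ = t * (i (S.e 2 0 a) * (s' * s)) * (s' * s)⁻¹ := by rw [h2, e1]
      _ = _ := by group
  have inv46 : (S.e 2 0 α * S.e 3 0 β)⁻¹ = S.e 2 0 α * S.e 3 0 β := by
    apply inv_eq_of_mul_eq_one_left
    calc S.e 2 0 α * S.e 3 0 β * (S.e 2 0 α * S.e 3 0 β) = S.e 2 0 α * (S.e 3 0 β * S.e 2 0 α) * S.e 3 0 β := by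
          group
      _ = (S.e 2 0 α * S.e 2 0 α) * (S.e 3 0 β * S.e 3 0 β) := by rw [← c46]; group
      _ = 1 := by
        rw [e2_mul P (t := t), S.add_self, S.e_zero, one_mul, S.e_mul, add_zero, zero_mul, add_zero, S.add_self,
          S.e_zero]
  have prod : S.e 2 0 α * S.e 3 0 β * (S.e 2 0 (l * α) * S.e 3 0 β) = S.e 2 0 (α + l * α) := by
    calc S.e 2 0 α * S.e 3 0 β * (S.e 2 0 (l * α) * S.e 3 0 β)
        = S.e 2 0 α * (S.e 3 0 β * S.e 2 0 (l * α)) * S.e 3 0 β := by group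
      _ = (S.e 2 0 α * S.e 2 0 (l * α)) * (S.e 3 0 β * S.e 3 0 β) := by rw [← c46]; group
      _ = _ := by
        rw [e2_mul P (t := t), S.e_mul 3, add_zero, zero_mul, add_zero, S.add_self, S.e_zero, mul_one]
  rcases hf with hf | hf
  · refine ⟨α + l * α, ?_⟩
    rw [e5, e0, hf, eA, ← map_inv, inv46, k46, ← map_mul, prod]
  · refine ⟨a + (α + l * α), ?_⟩
    have e9 : (t * i (S.e 2 0 α * S.e 3 0 β))⁻¹ = t * i (S.e 2 0 α * S.e 3 0 β) := by
      rw [mul_inv_rev, ← map_inv, inv46, P.t_inv, P.ti]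
    have e10 : i h * (t * i (S.e 2 0 α * S.e 3 0 β)) * (i h)⁻¹ = t * i (S.e 2 0 (l * α) * S.e 3 0 β) := by
      calc i h * (t * i (S.e 2 0 α * S.e 3 0 β)) * (i h)⁻¹ = (i h * t) * i (S.e 2 0 α * S.e 3 0 β) * (i h)⁻¹ := by
            group
        _ = t * (i h * i (S.e 2 0 α * S.e 3 0 β) * (i h)⁻¹) := by rw [← P.ti]; group
        _ = _ := by rw [eA]
    rw [e5, e0, hf, e9, e10]
    calc s' * s * (t * i (S.e 2 0 α * S.e 3 0 β)) * (s' * s)⁻¹ * (t * i (S.e 2 0 (l * α) * S.e 3 0 β))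
        = (s' * s * t * (s' * s)⁻¹) * (s' * s * i (S.e 2 0 α * S.e 3 0 β) * (s' * s)⁻¹) *
            (t * i (S.e 2 0 (l * α) * S.e 3 0 β)) := by group
      _ = t * i (S.e 2 0 a) * (i (S.e 2 0 α * S.e 3 0 β) * t) * i (S.e 2 0 (l * α) * S.e 3 0 β) := by
          rw [kt, k46]; group
      _ = t * (i (S.e 2 0 a) * t) * (i (S.e 2 0 α * S.e 3 0 β) * i (S.e 2 0 (l * α) * S.e 3 0 β)) := by
          rw [← P.ti]; group
      _ = (t * t) * i (S.e 2 0 a) * i (S.e 2 0 (α + l * α)) := by rw [← P.ti, ← map_mul, prod]; group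
      _ = _ := by rw [P.tt, one_mul, ← map_mul, e2_mul P (t := t)]

/-- **1.6**: `[W_4, W_6] = 1` -/
theorem comm2 (hc : HC P) {v w : G} (hv : v ∈ WS i t (S.Zc 2)) (hw : w ∈ WS i t (S.Zc 3)) : v * w = w * v := by
  obtain ⟨x, hx⟩ := comm_Z4 P hc hv hw
  have hv' := WS_conj P.ti (fun z => n1_Zc P (t := t) z) hv
  have hw' := WS_conj P.ti (fun z => n1_Zc' P (t := t) z) hw
  obtain ⟨y, hy⟩ := comm_Z4 P hc hw' hv'
  -- conjugate back
  have h1 : w * v * w⁻¹ * v⁻¹ = i (S.e 3 0 y) := by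
    have h2 : (i S.n1)⁻¹ * i (S.e 2 0 y) * i S.n1 = i (S.e 3 0 y) := by
      rw [← map_inv, ← map_mul, ← map_mul, S.n1_e']
      rfl
    rw [← h2, ← hy]
    group
  have h2 : i (S.e 2 0 x) = (i (S.e 3 0 y))⁻¹ := by
    rw [← hx, ← h1]; group
  have h3 : S.e 2 0 x = S.e 3 0 (-y) := by
    apply P.inj
    rw [h2, ← map_inv]
    congr 1
    apply inv_eq_of_mul_eq_one_left
    rw [S.e_mul, add_zero, zero_mul, add_zero, neg_add_cancel, S.e_zero]
  have h4 : S.e 2 0 x = 1 := by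
    apply S.zsys8.inter_one 1 (a := 4) (b := 4) (c := 6) (d := 6) (mem_J (S.mX4 0 x) le_rfl le_rfl) ?_ (by norm_num)
      (by norm_num) (by norm_num) (by norm_num) (Or.inl (by norm_num))
    rw [h3]
    exact mem_J (S.mX6 0 _) le_rfl le_rfl
  rw [h4, map_one, mul_inv_eq_one, mul_inv_eq_iff_eq_mul] at hx
  exact hx

/-- **1.7**: `[W_6, X_1] ≤ W_4` -/
theorem two2 (hc : HC P) {w : G} (hw : w ∈ WS i t (S.Zc 3)) (a : F) : gx i S w a ∈ WS i t (S.Zc 2) := by
  have hw' : w ∈ Wst P 3 := ⟨hw.2.1, hw.2.2.1⟩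
  have hm := gx_mem P hc hw' a
  refine ⟨gx_sq P hc hw' a, hm.1, hm.2, ?_⟩
  rintro ⟨z, ⟨x, rfl⟩, h⟩
  obtain ⟨-, h2, ⟨z, ⟨u, rfl⟩, h3⟩, h4⟩ := hw
  have h5 := gx_t P hw'.1 h3 a
  have h6 : t * gx i S w a * t = gx i S w a := by
    have e : t * i (S.e 2 0 x) * t = i (S.e 2 0 x) := by rw [P.ti, mul_assoc, P.tt, mul_one]
    rw [h]
    calc t * (t * i (S.e 2 0 x)) * t = t * (t * i (S.e 2 0 x) * t) := by group
      _ = t * i (S.e 2 0 x) := by rw [e]
  rw [h6] at h5
  have h7 : S.e 2 0 (a * u) = 1 := P.inj (by rw [map_one]; exact mul_eq_left.1 h5.symm)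
  -- `w` lies in `Z_6` or `a = 0`
  have key : ∃ y : Y, gx i S w a = i y := by
    rcases mul_eq_zero.1 (S.e_eq_one h7).2 with ha | hu
    · refine ⟨1, ?_⟩
      rw [ha, gx, S.o_zero, map_one]; group
    · rw [hu, S.e_zero, map_one, mul_one] at h3
      -- `w` commutes with `t`: use the reflection
      have h8 := Wst_conj P (fun z => n1_Zc' P (t := t) z) hw'
      have h9 : i S.n1 * w * (i S.n1)⁻¹ * t = t * (i S.n1 * w * (i S.n1)⁻¹) := by
        have e1 : (i S.n1)⁻¹ * t = t * (i S.n1)⁻¹ := by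
          have := P.ti S.n1⁻¹
          rw [map_inv] at this
          exact this.symm
        have e2 : w * t = t * w := by
          calc w * t = (t * w * t) * t := by rw [h3]
            _ = t * w * (t * t) := by group
            _ = _ := by rw [P.tt, mul_one]
        calc i S.n1 * w * (i S.n1)⁻¹ * t = i S.n1 * w * ((i S.n1)⁻¹ * t) := by group
          _ = i S.n1 * (w * t) * (i S.n1)⁻¹ := by rw [e1]; group
          _ = (i S.n1 * t) * w * (i S.n1)⁻¹ := by rw [e2]; group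
          _ = _ := by rw [← P.ti]; group
      obtain ⟨b, h10 | h10⟩ := ker2 P h8 h9
      · refine ⟨S.n1⁻¹ * S.e 2 0 b * S.n1 * S.o 0 a * (S.n1⁻¹ * S.e 2 0 b * S.n1)⁻¹ * (S.o 0 a)⁻¹, ?_⟩
        have h11 : w = i (S.n1⁻¹ * S.e 2 0 b * S.n1) := by
          rw [map_mul, map_mul, map_inv, ← h10]; group
        rw [gx, h11]
        simp only [map_mul, map_inv]
      · exfalso
        apply h4
        refine ⟨S.n1⁻¹ * S.e 2 0 b * S.n1, ⟨b, (S.n1_e' 2 0 b).symm⟩, ?_⟩
        have e1 : (i S.n1)⁻¹ * t = t * (i S.n1)⁻¹ := by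
          have := P.ti S.n1⁻¹
          rw [map_inv] at this
          exact this.symm
        rw [map_mul, map_mul, map_inv]
        calc w = (i S.n1)⁻¹ * (i S.n1 * w * (i S.n1)⁻¹) * i S.n1 := by group
          _ = ((i S.n1)⁻¹ * t) * i (S.e 2 0 b) * i S.n1 := by rw [h10]; group
          _ = _ := by rw [e1]; group
  obtain ⟨y, hy⟩ := key
  rw [h] at hy
  exact P.t_mul_ne hy

end

section Main

variable (P : Pos S i t)

include P

/-- `WS` is closed under multiplication -/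
theorem closed (hc : HC P) (a : ℤ) {v v' : G} (hv : v ∈ WS i t (S.Zc (a : ZMod 8)))
    (hv' : v' ∈ WS i t (S.Zc (a : ZMod 8))) : v * v' ∈ WS i t (S.Zc (a : ZMod 8)) := by
  have h1 : ∀ z, z ∈ S.Zc (a : ZMod 8) ↔ S.rot ^ (2 - a) * z * (S.rot ^ (2 - a))⁻¹ ∈ S.Zc 2 := fun z => by
    have := rotk_Zc P (t := t) (2 - a) a z
    rw [show a + (2 - a) = 2 by ring] at this
    exact this
  have h2 : ∀ z, z ∈ S.Zc 2 ↔ (S.rot ^ (2 - a))⁻¹ * z * (S.rot ^ (2 - a))⁻¹⁻¹ ∈ S.Zc (a : ZMod 8) := fun z => by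
    rw [h1]
    have e : S.rot ^ (2 - a) * ((S.rot ^ (2 - a))⁻¹ * z * (S.rot ^ (2 - a))⁻¹⁻¹) * (S.rot ^ (2 - a))⁻¹ = z := by
      group
    rw [e]
  have h3 := closed2 P hc (WS_conj P.ti h1 hv) (WS_conj P.ti h1 hv')
  have h4 := WS_conj P.ti h2 h3
  have e : i (S.rot ^ (2 - a))⁻¹ * (i (S.rot ^ (2 - a)) * v * (i (S.rot ^ (2 - a)))⁻¹ *
      (i (S.rot ^ (2 - a)) * v' * (i (S.rot ^ (2 - a)))⁻¹)) * (i (S.rot ^ (2 - a))⁻¹)⁻¹ = v * v' := by
    rw [map_inv]; group
  rwa [e] at h4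

theorem one_WS (a : ZMod 8) : (1 : G) ∈ WS i t (S.Zc a) := by
  refine ⟨one_mul 1, fun y _ => by rw [one_mul, mul_one], ⟨1, one_mem _, by rw [mul_one, P.tt, map_one, mul_one]⟩, ?_⟩
  rintro ⟨z, -, h⟩
  exact P.t_mul_ne (y := z) (y' := 1) (by rw [map_one]; exact h.symm)

/-- the group `W a` -/
def W (hc : HC P) (a : ℤ) : Subgroup G where
  carrier := WS i t (S.Zc (a : ZMod 8))
  one_mem' := one_WS P _
  mul_mem' := fun hv hv' => closed P hc a hv hv'
  inv_mem' := by
    intro v hv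
    have h : v⁻¹ = v := inv_eq_of_mul_eq_one_left hv.1
    rw [h]; exact hv

/-- **Output of section 1.** -/
theorem exists_WData (hc : HC P) : ∃ W : ℤ → Subgroup G, WData S i t W := by
  have hrot : ∀ (k a : ℤ) (w : G), w ∈ W P hc a → i (S.rot ^ k) * w * (i (S.rot ^ k))⁻¹ ∈ W P hc (a + k) :=
    fun k a w hw => WS_conj P.ti (fun z => rotk_Zc P (t := t) k a z) hw
  refine ⟨W P hc, ⟨fun a w => Iff.rfl, ?_, ?_, ?_, ?_⟩⟩
  · -- sur
    intro a z hz
    have h1 := (rotk_Zc P (t := t) (2 - a) a z).1 hz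
    rw [show a + (2 - a) = 2 by ring] at h1
    obtain ⟨u, hu⟩ := h1
    obtain ⟨v, hv, hv2⟩ := exists2 P hc u
    have hv' : v ∈ W P hc 2 := hv
    refine ⟨i (S.rot ^ (a - 2)) * v * (i (S.rot ^ (a - 2)))⁻¹, ?_, ?_⟩
    · have := hrot (a - 2) 2 v hv'
      rwa [show (2 : ℤ) + (a - 2) = a by ring] at this
    · have hu' : S.e 2 0 u = S.rot ^ (2 - a) * z * (S.rot ^ (2 - a))⁻¹ := hu
      have e1 : z = S.rot ^ (a - 2) * S.e 2 0 u * (S.rot ^ (a - 2))⁻¹ := by
        rw [hu']; group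
      have e2 : (i (S.rot ^ (a - 2)))⁻¹ * t = t * (i (S.rot ^ (a - 2)))⁻¹ := by
        have := P.ti (S.rot ^ (a - 2))⁻¹
        rw [map_inv] at this
        exact this.symm
      rw [e1, map_mul, map_mul, map_inv]
      calc t * (i (S.rot ^ (a - 2)) * v * (i (S.rot ^ (a - 2)))⁻¹) * t
          = (t * i (S.rot ^ (a - 2))) * v * ((i (S.rot ^ (a - 2)))⁻¹ * t) := by group
        _ = i (S.rot ^ (a - 2)) * (t * v * t) * (i (S.rot ^ (a - 2)))⁻¹ := by rw [P.ti, e2]; group
        _ = _ := by rw [hv2]; group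
  · -- one
    intro a w hw w' hw'
    have h1 := hrot (2 - a) a w hw
    have h2 := hrot (2 - a) (a + 1) w' hw'
    rw [show a + (2 - a) = 2 by ring] at h1
    rw [show a + 1 + (2 - a) = 3 by ring] at h2
    have h3 := comm2 P hc h1 h2
    have e : ∀ x y r : G, r * x * r⁻¹ * (r * y * r⁻¹) = r * y * r⁻¹ * (r * x * r⁻¹) → x * y = y * x := by
      intro x y r h
      calc x * y = r⁻¹ * (r * x * r⁻¹ * (r * y * r⁻¹)) * r := by group
        _ = y * x := by rw [h]; group
    exact e _ _ _ h3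
  · -- two
    intro a w hw y hy
    have h1 := hrot (2 - a) (a + 1) w hw
    rw [show a + 1 + (2 - a) = 3 by ring] at h1
    have h2 := S.rotk_X' (2 - a) _ hy
    rw [show 2 * a - 3 + 2 * (2 - a) = 1 by ring] at h2
    obtain ⟨x, hx⟩ := S.X1 h2
    have h3 : gx i S _ x ∈ W P hc 2 := two2 P hc h1 x
    have h4 := hrot (a - 2) 2 _ h3
    rw [show (2 : ℤ) + (a - 2) = a by ring] at h4
    have e1 : i (S.rot ^ (a - 2)) = (i (S.rot ^ (2 - a)))⁻¹ := by
      rw [← map_inv]; congr 1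
      rw [← zpow_neg]; congr 1; ring
    rw [e1, gx, hx, map_mul, map_mul, map_inv] at h4
    have e2 : ∀ r w x : G, r⁻¹ * (r * w * r⁻¹ * (r * x * r⁻¹) * (r * w * r⁻¹)⁻¹ * (r * x * r⁻¹)⁻¹) * r⁻¹⁻¹ =
        w * x * w⁻¹ * x⁻¹ := by
      intro r w x; group
    rwa [e2] at h4
  · -- two'
    intro a w hw y hy
    have h1 := hrot (2 - a) a w hw
    rw [show a + (2 - a) = 2 by ring] at h1
    have h2 := S.rotk_X' (2 - a) _ hy
    rw [show 2 * a + 5 + 2 * (2 - a) = 9 by ring] at h2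
    obtain ⟨x, hx⟩ := S.X9 h2
    have h1' := WS_conj P.ti (fun z => n1_Zc P (t := t) z) h1
    have h3 : gx i S _ x ∈ WS i t (S.Zc 2) := two2 P hc h1' x
    have hx' : S.o 0 x = S.n1 * (S.rot ^ (2 - a) * y * (S.rot ^ (2 - a))⁻¹) * S.n1⁻¹ := by
      rw [← hx, S.n1_o]
      rfl
    have h3' : i S.n1⁻¹ * gx i S (i S.n1 * (i (S.rot ^ (2 - a)) * w * (i (S.rot ^ (2 - a)))⁻¹) * (i S.n1)⁻¹) x *
        (i S.n1⁻¹)⁻¹ ∈ WS i t (S.Zc 3) := by
      refine WS_conj P.ti (fun z => ?_) h3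
      rw [n1_Zc' P (t := t)]
      have e : S.n1 * (S.n1⁻¹ * z * S.n1⁻¹⁻¹) * S.n1⁻¹ = z := by group
      rw [e]
    have h4 := hrot (a - 2) 3 _ h3'
    rw [show (3 : ℤ) + (a - 2) = a + 1 by ring] at h4
    have e1 : i (S.rot ^ (a - 2)) = (i (S.rot ^ (2 - a)))⁻¹ := by
      rw [← map_inv]; congr 1
      rw [← zpow_neg]; congr 1; ring
    rw [e1, gx, hx'] at h4
    simp only [map_mul, map_inv] at h4
    have e2 : ∀ r n w x : G, r⁻¹ * (n⁻¹ * (n * (r * w * r⁻¹) * n⁻¹ * (n * (r * x * r⁻¹) * n⁻¹) *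
        (n * (r * w * r⁻¹) * n⁻¹)⁻¹ * (n * (r * x * r⁻¹) * n⁻¹)⁻¹) * n⁻¹⁻¹) * r⁻¹⁻¹ = w * x * w⁻¹ * x⁻¹ := by
      intro r n w x; group
    rwa [e2] at h4

/-- **Sections 1.4 - 1.7**, from the elements of section 1.3. -/
theorem exists_WData_of_NEl (hn : ∀ u : F, ∃ (φ : F → F) (n : G), NEl S.toSys i t 2 φ u n) :
    ∃ W : ℤ → Subgroup G, WData S i t W := exists_WData P fun u => CKill.exists_cent P hn u

end Main

end Cfsg.Agent.OddHalf.D7TwF4.WMk

end
end

private theorem dce_962f72b5dff3 : _root_.True := by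
  try have : _root_.True := by simp only [_root_.Cfsg.Agent.OddHalf.D7TwF4.NormE.sT.eq_1]
  try have : _root_.True := by simp only [_root_.Cfsg.Agent.OddHalf.D7TwF4.NormE.EE.eq_1]
  try have : _root_.True := by simp only [_root_.Cfsg.Agent.OddHalf.D7TwF4.WMk.gx.eq_1]
  try have : _root_.True := by simp only [_root_.Cfsg.Agent.OddHalf.D7TwF4.WMk.W.congr_simp]
  exact _root_.True.intro
end

-- part: OddHalf/D5/Seven/Clean
section
prune_inst 0x307404402202000000001220003c22ca000190002b8001d1e00e400fcf7f230d002721f4a01a0019c2aa24603cc04000880059421000002a008600411d01a084ab5226937cb10427008fc09007180c00000000000000000000000000041000000000000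
set_option linter.all false
open scoped Cfsg.Agent.FastGrp

/-!
# ODD D5, `n = 7`: `C_G(t) = ⟨t⟩ × A₇` (helper905)

`T = ⟨t⟩ × D₈` is a Sylow 2-subgroup of `C_G(t)`, `T/⟨t⟩` is dihedral, so the sectional 2-rank of `G` is at most four
(`D6.Harada`).
-/

set_option autoImplicit false

namespace Cfsg.Agent.OddHalf.D5.Seven.Clean

open Subgroup Equiv Cfsg

/-- `(0 1 2 3)(4 5)` -/
def cc : Perm (Fin 7) := swap 0 1 * swap 1 2 * swap 2 3 * swap 4 5
/-- `(0 2)(4 5)` -/
def ss : Perm (Fin 7) := swap 0 2 * swap 4 5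

/-- the dihedral group of order eight in `A₇` -/
def rhoFun : DihedralGroup 4 → Perm (Fin 7)
  | .r i => cc ^ i.val
  | .sr i => ss * cc ^ i.val

theorem rho_mul : ∀ x y, rhoFun (x * y) = rhoFun x * rhoFun y := by decide +kernel

theorem rho_inj : ∀ x, rhoFun x = 1 → x = 1 := by decide +kernel

theorem rho_even : ∀ x, Perm.sign (rhoFun x) = 1 := by decide +kernel

/-- the dihedral group of order eight in `A₇` -/
def rho : DihedralGroup 4 →* An 7 :=
  MonoidHom.mk' (fun x => ⟨rhoFun x, Perm.mem_alternatingGroup.2 (rho_even x)⟩)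
    (fun x y => Subtype.ext (rho_mul x y))

theorem rho_injective : Function.Injective rho := by
  rw [injective_iff_map_eq_one]
  intro x hx
  exact rho_inj x (congrArg Subtype.val hx)

/-- a four-group -/
def vFun (x : ℤˣ × ℤˣ) : DihedralGroup 4 := (if x.1 = 1 then 1 else .r 2) * (if x.2 = 1 then 1 else .sr 0)

/-- a four-group -/
def vHom : ℤˣ × ℤˣ →* DihedralGroup 4 := MonoidHom.mk' vFun (by decide +kernel)

theorem vHom_injective : Function.Injective vHom := by
  rw [injective_iff_map_eq_one]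
  decide +kernel

variable {G : Type*} [Group G] {t : G} {ι : An 7 →* G}

/-- the isomorphism `ℤˣ × A₇ → C(t)` -/
theorem exists_equiv (h : Spl t (An 7) ι) :
    ∃ E : ℤˣ × An 7 ≃* centralizer ({t} : Set G), ∀ x, (E x : G) = (if x.1 = 1 then 1 else t) * ι x.2 := by
  classical
  have h1 : (-1 : ℤˣ) ≠ 1 := by decide
  have h2 : (-1 : ℤˣ) * -1 = 1 := by decide
  let f : ℤˣ × An 7 →* G :=
    { toFun := fun x => (if x.1 = 1 then 1 else t) * ι x.2
      map_one' := by simp
      map_mul' := by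
        rintro ⟨e, a⟩ ⟨e', b⟩
        rcases Int.units_eq_one_or e with he | he <;> rcases Int.units_eq_one_or e' with he' | he'
        · simp [he, he']
        · simp only [he, he', Prod.mk_mul_mk, one_mul, if_neg h1, if_true, map_mul]
          rw [← mul_assoc, h.comm a, mul_assoc]
        · simp only [he, he', Prod.mk_mul_mk, one_mul, mul_one, if_neg h1, if_true, map_mul, mul_assoc]
        · simp only [he, he', Prod.mk_mul_mk, one_mul, if_neg h1, if_true, map_mul, h2]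
          calc ι a * ι b = (t * t) * ι a * ι b := by rw [h.tt, one_mul]
            _ = t * (t * ι a) * ι b := by group
            _ = t * (ι a * t) * ι b := by rw [h.comm a]
            _ = t * ι a * (t * ι b) := by group }
  have hf : ∀ x, f x = (if x.1 = 1 then 1 else t) * ι x.2 := fun _ => rfl
  have hmem : ∀ x, f x ∈ centralizer ({t} : Set G) := by
    rintro ⟨e, a⟩
    rw [mem_centralizer_singleton_iff, hf]
    rcases Int.units_eq_one_or e with he | he
    · simp only [he, if_true, one_mul]; exact h.comm' a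
    · simp only [he, if_neg h1]
      rw [mul_assoc, ← h.comm a]
  let F : ℤˣ × An 7 →* centralizer ({t} : Set G) := f.codRestrict _ hmem
  have hFc : ∀ x, (F x : G) = (if x.1 = 1 then 1 else t) * ι x.2 := fun _ => rfl
  have hF : Function.Bijective F := by
    constructor
    · rintro ⟨e, a⟩ ⟨e', b⟩ hab
      have hab' : (F (e, a) : G) = F (e', b) := congrArg Subtype.val hab
      rw [hFc, hFc] at hab'
      rcases Int.units_eq_one_or e with he | he <;> rcases Int.units_eq_one_or e' with he' | he'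
      · simp only [he, he', if_true, one_mul] at hab'
        rw [he, he', h.inj hab']
      · simp only [he, he', if_true, one_mul, if_neg h1] at hab'
        exact absurd hab' (h.tne _ _)
      · simp only [he, he', if_true, one_mul, if_neg h1] at hab'
        exact absurd hab'.symm (h.tne _ _)
      · simp only [he, he', if_neg h1] at hab'
        rw [he, he', h.inj (mul_left_cancel hab')]
    · rintro ⟨x, hx⟩
      obtain ⟨a, ha | ha⟩ := h.cases (mem_centralizer_singleton_iff.1 hx)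
      · refine ⟨(1, a), Subtype.ext ?_⟩
        rw [hFc, if_pos rfl, one_mul]
        exact ha.symm
      · refine ⟨(-1, a), Subtype.ext ?_⟩
        rw [hFc, if_neg h1]
        exact ha.symm
  exact ⟨MulEquiv.ofBijective F hF, hFc⟩

/-- **The clean case: sectional 2-rank at most four.** -/
theorem rank_four [Finite G] (h : Spl t (An 7) ι) : SectionalPRankLE 2 4 G := by
  classical
  obtain ⟨E, hE⟩ := exists_equiv h
  have h0 : (-1 : ℤˣ) ≠ 1 := by decide
  -- the embedding of `ℤˣ × D₈`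
  let F : ℤˣ × DihedralGroup 4 →* G := ((centralizer ({t} : Set G)).subtype.comp E.toMonoidHom).comp
    ((MonoidHom.id ℤˣ).prodMap rho)
  have hF : Function.Injective F := by
    have h1 : Function.Injective ((MonoidHom.id ℤˣ).prodMap rho) := by
      rintro ⟨a, b⟩ ⟨a', b'⟩ e
      have e1 : a = a' := congrArg Prod.fst e
      have e2 : rho b = rho b' := congrArg Prod.snd e
      rw [e1, rho_injective e2]
    exact (Subtype.val_injective.comp E.injective).comp h1
  have hFt : F (-1, 1) = t := by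
    show (E (-1, rho 1) : G) = t
    rw [hE, if_neg h0, map_one, map_one, mul_one]
  have hFC : ∀ x, F x ∈ centralizer ({t} : Set G) := fun x => (E (x.1, rho x.2)).2
  obtain ⟨T, hT⟩ : ∃ T, T = F.range := ⟨_, rfl⟩
  have hcardT : Nat.card T = 16 := by
    rw [hT, ← Nat.card_congr (MonoidHom.ofInjective hF).toEquiv, Nat.card_prod, DihedralGroup.nat_card,
      Nat.card_eq_fintype_card]
    rfl
  have htT : t ∈ T := by rw [hT]; exact ⟨_, hFt⟩
  have hcardC : Nat.card (centralizer ({t} : Set G)) = 5040 := by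
    rw [← Nat.card_congr E.toEquiv, Nat.card_prod, nat_card_alternatingGroup, Nat.card_eq_fintype_card, Nat.card_fin]
    simp [Nat.factorial]
  have hTC : T ≤ centralizer ({t} : Set G) := by
    rw [hT]
    rintro _ ⟨x, rfl⟩
    exact hFC x
  have ho : orderOf t = 2 := orderOf_eq_prime (by rw [pow_two, h.tt]) h.t1
  have hodd : Odd (T.relIndex (centralizer ({t} : Set G))) := by
    have h1 := (T.subgroupOf (centralizer ({t} : Set G))).card_mul_index
    rw [Nat.card_congr (subgroupOfEquivOfLe hTC).toEquiv, hcardT, hcardC] at h1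
    change 16 * T.relIndex (centralizer ({t} : Set G)) = 5040 at h1
    rw [Nat.odd_iff]
    omega
  have hcen : ∀ y : T, y * ⟨t, htT⟩ = ⟨t, htT⟩ * y := fun y =>
    Subtype.ext (mem_centralizer_singleton_iff.1 (hTC y.2))
  have hn : (zpowers (⟨t, htT⟩ : T)).Normal := by
    refine ⟨fun y hy g => ?_⟩
    obtain ⟨k, rfl⟩ := mem_zpowers_iff.1 hy
    have h1 : g * (⟨t, htT⟩ : T) ^ k * g⁻¹ = (⟨t, htT⟩ : T) ^ k := by
      have h2 : Commute g ((⟨t, htT⟩ : T) ^ k) := Commute.zpow_right (hcen g) k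
      rw [h2.eq, mul_inv_cancel_right]
    rw [h1]
    exact hy
  -- the quotient
  obtain ⟨q, hq⟩ : ∃ q : T →* DihedralGroup 4, ∀ x : ℤˣ × DihedralGroup 4, ∀ hx : F x ∈ T, q ⟨F x, hx⟩ = x.2 := by
    subst hT
    refine ⟨(MonoidHom.snd _ _).comp (MonoidHom.ofInjective hF).symm.toMonoidHom, ?_⟩
    intro x hx
    show ((MonoidHom.ofInjective hF).symm ⟨F x, hx⟩).2 = x.2
    have : (MonoidHom.ofInjective hF).symm ⟨F x, hx⟩ = x := by
      rw [MulEquiv.symm_apply_eq]
      rfl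
    rw [this]
  have hrep : ∀ y : T, ∃ x, ∃ hx : F x ∈ T, y = ⟨F x, hx⟩ := by
    intro y
    obtain ⟨x, hx⟩ := hT.le y.2
    exact ⟨x, by rw [hx]; exact y.2, Subtype.ext hx.symm⟩
  have hFT : ∀ x, F x ∈ T := fun x => by rw [hT]; exact ⟨x, rfl⟩
  have hqs : Function.Surjective q := fun d => ⟨⟨F (1, d), hFT _⟩, hq _ _⟩
  have hker : q.ker = zpowers (⟨t, htT⟩ : T) := by
    ext y
    rw [MonoidHom.mem_ker]
    constructor
    · intro hy
      obtain ⟨⟨ε, d⟩, hx, rfl⟩ := hrep y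
      rw [hq] at hy
      have hd : d = 1 := hy
      subst hd
      rcases Int.units_eq_one_or ε with he | he
      · subst he
        have : (⟨F (1, 1), hx⟩ : T) = 1 := Subtype.ext (map_one F)
        rw [this]
        exact one_mem _
      · subst he
        have : (⟨F (-1, 1), hx⟩ : T) = ⟨t, htT⟩ := Subtype.ext hFt
        rw [this]
        exact mem_zpowers _
    · intro hy
      have h1 : zpowers (⟨t, htT⟩ : T) ≤ q.ker := by
        rw [zpowers_le, MonoidHom.mem_ker]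
        have : (⟨t, htT⟩ : T) = ⟨F (-1, 1), hFT _⟩ := Subtype.ext hFt.symm
        rw [this, hq]
      exact MonoidHom.mem_ker.1 (h1 hy)
  have hiso : Nonempty (↥T ⧸ zpowers (⟨t, htT⟩ : T) ≃* DihedralGroup 4) :=
    ⟨(QuotientGroup.quotientMulEquivOfEq hker.symm).trans (QuotientGroup.quotientKerEquivOfSurjective q hqs)⟩
  -- the elementary abelian subgroup of order eight
  let F2 : ℤˣ × (ℤˣ × ℤˣ) →* G := F.comp ((MonoidHom.id ℤˣ).prodMap vHom)
  have hF2 : Function.Injective F2 := by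
    have h1 : Function.Injective ((MonoidHom.id ℤˣ).prodMap vHom) := by
      rintro ⟨a, b⟩ ⟨a', b'⟩ e
      have e1 : a = a' := congrArg Prod.fst e
      have e2 : vHom b = vHom b' := congrArg Prod.snd e
      rw [e1, vHom_injective e2]
    exact hF.comp h1
  refine D6.Harada.rank_of_dihedral ho (IsPGroup.of_card (n := 4) (by rw [hcardT]; norm_num)) hTC hodd htT hn
    (Or.inl ⟨4, by norm_num, hiso⟩) F2.range ?_ ?_ ?_ ?_ ?_
  · rintro _ ⟨x, rfl⟩
    exact hFT _
  · rintro _ ⟨x, rfl⟩ _ ⟨y, rfl⟩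
    rw [← map_mul, ← map_mul, mul_comm]
  · rintro _ ⟨x, rfl⟩
    rw [← map_mul]
    have : ∀ x : ℤˣ × (ℤˣ × ℤˣ), x * x = 1 := by decide
    rw [this, map_one]
  · rw [← Nat.card_congr (MonoidHom.ofInjective hF2).toEquiv, Nat.card_eq_fintype_card]
    rfl
  · refine ⟨(-1, 1, 1), ?_⟩
    show F (-1, vHom (1, 1)) = t
    rw [show vHom (1, 1) = 1 from map_one vHom, hFt]

end Cfsg.Agent.OddHalf.D5.Seven.Clean
end

-- part: OddHalf/D8/RowM11
section
prune_inst 0x400001420110002000018001220003c42ca000192006b8000f0e00a4006867f600d022720f4d01c1008020a44403c000000980050422000000a000400011901a0808a40069308a10426008f80f806000000000000000000000000000000041000000000000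
set_option linter.all false
open scoped Cfsg.Agent.FastGrp

-- merged: Cfsg.Agent.OddHalf.D8.SelfFour
section

/-!
# `K` simple, complete, with a self-centralising four-group (helper652)

`Start K t q`, every automorphism of `K` inner, `Z(C_K(k))` of exponent 2 for all involutions `k` of `K`, and a
four-group `V ≤ K` with `C_K(V) = V`. Then `K` is no standard component of a group of sectional 2-rank at least 5.
Used for `K = M₁₁`.
-/

set_option autoImplicit false

namespace Cfsg.Agent.OddHalf.D8.SelfFour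

open Subgroup Cfsg Cfsg.Agent.OddHalf.Iface Cfsg.Agent.OddHalf.Front.FE

universe u

variable {G : Type u} [Group G] {K : Subgroup G} {t q : G}

/-- all automorphisms inner: `C(t) = K Q` -/
theorem exists_mul (h : Start0 K t q) (hin : ∀ a : MulAut ↥K, ∃ g : ↥K, a = MulAut.conj g) {c : G}
    (hc : c * t = t * c) : ∃ k ∈ K, ∃ y ∈ zpowers q, c = k * y := by
  have hcK := h.nK c hc
  obtain ⟨g, hg⟩ := hin (K.normalizerMonoidHom ⟨c, hcK⟩)
  have hg' : ∀ x ∈ K, c * x * c⁻¹ = (g : G) * x * (g : G)⁻¹ := by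
    intro x hx
    have h1 : ((K.normalizerMonoidHom ⟨c, hcK⟩ (⟨x, hx⟩ : ↥K) : ↥K) : G) =
      ((MulAut.conj g (⟨x, hx⟩ : ↥K) : ↥K) : G) := by rw [hg]
    exact h1
  refine ⟨g, g.2, (g : G)⁻¹ * c, ?_, by group⟩
  have hgt : (g : G) * t = t * g := h.Kt g g.2
  refine h.cK _ ?_ ?_
  · calc (g : G)⁻¹ * c * t = (g : G)⁻¹ * (c * t) := by group
      _ = (g : G)⁻¹ * (t * g) * (g : G)⁻¹ * c := by rw [hc]; group
      _ = t * ((g : G)⁻¹ * c) := by rw [← hgt]; group
  · intro x hx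
    have h1 := hg' x hx
    have h2 : c * x = (g : G) * x * (g : G)⁻¹ * c := by rw [← h1]; group
    calc x * ((g : G)⁻¹ * c) = (g : G)⁻¹ * ((g : G) * x * (g : G)⁻¹ * c) := by group
      _ = (g : G)⁻¹ * c * x := by rw [← h2]; group

/-- an involution of `C(t)` is `k` or `k t` with `k² = 1` -/
theorem invol (h : Start K t q) [Finite G] (hin : ∀ a : MulAut ↥K, ∃ g : ↥K, a = MulAut.conj g) {u : G}
    (hu : u * t = t * u) (huu : u * u = 1) : ∃ k ∈ K, k * k = 1 ∧ (u = k ∨ u = k * t) := by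
  obtain ⟨k, hk, y, hy, rfl⟩ := exists_mul h.toStart0 hin hu
  have hky : k * y = y * k := h.QK y hy k hk
  have h1 : k * k * (y * y) = 1 := by
    rw [← huu]
    calc k * k * (y * y) = k * (k * y) * y := by group
      _ = k * (y * k) * y := by rw [hky]
      _ = k * y * (k * y) := by group
  have h2 : k * k = (y * y)⁻¹ := eq_inv_of_mul_eq_one_left h1
  have h3 : k * k = 1 := by
    refine h.cen _ (K.mul_mem hk hk) fun x hx => ?_
    have h4 : (y * y)⁻¹ ∈ zpowers q := inv_mem (mul_mem hy hy)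
    rw [h2]
    exact h.QK _ h4 x hx
  have h5 : y * y = 1 := by rw [h3, one_mul] at h1; exact h1
  refine ⟨k, hk, h3, ?_⟩
  by_cases hy1 : y = 1
  · left; rw [hy1, mul_one]
  · right; rw [h.uniq hy h5 hy1]

/-- `|Q| ≥ 4`: `t` commutes with no other conjugate -/
theorem isolated [Finite G] (h : Start K t q) (hin : ∀ a : MulAut ↥K, ∃ g : ↥K, a = MulAut.conj g)
    (hZ : ∀ k ∈ K, k * k = 1 → k ≠ 1 → ∀ x ∈ K, x * k = k * x →
      (∀ y ∈ K, y * k = k * y → y * x = x * y) → x * x = 1)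
    (hq : q * q ≠ 1) (g : G) (hg : t * (g * t * g⁻¹) = g * t * g⁻¹ * t) : g * t * g⁻¹ = t := by
  by_contra hne
  set u := g * t * g⁻¹ with hu
  set v := g⁻¹ * t * g with hv
  have hti : t⁻¹ = t := inv_eq_of_mul_eq_one_left h.tt
  have huu : u * u = 1 := by
    rw [hu]
    calc g * t * g⁻¹ * (g * t * g⁻¹) = g * (t * t) * g⁻¹ := by group
      _ = 1 := by rw [h.tt]; group
  have hvv : v * v = 1 := by
    rw [hv]
    calc g⁻¹ * t * g * (g⁻¹ * t * g) = g⁻¹ * (t * t) * g := by group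
      _ = 1 := by rw [h.tt]; group
  have hv1 : v ≠ 1 := by
    intro h1
    apply h.t1
    have : t = g * v * g⁻¹ := by rw [hv]; group
    rw [this, h1]; group
  have hvt' : v ≠ t := by
    intro h1
    apply hne
    have : t = g * v * g⁻¹ := by rw [hv]; group
    rw [hu]
    rw [h1] at this
    exact this.symm
  have hvt : v * t = t * v := by
    have : g * (v * t) * g⁻¹ = g * (t * v) * g⁻¹ := by
      calc g * (v * t) * g⁻¹ = t * u := by rw [hv, hu]; group
        _ = u * t := hg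
        _ = g * (t * v) * g⁻¹ := by rw [hv, hu]; group
    exact mul_left_cancel (mul_right_cancel this)
  -- `q` commutes with `u`
  have hqu : q * u = u * q := by
    obtain ⟨k, hk, _, h1 | h1⟩ := invol h hin hg.symm huu
    · rw [h1]; exact (h.qK k hk).symm
    · rw [h1]
      have h2 := h.qK k hk
      have h3 := h.Qt q (mem_zpowers q)
      calc q * (k * t) = (q * k) * t := by group
        _ = k * (q * t) := by rw [← h2]; group
        _ = k * t * q := by rw [h3]; group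
  set w := g⁻¹ * q * g with hw
  have hwt : w * t = t * w := by
    have : g * (w * t) * g⁻¹ = g * (t * w) * g⁻¹ := by
      calc g * (w * t) * g⁻¹ = q * u := by rw [hw, hu]; group
        _ = u * q := hqu
        _ = g * (t * w) * g⁻¹ := by rw [hw, hu]; group
    exact mul_left_cancel (mul_right_cancel this)
  have hwv : w * v = v * w := by
    have h3 := h.Qt q (mem_zpowers q)
    rw [hw, hv]
    calc g⁻¹ * q * g * (g⁻¹ * t * g) = g⁻¹ * (q * t) * g := by group
      _ = g⁻¹ * (t * q) * g := by rw [h3]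
      _ = g⁻¹ * t * g * (g⁻¹ * q * g) := by group
  obtain ⟨l, hl, hll, hvl⟩ := invol h hin hvt hvv
  have hl1 : l ≠ 1 := by
    rintro rfl
    rcases hvl with h1 | h1
    · exact hv1 h1
    · exact hvt' (by rw [h1, one_mul])
  -- commuting with `v` and `t` is commuting with `l` and `t`
  have hlv : ∀ x : G, x * t = t * x → (x * v = v * x ↔ x * l = l * x) := by
    intro x hx
    rcases hvl with h1 | h1
    · rw [h1]
    · rw [h1]
      constructor
      · intro h2
        have : x * l * t = l * x * t := by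
          calc x * l * t = x * (l * t) := by group
            _ = l * (t * x) := by rw [h2]; group
            _ = l * x * t := by rw [← hx]; group
        exact mul_right_cancel this
      · intro h2
        calc x * (l * t) = (x * l) * t := by group
          _ = l * (x * t) := by rw [h2]; group
          _ = l * t * x := by rw [hx]; group
  obtain ⟨k', hk', y', hy', hwk⟩ := exists_mul h.toStart0 hin hwt
  -- `w` commutes with everything in `C(t) ∩ C(v)`
  have hwX : ∀ x : G, x * t = t * x → x * v = v * x → x * w = w * x := by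
    intro x hxt hxv
    have h1 : (g * x * g⁻¹) * t = t * (g * x * g⁻¹) := by
      calc g * x * g⁻¹ * t = g * (x * v) * g⁻¹ := by rw [hv]; group
        _ = g * (v * x) * g⁻¹ := by rw [hxv]
        _ = t * (g * x * g⁻¹) := by rw [hv]; group
    have h2 : (g * x * g⁻¹) * q = q * (g * x * g⁻¹) := by
      obtain ⟨k, hk, y, hy, h3⟩ := exists_mul h.toStart0 hin h1
      have h4 : y * q = q * y := by
        obtain ⟨a, rfl⟩ := mem_zpowers_iff.1 hy
        exact (Commute.refl q).zpow_left a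
      rw [h3]
      calc k * y * q = k * (y * q) := by group
        _ = k * q * y := by rw [h4]; group
        _ = q * (k * y) := by rw [h.qK k hk]; group
    calc x * w = g⁻¹ * ((g * x * g⁻¹) * q) * g := by rw [hw]; group
      _ = w * x := by rw [h2, hw]; group
  have hyK : ∀ x ∈ K, x * y' = y' * x := fun x hx => h.QK y' hy' x hx
  have hk'2 : k' * k' = 1 := by
    refine hZ l hl hll hl1 k' hk' ?_ ?_
    · have h1 : w * l = l * w := (hlv w hwt).1 hwv
      rw [hwk] at h1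
      have h2 : k' * l * y' = l * k' * y' := by
        calc k' * l * y' = k' * (l * y') := by group
          _ = k' * y' * l := by rw [hyK l hl]; group
          _ = l * k' * y' := by rw [h1]; group
      exact mul_right_cancel h2
    · intro y hy hyl
      have hyt := h.Kt y hy
      have h1 := hwX y hyt ((hlv y hyt).2 hyl)
      rw [hwk] at h1
      have h2 : y * k' * y' = k' * y * y' := by
        calc y * k' * y' = y * (k' * y') := by group
          _ = k' * (y' * y) := by rw [h1]; group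
          _ = k' * y * y' := by rw [← hyK y hy]; group
      exact mul_right_cancel h2
  have hww : w * w = y' * y' := by
    rw [hwk]
    calc k' * y' * (k' * y') = k' * (y' * k') * y' := by group
      _ = (k' * k') * (y' * y') := by rw [← hyK k' hk']; group
      _ = y' * y' := by rw [hk'2, one_mul]
  -- `t` is a power of `q²`
  have hpq : IsPGroup 2 ↥(zpowers (q * q)) := h.pQ.to_le (zpowers_le.2 (mul_mem (mem_zpowers q) (mem_zpowers q)))
  obtain ⟨t', ht', htt', ht1'⟩ := exists_involution hq hpq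
  have ht'q : t' ∈ zpowers q := (zpowers_le.2 (mul_mem (mem_zpowers q) (mem_zpowers q))) ht'
  have ht't : t' = t := h.uniq ht'q htt' ht1'
  rw [ht't] at ht'
  obtain ⟨n, hn⟩ := mem_zpowers_iff.1 ht'
  have hvn : v = (w * w) ^ n := by
    rw [hv, ← hn, hw]
    have h1 : g⁻¹ * q * g * (g⁻¹ * q * g) = g⁻¹ * (q * q) * g := by group
    rw [h1]
    have := conj_zpow (i := n) (a := g⁻¹) (b := q * q)
    rw [inv_inv] at this
    exact this.symm
  have hvQ : v ∈ zpowers q := by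
    rw [hvn, hww]
    exact zpow_mem (mul_mem hy' hy') n
  exact hvt' (h.uniq hvQ hvv hv1)

/-- Z*-theorem: a simple group has no isolated involution -/
theorem false_of_isolated [Finite G] [IsSimpleGroup G] (hna : ¬ IsMulCommutative G) {t : G}
    (htt : t * t = 1) (ht1 : t ≠ 1)
    (hiso : ∀ g : G, t * (g * t * g⁻¹) = g * t * g⁻¹ * t → g * t * g⁻¹ = t) : False := by
  have : Fact (Nat.Prime 2) := ⟨Nat.prime_two⟩
  have hz : orderOf t = 2 := orderOf_eq_prime (by rw [pow_two, htt]) ht1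
  have hiso' : Cfsg.IsIsolatedInvolution t := ⟨hz, fun g hg => hiso g hg⟩
  have hp : IsPGroup 2 (zpowers t) := by
    rw [IsPGroup.iff_card]
    exact ⟨1, by rw [Nat.card_zpowers, hz, pow_one]⟩
  obtain ⟨P, hP⟩ := hp.exists_le_sylow
  have hzP : t ∈ P := hP (mem_zpowers t)
  obtain ⟨N, hN, hodd, hcomm⟩ := Cfsg.Agent.S0215.result P t hz hzP fun g hg =>
    Cfsg.Agent.S1180.eq_of_conj_mem_isPGroup t hiso' (P : Subgroup G) P.isPGroup' hzP g hg
  rcases hN.eq_bot_or_eq_top with h1 | h1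
  · have hc : t ∈ center G := mem_center_iff.2 fun g => by
      have h2 := hcomm g
      rw [h1, mem_bot, mul_inv_eq_one, mul_inv_eq_iff_eq_mul] at h2
      exact h2.symm
    rcases (inferInstance : (center G).Normal).eq_bot_or_eq_top with h3 | h3
    · rw [h3, mem_bot] at hc
      exact ht1 hc
    · apply hna
      refine ⟨⟨fun a b => ?_⟩⟩
      have : b ∈ center G := h3 ▸ mem_top b
      exact mem_center_iff.1 this a
  · have h2 : Nat.card N = Nat.card G := by rw [h1]; exact card_top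
    rw [h2] at hodd
    have h3 : 2 ∣ Nat.card G := hz ▸ _root_.orderOf_dvd_natCard t
    exact (Nat.not_even_iff_odd.2 hodd) (even_iff_two_dvd.2 h3)

/-- `|Q| = 2` and a self-centralising four-group: sectional 2-rank at most 4 -/
theorem rank4 [Finite G] (h : Start K t q) (hin : ∀ a : MulAut ↥K, ∃ g : ↥K, a = MulAut.conj g)
    (hq : q * q = 1) {a b : G} (ha : a ∈ K) (hb : b ∈ K) (haa : a * a = 1) (hbb : b * b = 1)
    (ha1 : a ≠ 1) (hb1 : b ≠ 1) (hab : a ≠ b) (hcab : a * b = b * a)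
    (hC : ∀ x ∈ K, x * a = a * x → x * b = b * x → x = 1 ∨ x = a ∨ x = b ∨ x = a * b) :
    SectionalPRankLE 2 4 G := by
  classical
  have hq1 : q ≠ 1 := by
    rintro rfl
    have := h.tQ
    rw [zpowers_one_eq_bot, mem_bot] at this
    exact h.t1 this
  have hqt : q = t := h.uniq (mem_zpowers q) hq hq1
  have hQ : ∀ y ∈ zpowers q, y = 1 ∨ y = t := by
    intro y hy
    by_cases h1 : y = 1
    · exact Or.inl h1
    · right
      refine h.uniq hy ?_ h1
      obtain ⟨n, rfl⟩ := mem_zpowers_iff.1 hy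
      rw [← (Commute.refl q).mul_zpow n, hq, one_zpow]
  have hat := h.Kt a ha
  have hbt := h.Kt b hb
  set E : Subgroup G := centralizer ({t, a, b} : Set G) with hE
  have hmem : ∀ c : G, c ∈ E ↔ c * t = t * c ∧ c * a = a * c ∧ c * b = b * c := by
    intro c
    rw [hE, mem_centralizer_iff]
    simp only [Set.mem_insert_iff, Set.mem_singleton_iff, forall_eq_or_imp, forall_eq]
    exact ⟨fun h => ⟨h.1.symm, h.2.1.symm, h.2.2.symm⟩, fun h => ⟨h.1.symm, h.2.1.symm, h.2.2.symm⟩⟩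
  have hlist : ∀ c ∈ E, c = 1 ∨ c = a ∨ c = b ∨ c = a * b ∨ c = t ∨ c = a * t ∨ c = b * t ∨
      c = a * b * t := by
    intro c hc
    obtain ⟨h1, h2, h3⟩ := (hmem c).1 hc
    obtain ⟨k, hk, y, hy, rfl⟩ := exists_mul h.toStart0 hin h1
    have hyK : ∀ x ∈ K, x * y = y * x := fun x hx => h.QK y hy x hx
    have h4 : ∀ x ∈ K, k * y * x = x * (k * y) → k * x = x * k := by
      intro x hx h5
      have : k * x * y = x * k * y := by
        calc k * x * y = k * (x * y) := by group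
          _ = k * y * x := by rw [hyK x hx]; group
          _ = x * k * y := by rw [h5]; group
      exact mul_right_cancel this
    have h5 := hC k hk (h4 a ha h2) (h4 b hb h3)
    rcases hQ y hy with rfl | rfl
    · rw [mul_one]; (clear * - h5; tauto)
    · rcases h5 with rfl | rfl | rfl | rfl
      · simp only [_root_.one_mul, _root_.right_eq_mul, _root_.true_or, _root_.or_true]
      all_goals (clear * -; tauto)
  have h1E : ∀ c ∈ E, ∀ d ∈ E, c * d = d * c := by
    intro c hc d hd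
    obtain ⟨d1, d2, d3⟩ := (hmem d).1 hd
    have d4 : d * (a * b) = a * b * d := by
      calc d * (a * b) = (d * a) * b := by group
        _ = a * (d * b) := by rw [d2]; group
        _ = a * b * d := by rw [d3]; group
    rcases hlist c hc with rfl | rfl | rfl | rfl | rfl | rfl | rfl | rfl
    · rw [one_mul, mul_one]
    · exact d2.symm
    · exact d3.symm
    · exact d4.symm
    · exact d1.symm
    · calc a * t * d = a * (t * d) := by group
        _ = a * d * t := by rw [← d1]; group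
        _ = d * (a * t) := by rw [← d2]; group
    · calc b * t * d = b * (t * d) := by group
        _ = b * d * t := by rw [← d1]; group
        _ = d * (b * t) := by rw [← d3]; group
    · calc a * b * t * d = a * b * (t * d) := by group
        _ = a * b * d * t := by rw [← d1]; group
        _ = d * (a * b * t) := by rw [← d4]; group
  have habab : a * b * (a * b) = 1 := by
    calc a * b * (a * b) = a * (b * a) * b := by group
      _ = (a * a) * (b * b) := by rw [← hcab]; group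
      _ = 1 := by rw [haa, hbb, one_mul]
  have h2t : ∀ x : G, x * t = t * x → x * x = 1 → x * t * (x * t) = 1 := by
    intro x hx hxx
    calc x * t * (x * t) = x * (t * x) * t := by group
      _ = (x * x) * (t * t) := by rw [← hx]; group
      _ = 1 := by rw [hxx, h.tt, one_mul]
  have h2E : ∀ c ∈ E, c * c = 1 := by
    intro c hc
    rcases hlist c hc with rfl | rfl | rfl | rfl | rfl | rfl | rfl | rfl
    · rw [one_mul]
    · exact haa
    · exact hbb
    · exact habab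
    · exact h.tt
    · exact h2t _ hat haa
    · exact h2t _ hbt hbb
    · exact h2t _ (h.Kt _ (K.mul_mem ha hb)) habab
  have haE : a ∈ E := (hmem a).2 ⟨hat, rfl, hcab⟩
  have hbE : b ∈ E := (hmem b).2 ⟨hbt, hcab.symm, rfl⟩
  have htE : t ∈ E := (hmem t).2 ⟨rfl, hat.symm, hbt.symm⟩
  have hEp : IsPGroup 2 ↥E := by
    rintro ⟨c, hc⟩
    refine ⟨1, Subtype.ext ?_⟩
    show c ^ 2 ^ 1 = 1
    rw [pow_one, pow_two]; exact h2E c hc
  have htK : t ∉ K := by
    intro h1
    exact h.t1 (h.cen t h1 fun y hy => h.Kt y hy)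
  have hab1 : a * b ≠ 1 := by
    intro h1
    apply hab
    have : a = b⁻¹ := eq_inv_of_mul_eq_one_left h1
    rw [this]; exact inv_eq_of_mul_eq_one_left hbb
  have hle : Nat.card E ≤ 8 := by
    have : (E : Set G) ⊆ (({1, a, b, a * b, t, a * t, b * t, a * b * t} : Finset G) : Set G) := by
      intro c hc
      simp only [Finset.coe_insert, Finset.coe_singleton, Set.mem_insert_iff, Set.mem_singleton_iff]
      exact hlist c hc
    have h1 := Set.ncard_le_ncard this (Finset.finite_toSet _)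
    rw [Set.ncard_coe_finset] at h1
    have h2 : ({1, a, b, a * b, t, a * t, b * t, a * b * t} : Finset G).card ≤ 8 :=
      (Finset.card_insert_le _ _).trans (Nat.succ_le_succ
        ((Finset.card_insert_le _ _).trans (Nat.succ_le_succ Finset.card_le_six)))
    exact h1.trans h2
  have hge : 5 ≤ Nat.card E := by
    have hsub : (({1, a, b, a * b, t} : Finset G) : Set G) ⊆ (E : Set G) := by
      intro c hc
      simp only [Finset.coe_insert, Finset.coe_singleton, Set.mem_insert_iff,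
        Set.mem_singleton_iff] at hc
      rcases hc with rfl | rfl | rfl | rfl | rfl
      · exact one_mem E
      · exact haE
      · exact hbE
      · exact mul_mem haE hbE
      · exact htE
    have h1 := Set.ncard_le_ncard hsub (Set.toFinite _)
    rw [Set.ncard_coe_finset] at h1
    have h2 : ({1, a, b, a * b, t} : Finset G).card = 5 := by
      have hta : t ≠ a := fun h1 => htK (h1 ▸ ha)
      have htb : t ≠ b := fun h1 => htK (h1 ▸ hb)
      have htab : t ≠ a * b := fun h1 => htK (h1 ▸ K.mul_mem ha hb)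
      rw [Finset.card_insert_of_notMem, Finset.card_insert_of_notMem, Finset.card_insert_of_notMem,
        Finset.card_insert_of_notMem, Finset.card_singleton]
      · rw [Finset.mem_singleton]; exact htab.symm
      · rw [Finset.mem_insert, Finset.mem_singleton]
        rintro (h1 | h1)
        · exact ha1 (mul_eq_right.1 h1.symm)
        · exact htb h1.symm
      · rw [Finset.mem_insert, Finset.mem_insert, Finset.mem_singleton]
        rintro (h1 | h1 | h1)
        · exact hab h1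
        · exact hb1 (mul_eq_left.1 h1.symm)
        · exact hta h1.symm
      · rw [Finset.mem_insert, Finset.mem_insert, Finset.mem_insert, Finset.mem_singleton]
        rintro (h1 | h1 | h1 | h1)
        · exact ha1 h1.symm
        · exact hb1 h1.symm
        · exact hab1 h1.symm
        · exact h.t1 h1.symm
    rw [h2] at h1
    exact h1
  have h8 : Nat.card E = 8 := by
    obtain ⟨n, hn⟩ := IsPGroup.iff_card.1 hEp
    rw [hn] at hle hge ⊢
    have h1 : n < 4 := by
      by_contra h2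
      have : 2 ^ 4 ≤ 2 ^ n := Nat.pow_le_pow_right two_pos (not_lt.1 h2)
      omega
    have h2 : 2 < n := by
      by_contra h2
      have : 2 ^ n ≤ 2 ^ 2 := Nat.pow_le_pow_right two_pos (not_lt.1 h2)
      omega
    have h3 : n = 3 := by omega
    rw [h3]; norm_num
  obtain ⟨S, hS⟩ := hEp.exists_le_sylow
  refine D6.Harada.rank_of_self S E hS h1E h2E h8 fun s _ hs => ?_
  exact (hmem s).2 ⟨hs t htE, hs a haE, hs b hbE⟩

end Cfsg.Agent.OddHalf.D8.SelfFour

end

-- merged: Cfsg.Agent.OddHalf.D8.RowM11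
section

/-!
# ODD half, D8: the row `M₁₁` (helper652)
-/

set_option autoImplicit false

namespace Cfsg.Agent.OddHalf.D8.RowM11

open Subgroup Cfsg Matrix Cfsg.Agent.Cit.Eleven Cfsg.Agent.OddHalf.Front.FE

universe u

/-- a self-centralising four-group of `M₁₁` -/
theorem exists_four {L : Type*} [Group L] (h : Cfsg.Spor.IsoM11 L) : ∃ z b : L, z * z = 1 ∧ b * b = 1 ∧
    z ≠ 1 ∧ b ≠ 1 ∧ z ≠ b ∧ z * b = b * z ∧
    ∀ x : L, x * z = z * x → x * b = b * x → x = 1 ∨ x = z ∨ x = b ∨ x = z * b := by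
  have := finite h
  have : Fact (Nat.Prime 2) := ⟨Nat.prime_two⟩
  obtain ⟨z, hz⟩ := exists_prime_orderOf_dvd_card' (G := L) 2 (by rw [(isM11 h).2]; norm_num)
  have hzz : z * z = 1 := by rw [← pow_two, ← hz]; exact pow_orderOf_eq_one z
  have hz1 : z ≠ 1 := by rintro rfl; simp at hz
  obtain ⟨e⟩ := nonempty_equiv h hz
  have hdd : ∃ d : X, d * d = 1 ∧ d ≠ 1 ∧ d ≠ -1 ∧ d.1 = !![1, 0; 0, -1] :=
    ⟨⟨!![1, 0; 0, -1], !![1, 0; 0, -1], by decide, by decide⟩, by
      refine ⟨?_, ?_, ?_, rfl⟩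
      · ext i j; fin_cases i <;> fin_cases j <;> decide
      · intro h; have := congrArg (fun x : X => x.1 1 1) h; revert this; decide
      · intro h; have := congrArg (fun x : X => x.1 0 0) h; revert this; decide⟩
  obtain ⟨d, h1, h2, h3, h4⟩ := hdd
  have hXd : ∀ x : X, x * d = d * x → x = 1 ∨ x = -1 ∨ x = d ∨ x = -1 * d := by
    intro x hx
    have h5 : x.1 * d.1 = d.1 * x.1 := congrArg Units.val hx
    rw [h4, mat_eq x] at h5
    have e01 := congrFun (congrFun h5 0) 1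
    have e10 := congrFun (congrFun h5 1) 0
    simp only [Matrix.mul_apply, Fin.sum_univ_two, _root_.Fin.isValue, _root_.Matrix.of_apply, _root_.Matrix.cons_val', _root_.Matrix.cons_val_fin_one, _root_.Matrix.cons_val_zero, _root_.Matrix.cons_val_one, _root_.MulZeroClass.mul_zero, _root_.mul_neg, _root_.mul_one, _root_.zero_add, _root_.one_mul, _root_.MulZeroClass.zero_mul, _root_.add_zero, _root_.neg_mul] at e01 e10
    have hdet := det_cases x
    rw [det_eq] at hdet
    have key : ∀ a b c e : ZMod 3, -b = b → c = -c → (a * e - b * c = 1 ∨ a * e - b * c = -1) →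
        b = 0 ∧ c = 0 ∧ ((a = 1 ∧ e = 1) ∨ (a = -1 ∧ e = -1) ∨ (a = 1 ∧ e = -1) ∨ (a = -1 ∧ e = 1)) := by
      decide +kernel
    obtain ⟨k1, k2, k3⟩ := key _ _ _ _ e01 e10 hdet
    have hval : ∀ y : X, x.1 = y.1 → x = y := fun y hy => Units.ext hy
    rcases k3 with ⟨k3, k4⟩ | ⟨k3, k4⟩ | ⟨k3, k4⟩ | ⟨k3, k4⟩
    · left
      apply hval; rw [mat_eq x, k1, k2, k3, k4]; exact Matrix.one_fin_two.symm
    · right; left
      apply hval; rw [mat_eq x, k1, k2, k3, k4]
      ext i j; (revert i j; simp only [_root_.Fin.forall_fin_succ, _root_.Matrix.of_apply, _root_.Matrix.cons_val', _root_.Matrix.cons_val_fin_one, _root_.Units.val_neg, _root_.Units.val_one, _root_.Matrix.neg_apply, Fin.isValue, _root_.Matrix.cons_val_zero, _root_.Matrix.cons_val_succ, _root_.IsEmpty.forall_iff, _root_.and_true, _root_.Matrix.one_apply_eq, Nat.reduceAdd, _root_.Fin.succ_zero_eq_one, _root_.ne_eq, _root_.zero_ne_one, _root_.not_false_eq_true, _root_.Matrix.one_apply_ne,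 _root_.neg_zero, _root_.and_self, _root_.Fin.succ_ne_zero, _root_.neg_inj, _root_.true_and])
    · right; right; left
      apply hval; rw [mat_eq x, k1, k2, k3, k4, h4]
    · right; right; right
      apply hval; rw [mat_eq x, k1, k2, k3, k4]
      ext i j; (revert i j; simp only [h4, _root_.Fin.forall_fin_succ, _root_.Matrix.of_apply, _root_.Matrix.cons_val', _root_.Matrix.cons_val_fin_one, _root_.neg_mul, _root_.one_mul, _root_.Units.val_neg, _root_.Matrix.neg_apply, Fin.isValue, _root_.Matrix.cons_val_zero, _root_.Matrix.cons_val_succ, _root_.forall_const, _root_.neg_zero, _root_.and_self, _root_.neg_neg, _root_.implies_true])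
  have hsub : ∀ y : X, ((e.symm y : ↥(centralizer ({z} : Set L))) : L) * z =
      z * ((e.symm y : ↥(centralizer ({z} : Set L))) : L) := fun y => mem_cent.1 (e.symm y).2
  have hz' : e ⟨z, self_mem z⟩ = -1 := equiv_z hz e
  have hb1 : ((e.symm d : ↥(centralizer ({z} : Set L))) : L) ≠ 1 := by
    intro h5
    apply h2
    have h6 : e.symm d = 1 := Subtype.ext h5
    rw [← map_one e.symm] at h6
    exact e.symm.injective h6
  have hzb : z ≠ ((e.symm d : ↥(centralizer ({z} : Set L))) : L) := by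
    intro h5
    apply h3
    have h6 : e.symm d = ⟨z, self_mem z⟩ := Subtype.ext h5.symm
    rw [← hz', ← h6, e.apply_symm_apply]
  refine ⟨z, (e.symm d : L), hzz, ?_, hz1, hb1, hzb, (hsub d).symm, ?_⟩
  · have := congrArg Subtype.val (congrArg e.symm h1)
    simpa only [_root_.map_mul, _root_.Subgroup.coe_mul, _root_.map_one, _root_.OneMemClass.coe_one] using this
  · intro x hxz hxb
    have hx : x ∈ centralizer ({z} : Set L) := mem_cent.2 hxz
    have h5 : (⟨x, hx⟩ : ↥(centralizer ({z} : Set L))) * e.symm d = e.symm d * ⟨x, hx⟩ := Subtype.ext hxb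
    have h6 : e ⟨x, hx⟩ * d = d * e ⟨x, hx⟩ := by
      have := congrArg e h5
      rwa [map_mul, map_mul, e.apply_symm_apply] at this
    rcases hXd _ h6 with h7 | h7 | h7 | h7
    · left
      rw [← map_one e] at h7
      exact congrArg Subtype.val (e.injective h7)
    · right; left
      rw [← hz'] at h7
      exact congrArg Subtype.val (e.injective h7)
    · right; right; left
      have h8 : (⟨x, hx⟩ : ↥(centralizer ({z} : Set L))) = e.symm d := by
        rw [← h7, e.symm_apply_apply]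
      exact congrArg Subtype.val h8
    · right; right; right
      rw [← hz'] at h7
      have h8 : (⟨x, hx⟩ : ↥(centralizer ({z} : Set L))) = ⟨z, self_mem z⟩ * e.symm d := by
        apply e.injective
        rw [h7, map_mul, e.apply_symm_apply]
      exact congrArg Subtype.val h8

theorem center_eq_bot {L : Type*} [Group L] (h : Cfsg.Spor.IsoM11 L) : center L = ⊥ := by
  have := finite h
  have : Fact (Nat.Prime 2) := ⟨Nat.prime_two⟩
  obtain ⟨z, b, hzz, hbb, hz1, hb1, hzb, hc, hC⟩ := exists_four h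
  have hz : orderOf z = 2 := orderOf_eq_prime (by rw [pow_two, hzz]) hz1
  rw [eq_bot_iff]
  intro x hx
  rw [mem_center_iff] at hx
  rw [mem_bot]
  rcases eq_of_comm_QQ h hz (x := x) (fun y _ => (hx y).symm) with h1 | h1
  · exact h1
  · exfalso
    rw [h1] at hx
    have h2 : centralizer ({z} : Set L) = ⊤ := by
      rw [eq_top_iff]
      intro y _
      exact mem_cent.2 (hx y)
    have h3 := index_centralizer h hz
    rw [h2, index_top] at h3
    omega

/-- **row `m11` of `D8.Rows.All`** -/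
theorem row : Rows.Row.{u} (fun K _ => Spor.IsoM11 K) := by
  intro G _ hG K hK hC h
  have := hG.fin
  have := hG.simple
  have : Fact (Nat.Prime 2) := ⟨Nat.prime_two⟩
  obtain ⟨t, q, hs⟩ := exists_start hG hK hC (center_eq_bot h)
  have hin : ∀ a : MulAut ↥K, ∃ g : ↥K, a = MulAut.conj g := aut_inner h
  by_cases hq : q * q = 1
  · obtain ⟨z, b, hzz, hbb, hz1, hb1, hzb, hc, hCzb⟩ := exists_four h
    apply hG.sect5
    refine SelfFour.rank4 hs hin hq (a := (z : G)) (b := (b : G)) z.2 b.2 (congrArg Subtype.val hzz)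
      (congrArg Subtype.val hbb) (fun e => hz1 (Subtype.ext e)) (fun e => hb1 (Subtype.ext e))
      (fun e => hzb (Subtype.ext e)) (congrArg Subtype.val hc) ?_
    intro x hx hxz hxb
    rcases hCzb ⟨x, hx⟩ (Subtype.ext hxz) (Subtype.ext hxb) with e | e | e | e
    · exact Or.inl (congrArg Subtype.val e)
    · exact Or.inr (Or.inl (congrArg Subtype.val e))
    · exact Or.inr (Or.inr (Or.inl (congrArg Subtype.val e)))
    · exact Or.inr (Or.inr (Or.inr (congrArg Subtype.val e)))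
  · refine SelfFour.false_of_isolated hG.na hs.tt hs.t1 (SelfFour.isolated hs hin ?_ hq)
    intro k hk hkk hk1 x hx hxk hxC
    have hkk' : (⟨k, hk⟩ : ↥K) * ⟨k, hk⟩ = 1 := Subtype.ext hkk
    have hk1' : (⟨k, hk⟩ : ↥K) ≠ 1 := fun e => hk1 (congrArg Subtype.val e)
    have ho : orderOf (⟨k, hk⟩ : ↥K) = 2 := orderOf_eq_prime (by rw [pow_two, hkk']) hk1'
    rcases eq_of_comm_QQ h ho (x := ⟨x, hx⟩) (fun y hy => by
      have hy' : y * ⟨k, hk⟩ = ⟨k, hk⟩ * y := mem_cent.1 (QQ_le' _ hy)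
      exact Subtype.ext (hxC y y.2 (congrArg Subtype.val hy')).symm) with e | e
    · have : x = 1 := congrArg Subtype.val e
      rw [this, one_mul]
    · have : x = k := congrArg Subtype.val e
      rw [this, hkk]

end Cfsg.Agent.OddHalf.D8.RowM11

end
end

-- part: KFacts/Ru/EndFacts
section
set_option linter.all false
open scoped Cfsg.Agent.FastGrp

section
set_option autoImplicit false
set_option maxRecDepth 100000
set_option exponentiation.threshold 5000

namespace Cfsg.Agent.RuFast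

open Cfsg.Agent.RuD.Letters Cfsg.Agent.SporRec.R3.Kernel

section fast
open Cfsg.Agent.Lib.BitNet

private def trs (x : ℕ) (l : List (ℕ × ℕ)) : ℕ :=
  l.foldr (fun p y => dsw (Nat.pow 2 p.2 - Nat.pow 2 p.1) (trMask 16 p.1 p.2) y) x

private theorem testBit_trs (x : ℕ) : ∀ l : List (ℕ × ℕ), (∀ p ∈ l, p.1 < p.2 ∧ p.2 < 16) → ∀ I < 2 ^ 16, ∃ J < 2 ^ 16,
    (trs x l).testBit I = x.testBit J ∧ ∀ j, J.testBit j = I.testBit (l.foldr (fun p i => swapIdx p.1 p.2 i) j)
  | [], _, I, hI => ⟨I, hI, rfl, fun _ => rfl⟩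
  | p :: l, h, I, hI => by
    obtain ⟨h1, h2⟩ := h p List.mem_cons_self
    obtain ⟨h3, h4⟩ := sw_trMask h1 h2 hI
    obtain ⟨J, h5, h6, h7⟩ := testBit_trs x l (fun q hq => h q (List.mem_cons_of_mem _ hq)) _ h4
    exact ⟨J, h5, (testBit_dsw (trMask_valid h1 h2) _ I).trans h6, fun j => (h7 j).trans (h3 _)⟩

private def swL : List (ℕ × ℕ) :=
  [(0, 12), (1, 13), (2, 14), (3, 15), (0, 8), (1, 9), (2, 10), (3, 11), (0, 4), (1, 5), (2, 6), (3, 7)]

/-- the table of a network -/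
private def tabN (l : List (ℕ × ℕ)) : ℕ := trs (appMr 4096 4 l.reverse (pack (fun r => idxMask 16 r) 4096 4 0)) swL

private theorem tabN_eq {l : List (ℕ × ℕ)} (h : In 4096 l) {c : ℕ} (hc : c < 4096) :
    Nat.mod (Nat.shiftRight (tabN l) (Nat.mul 16 c)) 4096 = app l c := by
  have h0 := h.app_lt hc
  refine Nat.eq_of_testBit_eq fun r => ?_
  show (tabN l >>> (16 * c) % 2 ^ 12).testBit r = _
  rw [Nat.testBit_mod_two_pow, Nat.testBit_shiftRight]
  rcases Nat.lt_or_ge r 12 with hr | hr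
  · obtain ⟨J, h1, h2, h3⟩ := testBit_trs (appMr 4096 4 l.reverse (pack (fun r => idxMask 16 r) 4096 4 0)) swL
      (by decide) (16 * c + r) (by omega)
    have h4 : J = 2 ^ 12 * r + c := Nat.eq_of_testBit_eq fun j => by
      rcases Nat.lt_or_ge j 16 with hj | hj
      · have h5 : ∀ j < 16, swL.foldr (fun p i => swapIdx p.1 p.2 i) j = if j < 12 then j + 4 else j - 12 := by decide
        rw [h3, h5 j hj, Nat.testBit_two_pow_mul_add r (show c < 2 ^ 12 from hc),
          show 16 * c + r = 2 ^ 4 * c + r from rfl, Nat.testBit_two_pow_mul_add c (show r < 2 ^ 4 by omega)]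
        by_cases h6 : j < 12
        · rw [if_pos h6, if_pos h6, if_neg (by omega), Nat.add_sub_cancel]
        · rw [if_neg h6, if_neg h6, if_pos (by omega)]
      · have h6 : 2 ^ 16 ≤ 2 ^ j := Nat.pow_le_pow_right (by decide) hj
        rw [Nat.testBit_lt_two_pow (h1.trans_le h6), Nat.testBit_lt_two_pow (lt_of_lt_of_le (by omega) h6)]
    have h7 := testBit_appMr (k := 4) (l := l.reverse) (fun p hp => h p (List.mem_reverse.1 hp))
      (pack (fun r => idxMask 16 r) 4096 4 0) (r := r) (by omega) h0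
    rw [Cfsg.Agent.Lib.BitNetSimple.app_reverse, appInv_app h.valid, testBit_pack _ 4 0 (by omega) h0, Nat.zero_add,
      testBit_idxMask (by omega), decide_eq_true (show app l c < 2 ^ 16 by omega), Bool.true_and] at h7
    rw [decide_eq_true hr, Bool.true_and, ← h7]
    exact h2.trans (congrArg _ h4)
  · rw [decide_eq_false (by omega), Bool.false_and,
      Nat.testBit_lt_two_pow (h0.trans_le (Nat.pow_le_pow_right (by decide) hr : 2 ^ 12 ≤ 2 ^ r))]

private noncomputable def nthT (l : List ℕ) : ℕ → ℕ :=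
  List.rec (motive := fun _ => ℕ → ℕ) (fun _ => tabN [])
    (fun x _ ih a => Nat.rec (motive := fun _ => ℕ) x (fun b _ => ih b) a) l

private theorem nthT_map : ∀ (l : List (List (ℕ × ℕ))) (a : ℕ), nthT (l.map tabN) a = tabN (nthL l a)
  | [], _ => rfl
  | _ :: _, 0 => rfl
  | _ :: l, a + 1 => nthT_map l a

private theorem in_nthL : ∀ (l : List (List (ℕ × ℕ))), allL (inn 4096) l = true → ∀ a, In 4096 (nthL l a)
  | [], _, _ => fun _ hp => absurd hp List.not_mem_nil
  | x :: _, h, 0 => inn_sound ((allL_iff _ _).1 h x List.mem_cons_self)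
  | _ :: l, h, a + 1 => in_nthL l ((allL_iff _ _).2 fun y hy => (allL_iff _ _).1 h y (List.mem_cons_of_mem _ hy)) a

private theorem in_NL : allL (inn 4096) NL = true := by decide +kernel

private def TL : List ℕ := [
  0xfff0ffe0ffd0ffc0ffb0ffa0ff90ff80ff70ff60ff50ff40ff30ff20ff10ff00fef0fee0fed0fec0feb0fea0fe90fe80fe70fe60fe50fe40fe30fe20fe10fe00fdf0fde0fdd0fdc06860c90053a08b0046805170809080a019f0a670d3005ec09750b0505160f5d0112040a0b3d0106045c010e0e3f00bc097e09f603200f5105970f3e06c60f9d04160a8e028f0aab0f220e2405ed0d6300bf0802068d044b01a207f90fac0fad02ad05650a4a050c02b605a10cb10aba022303110ae500bb034e04af0fbc08e80f250f4701e90eac0e400d730a80008103ea06ef0b1b0ba60df00d97076105f20c29046107630aee045f00fb0cea09d405a6052701550305051808db09f209870c3f00160d5e06fc040105b20ab50a4d0b2104c908770dff0904096e0cd80f0d0d7608010b550be200a406b50aa80b6b0d540e5406e40d59029102eb0fcc060a0ea00e7a090201af0c30053c07030b3204c409be0fc00ea90b19042c0b480e360a8403100c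5d01bb0f9a0a3808fc0243004f0b0c0ba0028406f20fbe0c4401d9056201be0f0f087c07950d1408d30ccc0621043d011709bb03630486032402330d6405d709520d4409f80d0b0f9b017b05fd0fb704600ee8072d06d30b08093401bd02bb02a303930242099a089f0cc103070a1a0cf705700f3905c60f6c043f056908e00c5a039e06a704a1085b0af4070a070b03440b9e02c40698003f00f407110cf90d9b05f4013004c805860715029c0e5b07810972028008c903810939090101f803300f200d0901770df70d8101c4008406a00c010df5019d00a208c30581038d076505cf03f40ad9009409eb0d8702e507b80a9d01080399080308200bf0008d0c180a170a6402e20b0704080c2409360aa50e4c0c7e0bef077f02be058001940a830bcb07ac041b07fa05a50b2a0b740c7706420c7101ce01460f9805c1026e0f500d0c04220afc007c03fe059b09aa01c70f5b02c80328055908a505470431005f0e8f0d740645062d01d00b35057305000a160e9809f404d205b90914021002280966066a02f60526010903f90d4e0b9a03180d9004340b4c000a09150f5a032708500054077c006a0d120d7a054d0a0502120ae102ef08a80d61027e00fa04050ce4095e05140cdd054f0bdd07f707f602bc0cca001e03a9089d0e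f2055f0172044e011104bd0d940f620a3a00100411064d06bf029e05310ec0078a0b340c48001c07fd0d3a02e7060506650ab80ba90f970fc50c45083d0b8206150ca30dec0473020c0f4c0bd105dc041803970a6a010a02ba087e01e40a3e0bf80d1c0b670cf80cab00b307b20fb607a3078b07a9063004940d6507d1066d06380e1700b200b80e1a09ff0ac108ce0d6e0640017f0d3100ee0d1d0a25079306c8075d0a1501b206dd01f409ea08c70599002b0c59029d0f7002700ca90b8f0b270625007b09540ee500d40edf018a04d7014707340f8f08680b2e09580e390c32099e043603df0bbd025508210c2a03690ce901d405de0070088d0da40d1608e50af6052f011c044802e40cb60d180c27095301050d49026c005d0d6d07aa0003087d0b0e06a90be40924014b02a602bd0d8305030d3b096b0c6d08060ab30c0a085503e401db045801ec07a007a20a52098c0d070433046e0071099409ed081004fa02d50c22084c02a5022b0ddd00db01280533017907b000af0af704aa0ef90729026208610f8e003c06590e5504b80b8809700e7f099c0d7007ff02aa0c3a0ab9002107ef0ed30a90033303060dc2067b0ee40cb30676006c063f09fe06840e730bb00ca00a2b0f6b04ef0e970f9600650c810d8e02510e130d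cd0ba70aa60463089a011407bb0c0e0e1e0f2b0fb40afb0e6c059d01580f7906e50c5205ca09730f60063a061e02cd04300f630480042008ef046200c50e82051e0316093a04700dd00b3e05bd08e3092a0f280524042608f0073204b70c89033a0c1c0dc00e46056c07b3007d094606ae0c0d0be105570e100fd10542050803a104be032b06fd0a46034705ee013401f00175058f030b09a5068f049e0c2e0e0e0e2a049703cd0c930dd401ef0ddc088f0f36019e0e74022d01dd01a70ac606340ea80f260ab70ee703780db1098a04d509980a9c08ee00f804e703b0042f0b99019a01a906950efa0e280f11073c068806ac02f5097400d30c9c03d20a5c0ccd023c05c80f850de202db0b63067c0a4b0e68079f07e40651072b0657036c0e65096007350af008170f6d09a602ff019908b505c5032a030e01cc060805eb0ced0f3401780e5f00ec0744071d0a810c6301d30173004a0f14058402dc08f705e7008f009a055403150c99052d0dd5078d08a20d80083b0fa50838024b054c052c002e0e270a360dfd0beb02220837082a04e20e3a020706910d780543003809e70cf00abf0ab20cb808a00c410bac027d06070d19058d05d80fda0be800430c1e047a01cb08de0d3e020202390b6e01950168065205e00d7102a905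e30ebf0bb708bd0890013e04bc027f0eb1025b049a025002b701b80eaf0544008e07f80dbe085f0737027a0353099504ca09c60bfa01860cc5044504510a7c00b504fb0f490baf06fb0f090e010b180b20031903010b8c02e10d5c08490459064c0883061404b0071f00450c130e4901d1049c0e3e0f3d067408dc0c9701ed0f7b05e2033b026d09b70d8b064b0c00074f055c01a406e90c030deb02ce0f57001f0d1e0989003b00ca0de40f8b0a880dd30b09018c0ec3018b0da80197085e03870c8d0a920d3c062301a606530ec903ed00df09ba084d0c490a8a099603f5056e0d660d34093e057a0dbb03b7007907c90332040705090c33065f0ee00c38067f031b06a80558012d0c65080e0e2b0bd90a19047107c70167095d00080ecb0ebe026603ac0b940ca802d706f10c8f0a3d069706270dc703bc0f680d3308a406d207200e63084f090a01fe0bf708ae02d306ce04910a7a035807d40e35013b078f029000070a090eb8001305a800ba06800818053805a70a9604e400ea0882053d0a760de70a1e03c102c508af04bf0c7d048701d8028709470a3903f60d790c5c056005740c96032c074b0e41094f0d6c0f900121037f09680b5604f00f4108810f0008a605c700c20e810cfd04e3039a0a7507fe0bec06bd018d08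2502fe0dfc0400011d0c54006306da00ab0d92000e057c01260ad302820e3c0967099f02810886087108aa07ca04da082603e10843099702f10eb206f609dc0ae7026009190c8609a409170f640135099203aa0e290753060f06890ce702ed09d10ac30b5a076406f7000f08230b5f021e0a4f07ab0ba20f6901ee08b6035e06d5023804f7042e05360e7d09a00862013f0f4d04a609820b4104400ae606600b45057805cd0d480fc90a0106f000b1063303dc014d040c0e930e4a05b70f5404a5001803d60dee047d043e07680eb306c70a020dfb00000a5b0b11003707740f730c57012c0215024e09ad0f91076e0f4f0c58042b066202850b1202130b140b2404ec08be0dc906470f42009c061f0c260f1d0ec500cf0fce059c017403b204d40074073601e303260ea60d620039005302690d9d0dda07880f040513007809fa0cda0aaa0f880965009d04560481098001100b710b430fa1045a083f06700e6f086e03c3060e03c70550016b02050ed603ff03d5044a090e073e0b840499016f015c063b004e069303d70a2803d906b00a3303db0d0e052504a40b6000ad0e1501de0c9b08d401c007480a9f0fa40d8a0e420d0a08880f75021d0dbc0c9a08b8098e03e5076b07ae04ab0fb80aef09050f6509c90d6b0ec1095902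7109ae05fc08110abb05750ed00d03042d0a71067307df0a620bc309f107ec04c70c1d04dc0d86032f0fba07800062050f0c1203610c2804db014a04f80f4b0eb903700cc60f9502b8053402ac0c6002fa0bd405c400f300200bbe0b9607060371027c0a9a05fb08e709d5061308f600880e3101ff020e0fd2013206cc0ec7068c0a97036a008b055d04d304cf0cee0b2507050382023b07be065c057d02c706770db3006408870b5806ff0f7404820ce50fa9026f00d000ce0d290898078602de07ce059a091a007e0e2c0be705ad00850e530bb20f4606af0caa040601760ac808cc041e06d0014f06e102b502a70d7703c806f30acb0429082b0e0d00350297073008bb03de03fb0bbc089e095008f80f120bf609570ec80e900e0907cc008006ea012e0441074d05920738013c084406440bcc0339084008480e7109b306480b280b3c05df0e160d7c04f6086709310af100020f27041c0fc206c00e8e07270f7d0a95063e007f09b20dac04fd0ed40e05023d05880c9d038a055b027406b304bb0650079600d807a807a60b7200b4038506be06b10707028a0a6e0f840783049f0b6107af00b9087907da025f052901870aa7087b01610c66025208b9064100830051028802310f5204e5073b0f300c1501f906dc0c3b024f07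1a044f0a0409ee065a060301b10aa20b1c072406090ea20912099002990cd70d210b6d02a1029f050e0b4b0b800dea00950d8f01510f16086a0d040b760c110c680dad031f0b69002609a805550ab008930db206850d060c2d02fb0f7c072105ff065803e20b46075f0ae903e60fc3077d05bb0643031307bf022c080409100fcf0cf20d5a0ef000ff0d91023a0f6e01f603640dbf069f05d90ba30b810e880aed0267008c005900c60cdc045d0e670bf2029401df05530aa40ded0a1802b3000d0df80dd20f2909080a1c0ba80196081c0119035401b9041f01e20bb30d36091b03da0666028b07c2084707750c0c06c4004802650d4b0eec061902370ec2015a0f1c01cd05ef09fb0373045e0309085d010b00190d4503cf07a40709074005fa0dc6012f060d02cc0229064e06db08da02d109450a400b6f05f90b6c07790e7b0e8b052209a900c8097601220ad50760022504130bdb05be0951046408e40aa90f6f03e70f590eeb070d03d006cf07ba0f45086006ec00910a1b0cbe0a6c03b503600664040207390d410d510d020549086c0626085304570f9c0a6f05010ddb09060d4602c902b10f0a031c0c8a03a50c420f7e091d02a2050403b300bd06b40abe0f3507850546075503920e14020a0a32022a01250eee048a0e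04050a01ab02c20edc047c086f034f02780b0f0c7c049d0a21078909c40ab102e90b530cd4005a04c30234053e0fd80bb90bd8006d028607b60b7c08350e6d046f0b9d0e9c0be0059f0cb401bf0c980f150a1d0e5c05a301ba0d6908950a45068704c60899058e098d04e104eb0c7b0d1506bc0dde010206a502f9076a0ab60a500b7e048b01fd0c4e0bc00b9f05d3017c0e2e0dca0f3809c8038f09ce03950f71043c025e04f40203082f0b7d074c08c10ae0007a08ec00170999076d0def09fc04cc0583051f02950b4a0d9808fb0c6c0c20092d032e0f0506df04b603ae066307de0dba02bf08ea0246064a0e780bdc06750c140da7024c04850c510a060940034c07990a0b0b7704e605850a070ae3073a0e3d02540cb204b906b80cb00ca6038b08a904e807bc0506059e04e9087206f9001500c00a260ca5075e057703a60b790b9103ab0b5b07710de50ecc047907a7004d094d0050014200a70bc60cd9051d03b604880567055a0aa00dab05c00bf904d604b407570fd40fd5022e060b0dbd00de09770ecd0fb20f6a06220d8d0b950e47029a02ca0eb50fae0c6e0e620e6104240014040404ac037403450d88007307500a94015e048407e106b901a505e900a10ce20410008907e9024d0a980856037a01b503ad09cd01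6d02980489043500d60bd20624072f0e1d0366018e0a4206e30a14072a0b7b0c0702140bf40004046700d705480941040b05d509790a57018008330d6708fd034b0ed1008708ab010f068e0d380e25038e0d9f09d00aad07460eb70b570dcc0e2109de081e09dd05e509280e230db4037e0db50ce3071206e6026404490368084506e8078209e00f3704c10e0c0139025603080bcf01650cb503430e220e4b08ba0af503140a4408d2035709d307970ef10a8d0ebd046c097d0e76026802ab091602cb06aa019c093f0b2205bc03770822070803b10b1a086901150aae088907470b2b03c601200ed90b5e0f8901c30f8d090d098108290e0a04de040f047703400276080b02b408d003750b660656054507ed0c3706a10a0f08700baa05d106720abc076907ad003e0cc8069e013102fc092605980ad4031a0cf609bc083e08f10a0d0c6b0aff0cdb0df104f30d4004dd0a2207d200a90f1f03ec0ce007cb0d9a015009f30148047e09ac035004ba09860bde0c4b065e0cc70384044709b504a206e0024901810ef4066703f2079e0efb01c9014305b6090005b30f020f030927077009d70a740a5a066e0f55023f04df06d10a4e05ac0d2a0f780c5b0057082e06eb0b5d0b7301b300560a290f3f0be90b3b0f920100003008fa06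f80a120c340798057f079d0d5d0f6107cd00cd0a2e0718085a00f70e0709b8091e0b8a05fe025304c004720b5103fc0f1e0bdf07000a3008fe0bd601e50a650321049601ea0e0b0b290fbd0671093d067d01e605da09f50e4f09d90b93088e00c4061807e80839005c00e70f6608d509e3061c09d80ac90a370d35025c0cf4011e07770dc80bfd0f070699088b034106120587074e0ee1096a0743058c0182020d005806a60efe0be602480cfa068b0acd050b0ca104a90d2007b40fb10a63069405f10b640cf508970fdb098b0d7b025a00b603c50bc70bff05c906c30ce60d820541017102240a530d7f084e0c430a99074906c50ae2032307040e1c059400060e8705790219071409430e4308f308570b1601c80b420c02071e02d90a56050209b10d9509840cdf0752024702d40c190c830ce109e1048e091f0e500c4f0c39085100ef0a030b0d05630e960a0a097b0eb009c30e120d7d09f003e905c30acf0d58045b0e1b02ae04f200600d0d0b39017a035c0e2002a404760e9503b80184016c04f102d00be508eb0dfa07d30c1b08000f33054b0b0a0d57044406b2046500aa093806ba0033042a0e3b0c4d0a6d06a3050503360b650ade0922002408070f5c09ab0ccf0c94048d0e4402cf09b0004b01e8015d098506d90f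230aa10a7009250918002f0164020103a20ef803ca0f8c068a01ca09320d270fb50fd00cce00f207e605190cbd055207a505b40c7f0c3e01a00c820a000de001230e34053f06c109690c910f2a00c307c001f1088001fc074a04a80ed802720b3f009300820d5b067e0ceb0b9c0f0e0cd30a79063c02060eab080f00e309090d470773097c02200e8c00be0b33070e036505e4070c0f76055e02b2039805390a3c06fe013601bc00520bc90bc40f830eb4030c089c041d0fa6001b08a308310d600b040ea30a410e03073f0fbf02320116066c058b0a0e0226011b0d2308940c92069d0593016e047409e806a20ef508410cc0086502e30edb0ebb06e7009f0a550b8602630c0b06690b400828021a0a9e0bad0e9200e2054e0f1002730c0f00d20d39023501370f0b00f50813012b0faa000106460f3b00a30bae0e5a05b10a5f0c3609e508120e9d0bfc0d3201e7098f0cba095a05e604550adc0e6405710e720cae0620052b08ed07c30e9b08d107510c700c9f0d2f067a041705db08b10bbf0f5603030fd905ae0bc504b50b4d044d0a7e0da103a30e4d01fa0dd904b10cb70cad054a008a09cb04b20f820e850ac50d4302dd091300e802e808640d4d0816047b002802af05e80f7f0fd60fcd03960e660af304fe042103a70a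8b09a100eb0fa8069208c60c040d2e02d20832061108d80dc1065b08e60e9101f3051209ec01890c5e0daa01f20a850b4f09fd04cb08740733063606290ba10d7500fe03560b1008910041083008340d00084209bd0bc20b980ca4089201560701075c07310a910a870b7a040e034d0df3080d0d050b010a5e0e8d0124046a0a5d03420346086604f50c670f720ef60a930896032d0f5308b3009e079406d70bb80d2c0e560c7909e20722083a0d930d3f08590537080c01930528052e0c4c0f9e02f4007707f20aac0d9c069005d003f10b470b310ac402f707190f0603ba09d20d1f08bc0c4600f60c750ad200f10d1b06ca021b0e1f047501180bd502f30442064f06060098088508c807d708140bb60f2e084a07ea03380a4c0aea0d5303cc07250b2d08c2051c0c8c081f0230075a062e049305890e3806d60bf50d4a08a70daf03eb077e013a04d001910fd707c50044061b09070d6a0d500f8a0f210f87092f095f0fc706390ae40c500db708e90aeb055100e40427041a0c6101fb09b40e58053503590fb00ad6079b0dd7071b030a0c62061d0236048f0a100b440f0c0b2c0f32087603a8012a002701da004c0de907d60e7e0db001ad0e9a0d550cfe0b4e0a9b0f4e0b1706160a2700fc04530d4203e807f502b00ea705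110d5209490a3105a209f70eb60452010d0e3305400fbb039100d1090b023e0e5107e3075b04d900e10b3607c10fca01c50ec40c050a350e6907f3020008f20f770b8e0ad80ea403a006d40a1f00d90e83001103b40bb10c100ed70211071304a7030f03a402920c17072c046d0f93063d04250903097f0aaf0db9031209830b7800610de80a20026a0b380ac709440aca003a0acc0b2f0ad703bd03be0cef035d08ff092902750d1a047f02fd05f302ee0a2a0add0767068103bb0adf02450bbb029b013d03d303d40be303c404a00138062c0c09081508f503f708d70b02076f0cff0042085807db0bed08240b680e5d043b0510082708dd03ef053205f50d2d03fd03830f0801cf01c1006e0b970ece05af0e3205150878037c0f1808cf04150283087a07b10eda0049083609e6034802770c1f014409da071c039f0a590eed02170ba407a100cc0394001d07dd00460d08077201e0075407f10930005e0a730a8201d2036b01600cde036e0a610de3079a033e07d005b5096c0f2f017e0a8908f401b70b5203d1063103350104044c0bd3078404ed0133094b0c6901ac0090072308c00f9f04d8084607b90198015f03890d2804cd07f00f01078c04ce06a4075902e60367010c02960c3d0d3d0a08048302e00610035b01dc0d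850c06021f0ee90a8f085c04c50bab0d2b0cd201660e9e0e790afd003d0f2d066f031d06cb0fc109930258032208df0bfe073d0c560e80021c0d4c0cb90787097a03e30fa20f4a03f00cd1030405a40d220446092e07900f130d840f80030d053b00e90c5501d50cd60b9003cb074109880a7b088a000904a30e860cf304ae049002ea0b7501620e6e03c90b6200f90f5e02f208b705200e45033f0ed20dd605820ec60c53033701d60a4305230cbf0ce80216065d00b00bea009b0da906540bd70507091c062806040c310d560921077807fb08e20e9f0a5401570bba0eff015408c4011f01e108540ebc0dc30e600f1a0e2f02930a7f0c730fa70a2d0756095605b008e10423051a06370fab0a7d077a0d8c0c80025d0a2c0dc40da6062f0f1908d909a3015309a20e4e0e000ef303c007fc09a707d80a23033c0863095c02b903ee0f5f0bce0fb9016a005b006f094209d6008609c00bb408ac0b150f4003900b830b7f0eef0c780e6b0c950a72019b0c6a00ed08bf0388075803ce09e4056f05ce0aa30dfe0a490eaa0c3c0dcf025703dd0af8077b09640bee093b079c057b0d9900970b7009cc087502a806ad0c7606830107031e026b07910de6083c06d809c50d6f0c7409b60b1d07e0084b0caf0103071706960655085203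c200b70f440f1701d701400702041209e90cec0a58096f0c870b5009370443056b08b20f2c059609bf0478006b08080d1109780da508cb09200e8902080591090c06780fa30ca701a105ba03310b590ab4031704950576066800d5038002da0b1e07c80b130e7003f30e8a01270a68069b0e37002c08cd00a502270ca205c20ada018508730c8805f604030a690bda088405d20450053009b90eea01eb096d00750e0604ff04f905d40d250d170b540c400db601f706c90f990601055606c206cd0e2d0afe094802c00376095b0ac00d1003340db804380f3c0bb5024102df03000de10cc4036f0c470e94039d0eae09330cd00c8b05f0071006610ea1019204090ee3076200e5039c0abd08a10f3a0f1b05aa0f48089b094a0c72035f00da07dc00dd06f50e0809af00290f5801a80432035208c500a60cfb01ae0d0f0c1a07e70c3500550faf022105e10fd30d130ede0776027b0cfc0cd5034a0c21094e0c850eba04b301c60469014c007207cf0b920c250c230df404fc003209ca0c640204062b0068069c071607bd0e1103620092087f0f2406320da00ccb0ee60a340d240b030cc30e59067900dc0ad1058a07d9062a0adb028e00e00c840bf30329078e05f7010102f009c7036d034907eb06000ad000fd093501450d5f02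c604e00f8102c302a000ac099b07280a2f00a00b3701900dc50a86000507260df20ead01590386070f081a011302400b490c7a03bf0a0c0bd0046b079203b9056a05ab0b6a0d2603550a6607420ef709230a110bfb0b1f0566043a00230da2020f0b8508ca04d105dd090f0ba5076602c106ab0b8d0dd805900031094c04920f310595076c0d6801410fcb0e570ae807b50fc60419033d092c0e300e840ecf02590fc80dd1035a024a088c016306ee097104ee015b04280f860e6a02ec0d0106de049b05680efc0a7805ea0498000b06490e0f02790cc9050d0bc10302052106b6003601c2045405bf0572040d01690c16080501b401700da301b603fa09df07c407d502180df60cf1056d04140a480b060a4706e2037d00ae0c2b00c7091100c909610d4f06bb05d60b9b0067082c0fb305b808d60fc40fa00bc809cf0e18024406820c5f09db0e260e190b3a02d80d9e00cb0ac201520b89061a072e000c081901aa02090f6705610edd07e5014e057e04c20aec0b0b02d60cbb0047048c0261001a099d0ed505cc017d08f903510cbc0c6f0eca09630a60052a07e20a6b07b702890a3b0ee209c205cb0f940a1309ef0a3f0d370ea50df9086d0c080af204ad006601f50b0007ee018f0dae0ddf028c039b08ad0d7e022f0e750012018300c100760d720a510b8b0a8c03e006350e9903720dce06b7028d08b40962069a06fa06f401a30e770af905a909c1081b0f430ace081d043706020cc2038c093c009903790c4a04660c8e03af04ea00340efd074503250d960c2c03d80afa0c9e0b2300e60a24004006170188011a06ed05f80cac0025020b0e02002201b0051b04390991002d060c0129002a0d890a770c2f0e5e037b0e4805a00096092b0b30086b0f7a082d07f40bca006903f80e520b5c0b87095500a800f00e7c02f80bf10bcd066b014907c60dcb09f905640b26,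
  0xfff0ffe0ffd0ffc0ffb0ffa0ff90ff80ff70ff60ff50ff40ff30ff20ff10ff00fef0fee0fed0fec0feb0fea0fe90fe80fe70fe60fe50fe40fe30fe20fe10fe00fdf0fde0fdd0fdc088b0c220c0c0807082e0996056b07bd0203095c097d09e805e2043405380f5703f101e502050b2208920da10d1305ad0e1e0da60d3f0d000e6409e5037400e60c6504b90788099d09de0727048b0d4f0a170e470680021908760a610cba05540844093f0d8b0bb20a410751013605c8029200ff04980a6e001108780036030b085a0ac0023e03db064f01080bd0073700850899011c065d03d0022905040ef90dc9069d076e0710037a05a60a4d0d930f8b0e760771041002b30ecd0bf703f50c3f078500ce007001d30bec0bf40e59097206470423036600960f2500c804bd02dd01440f18082c06f2019f0b7f0b4700730adc049e00d50bbe06670c3009ed00a107440bcb01e7006f05de01bd0de60d4a024b04e70f2f0f4f0bd409bb04000d180679030803a101de065b043306cc0e6907dc0b5308a407f0055b03cc022d03570987072203c70671006a08d90a710740076707a10f80035c0d570b390e910de102720c14046d0a8503fc06df02ab063407a808130f39085c0ee50c9b0ba10ed20e9e0a84033502d50ccb004e04d70432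0b1e00720ba804ba0a800e5604f40eb20fac072b08e209ac0f89062b0d850e5306b301e10a01005908880a60012305e50b8b0d30068809660607094b0146097e0e3e0e2608190d0903e5036708bf05b80d5809390f0f04d2058606050f610e7200b60dc203c00afd07d30d5b0a4603b50c1600e4041c09140eac02d607b703fa05c405c203ce009d00f003cd06ec0efe0424013f05a906c60c640b4b08e3015b0acd090c08e0041f0a420ea1024c08180e8a04eb0af00e5207a002aa08360a4c0ed402e40cd3059b0254025c0ac705cb0b7a03630b77066d0e1101220edc0475037807ad07e50a9002860382089703ac0d5a05da044709aa074d0dcf0c6306a60d490a550754071b0ee0079100ef0bf50f810f130cd604360d250eee026006a90f580ad00cff0056006709c50fc104830cc80c7f096e0a1e04920d38045308600520078c0a100e7409ef0f6c044e0aa4077f096d0f6b010b0c5703bc0be20820083105070ef70cb90ad9075e0f010c45021a00b008ad08560cad0c43055005ee0c2e0dc40ece01cd083809f90f0a0848078d083b07070fb203d4028f06dc0fc00ded0b89048e019e0f7f0149057504810f1c093c0dca04310b8e058e0ac5078001d704220e7909be030007ab022004e6032c023d0e860e38089e0795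09f30081049c063509280f1908c509f209b50f9909d00a7c016507af05ac0019011b022f0c6c005b07020de800e3063b04b5034e0b9f0aee04200d5c068a02830bb70d0f02980e000cd507d0009f01470f5d00970d4500690e390e4402d00326016d0c6a0f9a016208ff04140aa105e60048035103dd06780c0f0dff0bb307f206b5023606fb0d07059f007c07bb0239010903a30e140e2f038f09d30a5b005d0e1f0b41080d08140e8f0ea0044b06ea054a071c0c0500fb09a3093b0fb1021e0f7101cb06850f970e230df90a3301ce019a023701d904cc031807c10464097502e20191073a09db0b430df5043b08790f230d420f7509310b0c05ae0d2e0da50c87029906cb065a0b4c03120e0f090306ab0fd103ed0c390dee09200487079f06740e3d0f620aa806f40cf605d30d0601380fa102490aa9080400d9016302440a23098b002e06e40edd06c90ca40e5c01f80ebe08fb004c0c7e0b2f05230eb70ea20ecf08060e3208800089006b0a12056f043f04e0051e049f011f02db01ab01d400c5033b0e5802f5024e0a470e0a01a205c3096302180c7908470b540dad07ee0160088a0e2e01f2018701af0dc50133034a07320e9801390b510c9e0bd303eb015200d7048c0415041d0e3a02a4094a07a303bd07f901dc012b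0ae90ebb001700830750023f077d06e703bb07f606f801e80e8308340b2308c808f2090a00a007fa0ba7084e039a04b604ef05bf0bab0d1b0356041804940e0d0e840ec40e7507d20427028b080901b60c930f5c084306d40ee60e8d004a00b40d8d08ab0f960bf004a800620cd107e90e6c067d0fa40a620be1006302f6018f07ec06d103b40c4c072001880e66092405a509cf094e0dbc0f740c5b0e060ade0b2c0faa0d76031d06f60f6009f10d360b950be308c20c8e0b400a87091101a502bc0c8f060309f802b40e4305910ccf00d000b90a9a0524031503f4023b0a24010e072c02e30d3d0d740df300b20d8a0d9f040f06d70c1e0ec00760029a03480dce04580fb700a2080005ab04fc0dd9067008a806bf047303140df2000c045f074b02fc0d9a093405b40e810ebf0cdb088f09df05140cf406ae07fc0e8e0f8e06210bc400e80e330ba20a190da80e010b79032f05f3014206d80ca30c330fa60b55079b034905a30cf903970d0b07db09490b2b00e50dd7031b09fe07180dd607e6082105d106e803960ea30ad806720fd80ac802160dc00bc10b2106f104a90eb105e80a0903ec01e20b420abc0b360ad307900fab03cf0ce0029d02c30a110ce1024601950bfd0faf00aa0bad0b9d089f0b8302c70c5a0cf109c1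0cb207ef09e70518047f01030f1a0d9708d00f7b041b06b006b60b860ae50fb6089305530d6f08ae08fc0d4c00900451028c05290d75051c03010c620f660b0e092f0b45035a0ce500fd0aae0f420d920aa204f60a8f046e01b90f4104d30b760b49006c0c0a055d0955005107df0fca039d0d9e0ce8086b08d30b0b09370bc80ca801680e4e0e2707c90316050e029b098d09ff02a80c5305680091051906530842094107040cc90ba30f3108450f04069807ce0eab0dfb0b8500a801670b0a0c5908d5021701ae02650da200c009c2091307c5098e0ecc09830cf80cbe07c20f070bc00247012f0d530a5009ee08940af10b4e07be07c60db40cda0f54038e01fa0cef0c9a01920a8e093801580cc101ac02f207f30f700d200fa50e700e3506560768017407720b110bca0e990287043702ad0b140c180f3300db074300ab0df1027302d90f0602c60daa0cb80d3e08b600c90b3c08a90dc3098f015c06c3088e0e77047709bd0126034d03fd01a10b900fcc0e36001b0c8509dd07260c720e5404400071077e0b0f072d0a9e009e02fa028a08860ede02f702ac04030c9f0a15025f0092009a09eb0953079e0c280a9f09890f690b310fbc04a605720ec7053d09e90bac0a8a07a9060e0b5f0cae07b900c40ab4010f0bba0648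06bb0d690cbf0cf70c990393008f08cc0de707330c5f07b202cb059402520bd20ef40c500f30013c03850029063d0c34067e01b00f59018507920ada0b1c05eb0cd9028501b20243059206990cb50a2102550c7c0e6305a805fc0ef6087208b404820143087102610ce90c6600400e5d00760ef0012e0f56041904d909810dd801210b19015408cb04090945074f01aa0c370034062600250f860f2101b500d2084a01040abf09a003a70e7e0bbb003e04ae0bcf02070b980b8d0c1d017f0c3d05640e4b050503e708ce03ab033307d70ccc05c605780e1a01c90e120d040d980921065e0e890a8806e900f104a40b0900200d120541072a042b0a960c210aa5002f0f980023015d068300780a1308be069a01d8065c02c203e60e2b071d0cc306da0794099f001e0d1907f70df0034b0846092b0ca906ac058b03410cc00d160ceb0717095801770d0307c70d5e0cfc0d35040d01bc03040ccd01da099c00950e170ac1028103d10f0c02250d26018a0c200aeb0a310ddc002b02750ecb0045090e05af00f204460619071f0aac064c0daf0828010102f1083a0ac6081f0dc70a980d94045e01ca03b206420dd408910c410fc6013b0f320773019b07480c6d04800f5508a70b610404075a0f5a07d506970ad509300830044a0296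091206390ea706f30f4002940a6607790fbd089b030a059804f208f60e710a5d0eb409c605b90e480a7404bf069103650d6006c8046900e00dfa02dc0c5c01720ed305650c3a0a6b080b0b5e04e8059908ed055f05fe0d8e05df0cd705ba06b40468048d0d27005f0502050a07870a630ce60b80062305ed051f026704440ee3004403d60ee80a30017301000e3f0acf0a0a02df0762007509780a7f068f090604c5024d0215066e0288005203750f8805cd070e038a0cf00b5c0a18023801ec018306ff03d707a206590afe062a034302950ed90b7d09ad0c0d06fe0eea06860472076c0f0e00fc04f803a502a50bd50c0102620bd90c4b0dab08a50ec505fd0b13008703900808022300d8012a07470da7049006e6022204af0e22006105e007120d640827004f09190e9d0d910ad604b803f0095b054c0495018b03af01c009b40a1b00cc035d0f7a086a0c7706640c3601dd08840af30e9608fd0caf058a03d903050a5f026e0f1e057c01b40e310d0c08630b070cc600f70deb085e075f01a408250d0809ba0fcd0d1c07e7067504a506fd053b07c807d40a7b026a0f49073c038101780f5e0d73017d040a0be909ce03590a6408b10516049605aa01d2083e06a107ff047b02910c10047a0c4809320efc09da0b9e071e0883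0d6505f207cd09760afa0c7a0140090009180c3e0bde008c00a70b160f650e680f9b06be093d007b0dcc0b1b04fa04c202ff06400f2a020c01270c71047c0ba4092c0799027f03d30bae0134055209c00e5b00eb0dec04d6084d0e46032d073409ea00cb09270ab7095e020b060c00130980032404be062e085507d100c30c250f350e20017a030c019802780f380eda069308e504f0067b0aad01150aa706c2070806090d3c0d8903580000096c0868075300bf068d006e073d049b0a820c3c00150c2702a00f2d0a000c2d03f20f9d014d03380471020e0c150abe05f906fc0af20102021f02740e2809e00d3a07a707810e15001a06760eb800be0c47045a054e09600db0042a0b30012d07e007b009a9001d0a5a0da00e6b04d10098087e05d00dea01a30a6f005c07eb0d2204e903b605320ef10038000708c10fad0fbe0253062902bb08030dd3053a0761002a05db04dc059302a205950f820ac20ea605900c8a0c1b0b630d710aaf070a0c7d02a7029c0d170d2902310b920dc107fb002d01c2066a01f508ea055c00e10c700a3209b008c7086c0b1801cc060b0bd106a7042f08dc0ad204a304c70f0d0ed50835068705220b1f0f2204fd09f40ace08e40344026801f10d4d06040e0302ef07ca02cf064a036f0c6f082a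0448040802010d670e5f0c1f0b38013d0a9c06250b7e0aa00cfa0f15035200c702b608d601d504070add001605d9004205be02b006dd083f08410c2a0a34019d0986018d067a0ad40055091a02eb010600d106d6008d06ce0a69090107150b2e061602da09ae09ab061401840e780ee402bf03100e570f3c055706b704b10bb90f6e03e20209000d05390e2c0995061a016c05d60c4002500a4e09cc09360d6b01e30c260a7e0005006506220c9503da01890baa04ee0a9303fe02c80bfc05dc04ec01760fc40fd405970fc5074103470a3d02e60543022102e70a03019404ac08fa01c807380e7300ae0b870b9c0c690ab204db058100d40a7304c901d0041e04260bff0c190ce20c670b3b01800235008a04ad0eae09af070d0d1a07fd03860985098a04e50802058d03300d8c036a08b0059e02d203e40d8402fb00dc0b6906370977092203ae04ab00030f5001db017502930a510e950b730f4d08b90db80c2f05ea011106500fda0e300abd01130b820c4909cd0dd109b20a02082b0f7d0b520a4906d90c730b3f05610a7d0c8405350968039e02d4063e070b0e1d0e4a047e013e0bb806db0e9f02c10cdc04a202060f0b04990701068e03340f370d7703e3021b043800fa00100f11052b006003e00a0d0c82031f03640f94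0ec602d70fcf0322076a02690b62004101310c7405bb0b000f9e06c50d6205370d2b0eef0aab042e02700db701a60c460a06085308240692054901160112030f007400b30d0e01c70f760f8c0118020d06ba0b3704d40ab80a43018c0066098c033d0eba01f702480ba50fc80f170ced03bf031c005a0a1f00300454021d0b1a061c08d8088c0f000d28088103c50ec30d4404250c0806f00d9000ad029f0c9602900da40858095a0ee109570721069e0bf2045c058408df0e6a003c0a58069c08670a830b660d3900800d540a940aca053401240db60d3b04e3004302f001c10391036201c30a26048f032e08120a9500a30c17064e0d9909bc05d50c35026603c80c8c0ab00f0906570035045705730a6a04500a670a4f04c30ead09c70643088907a50b7801e0086d01d10e6f09e30a3a0def01eb05590e7a0e8c01930f1b0340013a01370baf080f03f90ddf092902a900bc083907b50dd206f5032a06d00345061f0cce0895090406cf001806b809e60f45097c0b060af8075d0d1f02b7057a061d0fd2085005b10c5206d3082d01480684000602cd036804f300570df70467056a0864057106550fd609160cdd00330af70f9f070f07f104f7063003b10b71050c049109330f4304d805f6026402ee0d24094405f701500fd3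0a9102f300470b6f04c108c605800b4a03f70d9c0e4202a102e10724007d038707d60e1b004b06a00d8307aa018206e1083706520d050d370ab603800b990d3306d20bf805cc0b9a03790b9707b40bc701ba0bdf0c0e0e2107000e6e06a5074e0bef00bb02d1019003d20e1602ce076f043e0cac0a9d039f08bc0e0b01ea00a5024a03980fc70b4f0a77066f04b3071a0b7c020a0de90b930cb6016104760f5101790f4a01c50d0105c909a10cdf085b0ca10c510a810ce305ef09460bce027706940997089c0d590ca708c0026d039908a60e2408af08f40765046003ea0a0f0acc091005c50d10085f089d081000500cb308c404bc07cf01e900a402110257060a0b150954048407a40a2804dd026c06c70ba600530ed8050101a808e7092a0b280ba005ff09260f92048509400f8a009909080a38087c03c90b9b081d0aea0282033c063804bb0b330c120b17031a00ca00770dac0b9106080521056309b8062006de06730d4803d50e490d7b0d0d045603730fb3071303cb078907360fbb0cf5074c0d9b0d6600b107ae048a088505880a48060f006405f5075b06aa0993079703ad0eb60a200efa0d3408a3084f052504390fa80f910bf605ce0f2e072504060fa708b2095d008609f70a2f02040a360350063c0c310ab302bd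0f950f2707030d80081c0082067f0b81079606d50db206e30ebc06490a0408bb007a023307820ae10b940cd4096a06a204130fd705c0059c0974092507b10fba0c29038b050f077b000a05450840012c0e340cf303c104930d7001a7056c054f0627087b08aa0f6d0b500026016a0eb508510b560a2e0cd80cde0e7b0fa3060203540aa60e190bd600ed08f50bc600cf00b805b50dae03aa009c06bd09020be707760e020ec90dd00e130120094f0f9c00af06e20fae09c305f40b7405110f720e93077502e00f93078403420b12057608b50a6c025107690e940a5900f507ed039406ca0e4c056007770d0201970f68076602e80ae206ef05b0099e0f020bed05270ddd03ff0735057f0ed0053100270cd002ea0de00a16093e090b01c60463066c065f05bc09b102ec000204b202ba003b03890e6d02b20e2908f80c09077c08c90e6200ac023a0a680b2d0a2d01ff014b0edb09d806b908d703a209560c110bc50ba90b2004890d21083205420be4021409520a3900930a2c0c0703c40f48055809e20f8d0e4008490815057d064d09a5021303320b840ab50ab10eb00e250fdb045d0585039c03f305cf0c8907ac0a5c0f7e08eb0ca50c540b100ea4030e0ec2016e0d5f06bc0729008e0e0c046b0681017e057705f002000bc2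0329027a07e407b6078f0a050256072e0cfb04cf0adf02af0eca095f06900b0d0c940c4f0b7b08f0047008ec0e0e0afb0d56075206eb052c0d7c079d0a2a027d083d05a20d810d6a04ca0c9103b70c2c0a540395036b0c6e01700d8f011e0046028905620a0c08bd0f8f0b4d01fb07630a1a01df08590e870c9d06150de500580fa9049706170aef02a300c608d1092307c308f1034f0646095008110f030c1303710b03061e0c680ea903720d8702cc036d061307c004c809bf06b103ca066109170f28073109610915087d079a00ec0d4000940edf0b9605b20b5d01a90a5206f9065406af0951081e015604f9058c056707dd01e6037f04e1018e0ac40574040b015e086108ee0b5b070c02d306600ac30ea8006d0c0207110668025a04ea07830e92046a0948046103690739000f03e90874082f03c60e0709b70d6d087f06580d4b022407da00c10ae60ae8097309940d6107780c4a0a7a022a004d06ee054005b307c40d310db90e510e1c050602f9002c0fb50e7c08dd0db50bd703ba0a8d0e4d0bfa04c4011909e4061202a60b480c2404e404620a0e0b3406cd03110d460cab068c01f6098801f9027e0cc40f4c012908c308e106fa02b80eb30dc806770b080bb401cf0e8b0efd097b0f3b0c7b0c000fd00d7e055a0a75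0a3b081b0e100d7f0c4e030d086601fe00f40e0908a2056e022c0a440e080e5e0d2c0b8a0dbf0cc70bc90600046501140dc60a700ae40b260ae004ed0a6d0fc908700f240f200bc303fb014c09f607cb027c0cb10c980b720d68061b01280fc20f12058f0b2900ba0df6037b0f1d002202f4069607e104300854010a0b270e450bbf08290c3b0d2f033f04f10c3800f904160e6102b1066302c90f3a05bd09f50054000b058702410e4109090d4e035b0afc0f530cec09690a2b00df023200fe043a052d058309fd080103a608e90857001c033e024501570bea0fb40e82051d09e104b40cc2010c03b809a2099209c9058900d60c9703a40a86042c07fe014a073f044307420145035e0f2c06c4063106660e55070502c40bbd05fb07ea0c8608750efb08870fcb08db02020d0a0f73045208050bee050303f8016601ed07190bb00c040cb70037051a02ae02c00c1a03c3043503e80b460159016f0c440ac9062f0d95005e031305b70b6e0f3600b7029e0adb0eec0b750c4d0d410da306010756057908ac05e30a9207cc0633032303390e6504b7044c0dde0a080f3e025d0f63065103b00d510355090d050b00390bda09710171089006650e850a8b0d6c04d007700fb801ad029707e305260e900b05085203170e6002fe0b3d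0eb90f5f0dbe03dc092e053601f004b0036e0548057b0cbb0570007f017b0b5a093507140263054402b50fb909820a790b250279018606a8097a07f40e5a096f0ab901f409650f050f850bf30a7809fb068b088201bb015308e6054b0c6101ee00f60b010ee90bcd0d86059d04cb0212096201fc01ef031e063f0d32084b0c8b013003280f520a3f043d0798059a01c40e7f0ef2069f086f041103b30f670a0b027b061803b90f2607bf0466087705080acb0f4b0fd90d2a0ee203030cb001990fc308a00c920e2a0e3c01d60f3d0eeb0c78007e05ec0a760a570af50dda03920dfc0dba0970055106450b240c42091b0be0023c0f1f09d60ee706e0095905a70be604c600ea040102ca08650079086e084c08e8014f0df4057e008804da00e70f5b0b6407860611069b05d705c105a402ed0b68064b0e9b0abb044f0ae30979086205e90fa00107088d0689028009470d72066b08f307e2074a00dd040e001f0a3e052f0a890b580cfd0388052e0a720bf10a650da9012501a0075906a3022e019607060ce405a100b5038d0de306410c5805000be507ba0b6c0b6a052a09420240022b0ce703700307022709910331049d03ee0f87085d02be016b089a0f7908ef0aaa019c0dd5031903c20aed010d044d00a60441003f015501b7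02840c830e9a0d7808de0512020805e4094d05f8003d0de40c030aff09b90a2908f7069502340b6005280eaa063a000909d9033605f10e5008b80a350bdb0a250cbc0755090702f80d9d04120b3e037c0ae705170b57011d00240d7d062c03be0dfd0fd50d140e8009840d11037708ca0014021c0db1058203ef0d880cc501be083c0d820226081a0b3a03e100f8074609a80fa2054d06b209a40d4706a409ec0f7c02e50cf20d2d05d40e6705150eff08980c9009b601b30d520c3208da0556038c0110041a0ef301bf0a97004900da0a5e02b90bd80716043c092d03de0873072f062402de08960aba0be80d790b880e050449021005d809900db3003101e4026f03a00a4b076b07d90c06042d037d0bcc03250f900b6b0ca608b3091e028d09430bf900bd077a0df80e7d0d430ef5067c014e0745033a02d803830c750bb5036c01410af90ec10af6025b015f011706690dfe08ba08330f1009990f4e05090dcb0ad70a5605e70ddb099b0b1d04f50793082205d20084099a0eed091f096400280f44011a0b590b020f84073b0f4706ad01510f6a037605c7027105e104590bfe09dc006809fa06f7032b0d230ef80b0400e204020c88013209fc0e88039b0c9c08f9053c0b350dcd02e90321035f046c0c8100a90bdc0f7804a1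06ed025804aa05a0087a028e075c07090546037e09c8024209d20aa304a707de022804df053304a00ad10c1c03270b700aec025907740488025e03610cca07bc0f6f06620cee0cbd04170f830ebd015a0a8c055e0e3b042105dd046f0b650a4a01f3036003df0f770ed70f290f140fce047d072802300b6d082309670d6e0d500c760dbb01b1024f049a09a70a450b2a078b09f001050c560628003200cd094c0757051007640c0b0d6307b804450d5d08d406e50eaf09ca079c0486055500e90fbf0ec809b3053f0a3c09d505300c23078e0008091c040c0f2b0a1d0c6008170cea00ee0ed1034c0f1601b80f4604420276035308a104fe0f3f04ce05ca062d051b0e180d1d0998056d00f30c8d0a220a1c05470a270c5d009b0caa080e0bfb00de04c0074907f50e3706360b6709c4045b056904550606068201fd07230c6b05b60e9c09a60566090f0012073e0beb0f3407f8076d06100ca2060d0e2d03a80ea50b8f06c00cfe04e2013507b303d80f64030208690dbd016907a604790cb4026b06c104740fb0016408cf0e04020f04d50c800cd201810bbc078a05fa0513000e0405097f0d7a093a0a990e97059606320730080c00d30a3708260d550b8c0bb1008b0d960a140bb60c55096b00010d1503a90478064403f600c20a9b04de08fe02fd0e4f0c5e0ca007d80346091d07e8017c053e04fb0c2b08b704cd090509d109cb0ed6081609d70a07042900210bdd0a4008d2080a03060b32003a0a530d1e02c50b44050d075804ff032003090af4000408cd09d40f080384042803370de2,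
  0xfff0ffe0ffd0ffc0ffb0ffa0ff90ff80ff70ff60ff50ff40ff30ff20ff10ff00fef0fee0fed0fec0feb0fea0fe90fe80fe70fe60fe50fe40fe30fe20fe10fe00fdf0fde0fdd0fdc0cd107140180091d081d0d3a0da609b704f60f7e094f031a00ce043a044e077603a2061d05860fc800fb088d051f016005ba0a980a4d02030c92074f0ea307510b830b48014b0954057802ec07bc09230d400d7d0ce70a0b0921020e0478023008cd0eb609a4086b0cb80f0a0cd307fc0bee0455055d0b5a026d0a5b054508230c2e00ea0850005d097c071606f40f6900f70869018509f50b6e0bdf0b22018f018c0a3000e40c2409a8045c0267087a0c3e0bba08b4025700860fd20c5f03de03cc08d20ce5016a03e6074705b303200dd6063a090205900d61019806430961040d02cb0f9405c80e960049032104d402d60e72049e02870cf6045a019c0ed806a80510087706cf0e710ec80ad707960b0a0d2c0873017d046402470a8e03020cf8077b01e308970bc10bbe0a8d0c1b0dd704a40e2b0a2300fe0c370f3d0a960579045901bf0228030b0575057c098e080603bf011400e003dc02ae0a8302c80d0805a20db80f1f018e09450d1e0685009c0b4004f903d60f28054a035f0c8508f4089d09bf07dc0387043c003f001102cd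0bd105700cf708a10aaa00c6065d08ad0fa60d150414022606710bcc03f5034b014208dc086308bc00c8089f0a3405f00b3b070d0b5301bc085f0b3d009902f50db909cc090907600e2001ee05540ee5046202390b2f0a9b09650eeb04cf066c0cc60757005903f4060501720a8b007d0a5103090f5c0df50ac100820bc5020806490b5702480b590ece00da01f6023f01c501890f5608a804f402dc086f0aee06cc09a100a50ebf07290ebd017e0abb0c4b032400270bb00faa0c58074d03fa0ca702550041075e0be406c20dce0d820813009200cd0b4b0275036601d50fbd076203480bfd02330e9e092c08a4026406330c070bca08620f6709fc062a02690353005102e8001303f70549015d0e8b0d46087c0ce808a00dab019106d9017103cd03c20b2900c709e60e18040e040703a700e301e90dcb0bbc016706740a570f620f57039a07a501d60a64090408e7080d01ba0b0d0aa4047e04d306bc0c7b01b905220ad409890253007502bb03e4012800a205160acb0b230daa054d0467063809de002c029205e101680209093c091e084a0d2608ac05170dbe019d01ae0b880b8905bb08640463078209d20bd704f8081209e20c8000e90a1a04ec0c83080700fd09b60929025407ef0df90f410e2a0cc40a84012b063401eb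00f90161062c0c760eee0870062e054207100010075605840e7d02b4000f0ad902c20601002f08d703d90d9e0c7f014e086601de09d00bd20887073a0078098402b1029407a105d5012e011b0da7015003bc06950b760e2c0aab090107ea0ed7021b0ba4045d05c20c860792055702b5055a077a051c0abf0de806b90c77009a0da90dc10cc70b710cb2051b010e04fe04e206d50d2403d705e40f430f7308de00d70125052d09e90c660dcf0eac0dcd0b7d0e7708f50b5e0db001ce01d8028f04a9082f07a60de308ff07310e4506210a410c9501100ef20f290c0c0db608920d4f096c0481061c0dc80d9c047902f109b40e860e550de40c6b0dfe0fd50bab05120299055f0bb902740cbe0e0f07410daf09000bef0d960ca806d20d9906df04fa0c550ab8006f00c9046a04e30cec00a606b409b5000601e402270489033203a109dd0eab0a5d0a2f06fa0c910fb204da019307be07ac04ff05d200e1031d0b4a01810d290ae20b9808f101e80d6d076e01870c450ac80117058e086d04760378012f00330f6f066605ce0a4b0af1041a024e06c90bb404c9095703070cd4009b0616080e0bac01f80db40d1a04c302fe0a08062209c606730c390e8a0631072d049b047c05b50fb305c30bbb0373083003d00fd6007f01df0581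056b07ce0c0409d50b2e0aca0ba807d1065e03060f5200070ac60d720b6902930e4808fd0dda07b1079508bf0bff06e40f2505e30d1c01fe0d4e085707c4035e0ca40f090a9e0c110c43099b076b054e06fd00b306e2091b0b2d042d0f2b06b2043809910af5097604e008d901150979037a028d020104040b2706f00f4b0f100f5f02ac0263029c05f1088c0cf00c70053003c40d8d0be20964071d0e880fb10c9f0f79064706120746025203fd0c2307870a5e072106b303790968097b06540a710b200d550fa502710fdb06970c0f01b103bb0ab005bc0c2d0afd0bf70de20ee200950e2909c9045e03f800b20b070d9f09b20add0821093907860fa709530c8a0661053f014f0de005c501cf03c3097a0b330a78056607c807280d980eb2032303fc0d160a85024608b101f30ce60c7d09550c9c0436070402b6066a007e08ef0dbb025e06630fbf0d7e06670c8f012309b0063e0bdc0cb603c1013303300df00f1c05310e33061806700e370e0e0c7e0c9e036e0e6300d802dd00300de60e210a3b021f02360c7208290cef0ab4002002e704c80da806b60573012c017c0dd00a75039b099d094104c10c600f7d060e0afe0ac704ce088f07c00eb50199090b0d93059c0131045207ec01be01070808034d024c0eba026a032d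048502f007e90d6a0c440d1203440a3f07d6047f0f830341034e080a08d50d470b620f3e02760380039f0c3302ab01c00a0501c10f9b0cca0a140b5002d50c25073008ca02da0c290f880cdf07370b7c0949024206030c1d04e90f4402de062804fc0bc6041001c201e004c509800d130af40ccf007a05090db70629027d034500a90e99033309150d340c030845096202ed0d20070f0ea000020a7f0b9604200ba00cc80b70011e0359006a05cc0b4907020d9a0fa3036f0b5d0861063d09250be803b201cc09310eae0b8f0ceb0a6e08a50f8e008008900c8b05f304970744065c0e3b08600585029005010e090f1207d901830a7a032b0f0504390e980b13084708be0c170ed4006001d900b00f47053406780f4607e80e760d3e0f820da10277003804f309240d5900a700f505390eb703db046b02400d510da5074300ab0d300b1a06c007700df3081707360a490bf8011302950835082607da0245005b0d7002120bfa0adb06f7075a07710a6303160be30a1208480b0403510ab60e410e42029808d306b70ad10fbb049f0b8101a3034309c80dcc0c21077909fe05c70b58041c0dfa099402220b730b720de10bf607910f8f0a4a07fb0b0107c60d28029b01d3083400b90237068d0c380b4107e700bb0dc90bec09ff08e8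0fa00ecf0b780ed10aff008103810ef801ef08e50c2b0a030b4e030300b80ea70d740bf10fba0b4704ab09d103be05a3098f0b610f2201490a990ef509b80efa045304310363056a07060af806db0cad09e0057705d40ee80d320d0a054809f100d90e8000be0cfa083904af057e0e560f8d02e40cd50995031e05ca096a02040ba7090707fa0772095603e7077e0bc9046c009f05dc068007640e680ac405fd0f53021601b70cbf01e2012a0b8c08f80a3d0b6b003d0b560c5d0cc903ce0617024107900b3502fc01750d040c10041e01f40d5d004605c60ec3017702fa08b9098c0a8a085501d4089c0a5f02eb0ada0d7105e504cd024b04fb0cbc09a20b950ae30e15033d0f55089305b60e60016f09ac0b8408ab090f0814019b052f0e570d310ac20d690c5c0d2a09d70b0c01a50ac90ed606c80de909bc02ce01320ebb029a071a0d92047d0b8a070c0c6f059a066e04030ccc06c401dd0aad09820df80f0e0a4e06cb017309ca050e0e67032a000b04420a1c05800d14069609100ee702ff0b3e0fc203850f3c076808490a930a92091207d7048d0f4d0f4500150edc0ae9031f0a22024a08f60ca30e280f2d0450008400560bfb088206880a7c009d0bce0a790cac07f80a380c65040c058200580cd607de027e0be1033c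014a0136015b06cd07f908db074809360e6d0b9109da001407d50ae50cdd0d8101fa0f9e0a5a0626060c0e7308ae088503d804f503640eda01b203e10aa90fc10a4c0d5e0b6d0ba102ee0975006501e7031501a606ae0dbc08320c41007b0b0208650c7507c505680a760466021407830efc089a04c605130f8a0d800908095807b401fc013804650111065003bd00a007cb0f400a8807f109870a1f077c08dd0aa001740e350260061e053c052007d40c2c07200b8e029d08e905a5057f07a701440fb00944085b0d4b017a011d0c3005b00b4f05b806dc04170b5c0b7a019f0e95062706e5055807cf084307df0f9003b409cb00b50b2b047a056c05e7044f02c3053806580dd108a7000d0e7e0853017907350e3804290b32013e0e510d8309dc06ad0a6201a100320ac505760d33038f04060e3c0b450e0a060f00dc00c20ef109f30aa60cc30b7e07a30d490651045600f203ef050005280f1904be044d0abe016900e5023a0b3c0fd40e300d8a0dac02b20cbd04190c8d05eb00f0069f0ad208fa01c304dc0f8700db02d402780fa9020d0adc0ec104220055047b0c6304d00d110876035b07880625019e0b1f0b75036103470d05045f0b420f34044a0aea017b01da0e5f02e60a20096000520e0502f30aac07d30c120401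022000cb0f970cd80cae0cff00b7094d0d030a47068a01ea05be04b5028c01f9034a08200db304dd0b1c04b10cd9096702db0ee60cea04eb0c010f6c0986014709590093059907b305f7095e0a2d0d570b160c9d0fb80cb701db06e108110fd105ef09770398010407f70c2000cf081902350f260a0a059d06d70c6200ba0749045803e50e4b021c03390cba033e06890a6507e00195007301960be5033a004a0765030f0e9d0668035c0e2f09280572030c0be90bb50fb403500faf048a02c60e4a0fd803ba0d0b0506025603e802ca07ca0c05091407f60a9106980a9c0acf070e0280050b0c5603ca0ef00a2e0b1900d206ff0e6c02850f710df70d9b0dc001af0d25078006ce09ab07120b0307b00a860dca0f1b004008310d6f03650c96015604d203ab0382055b0a100b5b0e6b03580b51056d0210004b08c705a104df0dd50a1d0f010a6708b00d0106200e1102b00c3a073b0b860f7a038406ca011a08c40fab089608b70c270630022908e108c6001208ce050f0426040808c00d210bc7036b0eff037407b50aeb020008cb05f404300f81051e04ba0ca108da05330a560f0b0e470ad0019708a60ec709e808a90be00e9c039105db0f0f0e870efd03a50f1a0ae604050a33006605560f4808cc007607bb0ad60db5008c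0bdd0c5a054f0fc60cf10232081503c606da0e08087b0a5506bb022e0a7e0141082c04ca083c03b50e8908860f84017004470f59099a060702e20f5102bd07aa0e1f0ec403460d6608240fa803350f920139062d0e0c0a3c0e3f0f000e970beb0bd60ef6041f03f003f10a090659085900a80d1905fb0ae807e209e5020701530f9901cb00e60376027004b00e490a940b8d0bc805c90c02044b09f706d104910632020506dd0797087e05de05e90b26039d066f05d60b9d0b6605ed0a4008f20d3c0dc307520062088003d406d40c7104a5061a0b9c068c086c0f9c018d0cbb096d007107380fd708040334070b094703ed0ba306e6088a0ace0eaa0e39095002f607eb0d520e6a006106a00c3b02a50c4e0e320f3306a1081c01b6063f07780470023c016b02860fa40b6c0b180a680a77094a091304a8036a01a9055e0a2103b70e2d01cd01240c51080f0df60c460bbd0b6004b9047207ad00df0854049c093509f60a70042f0f1807db0b9b0bd0000e0a900c400a600a150981069d0d2f007c09f80d3507cd003b0a240916005f0caa044c0b6a0a3a0d18043e044503a80c5903b00d7a053a0fb5089401f0070a07ab0100015c08ba0a2c095b01f70d2308f7075d07ae07e40d7907b80871025b04110a0d0dc20e6f07a409c7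00c50e0204e106a30091051d05470639079a065f048e083d0f540d22045104cc0def0b6f0af9006800d501c8028103b80048010f09980cde0cb9001603eb0a350e3d025f08fc077f0b1400ae0a1e0f4a0deb0b7b080103750fcc0672076101780b170b920ba500220d6c06ef04e70d10076705b20a95076a0356092e0b0e04540ea207740eef06240eaf07af067a07170b930593055c0ee10e1a049606aa04e8082e0fbc04d10fbe00de0eb40494069e058a093f0a660f760ce203a30bd90baa02e10d9d05a4050702bc05ec029108d40e070251081e0c220ba209e30206048700bf0dbf0c28058c00790d44001b03a000350ebe0ca9052903f205140499060d02340cdc0a13019405080ce9054603950ab906940394075b0f9600470fda014808f901ca0e1c0bfe090e0ef90ab5081a07b900e2012105250b3607050c9a03d50bf0031c04e6090504920d0e028e03420d7f065600a30b9406f605150f95061b04ee05fa0cf9076d0087027f0609056104000383064f0592081609fa0d1f06e30d0c0951037c0d9503ea083e0a010b3408880e84001e094200a10ddb082a052b0d97084204610f5808fb0a690ec20aa808d00d5a0ac00318059b04a10aaf03c50ead04280ba603ee022104770e64088405e00de700000b850c6a038c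0d8b0cdb0d07018800ad00440a4209db057b0471075404330f5b059104830596033b079f006b0805080b09ad074b07d2069c02a1027c033809110cd00a9d0dfb0719027b0225053e02a6067f02a70b63082504a2097409370a7d01bb030e0f2404b30097011f067d0b0f068f034c0681054305c1075c03f90bbf04cb005700360e740d4807750f060c8108370ab201c90ee300210c980562092b0c900d6001a800340c9302b30cb5055507990d2e0f0c0bd80446010d085a09ea018b06f9042c0cd702d0041809c50a2706e80157020b025905bd02a00ed204f70ce4004200a403da0f6d04ea05ea05f808020c8c0bea04b701220f72079b0e520486052a05a70e260e9a08400d4508c9062f0e1e08670e22037d0e940c0b0c1909fb0a590997075f02430d4a0dbd08d804c40a180fca0db106f3082703670c820afb0d5302d304d802960ce30589049309cf0c5e07230a58039705cf06ec056e0875032f0ede06040c1e02c90e1305b905a901090b0b048f085606f104250640095a019a011208b60bdb00720cf20efb094e02b90833073d09af0641083a016609ee04a30ae10dd80d1d05a60e4e06ba0540083b00430b1008a200fc052e006c041d08360e010b3000c00d77016e0424060a0d5f00050bf200940b1d08460f680b79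0aef0cb105c40d3f0df1067b015e03270972064b0ccb0e400fc306000a02052c0ad50d41011c0f75076904ac0a04011903f6058301180088013005ff0213063505e20a0f07400b430f2a08e003ec0415040209430c5406c60ab3095c02d2058d06a5059501c4075906e706a70f70038e0d670597072f0340074a0611046f022f0fc90bd50e1905ad0a730d370a9f0a0e0b24048b0f3506ac04f10f3b0fb70b3109d60f3601400c69092701a70f110009060808e409ef0d360b37006d0a39026e0cab041b01b003af066906eb013a0da207f20fa1075808ea0dec010b09f90dee089806600eec016402f70311029f088e0d0f0e54031305040f1e0e8d0b2c079c071c0f9d03d2067c0e1d04de05df0cb4069102240a17053607bd0bb109eb00ff053b04e50bc008af003e0c840cee0acc05d90dd205b706d30636072709c002c50469070700f604bc0e6103cb0a160fc508b3079d0dea0ddf014c032902890e460e5806f507250a310da403490f5a08c30aa5025d0017090c050a0c0d071e073f091a0474054b0369030a0bd309c10d780ddd01540c180ade0d940f210e3a06480fd30a530ec60bb6008a057a026f032206f201200e34096306420c1c0753076c0700053502d80d8e0ddc07a00d0208df0541096b09a901030d7c000a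0614037f00fa00260f640e6508ed0750099c0ee40c5b0ae007930677087f0d580c6c04c70a320c13061f0d4d01b40c61028b038809be00370523047308b207e60301063c04b6097103e0068402880969084b0b250498033705b10b46046e0dc407f5032e04a608280f4205e6068b06c502d10b820f6102c407e10d430085072404ae0bda0755018a074c061006fe084103e205fc07980a8f0101057d09200d86004e073306370c4800d406a604820db2042a0c3f0e660ab70d42099e09f00dae0fad06bd0d650336050504bb07e506ab0800058804aa03570b120bae0d8f0526004d0e530a370a290f4f0e3e0eea06d001f209900cc20df20f8604490f5e0f3a093e044109c40fa207630b3a0c5207940a8209ed0fcd09bd07c70844098d045b004f0878065b07c2040a02b70aa1045703d302d907c3013d0f16040b0fce0bcb0d0604120c9b01ed038a06a901450b3908b507dd042e0d0906550377048009e106c100b108c205f905d000bd09a0015f0bf9085e0af305d70b7705650d5c09b106520a000282059f0f080319043707a80c1602490e7c0f6b0a74043b0444008d08c10e7b09d3089b0cfb0ab1059e097f06ea010c03000ce00ca503fb0eb306790cc10e8e05ae0f040edf00ed0726085c085d09c206bf081805a00784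06de02d709180b150f77093d0e5b03e304900a4f04b403df0f7c00450f2f0baf06440e100a540dd90f200703082b0440054403d10d3b02ba0afc0e820f7b0521090a00d003b9008f088906c30ced0caf0e810c8903aa0f320b440a260dfc0ccd091c03c8078b07f002f9087d09f4017f0be7002a07bf0563000c03ad01d208ec03c001f507c10e7a00aa089e008307450fcb0d84072b0c3400d10838001f0c640e700399094c060b01b3071b071801b5003108a3039009d4058f006406b500c3043401c704bf0f17013c0a9708d106e908eb0b540c3504d7002b062b06e003720cfe0cda0d64042b084d077708bb0d3d037b02e301fb0bed0c7c00bc031408bd07f40503036806190ea508f00a520b3802be099301bd0f1d0d17035d092a099903540bf408e6046d07660202035a0e9201520b8b0922034f0c3c0c4d067e0f03096e05110ea10992086e0c090c420b7f06fb0c3d058b02fb09380ad80a6d06a40930093a069904ad0475086a081b0c060d8502500c87060604a70c49022b0bcd0aa30519032805bf00ec00740eb90ca604ef0f650f740a890b1e0d75070101430fd0041306c702650b900a44036c054c031205510268092d0686030d09260f3705020ed900530d560d2d026b03040b4d0f4c04b803fe0a9a0d4c00e8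0af7033f0aec03b60273055208100ef300f10983020f0dad0c4702df0a480c000fb60ae40127022a0e900c6d098800ef0b21037108740742007702ef0c1a0c790ec509660c26043f04e403e90f630c2a09a60615059804a0065302cf0abd0f1301a20f6a091706020f2c003a091f0527049d09ec0e1400b602c0008903620872073e0e5c03cf05ee012d04430c990ded0e17066209b30e0408d601900f2e020a0cf50c3201aa020c00eb068e0690080902a4023100f8069b064a055001a00a110cf30b680aba0da30b87028406130b9e0e030d270e4f073c0bd40dc506fc0cfd097004c0021a051804b20f6007fd0903029702830416078c090d06ed0a6f0c0a069a069300e7021109a50bb80c360ea60da002f801580cd2084c04f005670f9f026c03050c4a0e9303100f85022303170e9b0cf4003c025a0a1907810c94050d00b407a90261064c02150f8009190eb10e2e0e5e0ce107390331010a0d5b015a0c4c0adf0a87040f0ed00f4e0ca20b9a022c06230c1f0afa0bad0ecb004c010507ff002409b90ee900ca0b640c73094607220e9f088b02a30fac0587088301510244032c02e908c80f380d870f070692053d02660b7406be097e0c740108008e093b0df4028a0019016501a40b0902580a3605a80b97027908e302f2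0fae09a302a9064d02ad0e4c0ed308520734083f0b1b0fc003550cfc08b801e50d1b00c40a2b03700a5c096f0d5007b20ecc03a90af20ca00460001807ba0b520eed043501ec0e2509730e780d6e0a45014601ff0d880f490b0601e10c140d380e0b0aae00500952098a0bc30dc600390e6e0ea40ae70b6703ac0162016c0cb00dc707ee0be6084f0711066d078d0389001a0eca059409aa0c150c2f0c310f390c5003600ef706870e690e6201b80b080803039304c203960a500cce056408fe0e43015900ac006902aa07f3066505710a430ac302170b8002cc09d9029e09fd09960e440f5d0acd05f60c570f6e08aa09320934071f0d7b00960e8502af0f8c0f2708220f8b065704950ec906b10d6b006e0f9100cc0bcf01820d730fd903b30ebc0f500c67098b0a0709e407730aed00f40af60a1b0aa70edd0e8308790ad305d1013b01d007fe0f7809bb0e4d0e7505e802180553009801d10e230fc4042105c00e8c07b60a6a024d01ad0272064e08ee005a04fd08510352022d0dfd0cb30e0d0137051a0fb90a6c0b3f0713095f01e604320a0c031b0f0208810574000809df043d0386016d056008680a2a014d0a6b0004001c0c880abc0c5305aa0d630e0002b80c680e270b0500250e5a02ea005c0dd307ed0c8e063b0708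04ed06820bf50a0605b40dff08cf05af05ac0d6801160d000f310b9f05f50a280dba07890dde065a03ff0559024f05fe021e0c4f0106023d094b04db00d3048c07b705370f3f0e3105da0fc704d60e2402a20f9305240bb20176002e09c302f409ae02e500af03f3032602a80f9a0e3602fd027a084e09ba0f890e7907090d760f3007e3074e009e09ce09a70ecd0b2a0c7a0dd4008b078e048401020906039e03c909480fcf0ea80184097d02380d900efe0e7f0f0d07a201fd038b09cd00c105d307320b280423036d0b5f09400b650b4c097802c109f2025c0d0d0cc004270bc200ee077d06b001ac0ba903a60c0808580bb30d8c0ec0064506f80e5906d60a250b1100dd0a7b0f230d540de50ef40163068301920cc505cb095d0ea9079e006303c7021d0409089100d604f202bf05ab06ee0f7f049a0a8103a40ed50b550bde0d390c970edb07d00a3e0c0e072e0e0602e008950e5d0325093305f2081f00280d910186056905d806a20bf301ab078f006708990a46038d0090082d080c0bc407c9001d0f9801260b9901550ee00a7206760a80099f0003030809850e9101dc044804880468023e08e2092f0f66078a07150af003dd06af05dd06460eb008f30f1505320b00026207cc02c701d70bb704bd0675072a06640d6209d803920c780e1200f300230e50037e03b1000100700eb804d50129023b002d076f066b0c6e039c06d8005e0134072c01c6021901f1050c07850a8c0a610e8f08c50f140e1b0e1607d809e703ae0aa204d9056f013f0d2b0d8905cd013500540bfc002906b8,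
  0xfff0ffe0ffd0ffc0ffb0ffa0ff90ff80ff70ff60ff50ff40ff30ff20ff10ff00fef0fee0fed0fec0feb0fea0fe90fe80fe70fe60fe50fe40fe30fe20fe10fe00fdf0fde0fdd0fdc0ad404920a130d1d0bbc09430cf6076c0b0806f807240780079b0eef0ca00d7a0417055e04bf00e70e5f04040efd099205ba0adf004402330da4001b09e104c90bcd0d3e0f1b0bed065902ec078c09c901d209a50ba00215061e00de0c5a0f0902d700670d8504f90e5107f6049e000208ab0bb609880a4503d80f120f7206ad0ec406a009260a050072085b03ca018500d305ab0f690e2700e50cb003e005bb0a95030c00990e3e017402bb02ed07f10b2f06af03280b8c0c56033708b9000f046907d7077a065c0fcf09b80f2d01c904b206210b4e0425030a0959058907170cd5040501000b2b07eb0b260cd7064e018a0d910cd303040da600b80e730275040c00910a230d4a0dce0b700b9b003c0b650dc30f2c07d802fc0f9e052a067506b206c904a00bbb0ee1084f073d0c1b02ca01e00d9d087709e505a002e80b890cc10e9b08590ac6008202620de0036304ea089a061a02b604df073705030a710b5302f70c5c0677015501730408029c03610d95086b05e2015f04750efc080b0d1103570691090b0d2e0d47086406a300cf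00c40f4f021404b6012102490cac043607b10c07041409240671055505e6048c059f082508e50d97043d02c9090401ec0801092f0d080e3d005c0fb000e40fad0eb101eb057e05190b7c086104e301ac02f10f010c3e0f4007730e030d6503c00a3d01950e6503d20a5507e00a8b033d06df0870067900ee0440030b0be30c4004070d180bd806c2048b07bf0bab06e5083f09fb0242011c0a280c0c070708480b170b7208ac080f045704dd07860c550c4b070c0775024c09e90ab303a802a107c10e5d0dbd0b6105a80b590e710ae000660298058b0c390ed80c800e8a0d660eed0d6d0b360203005a092c08ef03b2039f0d150bca0a92081208c2033400940c9b0c150f3d00130cad08c307b80aec0cf009f2076b08510c61047f01df060a04b30d0c0c710ad80d130ae4032d064908f900430ab106fb081d0d27096805770394080907200b430fbc05e10a34045b0efa0a750306034a03510e5b0aba0c290a000f770cd10c820b0906f2045c0c770cff07040e8008740288062b0970050a0dc40514003e060e0a640a2a02860e7d0fb3084a0b6b00a501ab036704d006100c2f0a96018f003f0cc70e770d0f02ea0deb0f670d4d0366084e0b2507530ae8080708f80bda080a02790ccf054f0b63082c01e80f190a030ad009cc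00f901610d5f04ef0332030904230ab60fc103d4097d00df093c077d03de07e108fd01d306530a7f081e014507d4099f0e3c0672066305e30e230bfe012c00a70f92049006570fce014703e805ce0150053809ff0d1401e50a6d059901170cef07d6018804650e9701c20fcb0cdc09f300a40ce5009a0c6903f2022303e4051c09470eb9046304de0fd3005803d00c5909df056905c608af0f980ee40e1c00970f26081f0e7e0faa0f91075805b40389021a078203c505da06d10f1c094800b30c7900f60a6903680fc6077f062f063a0c6a0ca306520a5e0d3602dc01ca0d8e076f032308d50e2804c107e508ca0462006e07da09220b0c06370ec50c3001f60e010dea0ae50acc0df60fda0edf09070841045e0a1409e00f7008380a9e0a5101840abb02520d9303ff0ede05540c200e040aea03e3000e088101ed07850eee095e01ff08cb0e1e07cb00d2065a0dbf0c7d0d1a082807ac04c408a501990e4c0c1d0f050fa80e5e0cba0fb10cc40348068001870ec303c707ea0622086d02b008b60aa7048e01760e460da702ab0af101e70b1c077b030d075108840e250eb80df4015a0be10e6204d70bf401930d7f03ea0ecc058e0b1b0d7c0b4b01d502630a530872086702f9091e098c089700f30951010e08c5007f06d90fd1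08ba037508800c8b0b9907a709ac028d0a010b0d054c028202280d72036d0534048d02c20a790fa608ce08bf01d706b10c0a0bd200c0024f0d4e07af0d0b0d0500d802300d9908fa0ba30bbd0ce80c410cf5028f05930cc30192028409100cf809ae06da03380d64095505610c3b01b603e907d10917088d09720f6a02a30b190e4e01080631068505180db50d460bdb06f10d49010a03170b620d6a02d008f106410ac50d8403f803f00ab80ce409280aa10ef20d1709a2037906740474044702c807830da507c607ed02fd020d002a00fc0dd00f2f0aed05e0081606ab0e7506ae05d70f24092309000612015702700fc206070a330eaa0a39017e016904210261022c0477072a057c0d1f0e8407df010105a9093006480f1107280b540019096c06bf0f5e0c32008306a60f530b1204da04e008e308ad00a200e0066a0e4308a40f9b028a09d005e903250118083107b30ce20ac20a76084d0687026f080c07b501ce0200090f0e36001e00ec08da05c00563064d0f800ca403f10d1003a9085d008b0e6f062d0a1d09d10ed7017c05e702a404c80b490106035800780ab403bb01ba044f0f2a0d310dc805a60f38029203ba0e91077e07c90b050eb500e107dc006f02650bf205560f500c09087b04e80cfc0bb007d50060040e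04850db10ed6071d0520017f0c870665021b01910a7c08c00bfa09290481043c09640529026c0ef4063302d20a4b0225005d06680dbb0f860bef0f780bb309f103a5047905d00c7b0a06037e02ae0e2007b40f5607e40b4a090809380839096609310574094c0c8604a404d9089309e6041907ef007a05d3081504320e3a06aa03590d6e0b6d00cb0e9d050707030cdd02670ec90224043f07fc08d7089b02c10ce70cde0ec80bd900a90ce901cd0da80d5d08e907e80732073301ee07dd08f6059e02640ef904fc0934082d076801cb05d2049d07bd0f8b09d500560526036c016a0149033c046e0356095a031e0a5b0fd00e6e0f1802aa0181093f0aa90a480bd608be0b680a10026a0ad2009606a2029301430d280fa30cf40b480e560c9a08b0064606f7022602a009840d4c05320eb70500000a0c380be00d5501790bc30edb0bc70cab07700eea0ac9073603550af700790ddb045000080e860ea80e1d04e10b32034e091604f305db0eb0040a05680bc50cb40aee093b047e05420d9009c50092065b0c6c031f081401a70d0201a30833025908bb08df016b0a990bbf00f10535053a0b6a040b0f2109a10de1091208b2010f0f340448091f0fa50f4605940601022e0b4104610739024000b9084909990e3f0a0406950759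086a0a7d002906000aff06ee01c308e4098608630660012b090201a2045a062702060b79008a049a0311082900e8048f0a09075e054b0e3b09fe0bb80747080d0bd50e40098e0ed90cd20ed500bf03f70d960a5702c30af00960093d01820c2509a305160ada0e1602de065509090f8207f20528040d0b600e09044a08780b550a7b074107fa0d5405ef0d4204ce0dc7034205be0709076e06c103a0037605fd01f304a800f4093e0bb50280025700fd0cc60d26006c022105ac020c05cf064f067f092007fe04640f0e0c47055204b50021070200460d240c450e4b0d6c0c5f05c30aa80cd801d4044202fb0ddc00be0f510ae602b702d10afb0b4f06b30e9304090b44007d07990980098309da09930ba807050bee0e330fbb06e906320f8c0941063e013d0db8068808c10de40c51081707e9093a006d0a8801b302be0b1609f90312001f01c60026032409bb027a0edd0e4d0fa90ab706ed04290b9d03ac0175043e09a6094509ca09dc0d2d0a740b7e089c010406620b7608ae0f2b0ee70424072f0d9f02bc04990ceb07e70f6608620bf608d20e480c8900b10dfc08ed098d0ad108dd03ab09250c95061c05b308350d3505f3060c0b8d0d2a0f83091404ed0dda065d0f8403470f9f06a802cf051b07f50c3d058f080e0860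04ad076d0a1b0a3e0da306eb0506014c0dd80c420e600cce0eba055f0962004f0be902470ad30f0f0bfb019c06960399026d09ab066f00690e9001b00e98071003ae052503330722022f097f0065041a056201a60ee20b180abc054e0e64079c033f04a608c603160bdc0f740cf70b20035f03bf04c60e1209370b2404e9056409490e9c0b64045d05f2059b0e520b800a2f0a9b09bc087a0a24094d06ac0a2209f409a806bb0a1709210f170c440c7f0218039a0b8e02020d9a065107810aca0dc20b3d0bae07160e0b0dd90bc00fd503700cbc0205076903a20a200bb7083b04430ea7023f0a0c0f81000c03c30698052c0fbe09c405c80a580a590020039b05d403bc0819039e0b9a0156052d0ee0074309850d030aad02120ccb0cb80386050e0823049c0ba2037f0f7908710bf903740c4e086609cf0505061f040203d506e702b50a70091b000b0a5003c405a50146013007db03db02e40a8402bd09f70abe0fa70b6e0045071e03cf07ff0d7b09aa0a820a770af40e4707f40886039501d90c11038105b2068b0fae071b02780ccc069703540bf00be500550cbb0b00019d08f405bd0c2704830fd9038a0af20d50009c0a38035e069400ca0a4a05ca06b40b670aa200fb05830b5c0d3205b70683095c0fa20c520f650913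022009150e9a085509be012800b70a1f0e3804490f7f0268009f041e04b801bb0aa403390c4f0ebd024e052406b008ee0aae078a0546039608ea00eb01ef012e01980933090101230f0003a1072702cc0ebb0c48061304340baf069d0e8e058109560a25032f0a1c0c960cec02cd0658078900d70d6708d80f4a0ed20b340ac003b60d0001770f6808200b980c6d03b9042b0172075703d106e0042204d103c6013707ad0d3401c1057b0bc20c230d760a3001fa01e2058a0692053b0ced0e190bc803880afe07c407480234011b0dd701f000ef009d0f0a0f760f9004730c9303e2012a0723008606f40dfb058c0f1006fa0b2c044608b7029703520cd007190c490b7b031a094004f5082a099009f6007707cd014b0a3c0c8f0caa088a07f7000d0a73024a0d3904ee0ed4025c0d2305730f0b005703000a6101aa038e03dc0c140c72023902e002770a5c0fb70e74047602830c2805de090e01c4014809db07ba023208960285035b08aa030806ef07c5038d0795050f09030d1e0341063f0b1a0e500327038f0df00ead05310eab0906022b07cf04bb04f002310e0e0ab2028e0b510c8d0634031c0b4601a008cf01fb0d5101fc0b31075a06260e87051f07300fc705e502cb0add0813045209b908d0056706440d5b088c037d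030504780df908ff06de0fab0db7004a09910a16010706050e35083402b90c080e2a0b8b00ed06810d0e00f007f808f20654042e0afa09b20acd0d7104be0a2103f90c2e0c730fbd01030d290dd302b1011202360f1e00400dc905f705c20dff08470ef6068e074602dd098f057801bf0b77063b0d6b0c83086c00fe0fb60f6008b80a6e046d0ac40b07073f09e70ea908820e4a0df104e60fc9044d0db00427052f05b804860054032e0b860fbf004901090364012009820b100827079f017003af0d2c011601650c0400100e4f0b2904150114053d0fca07e203400bcf047b032c075f0e1a02a80e0d062a01d00da903aa0c430c3503650a6b08210e39035a09cd0e96011f0a54077400ea0115073c04060e020d58089503fb09790d210e6908fe085e07790209088e05f60dbc08050cbd05df0401021606020a6a061d07aa0f3a0b9f05cc0d3d01a50ebf02740a97099b09950166013b030f058409730a62042a07b00aa60eca0a7a03ef0ad706d6000600ac0208008502580dae06e108880f89023e00840dca00d509870adb0e130d6f072e0994078d0b570a4e02e5074d04fe0da207760dfa03a6080007ca09690dd40f940d0d056b0c3f05fe025f0e6b0c9006110a270603084b015d05760d750c990e170144021f018b09c7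03b10e320d700011051003260c500a6f03690842003305aa0e7005cb08100b820d7706f3008702ef003b0978074b01580b4c0f8f01d10cc80f3b0ad50036088301bc01f70b3a0731067c0e7b004d06d704f80d250b3b07ce081b01de04ac0c7a06cc078f0aef056e02fa08e10aaf00300cc204dc018c00250290074c0fc5004709ed0061043a0d5c06c708570711096101e106e200700bc107380726034508080b8501d6033a09cb020e0ce10e830da00fb404390ebc0a9109b005ae011e0b7f02e10e2b06d00c030385016d029e08d40f2e0a3603d9013f01a1029f0d74055106db0fb2073b0a2e01130349074f0e680f7c07cc0ea40f3e0de809de0f3c0d9402560557018000d60c1f006a0cea069f0684045f0f620d450a9d04540cbe06ca03a70db60f73073a0f7a01cc0ab508a300980f6b0aaa0d5e0bfd0b840da100c20ec101970c020e8f07140e890a56046c04c3059502a209b3046008910c0b095f055b0a6c04d601360af9097104cb08d904000b3906170f070afd09fa05c5087d03c208300e540b4002fe031b065e00ba0d2f01cf0670000904aa02950712049308bc065f02370c13029607a601900a8a08cc02bf07490fcd0650067d04e708f50aeb09af0efe0ade0b56053f007b09570c2d0151038c082e0a410000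039005ff01620ba409f00a4d0754011a035c02500a4207000f0c0dc6078802ad08560a4003c90a680c850b1d02810d4807c303fa027c0af50f320d9b0f960ef00dc00c3401c006990e1b02410f7b0f4108dc0d3b08360f8a0ecf01f9073e0e2903cd08de0d5204a10b0f0c18034c03b509c3022a0ae70e1f05c70609056d03eb0e1107d2002706c30fc000dd05330320071c01f4064a03150b7408f70504033605ad0acf09320e530bcc0f5503870f5b02480e6c0f040064025a07a401260b4d03210e8801220e4207ae0f5a00b2074509c808760d590c62008f03fd0c1c055a05600dba08060ef70c19096b023b020a04b70418054500ce03bd06dd0a8e04f20fb90f970d53075b0c060e450a5d047c08f0008c0f020f9505f80189056c0f360071061906cf0041059d04ff01fd068c02f00b6f05ed0dbe098904fb084002f2019a08fb091a0643052b0b450d62050b047a002b03ce0996002209d60398046a02e307fd089f005f074a0b33039d0a8905a3033b053005900af3050104d8013903780c70097c038b054107180a7e03430a8d04280c9f032904b90c94041d03310e6d091d0c600f5f0f4c05f5019f00e30b6606ea01b10d43003d04a3097405120ce00d1c0def0d6302ff0171062c06150131026909ad0846021c0bf1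0ba500040af60d3f05c9086e06450eff0b2709a0013e043108790ed106a503b40016078b08a80f7506dc07610bec07e3020f02e60667004e00f20cdb00d003dd03d6043b0e7807a5099d0e6104ae04a500dc0d3a026b0c0e0c5802f30c330ddd0a020656038408e80ef10a0e0ca805a10a0a07e60b3e0f9c05b9075d0e8102ee044b045302c6003404d2010c030106a70d800ece0502077c01ad0cb906200391087509970c000abf0e34049f07c809420d880ef809ef0f29001d0de909390de506c000c103e10d3c0f1408db0e7c03b00f8d0e5a0dcf0c010dec010b029a0cfd0b5f0c2b0bb20b9e05a204ab09e30fa409d2037c01630d600e0c037106ff0b020ee302df03f40b14005b0b71094a0a1209bf070f02600f4e0080012704410c780faf04e5011d03d7002c03c800f80bb90f030511005207930bc40a2d00370a3703cc086f082f069008e006860e080b0e067601a402990c360936083a031906660d780c31009005370c920d4406e805490ecb046801f20abd046705590b3c04b00ce3097b0f22079a0d610e9209ba0e58058d01f1068f03ee060d0b73027d05660cb2072d069304550fba0a8001330ec0007505d6092700cc0822004204ec09b70433041c001a089202eb01020b810c210efb08020a1908240673046b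00bd003202c70b8a013400590edc0aa3099c0f4300030d8206d30f1f021d0f3306b706b507550f58060f09e20ca60dab02f80fd80cae09c004a70a9c079105970a9f0db208a1027f0b220ab90b23070a0d790a1a0a4f0fd2044408a6058506380cd6087e0c7507be0c2a03f50f8706c5024b04cc09d80e790ad9052e0a60094f03ec09b60a3202d6092e01ae0f490daf070e03140e7a05af097a0e440790015200880b5d0c6b0c9d09e408b10858063c09350a2c07a806c403e709a700ad098102f502c004cf01a80e0a051e0d9c0bf70894039200a1089d0ce609440d8f04970a1e0cb502c5091905700c240df305a400170b0307670a110cca0a470d1603b70cbf09eb00b50aac0ea508fc07d306a902b20ea2031809bd07a20b1e0ae908e70d81096a08d30e100a6304cd078707290521002e069c0d690039022205d508b504c20f2703530227019e07940d9e03830bcb063d0f590d0904af0f630a070ea307640f4509fc018602da0614064b0f280d33023c0640009500a8023d062405d8011001b9000701420105028904370e660cc000c6013a00e2032a0a0f05b10cfe09d700ae0c570b960e3101e90be8097508a20d3702100b30079e081c00230f5c0579081103a3010d0e0f083c04960e2e0e21085203fc0bad0c370e5c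0cf108cd0c6402e905220d0a04d309b5029404980ee907130035023a0ab001db07bb07c20e6a017a0cda084503f30ac1090a007304a204e403720e8202a703d305440213068904f7002d0f06048a091c046f0f4d03ed09110e150211001508c80caf0c840d41077705b506e30aa00d120a810c0f00da0c9e084303a40d400089066c0f3f0ca707980d6801b80246020b079206470018027b00d106d20d9209180f5408850410060b02ce02d4094e041300b4081a0d8b0c6e027e085a04c707660cb706be0586053c0bfc0c460f85019b0f390d9806e601f803970daa01960afc008d0f2009760a650cb607f00dcc0124014d060408a9095405cd068205fc0b3f05eb0a830de3024307630e22064c07010132016f0dc509fd072107ee040f00bb0adc0db4055300e600c3029d09500bd30d8604ca0e5506a4003a08d6073405d904fd0dd209d90160067b01be0b910baa0dcb07de00cd0a5f0f4400c70aab034f0a7806c8053e014a054a0fa00fcc08c909a404710344001c052301af04300b830750076008b40c8e0e370cc50dc101b40c760c1204660b0b0844025b0b38067807d901b50eaf059c0f93036207440f52071a048701ea07a903cb0bb408500e140f35056a07b70b060e670c540287042c06ba028c0dfd0e9f00f503be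0bf808650e8b045804db0c100451098b0b5805b603f601350d040f9d0b13014002070e180bb105c101b2033e055d0c05066d0e8d0acb095d0a8600680c1a04a90dfe062806d80ea002ba037a03770f4206cb00050c4c01e3002f0582090c07b2030306f00201036a08730c3c0b0104bd0f8e0f6e0f370fc406bd08ec0a44049b030e07840fd40bf300240e95041100010a0d05800b9400a60c4d0ec20e070bea06fd0a8508c70cc90f6c041f04bc0f5702e70ca10cee0be60c98094b0ec70df20fac0c1706bc07f9066b042d0fb801640eeb016706d402a5039301bd02380dee054d03100b7d05f10dd601530c1e04260f710c3a048807bc05e801dd06390f2500280ec60fc80a260d7d0ef50ddf005e069e028b03b80706027204ba00760c6502760bdd096f0b9504c008d106b90be204590e76079609ea09a9057f09ee0f0d0031092d0c8a0a520a0b0e630a290db9085c0ae20eb4068d0ae10d8d0ad6061605980a98056f092a0d7305360e2408a7066106230508099a08180aa5004c0f080e30012d0f4804b40b420138034609520ba10a9a0b280f4b0cf30f9a0a350de70244096d0b150ccd0f7d051a059203500b9c07b6092b01c709ce0bf502ac0f300b04009b025e0eb20062079d02530a1502510be40bde02540c9c02d3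00db00d907d0036e0596031d02af09c2067e01c509c60c810a49034d0f990e2c0e850bd1086805b00d010c4a0b750f130a080de60b1f044e06f6072b08c404d50762049505f00307085407400e990b5a045609dd060806fe0d560b930dd505dd0d4b02db0f5d0946009e00ab05910f1601830ca9075c017b0df80d0701dc0bdf0bc9035d069b0bbe067a0b210a3a0dcd02d8042f029b0dac00510b8806f508eb0547022d05ea03c107780bac089e04f606640bd40d0604eb07a3001409580470007e00af0a900eda032b0dde0a3f0c9706b80c68071500a00d570ea102910f1d06ec057d005002e20b6c09d309ec063002b30eae071f0d8a00b00d1b0ed30e5704120642089007a104350d2006e405fb09b40c660963018d05480ed0062502b80a6607ec00630ef3048000d4096505bc01b705c4015b012f066e04940fc30a5a0e8c0472070b0b350b500c6f04030de2090d0c2c08e607b90998088700b609530c7e05d1026601a90e5904f1084c04d409670e9e096e08a00df7036003fe0b11080407650d870e2605fa08bd03df061b021e06290558083e0e9401e40bc6082604e200c80d8305ec03da0a2b0168037b0ace0cb106060e0008320c53083d016e0c8803b30ac309f507c0076a0fa10bd7085f0335027105bf0d190708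0bce00bc0c740f880eac0beb09e80a8f0c5d00aa075203e504840e2d054004f40f6d023507f30c9100c90c0d01fe095b01e60db306b605650550027300f7034b00530a3101f50cfb0b5e0f1a0cf90ca200a30b9004b10eec0f6f02d90543072c043804450159082b051d0fd7058706180fdb059a00e909c1007c02c405dc0572008e01190899098a097e099e08f30129017807ab0a3b0a8c0f3107a005f40dd1006b01d803e6024504fa075606fc0e410ba60ba9050d07c70a180cf202f6041b0509036f088b062e0b69089806ce0b0a004801c80420087c0b5b015c0c1604910e2f0df502b40cd90ee50e7f0fb50141048202d50d2b0322015e0f7e024d0bd009770cb308370ba70f230772026e038003130e050b2d00740d2207420a940ca50c670ac8087f0ae30515019405a70d5a08690081068a0b470be703ad0af802040b97038205710d3002a906cd06c6044c0d890a6706a102550d7e009301110125069a0e7205f906d509b10f4705ee05170b920eb6074e050c001207250b8f03300636088f0b3705e406f90b2e018e08530a7208b3057a014e0c5b022907350ac7016c07fb0416025d09f80f15070d0a930ee602170ee806350bba0d38003807710ecd08e205390c6305750ebe00fa0bff0b7a05270302014f08030c5e0f61058800ff051303730eb3036b0cdf00c50ded055c0cd40b520b2a0c8c08890d4f0b8709d402190c260ea60f6402f4047d039c01540a460489078e004b09050fd6066902a60cfa017d0e490a4c01da04c50a870c220d8c0e060c7c0dad0797013c0b780a43,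
  0xfff0ffe0ffd0ffc0ffb0ffa0ff90ff80ff70ff60ff50ff40ff30ff20ff10ff00fef0fee0fed0fec0feb0fea0fe90fe80fe70fe60fe50fe40fe30fe20fe10fe00fdf0fde0fdd0fdc08360833059f0de40c4600e00c190bb6074d00f406b1089b011a080d07010a100b3008fc025a0c1d051103bc067900d8087700d406d20d570a540ec8085f0b8302a900cf0ea505ae0c9909e102d1073d0e5802e103ea06e00b4907220ed504a7025506c30b34023e0e2c05f507240c610c800bd70458052c07ab05c70266072b07640c4709c406ed089d0211091f036504950c5705ce02820c1301e004aa0cd207c90d0e08220ddc08ba086e0c410f850c04095b051b00ca05240176072109d50aa20e0e005b07950f9c0be906a40388012301510ab30b5b07c108610ef103cb00410f8d08f0098f0e320e44010102e501f604b20e41083901dd0e1609c105250953040a031f070b0b5c08f605140f020b6d09da052b030802fe031b06a0023604180f2409e4025f05630da60e7a055c00cc0d860c080b0b0e8e01c10399013508200e5b0a880d0507680fcc001f037008e10f92078c060c0fb80ae20d6b0b8205f90bd40080085d039e0da40b2e082b08620e6f07cf0ae703f007f80387053e00ec0e7e0bc4009808630ada092605700a99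0da8088c0881038208be0c100f2808d3011200ed01f206a6015505cb089300740bef06d60f1d0f6206340309026008d000d702b40d98048003ef066201d6016b0f1606b20aee026d06130def066908da0fa5031a0e9d0b840b2708b003960a180999095109a20b010397048a02fa0bc30bd9086f070703c603950bdd0fd909070ed7013b07ca0d170304067c0cba0f230d5c008d0a860a20035700060efd0eac07390dbc0a7807a401af01e10bcb0dd60d2408bf0d7005a603c50b4a03370a0d02a20b4b07b603330c7d0888090904310ba1033f0e670fab0f9b04f70b800ef60be00d7d02b70a1a00670726090603a900e60e1b0b2c023f080705bb0218028b0a340a9e0ede0ab9037507280e0104a600a0004b02930f6609bb047f00a70f7d07c304bb0bc20ad8097c02d0069401ad07c409840f79053303d30ae4001201db028809ff0334007b01aa05f8076908a40aa70d63079b0e610a7f09500d600a090d840ea80a7a0a530571018908670cad05b505830c3b0bfd039d0c310eeb0ca20c290fa40aaf091b09710f2507840d10061f08d507f906a805a3023d0e870f2e0b9e06e4037306890ccb01720576047d0026018b045b0ba6052d021a06980757038c0ebe01da0aab09f10cb9065f00a90de8083c0f4d008800470788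06b4015e0e06040c02960c9502b006d005fe00890147029906530cef00b604ed03170b350463085a08b20e190196070807f100f70bc10cb60dec0b0908c80785080807d40a43077804d40bac017d00850c49088201a9079909cf049d01e308890b630994090006e5021206470afc0b3c0bb4098603d20a2d0a7c0b6606b30f9509c00802093c07130eb20d720df003ee0c78049803000790096601840c8e095c083a05500a280f0602dc06e30ef008c0067008af018e0c8400900d040646088305c80ad90e46063f0457095d0105028f097e09af0f07043c0bde0c680c330a40009b0f7b0c6c01bb0063071205bd0032025c016901c0052805460f5006280b900c650d9e005401280adf074305840db408f9047b07960f8703920d9309a8048f0e1e0a4d05300f820ba40c2302be07b40e340cb501930dd0021b0bab01df036f09ed0e860b390ee405ee0f0a0878074208550d4e0a1400a803e5095e0cbc0f86028408c408b401ae01ed0bb204bc077f071f01cd0ec70bbd0fda0f5d06f9090c07f60329074a03a8036c0ac304280c6a01040f0302300887013600200ca100d3074109790cf60ce00a960d5409b5097f0abc07a00b310ce605050cfe0a250a97063303f5025b0da10516046705910e95097b0e910f3008dd04a40cb1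0dfa0c770a3207730168057a0e7f04940501038e0a620d7607d10f810e4e09df0a68030503fe07f7086c075a03e9049e0d3206580c030d1b0d8a06e70a8d092e097203f303d0039f079401a40cc709b20cce05dc0f2b049103ac00e704250643068e037b06360d23059b09f308470158055b014d02ce00d509920fca065201410aae0b5e06860690004d0f140a1f070d0b0806fb0a2c0ef30247073c0d2706de066e0b9901ee0749033a06f8011b0a5008170d2001710d350711059d021305d9007e078f0102049908b705d60eaa0a660f8a088a06ce002f022a0183063e0e4b035b0980087e07e5020e0430081e07040baa0c170d2b091902d606c80df90e470b2100f90b560fc40ca70b6a00970c5d04a30f3a0609099b04e30977003100f80bda033005be060205c3061106300ab20acf0c0e0b4709fd01b606b00a16070f0d4d05eb05d000d003d804470118042e0ebb032a06a90ca402e4058700b205e80b97069102ac0ee10c11030306c00932030d090f04df085b014f0b040f880cdb0a7404d2029a028604b60b2d0ef90bfc020300280156071c09ce03e10100054f0ec50f260fcb03190bdb0e510db60cdc0ed107df0b320a940e14079e0d740f320d2c0fc1060103690c1803bb0b5f041f0a03096303790dda00ea088d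0650026a05ca08a80c7e04510b050f8402140c200d340cb407f20fb30b85037a09210c2f0fa80d580c820c60051f02250af305690b0e02e90a1301f00df70a9d073b093106bb069604e201b202c800ba01910a5c0c2d0b4e0f480758048b0bbe079c054e07c2053a05b601dc09be0c34051807480a3a0d79012c0d260e1d0c27019000100311026f04c6048205e50627047502d70cd60443084208d8068c078a08920c8c08db0a0c07d60e7105b30c3807fa0f540e3702d30b0a0a00086a00f10b720853040703450c9e039a02f50a6402c30c1404a20fad0d16069b08370a690e930ab70b290bfa025d04460c8a0c6b0c3c076d04b108160094044c05480db10b4508040d0f01800a480ad2086003af0177066c0fd50454044006a707b30e5a0301008a08bd01620e0802f306a303cf05e20f5808a300c403fd0316074b0ba900c700550bee02100b7509cd0dbf0cd00db50cc10564002c0e5e0c670e6801e90435010e082504db05320eb90de704fe02270e70038902a50a5609f00a2a0d1f02950da20a17084a0170020c073707ae037107bc01b40c8109400f8b0d3e08180b70010b07f30d9005530328010601480a67015704c50b5d0c4d08950d3705e106650f370b920363077a01e40faf08aa03b0087605310f53006a051e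05b7035e0bf6016d0c3d0e770e810ca807400e6c07ba0e040fc80dcc072a08cd02970b6209480a790b6501150f1807a60dc4019707a504e4023a02b302e00dd402c7043f04ab0a4b08c2059c03a304590a6a010f0c64092c0e4d01d204b306fc09a700b00c010347099c09ee0ce90838046e0e0900680a5f0b0c081d097a0ef7099f060804020cf70b2302090b1f061c07e0042002ef0c7502750639052708f20a4a04cc0ab80c9a0f4b06e808ae05380dae007605f1034109f60bcf0688006106aa06410c5405540ba7052a0289011f086506b608800dfd0dce0537008b028d02440d4506a20598023b077e05130db90e430ac9019b061a05b1000703b701030ef201200d3007250d430f8e0bce05c20edb0879079d0be400e4012409880ea004f1084507e809e00d2f0ab602c501850c02071b07ef095808a100bd04640f7301ab0aa90cee0fa2013804dd0002067e09c604f808fb08350d5205950bb1060f0bc70e8f0e76043a04770361052206770db3017f0bea02940d3b0e520dac0ad1065509b904840ae9000401d300400ece09dc0d010215051c080b03a708000aec06310fc3056c0cf30fbe02c90a8e018701490e65002d062001a005570e2a014e09690c9c06ec059400b809450996076e0f210c970a12058b0e6d04ff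0f3503800c5c0eda0c0b0b78022b077506400ddd0c5603c807700b140bff04cf00010b790a920d390fd6095202dd002b016e007201070744046a092b00130d9701ec06c10bec06970f1905400dbe07350fb107eb055602200ba0087a0b400479079708ed0c9d0a650b4c05e30bf405450a1904880c3e016706fd02b90fba0a0f010a0d6409d709a300e9078d0257050f084805fd09ef05740d6a060409b10626063d0c15028a0e92067808ad00a40a9f072007be01c707670f360de9072f00ee054b037c016c03f104e103c40e18041e0b4102b101250c9b01980bf30bbb0a010e4000be0ad306df00580b7103c3041605960a910864028e006401bf06d80e62076205600a37067101f1063c0f9705a907ea02ad0449005c015b0ce807fc0dab0a5a0d2d090b027803ff0b8a08d101780a9a0f9009d60d000f4709290d5d07870d07091206bd047204c208850c9f08e605da00920fbd0d670fd80060009505f00f0f0d830bae0f13007704f3098a0d7b00b401270bc603930aa3087004690cf4007d04f40759095a07b5020202a8093306db00de07f00a4106ae01750df204130287021701be067f063b062a0c760ae500c9084609650372001504a901fb0961022c0d25088604f502700c45023707dd00160e8405390afa04be0c96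0ec10b6f0f1a05a805e6027204e0054907b105df07b90f050bdc0d280a900c8500ce00c503cc08a20cae0e6009430283036d0cfa0f4e0b6c09fb05210b64032f09180ba205dd0d9105de03e805a50c6e0e56007a03f608ac000a0c830a81018800440e8d0c0501c509760e850908066d0944051201d0087f0d6e05f302f203b1024d0a6d076b0f9600790f63069a09f2067206ee067301a108d20c09038a0aca0ecf067503f205730c630df80f3d0e27021e02f401d105ec08910bf10e3d0de504c40da906670841093a01290d77072307e204f003fb01fc08d900a609b40eae02770ade019a0f5207e30ec30b48056e08e703cd05b202e2059a02c4099e044100fd026b0cf905cd0ec6060009eb08f7074f0f27032604ce0f4000f5000e04c3048106800cc40abe0c39057508b30e9c05a0090401c30a6008b807d008a700bf05990a5900a10b580e5409cb047e065904fa06b7089e053c0c7f09d2044d096e02730eb1000c018f0be508a60e22007c0b81041102f80e8a03830b5202c00b93081c0fd40e720c260d990cfd087c0f8c097501130ddf059001340589054d00810c790b860f5b051d05b00ca00987001801f309ec00d209ba070c08eb00490ed9073009e600240239004e0a1109a0078103ae03f40dc0049b0832037d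047802c207da0dfc001104ee07ec0649060a055a09b6037e03740621029e07720755096808ec033e08e20e3002670a9b02bd0a890c5002ed002e06d30c91029b0dbb089f0d750656016a004c0aa001990e3807ad0a21083d0937035f0ecb04170e8009c20a520f0c0c7b085c021d0c72050905920c53006b0ed005ff086d02de0456005d0d440320052f05350c3a08f3080909d1050e0ae109470de10c6f0e4f06640b5a02400af203ab04dc0b3b04d00b160ca603130e5007710d680bf80a230cd80e1509e7003c04960f4a0fb40d0a00620274025305850f7803a00814025607a20985013307e90f0e0be303db01c90a5b00c206420c510f890a49065700840ae607a10f5f017305970a840d400a240b4f06b508c703ca0aaa0cbf0400015d045f0b7e0be20f4c04c1034d059e062901c40d030a2b06100f5c056b0bd001400ee007860a830ae00ccd0e020f490b1d076307bf0f5a079802bb06a10248097400870caf0b8e081f01630aad017c034e0f9402580a360ba5058002410663074c0f330a720de60e9e040e0b8d08540b7b0d8e017e058109550f4506ff06f306f1009101300c2c017404a008ff031007e10eef0c0c040d0d96024f006f0bb7094a07b0092408c60e5c085807600b6806ba0e7400af05170a3e04c70a55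0f3b01a6014c08f10774008f0c520b9a034f0cb80cc301f4014208240250073a0ce4064e05ea03600644048506fe00a2009f062201220ba30ac000e303e70f9d0edd04e906f003d109950056041906850960018c0e8c00fe08e90a390c5903de0f1006b908e306cc01940afd09b30de200660b510b670899040f0b590ea60ac808a507c00f9f03b40c060bb50bb00ed60324056d068106e1095f0af007d3089a000d0fbb015f0f56046504ad0d2a0cbe0427002a032c0925093009a406cd069e0ea10d4f08c1041c02d4082a0b2403a5021600220c880f2c0731020a042d044e0c7c009308d4063505060e9a071e0f770a3808fe094d02220ee803860eea0448045e0e830d7a058206eb02910bd107170a4e07cc07100ac102790efe05ed084305b9024c01090a710bb80e17096b0baf049c0f72009d036a04260c8f080304710b1804870aa10e820f3101b10254017a0fa60207030a003e062f06f502c60c1601d70f6f061d0cc9046c01cb0ec0072c0dc107060c4202a304ea016f0f6102a40d080e3303e205fc03150bad0436074505cf0bb30b2501e800fa04ae092302240c550ab40c0a081a00050a5102510bbc09bd0fac0e2d0f34097802e70b9d041206da0b370fa30b9109ca06be066608bb047c083408120e4900dc0e96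066107ce0f6d037f0fb705bf089803060552012d09810bf70cb709fe0dba075f05cc0d6f04da090a0e2802630d9f0c9301820c6203b503c10d8c081306380a7e003b0fc70daa096f0a870cc600dd0d880bd50f29070a00b50dee0b1309ad03d40bca01520a050c1b0a3b0ee20f710f440021092d0eb702ab0ee309b00186067b08c504740568005a0b4d03230d490844061e00da052002fc0c6905ac031407aa03b603c901ac0e240adb0fa70bd30f1f02690d2e0321008e046606b8085209d4052e0a0601e2035801c8034400cb0e2000f00a3d0e230df5014b0eed03dd066a040409cc0bcd03d70be106ea04330335082e01eb022d02450c2503c00dc70a0e0715084e0034038508a900c108d607e40078035001650e480f460b28007f0e9409f4041b05770dc50e6600960bbf0780068704100da00f080d13080c0cff0d850dd7020b093f0d56013f0e2f0b57004f0d3a02e80ead00a502080c000e1a060b0cf00cca005e0af80d9c0be70394083109f901310d610d0c0a6e083b047606fa0a4702a10989046806ca06af05b4011706d40e1f0dd90efa03fc001e0b1c0ac202db09ea075c04b50d4208b609a90dd502df0ab50f9905d703560cd7054c0801039b084b09590c9202cc06c201a50ab00f7509730fd70aa50b4203ed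015007c609140e5309fa030f02a005ef0c8b0b020e120d3d0f590daf0dd3083f0bdf0bb90d80033b08e5090d0b61026e0f2f078b091c05720b6003b20d3c057f067a0abf04080dc2029009e809c50ed40bf004ca0e1300b7034c00430f200617062407db054a08e402310b7a08e806ad019c0afb05a704fd00b103070057033802610b960da303b80d6c05c50e03058c071d0851039c02f7004a096d02b607890384077608660a4f012b0b9c0cf10f090ed309aa0f390b760d5e0c37093601450d11050c0e4209d00af7001b08f8000307d9093e067d0d470d59073f0d9503ce04220b9505620529038b0eaf05b80b9b0cbd0ee50cd10bf50a770ca9068404520f1202230a8f066b0461089605f40aff01f90f510f0b06370a1b02ba013a0534048605d30aed0b55001a0cf501b702e6041d01110205053d01ce0b74091d0b1e064c07f402fd06d700cd098d064503f90f7003c705440d290a0801ba0f0d0b43080a0515013c0e750a75069304440d46099305a2024305f603ad07ac05610b7703390195011e05fb0252065b058e093d06bf0a6f054704ac062e09f804d50fb90eb405f2046d036b01f7092f039807500039082f091107fb032b08970a3302b2044200c0045003620030051a06c6073208cc05db05f705550ae80e73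0f43094f08dc0ab100ef08110b0f04210f6001b308490acd0e070c8d0cd90a6b08ee0ebf0f83005001920401023c09de065c084d0cc50fc909420b54001c0510090e075208590b690b3a0e980eff0ad404e505e7043b0fd3028000b90f6a0f68049306c902cf082d0489096a0db80c6d0b7f0c220b890c2a068a0f0405c60462040b066f004601de0ac60008011402920a0b055809c90dea065a015307820d3804e80fcd03aa0a2703a601100d1c04c80b1b09490bfb045507a9045d038d064b00820221050b060709340381048e02b80990067602cb09ab093503910cdf02590b0002460d1d020d0d4c05bc0cd3027d03670a8c0fae0d9b03460868000f03e4015a089400fc0e3b0d69003a04fc03310b3f01b9031c0efb0ebc08190f6c013909170872065e061b04b90e5703b307bb06cb0d8209050f1b0ae306d50e6a07c702a70eb6019f00270ce20cc805af02d90b9f00710705027a038f0cd402040126056a0d6206e906e201a20cfc0a420322004803640682065405590017094b01b50b060f6e04060bc50460035c0faa06740445006c07190eb0019e0ddb07e60e5d01ef015909f50ee9078e0e3a070208ef0de302f10eba0dff0c8705c407a70c3208b5077703dc0ad60b6b00090b2f0e63065d0ea30a630f9e06510b15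0a440cdd05d20e4c0823033c0b3303e30fb0066804530a4c0d330dc6095406cf0cfb04ba05d10af901d406ab077b0aa8048d0d6d00510aac0a7d043e000b044a00df07d201e608ab0ed2043703420afe0473022f053b086907dc0f80032d08150c9001460e5900590840093806a504e609e5061205aa0e0a0541039008290e290536035405fa0d180a980c280aea0fa905d4044f03e6061808f50956014a03a2081b092809150e900d81075b0e1c0a1e0ef800e5050a02ff09db03510f6706ac074607de03760f000ad70a8a0e3c0b3609bc03c204c90fd109c7092204900f3808ea01ca09130d550f740f3f02da09fc02280ea406c7061508df0dd80e6409b70ed808560ebd0414064807d80c4f0b460caa05c90cd50f170765079a099d068f02640c4003ec08fa024900d90e9b0efc0cb0047a008c035d055e04eb090203250fcf027b0fb20ee6031d08ca012a0fb50a07053f015400f2027c0ba80d780bf20434072e0c8904f608750a1c0b8f05510bed0c43016607560d5a0fc60c0f06e604cb0e69026c094e013d024e0d21049704d1048c04bf05ba0ac4045c073309640405092a098e0c5a0d870ce706bc0fdb069c075e0b500036069f0c4401080a950ce10ec40da708b1058f098b0a930b7d0c73070e0c4b042c01320f7f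0eec09c300d606320d7300c3089c07fe074706d90b7c09d80c4a00b309bf033604290a3104e70c1e06050070084c012e0bd201d500f303480ded0d0d057d0b8c0d8900bc08840eab0a820a5e0ecc090100eb033203d60343011d0e8b04230b3e0c940b22060d001d049f04b4009a031e02d50ea20265045a0dcd0c0707c80d7e09a6062d0982011c07030acb00ad09b80c7000ac02ea0c4e0d940e2b0d7101e70dc90fc50ef4075102bc009e024a07cb0dcf0d190de0094101610a020dfb076a02a601a800690e0f055f0eb5064d01b00a15013e0d0b057e050d022e0e2e013707d70bd80e9f00c608bc0b26030208740c58011609d3049204fb084f03400542087d00fb0734021c007304b8086b0c2e024b01810d5308cb0acc094c043207b80b73017b0f9a04c00c2b0a3f0783088f01f5030e0828003703530c1c04240f2a0a9c05e004bd09ae028c023800250ea70b2b01a700a3076f0d120d8d034b055d0cda0827029c05d8091601430d3f0b0d03a4056501fa075401fd009c0c36006509c8081002cd0fd00a260deb07fd0a0a0cc20e3506f20857032e06990dbd00e200830ccf0603062c09910da504830e5508730a3501640aa609a10aba0f150e110716068d02330fd206250cab07930970035908300dde093b07d50c21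0234074e0fbc0eee0a4503eb0b190d660d090fa001bc09570b2a0abd0e890dc801fe083e0378031800290f1c0f3c00380939035a0a3c08c9061905a1026805a407920eb803df09980bcc0ce5052309e30a610db00df401790cf803680ad50f420f93080e0f8f04d9087b09ac0042023202aa01a302d2030b0c7107af094606830af50f2d0e7b0f980c4c044b0c480a7006f7041a0f1e059307bd006d06920a2200bb0b20042a0bc9012f03a101b80d920b07077c07ff0a5d0d8f0a300b880e3102ae01cc0ef5021f00990d3608710826080f0f91056602e3025e09a5069506dc0e2108a0050007ed0d6503bf0beb0a040f7a0d480a730d1a091e0c3f0f41027100d10ace005f00000e0b040904d707ee046f0d5f061406ef031208ce0415070004390053088e08fd0ced0df60f7c00ff00190b1a01c20fce09200c5f0ee70df10fbf060e02350ceb0d2209dd0d1e02eb0ca50997072703be075d05c00c7a04ef064a05d50f6b0ac70fa10be60616097d0db20dd1027e0c1a01cf0709049a0160012108b90d4b0366057c02d809f706060014011905040cea0d9a0b170e0c07f50e8808f40f550c5e0b0309e20ac50aeb0c3501f80e100cc00f4f050307e705190f6403d507b705ab064f0cbb0d41076c02ec029f04cd0abb0e250a7b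0dc30c3001440e7d0a2f0d51034a056703ba071409670bc8028103f80d7f0e3602260d4a0c860f650dad05070cec0718003f085e0be80a460eca0660042b010d0db70bc003f70729085003490f010d8b0cb2018a00e8079f021909030ea90f7605260e000eb3056f043d073e02f00dd200860206072d046b018d0e05063a0add0a5808050a290d060af10355054300db0cb305e90edc03da00aa03770e6b0dca069d0a2e08cf0aa404d8079103bd0df30e26033d0af4057906dd057b0cde06f604b0036e0962020105e4099a020f0b3800350d020f5e0e3f09100b10073800330bd603fa0a8005780b3d00ab0fc202af0c0d098304ec0cac0c98050205ad04d608c30bf904380e0d0e970d9d06f40e6e0b4403520e4a0c1201ea073602fb076101ff0ad008d70075062b0a8b07b20e9909270b1200f60aef04d3098c08900dcb068b0a1d0bfe01d908060f2207c5091a022902b50edf0ec90d5b09d90e5f005206c50bba05880f3e07660d7c0f570c7401bd07cd029d0e450b8b01e50262058d02ee07790ca3027f0fb60e7809e90adc04f9006e00230af60b870dfe042f0d140b6e02ca0753003d027602000d31019d0b1100c8082c01d8032708de0045015c0c5b030c01c60cf204a50e7c03e0088b04f2058605c10a7602f9058a010c0b530c240e3e028500ae06c407a30ce3024204a10b980403082102f6077d0ec20ecd0fc00a6c04af0a8503d905080b940f7e08e006230e79047003b9071a07a80f1102bf02c10f6904b704de096c0a570d1504a800e10c660ccc0d50029806d10c1f0e39,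
  0xfff0ffe0ffd0ffc0ffb0ffa0ff90ff80ff70ff60ff50ff40ff30ff20ff10ff00fef0fee0fed0fec0feb0fea0fe90fe80fe70fe60fe50fe40fe30fe20fe10fe00fdf0fde0fdd0fdc0c9509850c1309dd09cf032509260efc05e90a81040909e200ad098409c40f41076208ce0efe026c015b095c07e8076b083b093b0a0e038d015e0f220d0c098c03a40920020d08bc096e015f043e0a3b086a011e092203210512058505c5088204c604350ca40b03000f06150534027504fb07b603ed0ead06c6015a059c07f809de0cad07010e5a006600aa0e6b061f0d8406e80a6907f6059f06a506a80ad2066d0d170c8109cd02bf0b42054204610ea70541086d0e5302450084064404eb0c2009300c3d0e4601c404b40b70056101740d030eb701ff002b0f3e0ee60f23047d0cb704c40346047c04a20a0b05bf0dca03dc013307ba0dc50df902530f470b2204e4095a0a1a0b530a3e02a70e240943070607e70ee301b308090242047e08f30c6d0de909b00f5c010808270be3058f0cb20fcc049a06510f6e0c7e0d3c0099026a09ab0e7f08da0c080c9f0a01036d0c420dee0f030e7209860045078d09c20a0a08a00ae70cba0bf1055b04a10f6c0fbe0b3d085d01d4072b062c01a20649076704ee047008c80a490c190a21001c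016b0e0c0226004b0b540ca905980e7502d309b800a60cf70125060303fc0f30066103f4007809540fc905e60fd40bc604ad069a0e7103fd042504f905790da8069703470a3900b7093d059e015207680aed045b06a20d0b0f6d0a950d4c0f50095d0e25055a08dc01940948065e08b701a50cae0bc1013d0842058101dc083708f4065c0e760d0e0ebf0682039e03cb00260188007b06c809ef09750b1c0672055f0b1e0a850ece010304a608a30c150a1301be04370f7101ed0e690dd407430d380d340bd7064e0a3c0fa00936042b0ae30401034e0f8307fc04650ae906e203a20a0c0503070b0a1f0ae8009a073002400d9605bd098d0d42048e03c0060e04f30db70a73053103ec0af40a2c01e1070e038202b20db80528096c04a5040404a0081c0c5d0f380a11038b040c0bb5024b080d0cb406bc0ed00f0b03b20c120f2f0ef806810a8607a20dac05fc0f9500e30eb500e807d9030202190dcb0b130495055e0b9205e1019c037f0cc90c470f9803420bea08560df205fe0b670f8004230c2e0ca00ad109890d4704520c7a0365029c0d5d04aa0f780d8f0bde023704f2081e07e5052e03800a2e012400410d5c09e7031a090d098a06cf0367099806ba06600dd20b1d004d0d6a045a07760d1c0b3801fa060d00370ee1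0f540a54035f069403e50836062202670c3107b505dc020200c3033e0cb80c1a05cd07830d58058d023a0b2a0746069d0f11044f070705650adc0d3e0863043a0a04021404420cec094e0b1b061e05fd08de04a704880f5e0c4609740958043d0d1108dd0e5608b102be07fa0f3103f300590ae207410f490482096909f308a4016907610cb3088404a4020707c801950ba308780a14015807d0038e0a1b03bc0eb406710e30029f0540034f0a650be8018d0e640f63071a051e03bb07ee0f5f0d75057d0795077404b00999046a0aae05270cd101410cd00e870e910c7209ee0a8f01910b04085c08b302b80b2c08740e6d09c0010909bb0ef30a18030c022b092100db06cc027f0d180a0d00d9051c012d0b160d8b0c070bf305a70e9905b20577058c02f9089606260e45021205d504140d9a079405f402170c0f00f806fa0f93091d03770abc0445033204980bf503f20c430300055302960d6e03400dc40519078006f9077a03c501c60d770283060b00420e2d03f907dd01a708b401b5028202970249037e008107440a4f0e480e3a060c01a007f00e12047a09fa043f03d20641022e042a0cd8048d033102fb0ee40af0062e039c0a630e4d090e037100c403300e96084f033502380e0709c90f3c0c68007409940eb20082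04e809120eb10c4d037a06070d05072a0a8b01840b3601540a76065604f5076c0af10c090c2c070907a608760cfd00b208ea00680e2a06f5025005020da00f8a09a40b3c07b7017501930df40160044d0ecf01470fbd0ee70593000803ef0cfa07250d300c510f7207b806b300df07900b2e0d200a9d01710d07027300400f07028f0aa9070f084a09f105740067087d066405ad0e01054607cb0c6209b30350057c034107020c670c7f023101bc0a460030014d00d508d90b140a4a0d500937069f09ea02d90bc00bc30dbb0db90227092e01ce088f0a6b09730e5c052f014f00930952036303730bfa041c06e40ac907a706ca027e01860f270a200e160f6a024301420e780de20f4204780af70bc20ed90f9a005e068d010e0f0d006a01df056e03f50fa900a503bd05c20e500f350af2096207ae06c705e508cf0c63068609c30fdb096f009d05c004ae01ab0390053a089702700b3406230675049e049b036202cc001307880ba70f8902800ce20f3d01f40ab50bc90e4b0c6c078709cb07190923091c06200db6056d03b5075b0b8b0f4a0c7902f5062906c10d3b0ce305df0c3808a50c980ce90b0e04b603da02690e80027b01e20ab006ea01ba0b0508c2072f0545044302090d040324052608aa0d330995072004590043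0c220e5b0df807ef03990d7b0f32027d07d40aa20b4b0f7900cd0aa00a8701680c650198053804630055085904540e1c066b0a000e5101ea0d240b2607b902ce0264098b01480abd00c200650c4804200f7b0a8e0bcc03280aa30b8f0e150f150b1505f002b90ebb09f40fd90e730af605490d8700be0529005106b60a3f0d250f360d990b6f007302550a7c01b60955004a028d02630369039507fd0cc20b7c001e0acc05b30d7d0a9f0d9808db0f26064706b40ade011204ca05690e5802c70dcd067401d1026b08650f44071c00b4039b05960e4407c606db0b24090705ce0b570eb009f6020e023500d6041b07fe0aa407e4083400180c1e0bae064b0c7b090a04730efb0050088b0cd20caf0ed80cd30053021e051f0248073a04de06ed08c3029503530e7b03b70262003e02f60902028a0bcb06330480032c03fa08f709910c8205b102410a1d0ddc067f043c06d80559003808c90500074900860aff06c304e3045e08fe079f00bb0e6006730a660c1b07ff014304810c6e026e0738008a02510a310690029200830a270b470a9706ff07de08220bf908440b09093e06a403f8004e007f00a80b4e02c006bb0f750c0604150968077300fa08900a5302a80e540a7a087e01ae05660a750a030873075a0ab9087f00310090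06c206fd033b0bd8005b06660f0e0f57038f09f908390b410b730ace04940c3e03290945048a0b8108ec06a10990086c0f860b4f074f040a08b20f210d15033700f100d30e2906680d2c02660c8b00ea034904fa09ec006b0cfe07590dae05f10e0f0afe007a06b20c2b0a400bdb045d0f5b050c0658024c0ec10e2f0ec40dff06180497079206a60d9b0c180cda0e63093a00ba075605ec0c6102fd097e0150059d0b7a08400ac204ce0c570db20fa804b304d606fc0b990b2902bb06fe021d0770097902230cb00c1107ec0e8d05430c9e0d260d4b083107750eea065b02d707510ea40e9d0f28098201ca053c0eaa0deb070408d103a70bee0a6f0e0801af081302de037b068e0166075f077106110f8c0e4f00ae083d0b4d05760bf705fb08750cbf067906930a38014502200a510b0706d108a801e308b80c250d8101c201180b5e03b6040d05670c7c0717067a0a6c094b0c5a08a90dbd00c1089c07e903810cf507ca07850a6105560bd00c1c0c3f07a10c3b0bf401000cfc05f8091b040804ba021c0b8008300ee5065207a403fb07ce09e30db40c1f061a01630d2e01d504dc046d0c3a0e6f0ec00a5c03dd04b90fd2008f0286023002810c0306630b6608c6001d08230d2a0b62040e0e9002b309ad09c80add025c020b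0ab20ccb00fb0f9100dc05cc0b900dce09b40d4803830aa606aa0711013701320a84024d05c400c9024e098008ee07c10e230b6902590ac301050d5e02ac057f069c03e10cd90f16003902dc0cdf0258089104e6036102c50b250c0a0f5606840eae0fb409fb0ef00ac603600294060109b701a908cd0b86035e07c20e3d07ea0e8c09d305af0366087b0b82024604b80964008503570f140cb90e9e05f60ba4080a0dd60f58036b0da702eb092a07d60dda0eba023c0e7e019009e40fc10d9f0ea10f650f2a0687004603b8057b00210e040b6101550f340c2f03920216037007980a3a0d560b5101ac08bb0bd609130c140de605d70cf209570ec60db501de0b3002760cd5055006e60e39029d07a80a0f0a900fd00750051101270f9b0fd80914061406e9094c09030432019b034d01ef0a2b07ed080505250fd707f90f8809920c7700140d3d0a7005fa001f00fe0fcd0c960f2b08260dab06f204d9054e02000da9044c03d90f090a34052d04510a640ce808d0050b0f48054c085e0a71018f0f3901d2031f00890299066504f00d16014b0887031e0846039f039d066a0268021b08bf0dbf0e33053607cc0c4c0d3906ae09cc0ba80b44045c06dc0e970fbc0c270e360e4e06a907860f2e0fda0fce082d0ae608e30a570092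0b0c0311089901f803090af907600518063a0ec50df70cca074505f202ad0c940fb702aa0e8500bf086f0de70b6d077f08e106430a2403de0c9d009c02ae00b309420ee20fc603ae0f5906d70df609f009000c010eff02cb0cc5012200f4008d0e00028909d90ab1022d03cc0edd07c902900b4905a20f53095e071d009f07da0b790eee00d80fc20b12018e02b40cd70eac050604fe0915043403050f7a02ed0cce05870855056a0a1605ca030d004f0fd5003a04070c750fb10da40fba00d208f00d830c740a9b07e0067604bc05ab06cb093309dc09f50d3501f2064007970d460e37041904260bc8056807820bda02c60343048f09d80bb0068a0956084b0b9503450181031701bf06ab086b0ba907a502d60ed20f4b05c6001a091e00f20a56082a0b46087c0d1e02af006306f4077705580829098108a10966064208a20dfc0df30edf0bf20f370cdb02360597010f024a03540513033a0ae009b20c990fca0a32006f007d017b0b9d0f1702db0a7905ff061d0bb80c5602ff0106099a04bb02600fb809f7001003e90abe0edb000605070d660db00b3e0df1030b036c01560167046e077d0c4e0aaf0ac0081606c40c640de50ebc08df08e20f2904a303a9076a0aac013907f3097c050e0c8d0d9106d604e505e805e70a44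0b6a0ccc03b1059901400bc4052a00ec020509a2011103a80de1080e0fac0110014c0b5d0b650cef08eb0a2806d008410ddb05f70d210aca0dad0b60043b073e05d6096a05c80f810b4308f80fb3064f040506ef05700be405d90e06044a006d07df05f909ae0f200db101bb00610c330222030a0e57092c03d30411051b0120031c0d4106dd072c063e08ff0cf30418031b03ca09a008030b7b03740ed608790b0806da00e60acf00b90fc304f60b50047b0ed30e1f06300bce081f04af0aef0a96048b018b0983051a002808ed08e406d90f4509c1072205a30a770b7d006e01aa08330e41060f0e81055c0233005f055d04e208a7063603030ada000d01760539017f08830e79065900010a1c0f4e019705e000bc09d103c208450091024f07dc0b8e0bd10bfb0ea601780def09ce0f9c01510f9007340563089a052200110d590c450dc609d20af503b30a2d0aab0fc50f5104500e400bcf01150440049d091a08600b7e0d68080006f6093f0e67009607350a1507540c400210014e00350dd800ac0a91060409960cea0aa809470dde00e50bdd0627027407bc0a2f0a550400053d03fe012307c305350f600c2a0d020d140fa20e1b015d000c01b000e200ab01590c9c0183016404e002bc038c09e50cbe0d2208f60a9306f1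0e6e0aa107550b94063f002d03eb00f606e300b609fc090f00f90dc20d8a06a70b1803330cff05e307210f2c0688017a02f202b00c830c7809870aa705470e13090804cb0d730967037908ab019a02e70d71044b010a08e60e2b0aee0dc10b6c04830ad40afa00540397062d0d270fc4089d06df0eeb0f1a058a01b104c102ab0fcb0de309780ad5015701ad059a0c6f0b5f0b2d033401eb0b1007a007d5056b06570aea09e10b4004f700d700b800af03560b9b031603e00e0e09720d5f0eb3054b0dea042c043008710680069b035a0bbb02980b890485068f07d707f500fc04dd035b0e9b0c5506ee01fd084d0f1e0d2f04db00c6050904da0d060537012b0825078e0c4b060504bf09410be200020dc90c7606920ab403a6025a005202da04710a5f01c00cf40e8a027c036e0e9f02d50d2300d00e0a0f52050a0ae105b90ce40f9901a60b7f0afc0b590b0000a20d850d72059206a307db0d1b08e7011c09bf07a302f80867072e0bb902c903200c5909da0f9200a309e803070cc0079a0ea3063b065a0769062b084e098e0bdc083f08280ba009590895044704d205aa06350ac1087a0e35026501850da209160cbd029e0ec70c9b0f9f068508a60b980b5a0c6904ac047403b901460e770b710e3204b104b702a60c0b025b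0bef0d010b27018900ce02e5099304d8011d08f90a6009880f8d07930b170f8e0b7806f70ee80b4500290cd600ee0e0d0a4c073c0ef905c104600ef20201032e0e210ac7071805d00b8507360ad70cab0234004909010654078c0a090c9706c50a3d06690ecd0e70073d0ba205a6039a041e03380ab30ac80308025f09190c890be70b910ec30dd300e40208014a0f8b017d0c30099d06830b3700690b5509a60cee0a7b00580f020e3102c10edc02d20ed10aec06e0080c0b2007520d2905a4068902f70a940f3f049f08690eaf033c03640bca016e0f1b00de0bf0018704130f7d096508e00d530910079e084c0516000006e10976052400bd0218081506d204bd0bad01b702e3083505950d4a076d0f1d06de03aa0c6a003f07c50d90053b05b60c8a0e1e01dd0c730f940dfe08c403f105b40a8d04ec0b1a008e05ea0fa609db04ff017c0ad3027a081d0e930e270d5b0d6c052c060203230d3102df071f07cd0f0506090a3503d508c50e550dfd0e6c0acb09c7085f0a9c08770a1e036f0d89057e09710b2b0c17012e041000710b0f031306160fd3089308920efd0c9a007c078f034c0e5f08070c6605ba032d0e1a04df04870864042709f208700d8d02c3044101e802a0069105b70bd90e140a67022a09290422086e0458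08f20fad0a5a00ca0ca106990c920f6403a30e980136047205de0703005a05cf062401cb061b0bf60d950ba602b10a2a02880ced029a091706d3001201350d97067e017906550824094404ea03f70f8f0eed0b0a0f9d026d075c088d0f0c08d70bdf062f03e60d0a06f804cc01e50f4305710e110d9300e10766016f0025092d00c80fae035503c402e80ed503590a4d05f30dc30ce60a0604750ef4034a0d940acd00a90cf104280448058e086600770ca60c7104f40753092b0beb09090ab60b630e0901f707f400970f74004c0ec20e610818081b0f250ee00b9f08e501140aa500fd03520d7902d000cb09e9002a09bd01d309af074203a00c10047907840ceb0c54009b0af30f850f820dd001e9042407bf0ae406250c8e08100c360724099707bb0fa5031400f50e8f00340cc80e3f09b6060a0130088a0c0d0e860dbc0c4f09d0063903e807f2023f035c0bbd0dc800230d9d0852082c0d740977016a063d01fe043808d30faf09e002d80277089801d00b2109b107050727038808b5093503ee02e10ea00d19008b0b9c06130934000703e70fa30b310ef5041a074e083a0d28056c0e920e42033609a5005c0f19015306190f7c05a1032a0d3602930a4308940f5a0b970817049607ab05db0bba07320a890729072609be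06ad00750b0101c50327001906d40429031002fe0b060384059107810bec002f02dd03040fab01800f69033f01c70764013b071e000a0634091808be0a990a820a2506b80c6000720f760b0203f606b90dc008320c910efa06c003ab0e47031d02060dfb0ebd0e840de0089f0f660f240e8206500c8807e102c40c870f4000ff0d7e0b1904e10e620b4c00e703ce0170010109040e950d4f03e2082f0b4802a20dfa05da01650737027907720de80b8c0bac000b0f4c0f6b0f6708380d5705480cb101e60393057a06bf0bc705bb07120f18012908ac0a88033904390dbe01070254025701bd0ea503960c3501770f84069803be0b960b23098f0ee90e2c0c4a05c700c0044e015c0c3202f40e4c09b507e60e0b04560d0f09ba077908620239057206d502fa0d8001490c530e0205d307e20d550fb50df50ba108720e05046b05140eb803180faa093202e609d70102073f011703ad013f07400eab0d5104d1057305d8090b0ef6053e0e5205c902ec0c2100f0067c00b50cc10bd204f8090c084901c103780b6e0d8c06450027085305ee00330a740ab70e7c02bd0b3f0fd10a9a092401fc08680e83010401ee0ea907c000f307be0ef70f040a920baa0d690b7705a004b20ca50f010ded0d7c061c03d60d0805050fa10e8e079c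037d08b9052304fc05940e2002f001b8048c0a4b0747018209630a830f62021a0c5f09b90161027203f00600007008540d540116012c0024049202d109490ecb084701210221005603260d70058300b0080400360e940344045f0ca20dd50dc7021f06be0a070bb40ab80c7001e007eb0e74088e0224036a095b042e01c304ab062a089e08850adf071601f50fbb05be0ea200f7054a099f0ecc099e0d490be0067d0c4401a1076e04640bfc0225047609ff017e0c8f0b520dd70fc007a90e7d019601b40508022900dd01a304cd0a620e890aaa0e3e0e5d0d6103ea010d0ad80d32077e04160d82001b035808430cc3033d0d4509fd05f5070c0f3308af0a1903af0bfd02cf0e340a290e4a064c0cc40c860a420a370e220a3002a405200731073b058003750a22074a058408d40bb6055400200ce70dcf0ea809d505e200e005780b3201440ef10f6808fd03bf09050e590ce50d7604c30e170372064d0b5808d2046c067b0b3b04f10d40075807910d7f0d4e0d4302ef069505dd0bab01f104e90b4a0c1d04d403c60fd60c50060801260fb006eb09a909a104a9085008480e3800a4043608fb0748008c053305eb01ec097d04d0022f007e09280da608b00857097a067806e500cc093104c708140e6600a00d7a08c104cf0b0d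01cf0d4d04460d9206f006530bb10c6b04530062078a02e203e4032f01d7092f04210a17013e00940582077b043306af0017063102f10504000906060ad904c80a4708c707130cd405100aeb08f5070a01a80f0a065d03cd055203680c2901340c850953008806ec01c80be909060a41049c05d40005065f0b720f870df0040b07aa0afd023b0c160daf0131011a00ed09380a720e8805b0078908e9096009700a4e0763096d02440b680f5506b70247035d02520489029105d10dd106c909e60e4900eb05ac09a707390d630d780bb70a3604e70b8402a109460cf6003d0bff020a016d0baf094d05ae01f00a7f0032012f0d6d0d640a7d0c800da10cbc0c41070d0c5c06100484026f050f09eb0fa407c40cf903d701d90c8c02780b8a059b0fc80be50f3a0c5e099c0e1d0b3506ce0c280bfe0bb3004708bd067701f9016c0a6e06b507150a520a45046700570c0404680f5d02a30b870d1a08010a580a5b0b1f0e7a08d50d620bbc02a50a260f7f02a90cb60f4d0ba50e9a0521013a01b20a1202ba0e1004490d3f0e4308d80bd4068c081a00600ce10a7e030f0d52094a020c0da505cb038700c70ccf0f10039403b00af8085803c80ac403ba0bbe0afb0a98099b03db0e6506370d8809fe01e70e0300040d8e00d407d30048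0bd50fb9022c0a6d028c0c52066f0ddf04a80888011b00640e19069609bc0f700515072d0406019f0e28025e097b056400d103a50c7d002c0911032b028709d404020eb6031207570c2d053f05d202150477059001a40abf0c5b0e8b03b40ca709ed06210ed4009500e9027101cd02ee00c50a8a0f1f054d09aa0be6050d02fc0ccd01d8016205b50ae5018c02c804c20d6f04d50f7703ac0abb0417071008fa0eb904660ce0085b0c58018a03e306320c020d6503890f4f023d076507b20adb0b64075d09f80c9008200a3302d40d6707000eda01e403850f1c03980d5a01fb003b00800e5e09d6077c012a0c370808038a0ddd0ede0d12000e0db30a1009ac09390dcc01c9082e01b906b10ec906460cbb06cd0d2d07ad03df08fc04c5080f0391066c061208ca078b05a507fb046208110d130f73001600cf0cfb04910589064a028b025d0f1205170de40c3908ad0ad6048607ac0a8c01cc03d80d100fb60fbf07b404550fc70f9e07af0dd9075e08ae0a020d2b04ed0eec07f70b0b0cc707d20cdd088009a3066e04440c260d0d06bd0ac503480b8d0cb50dba088c042d02ea0ed7009e04c0023e089b01190a5e05bc05a802cd0f610a5d02b7052b028405ef0d9c03d007230199046f005d09df03220f060e3c07bd095103c9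085100da0fb206ac06f3020402b601380aba042f03d107e30557010b0bed0886088108d60caa037c002e011307780daa0f46046908c00a5004030ebe043104900a9e049909c5055507330a6a0b6b07960d8603a1079b0532095003ff08ef0b3a041f0044069e02b50889029b0b3301da0e680493083e07c706700e6a07b1058b034b0d00064803860a680da3011f0d9e093c074d0bd30cdc02110b39091f01f60708017206b00c3c0306055105c30a5905860228072801d60d440e180c240aad0457096b0c0e063808060b930b11083c074c0eef0799041d0be1095f0d1f006c03c3074b0ad00fcf07cf07b00f9605750b74003c0f080ca3031906e706fb007603010940013c0c93096105440e9c0f3b0015056207d801db02e90cc6097f08020b5b0a800617094f031505010b8809a802ca00790b9a0a230f7e0b830d370d60019d0b75030e08cb05e40ec80b2800870f00056f00a104d70d3a0c0504b505ed03d408cc0821086100b10b2f0ca806670d1d0cf00f970c23020308e802f3085a023208190cac012804ef0b5605b80dec0662025603c70c34076f0bbf07140c0c0bc509270b760e2e05600f0f0c00068b020f02610a080f2d00ef0c490d6b0e3b0cf806280bb2028e00a7019e09250a480b9e0e2603c107d10530040f02850b5c0cde04c9010c079d01f30f6f054f06a0082b04120eca058803cf051d00030a05035109c60bf80a780f13037608f104d30bcd02e40173009809ca0c8405a907f108ba0fa70192081207b3047f04be02e00d0904fd08b602c202130022071b080b063c,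
  0xfff0ffe0ffd0ffc0ffb0ffa0ff90ff80ff70ff60ff50ff40ff30ff20ff10ff00fef0fee0fed0fec0feb0fea0fe90fe80fe70fe60fe50fe40fe30fe20fe10fe00fdf0fde0fdd0fdc04f607dc02a20c6e05ad06cd01dd082d06b506e00d9b03ee07a000e909a80b8f03570c1103cb076d06720a81082b082e029c03bb0e7c0e4300c008df0a640b6c05f505a702e703080cb40c39041e037d05fa0e470dc6005d0c52056c08e00f0a0c5c0ce5049805da05d30c870bbb0cfc058801c50d8b025a06c807960917056f096e0df20e1b0ad90dc10d0405c607a30563062005d9018404a40c970504077d0f83061d0f060a1502220b0e02d8014900fb08d10e8a0f300e3e04ed07d101be0c3f09c8021d012200ed077e0daa0cea035305670dc40bbd0100085005930e6d0e6801440b6e054f02ae0c2a09700068031a0d920ee40ce102fb09990dfc0d0d026c0a740b400e820fcc0b1f0a790bca039102ba066507ea0f4f016007e3040002a30663099d0507014700aa06e9014d06be0c220c1b0a6800a4031c0296085503f1039d0f20093807b20334093e00780bac0a7f0bf30b480f5005d6091b036500b4096400eb047705c502a90f6e03c90dac08a20b0d03c8028209b803b40e3a07030c420e1f0f69076c00ac088300ea0e89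03ba07ab01620ee809fa08a80aa607b70e4c071f00040bd80ba502d90bf1048a05480e5c075f01b70ecb03f30983035905e00f8c01370e600b2d01770b4a01ab02b308e40b2107910e8501510330029509fe02ca0a2a02800d0a0f1e08590a2d02a0074e0e8e046e0b7d0d800ea4051d09370a03062900ec001e08a70eb20a4c0f1b00ae05410d730e500f7e0bdd0a9c04cc057400bf0b6907a209ee0d15075b04e6016b0cba0ca00d7b00fa05ba0d35077102fc09020d7505e2058f0a5c03fa0f0b0c6604f800c6080607150ed60bee01f90484044f0a6a08cf007004e80c710d740ebd0dcf07bc0f1a09d7007f0261020c0bb20d49004a09c007e5055a056604470f2c03030dd00c980d09070503f40eba0ae80130049d0e28030d0d160d2a037c0ca101db02b40b050179041d058907060e30085a0b970f820d140e6f081d0ee30a5e0bba070c0687052c0cfe08f207460f43096f01b90cf003210fbf0b30052503a102ff088c03db0b230d7d095602de0f740d6108560f0d03610b880f030eb7042301f3002e0c06041705540af907c105ff0a590fb2095103ab0df70cd106aa039605030a260ef20d93029800f60d3e0df80e27008c0b8e0bb9059e0c930d7109b507db0dd90d510072084b0acd0299052a090a0c050ef104f7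064b0dc009df0689093d0dd40fc307c2042206a30aef0584009f0aaa067f09050dda05720aed0ea603e80d9e04c20d1704e006770d5d03e103dc043c0ce80196005a089805750c8f0e010de7016501de028c0bed0a500dbf017a06d303b60daf02710cc10ca90ba80ac407090d980e42095409af08ed066a0e0f0b520f54049a0203023600000f2b053c06fc031e05450a9f015a028e0caf0b1b0c7b0c7702190a8408da06f607d505730e950cb6012a096a015e0e380f8b03f90a8b03d20d4d0e510b9c0ee108c00c6b03d802fa00650ceb00df028b042407e1078d0738041b0bcc019105bc01d408fc0a92057c0d55060a09f00ba302420c9009e40fc20da50751032c0be30fc608f30cbe0c0f01ea06ab05f20ca407270aeb0c41003e03390a890f840c2109d6075604ab0a410d0607fa0fa90cbf092b01d1048202c80f0407f406a001cd04b605c303e703ed01e104bc05fe004d0198020b07b10ce40c2e0cc20998025408ca059a0c3600e2043a030b084104b50b5903be088d05f1097e09db00cc0794042f0a5404e40ab400c90e070edd0e9a06510eea0f2e04c00042073d0bd401b2031700e10fb40394089a0c3304370f530e92060101c104080dfa075a01780dab032d04700fc10ba10cc3092c07370908073f0e750699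0cdf0ab205df069502bf04250ef903a70da601bb03da079202a108c3075e0a3a0aa40e8606b9013808e805120bbc06e40010009e09a70d1b08030ac60f4b08c40abb003801dc0fc50ae101d906410e03078005fd09b40c8003540eef09aa0de10d8d069a0aec0ab6055106610fc00e80006d02480ab304d008840c820bdb0b570d8f05f40c9b059d01bc0c4a0a110bc700fe076b03900aba00b00b260c0e022a0a340c25023a0659080d0c560c5a065e058a06cb07ba0c9f0bcb0b3a058b0a3f0e880e0005b10eb000560d00053e0ccf06f00aae0af20f1601020bf50e7a03d709b101d004010acb03780bc10abc0b580bda00fd01ee02f10fad0e5f0ba2034806680b340061063c0c4803c1029e09be0b610e56067b040700930ac00c080650018204eb0d7e0c890074065c002c0b790d46049c012e0f1d0bc60b5603c003700753083a04c80d0e029a04b301b50cd50cdb009a072102bd08cd04f001330da4035b0b8c07c9020d07a6012500570e790d7808c70b3103f009790d58029409c600e00170079907cd0b89096108b7089204ad0a7b0e1200810df308190485080c0b250fbb0ec60e940c2b02ce00b20b50002d00950a4e0ce90c4b0be802340e6600d5003b04ea0bfd06dd065b0b4904c703e6032e0cf309f1042d07d7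09850900078b0e5b033c0e5502860a8208460f7b09750afb091f03a80a4a0d9903a40b1209c407240b430c8801b105c90f5d07e00e52091904b10024087305a60b71091d083f093f040f00b90fda0adc0aa2088b0cbb0afd010b08cc0343080e0bad07290eda09120f290489060f051709870de8068a0a000fd900cd0c1605280758050901890dca03490202044d09f403ef080f013e0c53083200910416017d06930f7d05d80e8b0f7502d7074a02440d030684035005470f760079037e099501990577027c0232050f0cdd0e640cfa0284068b09740018012301f0031209f201a4041a058309f50f4e0d450b4b08af0f950b01065602c901860f590bb303d60c09068d058005160c9503c704d90c6a0bd703aa0f5f035e00540b040b5c085107be0e04003c016f03f60de60fa80040034a06ff095a0c500b660d1c083705150f100d22062b076e095f0bf40c920f1c06230e0a09810c4f081a0617069106960aff068f046d0cde05b2066908c106090b90006f0e360afe00410efa03d90e410197081b0c3b0bec04fb0c4d07d805bf0a330f6508860a02066c04c60eaa0c8e07100ea80c19032f056907e403bf06c2010906b1033500e502300183022f07f10263008a074000f2026b08cb079c0a7701fb0b620a47046b0a100454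02ed014b024901e4058d0c860d560f4107d00d47059206710bcf04a30da00ec506ad0c1804100f64033f0c27000e0db00c610dd30cda07cc01e802fd0b9e080b01ca0f2d088a07790c5f012b040b061000130b6d08fa0d77086105210ce60c7d00d903b8062403ac03cf02e402870d280fc80c69051408a30f1201580b3c096907630b1908b2060e097106330bae09ec05600bb404e90b840c2904c90da80c0b0be90ae303f709b206e7030201360487014a02cb079702010a070edf039204c1097a016c06e606c9016a028f000809c1090e0bd00eb804950e09021601080aa106150d36043201e604330c3a03d0025e054c05b303ce04ce0ce7087c0f6203310b3d0e5e0c70015d09d50a71086d0c5e08ab010c0e810a25089f0ec2064402a4073b033b0c6d0eac0a8d0e34045a045008d00aa90f9a0b08091107da0c600260019a02dc0777094b069804fa0b5e05c8081804f9072008c90c2309320a940790021b0d890d91093005850adb0e6b01130c200dee08850b700b82067a088800320ccc004b0a8a01a90add072b073c0835032606b40e9f0c1e0bc4041800f8030c0b65024a0ae70cd9036e0f270f1907410920065a0f0e0a1f083e07ca0e19099f042c02e502d60670029103eb0a58081402450f3403d108eb0fa003cc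055d0a49071a0864052207180a66024309920a350cfb0fae0efd09ba01a60a5d04ee0dd608f4055907440290015c0e9104b00011046907e60bd3071708440f850eb3018c00f107cf05eb0d5e0edc00da03dd07760ebe0fa7001702b9024c082800bc03ea070a050c061a004405cc01f108720dbe08b60aa00a2905ce058c0520050a038e04ba01ff062f0096072f01ef0cc70d8400990b3305e107670e7700b3009809cb04a00c910a0f0fb3053b0b78003d0ad40d6d0c570e700645040c07a704a602ad0a240c64031d001b078a04d305b8082307d30f00091a0bff0c790387013102d5013b0e4d0cd305cf03c4039b08a00e240e1d0ce000d70e6e0bd20f5c01bf0b74094e0b670fd00c4606ea0fbe0413070b0505037a09090c9d0fb70b8b013d0db1098201f6051c001c028100bb00050dd7011400200e1a0ced099407d60843001f00c50373011607140a5b0e7d0089056b0be10c490957047c0e2f0b9507260f4d09a902000605043b01b40e1c09cc00be07d4053308b50805085e0a010f07085d0e9708f601c600db007e04fe01c20dc80375065f0b070ac805490fb80aac015901520161009d06530fd6084a043005e50374022601920b9b0bde0c0007730d8307ff0b6f04040f3a0870080001da0bdc02e60b1c0946004e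0ef30fd106e803f202e0025d0a2007ef097b0db505aa04310f730311028a02dd0e780e690928003a05b0038f07c700e30ef702da014f0d5a02c4047508fd04cb094a05d10fd209d2074f027e0ab8074d05180c1406320b73050d0465048c05700cec020600d10ef50d3c0c7e0445025506570b1506b8017e022d0bf7061e0faa053a096c0e390dc7004c0ee90bc30c0a084202ec0ca306bf09840da90a700c2802f801a1095e0ac1062506fb0e20094c062105a90cef049107ee0aea0d9701500180002900b60285086b09d80976047806cc04740ed70be00a6c0cd80643007c0a9a03150ec105390d250395061b01ec0a1d002106ee0d9d0578086309770df0003009bf0c340d7a0820012d052901fe0a5f0581064902520d26048f04c5021c04550a4404c304ec08ba03840273062602d00935089e0ec40f0803fd0ec00747020a041c08ac035601b00f350761051a087f0be700c80c0c001604920c40005b0af600060b530b1701d705260d2708b406af0e1e063b03fe0cdc08e1064f0eec0ad304a5067805b7016407e201f200230ba0055e0b2b018105d2099107f8064a0c350e5803280d0505940b9d0cad0a78064c09ef0f4005de03e000a6029b0c4e0e26063f06520a63021e0f9201b60e9c019b06ef0bd10c380fc70a83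030f0c9e0b98025807600fdb0d5207120efe03580b7e05ed09c2097f02d3075d0d70043908ef047306190595011c0dad0f9e02a60faf035a043f019f0b2c0b2803ca02b10275070e08b30c0d09c700660927074203e4027706d009b3025c04560e73064009ae02210f1f065d0f9b049e075003830e57094203ae07890301058e06df05dd0d210952027402be0b0a05020e4b0d570ac20bf20fab0d0c0bf8087405a00875098c04b801ce0e490a8e06f80e4e069c0eb408a60d29016305110e620a6f043e0fd706db0f6807d2089103a90a9109da004309ab078800e401550c750e630a8c0464061605c203e901cb0ef00ebb00b1001d05010dd10f21072c048b063e06fe00920dd200460a4800150d1009e90fd80d7203510d8808db07fd03860cb2098a036c08020c9908bf0d230d3900770ac50d2d008d02df0bbe0de506c60f3f0c470d5405570cf608e9035c0cff002809a60c760ea004d60305025103b008f80c120111045f0f420c7f0435018a002b0af306a40a7309a00ede0d1309410dff06390bef097c032503c308960c0409a10ab50bcd0bdf042604900bd90db7047e02a80bce0fd401010dde02310b6000cb0ed404d506f7068e006a0b4f05a808f70e1705ef0ea104ef0e2d069f0b640f2209070063071106300d3b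0a090f310eb60d950b7204bb00c40c850472095d02b705e405be0e250ac901560b3e0e8d0c5d04d400b80e4a0e7100d8005305f70fb90a36026a0f7a0562044805b409060e330e6a0b850d30052705a3017b0a65042e05520576056501060a7e0bb50f810309067d0f89007609fb018b079e055b0bb70f32054e064800ce04a10a2208d80cb909ad0e5d06e5011a05e70a75023f000c00d0032a01ed0e90092604bf0fa60d320b1406850e9605f30ca60250008e0a7c09e501c701740f5a0baa0368082a0f33036a007a0922099c01480db20442081e0f9405f60543094f0b510d4a04760047019e04d10b830cc50f090adf04e200e70fb60b8a05d506a700820f39074c0cf20a9509800acc0dcb0e8f066d034b0c780ab901a3086202eb05f909dc044c0f8806c70a130804045307c308c80119092e0e48023b03600bf605c40e1007b506880a0b09ff09a3090f0de203fc04680d2c013a0ce206f50d900a690f670c680757054b042901200ecc04be0dcd0ae60c730d2f09e200c70d8105bb056d069d027f0f25060308760e4407bd0aca07ce0c8a0cbc086705bd0d0b06dc06940cf506f306ed0865040a0f440da205550d7f0a53062c0ec7079503640b99092f005f006e0cac096d057904e30b5a077a051b06eb08530c3c0de4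0a3d0f0201c3047b0c3d04660c9a01460abf0d9c05e60e8302e108ae0e93068601c0023e05af098b06a102b2074b0f8a074302680ad20b350bf00a7203b101fd0654093607870a5604ca0a1e07b40924040602d40e0602570ef808a509fd0dc206d90ad6008404de0fb105c00b420cfd01760933086e0f4a0de903f8090309a50d9406020c6f0f370cae066f0a190ea70536025308bc0166044b0f5e0362030e09c5039f00ff0479045105350ae90f900ad00f460da10a080438071e0bb806ce04670bf9069b031907dd0f97072804ff0a930262089405b90b5b0f72048d0288003507130a850235096502c007c40b4405ca0e0d01f80a6b061207f0008b0e210f2303240048036306c4033a094300a101e00f050a0608dd00d405960b100887019d0a32083b0c96060406f1048606e1076203bd08490a9602ab04960860049b085c047f04120269007505ea0b630073094808b00634092d06080ef600850ee508990cd40587032b03d506220a4209ed0b2e035d00520910020506b706bc05e8056a0c8c097d01f404db06580e530a3102920b3b07df025b0c65015b0ded0efb020703270fcf014009dd0a400f5600f4083108d60e99087a019302670847072501ba0d8e01540c7408ee04f105d70a1406920eab00a206600fa40142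0af106420ed20d5b0ed1026605ac0d1d0878039c053407980a3e0a5a0eeb03360080057d0ca20427046c06de054a0a990da70fc40e160cb1098e0ec80b2f027d0f860cee02650c8304b70239011d0de007f702c705ab0eaf02b60a450a61082c004908d20b4d08d40b360cd008ce03b90e3507fc04610abe09bd037205ec03980ee604f40748038801d3081606ae05420270050009b702f206e203290af004dc055f0e3c0459071b0b6a06cf02f00d6c03df009c05980fd506d100870bfc0460007d0a4b0afa060604a707cb05530a4300f70c1508b90f3e03ec07070506085401af00c20fac0c37095802890e54059708fe01c409d102cf0dcc078602f30097011805a102e9082605100ae0042800bd00260b68012c09a208d9084c0fcd079302f707c8073a010e08e5054000ba024b0246038904bd07aa022e0c2f01fa0546030405dc0ccb0d7608a406070e720a300d69037b0c2d00a003460bfa0c4501e5099001b80c9c00510209056800cf05a40c02000d06c103140a37015f02a50e6104210af80f8d034f0a3806280233000b00a508a10cb000250968046209f806c50c1f01570f0c06d50a6003a509340d1e083603cd08300eb9044908e70a460f510e2b07fe040e0736006c045c0d6a010f0031062e08d50817026e0b1d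06bd0f140953005807780c1a0ee708f1030a04cf00a300220db902c604b40813047d08a9027b0a1c04150716096706b0008f0a5709440f6c063a06110f0f0fba09d403200d1f0e0c0379066e0530085202f509e00b020807082107ec011e0c670d0201120b6b09a40ae408aa07b90121010d0d680f6102240e22092100dc07b60fa10497098f09d00d18059b0e7606c009e3072e0e400a3b0d410fb505ee051301050d9600c3061f06310e7b0b2a0e3b0a7a0c4407c000e8096009890986006200360b9606660ea3005e0cab09fc091404c400f30c1d0f28012604df04460a520a3c06d202a703d40db60537040d044406470ca70a8804f50749008808ff013f0cb5071c05fc008607650e7403520c310719025f0e6c0214031f0dce0a6e019508900e980a9700ca0a2e036900a902120b870d6b067c02b801a20dae038a05db07ae0bb00e8703410fce0f450f130e3703af08ad078f0188036d0ade08fb001a00020d12081007590eca0f710e3100f50e080ebf08110d3f0ed80c3e01ac0b1e0d1900fc03a20d400def05ae01e902b00f800cbd024e0ab100b5045809960b16088f087d05d4004f0a760b7a013402790f4c054408340b920f2603c60ed306fd034e06ac00340f7c0cc904f209180fcb09d301d202230d9a0c630d44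0646044003400af70ace0eee07f507b0084f01c907a800ee01a00dea02f90f98083909bc00690a0a0a2b06000e46095b06800aa70f8f0c5b0ed00ecd0f3d05f8047a061807220f38043d075c050803420217059c0ee0076a01df0d3a0e650d2e041902aa037604b208e60edb0cf402af0a8606c3031809ce07ed05e30e9b0af5057b003700710b06038509f7036f0ddb05190f48018d067907c60c1004f3012f0d20064d06730c810c7204af05560b55028d073209ea0dd80bc9023701ae05a50a12052d024706a508010b46000301710e9d099b0697045d0117018701e703b50f8706900ea201d801430a160fbd05fb048304880229089302f40480016e04ae07f9044306d60eed0f700a5507a40ea90731010300ef0127036609c90f2f03930c260993092a0f3b0d1a0316058600a708820deb05cb048e0e0b0b9300ad0ac30d4b0c840cb70829002a06f2089d0a0505610abd070203a60381077206130d62017303220915000101f50f1807b30af404fc022507fb0c8d072d09500e2a013906f404d802bb010a0df5018509450323079f0128000a07a502c10ce307690c7a060d02180db803000c030cca0caa03370d9f04090857078304e703e5093b0f9c0a6200090f490228001409bb0aaf029f00670c2c0e2e096602fe002f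0ca507f30b80042001eb0b7c0cf80d6003b206b30bbf0a8f0734089706ba02640532086a053d0129054d0824082701bd0eb10cc40db406a805640a23019c0f6b0a4f0d66085f0ba6017207a10ed50f1707c5045207f606820df60895067e06d704810b4e0278039e08330c4c0ba4000f035f0c580acf07bb03440858022005c70cd608dc052f01a503fb06e3088002e80cd20f7f052b03a0087704cd03450baf0b7b0f240eb506fa0bfe08c6041109f60d3d049408d306a9091c075403320c5908c50c010cb80da30e0203060a6d0a040a6707e70fa3098807520e45011b017f0c300d110b7f04a80a180bb10e9e0b39020e0e0506140aa80256095c040204b903c202ac04d702e30939065500a80a9d090b0ba70f2a0141078e018e09b9064e062d0060099e079d089c0a2f07230be406bb02ea09f30b270e840b770104031b0ead0169044a0107011f063504d20b320eae08de0b4c055c084500dd0d5f0a1b0ebc0f5206740d8a076f0bd60c5503800d850b3701150397022c0d310f990e2902830cc805230ddd0a0e0dbb0de3080901fc05b5038c08c200e60e13023d0f3c03de022b042b0f8e0110022701cc0aa5043609e809e108250e2c090c0dc5076401d507af0e5a0fb00d590be60c6c0a1a050e04fd02c5063601940059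0913077b09630949066b084e02080b0007b80fc905cd0fd30355088e04da051f03e3008302c304a20bc804030d7c0770040508bb02db00f00d50089b02f602c202cd034c0a0d0708067606380d2b0f58045e0fca018f08400c620f01070f049f0f4709c30d3807e90aad0dba0ad10e320297087e0d640f77098d070d081203f50dbd0e4f08b10dc30a870aee081f077f0538066202b5073008bd073309cd01aa01cf0f550ab002d2068c0c1c00ab020f0d0f0b0c09b601b30b3800de0b410d4e0be503070bc00d650b13046a06270599078c0cd709ac08ec0d5c0b9102400f660e3f0871021a0a7d0dbc029d093a0550023c0c54082207040bc50db306810cf7045b086f077509cf0aa308380cf10d4f02e20b3f085b0a0c069e0055080a0afc04dd0997002702ee093c0664099a0ab7082f07e80bb60a280a4d031004ac033d04e50df40848021f059000640c070bea034d0e18005c0d860df106670d53016804570ad70b9a0ec300f9033e0bc2037f046302100b1802d10d43014506b602720175091603c5051e036b0e3d06da0dfd0ef403670f6a0b290c8b016d09780ec907bf08890b470a8007010d480d8c07000fa5006b09590d4c0132079a02bc0bd50b2008f9059f0d3709e603ff03bc09620b94024107390efc0ea50b1a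05710d6704aa01e30f910e14014c0414077c01670785093103d307d9078407de01ad0b5d0cc6021503770e6703ad0ddc0f960259086900d60b090c43090d0a900a270fa2038b0c2409f90dc907ad03a301c809b002cc055803e2009b0a980ae50ece0e8c00af058204710955027a00c10c94026d0fbc0c7c0ed90e0e013508b80a51038d0090024f07f20bab01a70d8709e70d4203710f60081500450b0b08680cce057f0f7900d209ca094d060c0b9f0f6d088104930d630b5f0940003304340be209250901017c06f9068303b70ccd057e03330ee202380d0707810cc005f00e59056e081c075505240ba90c5101240beb0972021306750637072a0cb30f5b0d240dfe0b810ecf057a00940b75061c08f00dfb0f6f0aab046f050b0b760bfb0c320b5404e108660973003f08080d6f026f09eb05d00f9301530d3305c10e23073e02ef029306a60ddf096b05b602760ad5060b0b220a2107820f630f110b860f780f570923044e0c170d6e0f360df9013c0e7e0774083c05e90cf90d0109de07a90a3903380dd508ea0e1107680eff049906d40e7f086c039a062a0a170c13063d09d90f15042a0d7906a20d0801a80dec06b204a90a9b0a2c07350879079b0b2402110b0302040745052e0012031308e303470f9d071d0b1106ca00d3019007660ada0d8208be041f0a9e08d70b45014e053f05910b0f01e20ad803b300190ae2024d0ac708f503820b8d09040e1506ec0d34087b091e01d60947007b0f9f07ac04410050084d0ca8039905a201f700b708e206d8083d000707eb053100390929,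
  0xfff0ffe0ffd0ffc0ffb0ffa0ff90ff80ff70ff60ff50ff40ff30ff20ff10ff00fef0fee0fed0fec0feb0fea0fe90fe80fe70fe60fe50fe40fe30fe20fe10fe00fdf0fde0fdd0fdc00e80d9f099704bf00eb00120a0502ba0de004ad0d370bd00f770e0106c703340def08250844027a089d0dc0076402c101700cbe0e1c0670083a09f3086d0e6e0ace04f20634029608d8085200aa074a0e4a07310d6f0ef5053609a70ef3029c088b0dd10ab00d7209bb0d230b6a054f0bbd0982012803350a750f4e02ef058b0c95022f02000dd806330696062907b703160e040dd00911078902c4055e0acb0bdd068907d0011d04a20c2d03840a770a7c0b2309f80c7b097400a30228072a068e070e09d70c2b0e61091205b30a3707100f9d02840d9800f402c3011002a807090cf90f91093b0e390a930980001c042b07180032085105e10ca401dc03f9065d064f042e04c502a50c1f065f039a0ca003130ae20c510f11053b03c105e0023109420492023a006b0b690427033e04cf02d5068d0ee703a907270e900724078607f003820c5f02c20625030a0b6d04c9069800d4021d0ccc073a0f750f510a9c0c63056b042104370dd4027d0cc4009c05040b73037904cb0866019f0dc70fb900fb0e280bce0a1701d7004b056201f7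0f9e0caa09070a590af6025d06a808e509130fac023d06e703c50d73065a052e062a0ee9095a05bf06c00fc50f1d04de0e6a0be6056d0641085f02770c35017b0cdd059206950fce0d850ea200f502940ba403e000460a9b004800ac0dd705460a420f4709e50d9e0d8f0ab204d20ba801ab0b370ea60c700c460b3508e90190094105b901810688057d00400d4b050e07dd0bff0bf6029e027b0da70f9b0d6a02af070204ef07eb003b096b074809560a600de30d550bb000670c580252002d02190ef20b920318019508b9011c08b70cbb08490b9a09fb001d045407280429044f01a102d902ff01550c040a2b0f3a097c01e80a4e0df1080f02b701420adb05010c5c0a5006ff095002e3016e02fa0ea406fd065308a00b9b01fe0cb0074c03cd05880e5800ab0dd20e4b0560077d048e049d05a40e3d02630cc708d70f5d006f0eac07960c740bcf05e4065b07b103d80801072b030604110ee00a3e02570d5105a10a620fc70d710eb103eb0e65055d015a04ff018f0bba035006e006610a260fa708bd082a0cf60ab10d750aed0847000d0a8f09b00d60062f048b0c97065100c90b390b5e0f880ef70e0c0b3f0c0a0812097603260c82088405720acf07a10404023c00b003f1011301ff0741088006850db10f90014b0d56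02460e08036503f00c2106790d810b990dd60690081e091f02eb07a70b2703be030b07c90a310674044503f408b0081c054a0a0804740b1e052002ae000600970d8c0ee508070da40133086102dc03000a8c090907bd088e01d201520da000af0d540462029d084608ba05d2028d0029055a0e3a0da305690726022d01f505670ac4036801670b710f35027601a905970ae40b9e0a790a070a640917028801e007b8086a034900d10ccd055c0f5701c70374034207cd08640c610b1306a703600e520f520a0c032406940d7d06190eb007fa0c2e064302550ac7088a07110cf10359010704b70c470842049107d3000401c304c1037d08190bf10d5f0f5f0cd40fbf0a6807bf0704074b0a9804320f41047206970a100d1403810eff0b320f2207230d91039c0f620b89046a0db5024f0007039001930078056e014c03520fa90ce4013c04cd0448057e0d4d007402780d4809b50fcc04b005160792092707a9073402480d29087307a007c80c070ea10aec08560ce9043d03a609440ea30ee40d0305d1060e0502054b0e2207070bf0075f08930089064a080601a201e20bab0b170632068208a5099400220d1a0e380bb201de0f580ced069d0f160cf00717051105d90b1503b803ac05c30fba07ed0563068b059d08eb004303ff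0db80a81092c042009860c62007d06da0f170aa4082f00a60a7d086b0bbe0e750b0107790aef08e70094080201890cb108c10fd805d301910d7b01220ed10cdc045a0e990dfa0e7e03b30f1b0c780e3c087c07b60e810d1803e5042d0ef801d101b40d1702f009e20b8101fa093d0e5a040905570c4d00fd000f00fa0d070a360fd50d0e0bbc023000c303ea0e8a0df502a2092009490a95071c0bf30d100bf8046c0deb0ce005060c8d074d05d4002b0bf70c010dee05a903d600ad0ae80f6504a80f6b00270f610b360e6009000e2d0a61022909a409df045c02a907870e3e0b0203250d6e0d0b076a0f3b04100458071407f80a03099e0d70057909de038a037604670b8e009f04f601350f8e03ba04be0e8e0f0c0ba608f101d5059003a804c200910c7a0dbb00f902a30fcd05ea03af048502100e920bb907a802a001a7094a0a8505e7090f0512010d07b008f2032708ac00240d33025a0a8e012e0c420c1506a003b908550e5f02030ea50a15015e0d7c00050c2507730dc405370e5b032204a6011e086e08dd0e8005f30169038f09380b8504860dbc0de901a500900185026d03e8003d06490e8605e20aeb003301180f2900540fad0ddd059a04060f7f0ebb0305013109810ac3079c096c09d302b002d20eba01f908fe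09550af503850aee0a1608170a630d0f0ed307b40ee80a7002c70d0002830ea70bad03ec051b0816069305980ca305150da60e42086f06ba0165055504a40e6308d40999001e0b2b04630928000804df0d8d071e02860d7406460f4402de0640067f029b00b20e9108de06cf032109ab02f703b1059b010b0ec506f40d1e0c5008810f09063002e5082c073f0700055b057400390e07070603860a580c3c09d502fc04710a91021f0d4f02b90c5305c709a10c2c0ad00fb805b0011b02ad0a5c0402008402a109a002130ed402650d520bac01cf0212026b0a380cef0e300bf50ed001270bc80b3a01b503530d1d01fd00a1082201200fbb066004300e9801ce091e0ba701400b8f052a0ba9092907570a060b7901cb0d110fd70f480044052f0b3d09fe0fa20b06030d0c2a055402ea0c4c09520a0a03ed01b90ecc034300c70ad2009d00c805c606b10d1209d902340fb107ef05530aac02240f5509e80d32093900800405026902b201e10068034400f700620a120a7e0f80087f04d50f3c01c10021083b07520705032b079304e00a2507430aa2028a0eee08fd00380b49000108580a9e01f8066804f90ec105410f56061b09ba0c06019a0e480b7500bc0bc6098b05dc0f530a2a0e2b0cea0eaf0b1f055600fc0487098700b4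01e70ead02f407c406be0b1b0ca80f2b002608ad016a0add0f710655078a0d470c1d0c6b0bbb008508a9060f0ad90e6f02380b6506df036b058c0a0b05080778078006e9031c005e0ea0016b094005ff0b9708a303fd0f83005b009609050f6800250829023205be0f660e350a2f04b204b401c90a3501f4044b069f0d5b0d4908be0cf70a410ec20abb022a054302ee0c9f014f08340680051f0d2d0da9031f00b90e5e0fd3084c03070c59021c045f054702c6099d0b56091c06e6037b0ade087606ee00820ba005c4069909b105f809950d5d0b2f07700b8d0ccb0e8b06c20d8b044a0e33067a0ae10da20e7d008d025302500eab0fc206bf089a035a07ca0b28049c0e7f07da024e07850fdb0a5a0bc30a890e260663013608740da102e20a0d0ba3008f00510f380ce5084d012c0c8c03d3093f057309bc050b0a400d930e6404b30ce10aaf0e1d070c0c670eb508af0e7803dc076c096609e10455033c07080bca0ae90d6307de023f096e04d1098a0cde03b404b80d96071604bb0a2302330b7a024b07e90e410f8b009200490e97074701ac0119063605ec00d50edc06cb05fd0abe000902e002ab09bf036909b303b204f10e1105ee0b590c3e0b1a07dc0d24033a09b20c8b0e690aa308ed00580f2c09ca079b084f0df8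06f1081407f30dc206a10077017e03770e4e044407e108e2049a033f0db9062e08d90bd1016f09ef09f00b3106fc0ede080d0d4402590d9509c704ae07c306af000c0c32098e02020bc9045b00170fa002be000006aa06b606a301a80a690ee208f300d601c80cba099205270739022e0e6c0cbc049600ff09260a24072f0529047f01390e4d02560ec607ae0279094d0a200f590a1d087109ff097704680c72094b0a6a04af04dc00c40a19088702150d9a0fd9053f045d0bc5040b059102b409f90258058e0b4201f6042a0c240f980b5d0e2705960d2e0e620dfb0b3e035f04260ec906e50aba004c09bd08f7012b0a1c0ded0e890c2906b0056c025e07620198045702610eb6011a084a0c110f3f0484055004c30fbd0d990ddc072501e50aa508cf0ad40348049e040806070bdc00200199054e0c710c9309d1022008100e25074f0aa60fb4064c07a302040b8809f2067c020700e504bd053e097a044d0a220ab4050008970f7604e7049703e3018606f70875006c074606c10d0605ca0d300a5309b402600a1b047b0aa80fb203320b2a0cdb0b7205bd0e0d00db05a204d007e802410b5f01620575060907e707c60ad30fc4088808f8085b0b380a8a0d3f02f500dd06180fa107cb0b5209e30bb30ad5083504790ad60a47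00dc0e1a05f20505048c0803078d00a00378040105d607e20cfa06ed0e54026a0154022b0ca6063f044707b90e7401560c1901780c3801840a5e075b0b2e06f30d8402e1098301090bd30f6e01b006bb094e0d02036f015f02350d3c0354049903940a1f0c16029f05400a2c0dc60de401db0aa7046b0fd6056f0aca08fb0bcb0b070b2d0e180b8c0ac005680c1b0a30051a04800be4095d06620c180cac0ef90494025b0e9d022202490c3b0cdf04ec0f990a860f070cc30daa0a180af90b6b0d4005e303c309c906120465039b0cfc0b95097d0a7b097f0b7003bf0d080c8308d2016602ce0f1803d20b240c1c0d9d08b600130efc08c20b4e095c0cc2088d08000e14045306130d130e7a0e3106670be906c3099b00da08790ce7062c0e9c09670a8b02bf01bf09620bef0593044901640f000b530c9c003f076d05220b7c06830a88068c05610c7f06eb09430bfb034d0db2073b04460a900267089608a70d2203e906ca0d820dae033303bb02aa0a3a0d3a01f00e8d0e950ac50c3d0d210bc7014906d20b7d0d360f7d085009030d640439032800570b6f04830bb80dd90a9d0c9b0ec00fa308c9037005b4024504ab0d770c96070b040004b60153060201b8046d0aa10bfa0f3200de00bb0d3e08cc080504700c1204e306f5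018c005f07fc0cfb089200be08f0002307d1016109ae03990d57078308480d880d34008e04a706e300b50c4f0a2105ba0b1c0f40064b05760e5702c80d4309d60ed9052505c10d6608540f210b5a008801fc0d4209d202fb0f150b510a920eed0a6d012607ff0c7602540f96038d0f390482075d06a4097b01ea005903ef0e87030c0f460e360c8a015807ac0e490b600ec3086005c903d5031e03ae07990d9c06160eca0143013003f309fd05190c1a0d97009e068a0a8208830b7f01320c8f06e1052406b70be30e2a00ed08f90b450d7a0833013f0f0104db09db04ea0813093a0dd30e100e7603fb0776039109ea02400ac20cc90c0c0b8308990e9603f707940ebf0a6e0b3b0c870f1c0e2f0e7107530e32064207f9014e003404dd0efa07bb09b60af806030bfc004f0b180299087a08ef0fa60a7109af010e0b220f8403750c0f035d0cd2017d0f670d680ac10bee0a94058d0daf0c1e05af08240e150edd0caf03410bea0c5609c20dab031a0f500f7a0df40c4b0e0e045206730cfd020c08b4077708f507290d8007ba0c5a057000c50cd308c6091b069c03d90eb2012a0ecd04a50bde028103da08ce01630e8c030802230c860c200c8e02cd0f0a07df0d190650092d0d7900d707f1030f047e0d3106cd05a3065701b2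044c018b00d3083203fc02170a3d0fcf05030ad703a70003026208c40433052b03a204ba048a0771001507c50fb505b50965094606a604420ebc0d8602bb0cd50dcb0a0e0fd00dbf0c5b0e17057b0d5a0f7907fe01ba03b707be0eb8080c0ee6009b00410ba50db40b0f0a6b0fd40e8801290a010be2045e038b014d0428036601ee05b10329081f0b41058901d4063108a20b5b0dcf093400cb04c606ae0e3401160d58032a072c006607c10765078c060006c8091a0b3c085d064d031409e400930b1901e9084b06860f4508090730070f0b6307560f2e0ba20052034c0bec0bed077f089e0a9907c704f500f101f10cb304410ca90958075500630fd1090c0a49035e0e70019409b80c45066c09a6031208ff05ef0f6c0a0901a406fe03df06d4075c0a4d053d0490004a0eb9016c04b10b1001210ec402710ad10e590c020af1036306a9054801e302ac00ca0e770906005c0fd20bb601f201c0090a07910e5d0cee02cb08c70b550aae019e0a6705db0acd051009cc03800ecb018803b5075907d209320eda088c063705b207320d050d3802da077b07d9006d029204cc039d0dc80740062200ba007b077202d407130f4a0339075e007a04a1047d06710ecf0b0e05660ca5038902c0029a0a1a0302026601a604c8010604c7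098c0adc0f4b0d1f09680f820cc60f9c0a1e0cc80c0904510a74057f0ca105b8034f0f140bc100760f9a071b02740951043e01cc0070069109f509a30a560b5c099004f409220f19052304fc085e0251061d09a8008603c80ac60c8905210cf3071a0984036d087d0d6c0afa020606c5077e034601ca0ed8031b0f28051e0f4c0cd904da0e0b0f0606d80a52017202e403aa02980c9800110c2f05ac05170c4101b60e0a0a9f02440b5006d106dc0a780f780b860d7e0fb709470e0205950b2508780e120dba0a0f06c60afb0f640c7c03640422066a0e7b0cab03a10bb705c008940611018d0ce6041e08bf0ac9042f048108570dbd027e04a90da80060004508ab0c340acc0cf401970dbe00bd0c7305ce0e55081b014502db0b4b08a10180041a02430d670f72057809cf0faf07f20a8401470f31062300e906e8024d05cd042309540cc107af0e4304c40e4f04fa0a7f03970e83067701e40cbd01340885037107ad07f40b670b5706b307b30b0b036c0187014a006e0628086307fb05df00d20a800a28028901ec0b16006a061a013b036a01bc0c9202800c6e0f04089c005d0e090f200e6d0cca07f708d301df00e20b930dc9034b04190cc504ed043a09ec0c0d0be0015d0c260afc0dfe036e07ee0795098d05c209f10678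0dda06e401750aea086202e90c7e01230b11099a01770f8c0fc3058a083f098502f303b60dce0a8309a9040a01fb048d074506640afe0f9207970cad0eae008a0c6009c5046105fc0552058f0f3e0f020be8062003170a2700e70df7024c04b9020a06f90b680d0c022601d805f90a6f0d4a04fe09080ea809230f6d003100ea038804aa07e3098802cf094f02b3025f0ef0019d0cb2092a005603f8085a0e7307aa003c0c1708e600e1007e0464024a076f0676062607b503090ddb0b90089504f701050a2d0c7d0a440d0106440a5f0fca02e6002806f206450509014407210c520f050d8e03580af4073301040e2c0a3f028c0d2c0b400336050f018201be0964063a03ca00f20b8a05f0011206bd03380826038709210b76003e0dfc051302470b770d27066e0bb108b805fa0840049b09e609f406100f4d0c370b2100370bda0a4b0969032e03e604400c44089f047300ec0de50a7202270eef0cf200690b29008c0e51002f05d5052d079e08c309dc00c60065060d0e5300c002420c030a6609d006660f2d057c05f70baf061f07c0034a0be5061700cc0fa8077a03c701b708fa01110b940635015908b20e2108ea0a7a04e801b30f330a2e0c4e06c40845053503cf0eec013e0b980c9d0f2f0de10ebd076902f80c9e0c13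05f60d5006f001ef015703e4058209300e4404760b140443049f06ec03510fbc0c6c038c0a32000a0d7806fa04380db002680fc9087202c502a608b3026f05e80970063c0f0f0af302390e820f7300f60507042c05a00a6c0774055106d602dd0b0904bc0a3b059f0c1405d703d006810f4905710fa50bdf09da02bd0b470a9603e1046903f201ed017106d30fda00b10e030b430d620d260f030ece03c4001602820311083e0c480114099800a80c3a017a0e850b8b001a062d0821060c0c27088f0cb408d60f1e0cd80910016d033101af03c20bd5084e06fb04d906050f7b050d050a03200df20af70de20dad0b6406f607190d9b0a290e5c0e6b0b4c026402f90ebe01e604f307150585089802f60b9d0c6401f30843007905860b1d09750b6c0cd7090400ef04ac09fc0ae605380ed60bfd0aa90efe0c3905a50760074900f004120f0b018a095304e60c0b05bb032c01c5087702970303093607e00aad05eb084102850f700a9a0e1e09310cb700b602a7097105e604e500c10a450c10063b0fcb004e08280f080393018e02b60398035c0c490b200f5b0b740b910ada0f250ed208080f6a0fc6016809ce07f606ea0d900150064703ee0804069b08700ce30b3302f204a3054403d40de80c790ce207db04fb03c004980675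0d4c0cfe0dff047c00ce01150de60d8a090e05640f8d01480e1605a708df09c1013a07380f9f053305a609cd0e1b03cb0edf09330dde09b7060a06840526030e0f9506a205310d69092f0dca09c609f606e201bb0ee30a3302fd063809eb0c660c5d093702720459093e067d05b7012d0e9b07a2055f08300a4c00830aab0a8708180c770eb4071207bc0c2803ad03f60a0009590b0d0e9a09e905fe001909ed0a130a550606037e096309ad0e720290046f057706b408bb08e008c506b805f109960dcd091d065e09dd073e05940431007f09aa009909d80c230891054d013702d70cda05f402d60b0c0d3509d4002e03ce05490a0400bf020b0d280bd9002c02c9079a0dc10e450e37081508370f3403150f2301510a34099101cd06ac08ca08110c080c690f1a0bd40ba109a2043609010e660225033b0b960201067e01010e67072d0d6d0a7602360754033005ed0b1208c008230a3c02e70edb0bd605fb0750096d0d040f7e066501250e940a4a0e2005e50061094c083c0e7c082001aa040c05e90f8108bc079d0c910ab50db300a50654066d0b840bd2020908aa06dd08fc0518044e0ceb0a390669048f00980ab90b46028b07e402bc0d590f8a0ed50f6f0e1f08c801eb0e6808900f6002cc0036058008e305d006de0cd1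0f4f0ae5076e0d4104c00f2a00c20478001b059906150eea061c078f05870f850fb604e20e3b03e70f3d02a405ad07c209c00604019b074208db05450b26085c0db701dd042400f301c60fab049500a70395020f0c330adf0ce80a73039609480957089b0f430efd0cd604d60584046600e30b300d250bf9047706c90abc09be0a970f8602d80882017f0ae00f3009cb00ae0196045008690d6502080c2206a5021e0d5e0bcd007c081d03cc001002910c6d0cf806f80eb30bb40735073c03550f2401c40558051c0ea9090206ce06d503e20bc00c5e01a007660d0d08ae0d2f030102730c9404130e5603040e4c08cb0d0908d50d2b069e0b0504b5038e04f8069a039f0ab30e2e09a508da026c0f5c07ea0103027001240cbf0c88009a0a540c36059c0bc405cb09730c00015c0c540be70d450f360cb6053c07b2021a004d08e8031d06580b7e07d40b0407220075021102160d92021406ab0d1b096a00a20eb704a008ec0f0d065c0a5b03a400cd022c03670ec8068f0b6209fa07cf041b041f063e03dd08dc028e06d00867010f09190fc008cd08b10d150a480b6601bd0cb508b5067b00530d2a04350bb50c310bfe0de7043b0aff097e07a5014604ca05c80c400dcc001f0a14004707f50fb00f1003c909e003bd03fe05ae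074e0cd00afd03a3063d07fd07d602ec0b4a0a0200810e9f0a1102ca0c840d83010a061e08a408a609250687037f07810da500fe066b0b0a050c04fd091609600beb0d870efb0ef1031004030e290d5c01080df9014102d10924075a0f420e840775027f01d003db000b09ac00cf0d2007510d460ae70e130fb30788081a06d90c850bf2070d0be10db60f7400b702210ab7020508d10b540df0092b069208590345028f0782096f0c65041703a501760cff031903230abd02e805da0a4f032d0493057a0eeb0e4608e1015b04750b820a4307ec051d0b800b4d073608a805de0434099c0a57038306140d76095e0701037c0ee1008b0d4e0d0a0c3f06cc0e40005a0183076807a40f6306270df30d6b04250f940d9401d60b2c0bcc07200c430cb9000e0c6f01d303d70baa00d8093c0d610aaa0f870f26093505cf08310361012f073d00500b7b0bd80cb80138029307e6082d0295054c06b20e2303470f1f00a407ab00b301740d5300ee078b0cc009e70f2700180287048906b90dfd0035005503720a6508f403370bd708d00e0009c40e0f07a60bbf041500a902ed073705bc0ac8000207e5040e05f50237092e06ef02f104d404f0036205cc09c30173095f023b0e060b4f090d00d909790539065600710373095b06520f0e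0836080e074405340ec7091806ad00df0c900df6082e080a0827072e0868007204180b6e0d3b03f5058105590cec08380cf508860c6a04140aa0086c04e10cae0f69003008530b030cce0989003a0e24053001020dc302fe0b080d3d05aa0b78087b09150ed7087e0c800961080b00e60b440fc803570f8f0ef405dd040d0c570c990e190fae066f059e020e03b0020d0d160945071f07cc01790f930d7f039e05a80f130639034004eb0c05098f010c013d033d040f002a0f120356070305650d1c0b340ae304d8011f035b06db0b610f5e09780160045603920dc5064e0a8d019201ad0407047a07d701d901170bf4041c0e0502b10e470dec00f80c9a046e01a3097201da09140993021b0dea0f89070a0dd50bc2041d0e9300730b870f5a0514064800e0037a062b0c750b4803ab04880790090b07d507ce0ca20f370087053a0d3901ae0ad800e406bc0c0e0b9f0c6808f6026e04ee009503d10f97062407580c550dac0abf0b0000d0071d0a5102df0faa0eaa0a460659017c021807610c4a060102750c300ef605420e9e04d30ddf08e40bdb099f083d0100052c01c2019c0a5d05ab077c023e00140889083900b807630af009b90fc10e7904e9062108650e3f0e5005d80f54078e034e043c00420528078403de0583079804d7025c076b02d0043f03c60532060b0ccf0b58027c06720ab6076702b803fa06080af209ee0ab80c81056a032f0fbe04e40ca703a0046005b603bc01b10e8f0064079f082b0f7c0d8908ee09f709c80bae06d70b9c041607d802d305c504ce0fa402b506b5,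
  0xfff0ffe0ffd0ffc0ffb0ffa0ff90ff80ff70ff60ff50ff40ff30ff20ff10ff00fef0fee0fed0fec0feb0fea0fe90fe80fe70fe60fe50fe40fe30fe20fe10fe00fdf0fde0fdd0fdc03130d680ed409c005ca0a580bbe08bd04ad0219037f0239034a017304870f360c640cf904bd0b4e0693032d02ab0cb30a8900aa0c550020016e0a8609c2020c07510a2e04f70f2f06b0005c0343082a0c3b03480a4403e20b62045e0bdd06c90ea7041203a30c36065f06fa0eea0e5106c00ab7015a0205076003ed07830f770ea6026a05da01cb09e6093b0de507d801de0f3201a509d301dc0ad50f6a08b70b7b0cce08140c780d990d750f840c4104c60d910d2903bd02fd00190e8301780db301960e780824072b00f105cc03760abb0709067e051e06f1041706b2044a015c04aa000e04a9038c0e87010d012e09390eff06e404d0080e00b60d6707f408ac07e605ba0baf006a074f013c0bef0b5d090b053d0da7013209640e2807fd0b06082b07ea0c1c09d0062807c4067d04d801df019008f20375006d092801f807a20cad056c037b0b670a100a6c06c707d00c5706fe0d3a05ae0e4301cd07370d0c025d068b0f0c08f50c650e4d0f4a0ecb007b0a720598065d01c40f0001f9043d097c0a480b44035f0ef2021e0cf109b9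05460011077209bc081c0518085d053c0d7f056f06190dba0dd10973049b0d5b0f5400fa038704b207150ec40353044d05e90c7003920b1b0ea301ac02aa0ceb0ada0f6d0dce07b8020b064702fc0e5407240405072601700347054d0d810678067f0c8307f000760e90078200d60ad20a69089f036a0ed2075b0fad059f056e03c60c5e0854092e0a93002102d60862010400750fbe0d6a08fa0c66030909090022097e06ec04c70e310368044c0c8e03fe0b9301ed067a0437029704f600ee0de008cd040d0551090f060a0ec302d90cd000f20e61025507640fb9037103ef02c307420acb028a07cd0ee808e70354072d008904b3009c06b50d3d06250bd80a190d3b03970aa90f3f094d077802cf08c30200013e0e440d8309490983072106ff0b5408600d300f1a011d003b01cc0f450016005b0b550aa8051307a804d908bc0bf30b8f0f2200990a6e0b5100d2043a03290b9a0ea806200a81036c03f109ed0e67096900720b9c040907ad0f3a0bb903b80fb304430956022508da05c30a9d0c61083508410d280b2e03e70cc7009606b706290cb70dc200650f660ae205640f6109fc00b5002f0920038404550403000008680bee011102330d8c06e10f6701af087b060f028e06c80fa702af0a7c03ab06a0092700c80122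0661064a08c8019e064d05eb0d940c0a03940e9906060e0f0a06070d0f5e082f0c5a059c05bc021d013402990f7a009d0140018a03af0b210bb404cc0e2200e30b4f058007eb0e8c00ef03fd00530aef088d029e0d360cb809290c2a0179064901e400c9099e016f0dde0eed068802e00e080237048d0a0f0e2a0b9207ce091f0fd80400076b084302a208b402120a630f88040b0c4b05ea036d06140ebb05dd0b3b05b800e901550d8902a40aee02c00b4d008100d102ac01ff063603dd06210b42012005a306ea08940ba20a46022e0ec1087006a60ae304a201000c600ba00d9d0aa201560bc901e505b90b02010c0a9c09dd0692091d0f1203080f4602270f2605840b870d41061a069e0da3009b0600045d014208ba0ef80a4d07b5055802b00d9701b7095b0b7501b207c8024f069800f90d1a02dc068d03160f4206150e6209bb043f039605b4011202bd0ea1006b09b507200c0d033c09180d2b086e0c5802f80ddf02ae0eb806a3094203d105820f2d0a200454083309c10207019a0a2b0e69042705fa0e640185056a09ce0eca0074032e055a0c350fc0061103770d4f02720aae011b000407410d7b0c960464014c010f066e0195055b050f0ae9084e0ad605e00128080a02460b7a05bb05a80a9e060c0a5904890b6a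01a90cdb0c3e03de0d1e004a0ad80ac6065b09db0c560cbc074c051b09710ce80c0b098b0eba0d03016a03240cdd0b890168046604820d1b019302a303a70ecf0bdc000900510618025005660e4b0bc60f8a02df05f902920829020606e209cc00dd0f380dc707f700b70a9109d106160d4708b9042303da096508fc01e20b170d52053109ad0a87003d057006040e170ab8017a010a016b01430b2409df03150d4901e90792002a0434030a0d51046a00c203e90c5f0c77024c04ca083005d70bfe0360042b04620f8c054c0ba1022b0d0e07ec00050e3e060306ef04330d10068f04be08ec079802340b9f01330803074b054e0d7601290ecc0e2d079906a80e090d8b0c3d00d800f80d37035207df096a0e5b00a50217036205490b530cb2083701660c8b005e0e530d5608a909c60be40a3a0a790a010b070fb700a40a71097f0e1f02cc069d05d1087203ba07050dd604cb0bf705be0bd20338073803fc010e096f0dc909510c340b7d0fa308d20c440eae0732085c016008ae0ddc0d3509960b0f00690302085901d202b40842095704a10db20bd10d5d06680db70b9b00060da40b30092a069b0fa40c330171013b0caf0a6a00400317077402840f920a6206d20af80856079c08150876036402b10b6c01ca030002f00dfc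01c80f9a0fd70987030d033106e80f85035901910a320b560bd00e58084a08ea0bf10569023e01360c110db603f90e55011f0c3702750c1e07be0268049d0e5203a50c0908bb063800300d8f049f020f0c3f000102e90fc8025f068101530fd50c520cbd06f30a1b0bdf0f8f00950c820f0d032c0c9d00a807b70a6806d009310f4102bf075e094c0f830d1c0ac20b2806070a5e007e0e570c6f047e0bd5009f083206a90b58054b0a3609ff033b0921059e0f020ba603320a4a01980aa00f76010605ff015908ca0acf081b07fe06400ea205b60db80ed509720c620ca60eda028b0fa200b0068c0f2a065e02e4071c07f20afd0ad4064201ea0ebc068401bb01150aaa09b204150f190edb0e800e0a00ff061e0c190d6906cb09fe006f05b5070e07b20fd4075d0dec06d90d6f0aac075c070b09ba06dd0dff0d870cbe0ba9033d0af60e3707d50d900787095d0eaa0a4004300e4206c40571054f079b0ce500270c8605850555001a08bf0b6606bf0da5033407de07cb02dd006409d7049e01b0005408ad0c3a0ee70fbc0f2c08c60ea404a007ff030302f207c905910a5b0a670507056b0ba40529026c0be809f70b78097d00500f53096303f40cb104b507aa07680de70b4609600df40b4905b005aa0c500cf50b6d0f570f70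083f076508db060e0cb4053304bb003108c10769031008080c1d06700a380eb10eb50faf09080c9c03630bc80098051705c80a040a3e045002cd00ac0ded083a04b40d8200b906c103830e130fa903e40c5c0d4a0fcb03f20f250c710e98025402020bd606270ee6028706d8073c0b1602cb0cb601bd0b14052707e905e604800175020807020141083803eb0a5f06870087004800b304d20c2e02450b1e0f400bec0e070cee01b604180c420c79013a05bd0edf0468053f03c3076d0dee058d098103d706010562005501ce00c60c30083d00dc075500850ef005340a8b013703a40a9704da0f20081009950e75043c0f2e084507ed0da0090d00e1005906600f160dc30e7f038603f501e004b109fa0bc30a9b008f0c9e018d04cd027002b7092f0ae10763015b04940138031e0d5f05e50717078605a508eb02010d4c0123021f0e8f0b080bd70ac505db06d10f710c9f04d505cd0e500cf607db03cf0e2f08040ab903d30e6a022105c900cd09b00f7b0700086a0a150e910c29025c087909d40f1303a60d450d50030b0c5b03040a5a09f3097005440a840d18045f008b038508770f3906900ec8001d080b07ee02d8095000ae0e66069503ce0de801210e600b470ec0054a003505120c76019407cf070f01c704fd05f8093d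001f04c90b320bd90d260b700ccf0a390be103ee0d2c01e608e30b1f02d701b30c1f081809dc08dd00e0000a0b8c07a30fbf0e5f085e06cd0cdf0573071a0d9303df0b370b0a08130bc405f40105020a03ea0e02042209a10db5026707a5064b01f406800c0e0775072a09ea07d602230e9204e80d3402eb01b1011c00cf0de90cec07f60b8a00de0dd2048502380d460809083101bf08660ec70cf00393007f0335053a0e9f0a340ee30b860c9802940d7a0c2c0a7008990fcc0a2d06350eb30bf5049002350e63051a03420653068201970c4e029f09fd0beb0e7106a70c9b0373096205c205fc04f901480afe040606240d0109370e2e0b8b0a220b250d8408a508f805e3005a05a1082e089d03b20f4901e701390fb60ac70d2704c101690a92038e0f52007302f10a2a09d20f7c0655028208d1084705630df80c6a0ba3064308d906be048e023c037e0ab205a00f9902fb085f0f5d0de402ee0c1206ca03820e8608a30a9902b5036b08860d4e0910076c0d0f0a1e06770dbb0259068601d9046d056d05de0d960b2a02bc01a107450a290ee0022008980b1a0900035c0b260cab00bb0ee201eb01650a74077e0df3050e0cfa022804700f68031805210083030509b605f20acc08a80deb081f0e7900a702ba06aa0cc50d4d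0dbc01570e7e0d3c0b1c0d5306c60ca9094a08b607e105cb0d160e4e0215069108cf0579000b070c04a30a7a087f01160dd80992031b0c4d00be098d077a07560d770dbf0dd50f8209a905d20abf0203039d07c503dc0f5b0a570ee10e6504d703270728026f041a07b1047f0b48084401d00a750946096804bc02a10b7c0612055d04ff0de20211091a01f603b508640568046c047409a50c7f0c27074604f10d17067b0b2f0a4f031909cf039900880f15074707af06d4037d0c3801720f950192052805ac0e4f00790cbb095e04480248039805c4037809cb04ec00b40c7d04b805b10d6509da06a10eac09480ed30e9c043e08e500f3034c02d50df207bb0729017b0fca0ab003570d9c056008f70f56039e013d08490b0b079f0f69040104c80a3b087e08a1037a07760590090609c505b205930770087c0f330018036e00430d3904d60bf60eeb09120bfb008e062e0e4907300f0b093209d60efb00ce01810b4b04de0271034501f30e06080607ae06740d7300a00b3607400dcd0eb90f0e0bb6028806bb0f87014d08e20cd205df03f80d7208e80e1003070ee50dcb0b040a17095303c70b6106300c4508e008c907620e6b0bae096b0abe019d086f08d40f9702f60fd00753076706ae04e905410b6b04570f040bf80922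00820265017c0c490f1100390ccd0df50ead0d59098a09c702da0dc50dfb0f100af009430cc4027c08b801da0a3f0ad10d7e0fc30b5f033602850224044701a809af0ed90f8608520d2202760bea03bf045b0e5c05740af209f20f170f230f6e0bc20fbd01070f28085b0c7b0e1104b607ac023103690d7c07ca0be70656057d00fc027f063304bf02e605d30b8504ce0a240d0009930ac9066d07130bfc091b03b605b701fd08650e2905f70dd40f600b230bda0fdb0aaf06b90fda089205fd021304ed063c04a500460f24073d03ac0262024b01a70b96079503e60f8900250f3b07dd0cc00b1d08be039a06cf044b0b790cde0bcd03bb0822069706b804d3023b01a601dd0fce06170a8e051608480e040e96007c00df0bc707040de305d50a8c01b402f5023609de04eb0bf00e480f1e0d230d64013f05250b760c3c0e0c09a20ac00187019b088a0a4309e4081d0ac80130040a0cc3062d090a091607b90b120c5d0389098503be0595088e055e0365028c0bf402100e03075403c90d2a08e10f2106b30067071902a50ed00f8b02be043905c5007a0e7a0e820c160f6f076107e70a1301c20b7f04410b500974026d012c0eb009a80d8d0bba008a097607b001d10b81086705090f9f0665047c001203fa0b430b400ebf002b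0820080f0d4b00f50c590ad00c180e68035d0df907e50a3c0d9a0f780d12021601ee00cb0dd90cd504040a270f3105ad0bf905770e2509cd07ef0e050e4c0266048a0897061d0d6d0ae5002301b503d40b64005f0e0103f705750a65079e0d33088108340a6002510a730bcf0127093c029d0e6c0f370a11006c035e0f9b07e809ec009107ab06a50311016205e203950d2109aa0c1b0e33032f08800241004e04b702a904ef08f6020d0fd307d10baa0d620ce30c0f02f4038a06db0a510d9f0d7d0d540b52055900eb0fb40ce90c2807930ec200b20b8200930a45027a031c04df0736089e0a0e033900e606eb0f9c0b4c00fd0e8d01640e9d0ad70fa509170fae0f7d0a140d6c072c057e0c6b0ac10013040e0109071b021c063401170de10daf0cda07180c9703010cef08a20f58068a01510e0d0ed806e9042e0cbf02b804020fcd017f07c3078c0a300b2b0ced05f50d660ce101c600c106f5009a07c2023207c10780018309350f980a78071e063f04260b050d19032b0df10e410dcf042507570fb009f90ce700c4019f09a406c202f309ee05230f01043b05ec08730fc100020e1d03db0ccc0744076f044005f004a70cb9037004e00070002c0faa05cf0a4b0c8004fe06bd09ca03140c2607a90771065708d50af10807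0e240de60ef10fd10c9905ef09a0058f038b03d50afa0c8c0e470bbb0f0703b40f750bb20ae807e30f4d030e074300d003120bdb0938022f0e340a490c2501a00e7c051101c00c850cf3035b0d06021b0bfa0080049c0e3f0afc061c0cf4077b054801cf041e075808ed09990ab3055c0ecd067505a60fc50a180aa3046f092d04110934093609e90dcc04970ce609470bbf054306450eec03e1091c06bc0b68084007d20ef506b401030e2c044603f004c00501048c08d70d1d0812086d0a9a041d0e180cf803ec0c48012a0791029605260479015e088903660def0dc60520078e0d0708160af90a640dc10cc80a1c09e7099800e20b0d0696053b0d04072f0efe0d4402f90a8a0ca006f604fa02bb0229008c099707f90da60c010a1d021805960017078908830a7f0e4a066c06f00b1304450adf01f2039f05970158036f01840eee03b10ca107f50aab016d02ca0f30060508880cac0b190475014702e80a1f022a0ca30c5408f908530e1c0a2306df050303a80f2b0e6d04dc050b0fa60540094104f50b0009bd05bf0d80071409230c95079000d70c8704af097a0c0200bc0a370bb00b69025b0975095a095c0d0d04dd09c40cd7024905d90cd1015d03a2053503e803d80c9406da0f9108fb06a40f050c4603610dc40f9e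049a058103fb0ca20ad30036016106af0ca40dae04630e95031f071205500b5a0c140e5a05ee0bf209040ade08aa04320fb800a20667012b03b009e5097b058c0eb7095801ef0e46050d01f108e60fd907fa0cd90b350d02090208de0ae7080c09f40aad0a7701c308570d3e08b3030605000061057f0a6f003308b1006e0c89003708250d9e0e59071f07c607d405a7029102de014a00c30d3100c500ad06220e3c08e90a21092b05ab0e5e0f1400ed090707590a8807f304280c2f0672011901a402430b9e0f470554050809eb0298034e024d0f440cfe0887041c048f0a7d0a4204db0af70b7406ac03330dd30c670c1708b005d60a0c059409770bca04fc0da80a35051c00da027d03ae0a4703410f1c052b08d303c00c1509820b030aed03aa084b05370e770b940b5e0d92084c06540e360fa00f510af505530da90b0c00f00f5c0f7f01e80aa40961066a0c320b5b08ab0a8f0f8104e1012f0c1007a60d4005150f550ae409450fc704b90a25084602900565047603900858001b010b072e0d480144013100a30d2e019c0a6d0b91058b0452028008d600580ab10ea50337098909ab09b700380aca0915015f088b0e1500a6034d06e60781048802ea03b304b00b3f0caa0c240a0809780c7c000c0ab5083b0b9506a201db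00cc018800a104f80e0000840c75032208390a5d08f301240b09032a059d0380048107a40c040b6e091e08ef09c807fc026903200980025a0d6e0e8103d904440277000d0c7205e102c70b2c0f620bce00c0001e06d5074d04fb0b380f8d098f00080fac0e8b003c0d380cae0bde002807bc02c80d1f0df7070a089301500cd30ddb0323082c0f930d2f04a802810d0b037c0d95047203d203210c1a0edd04a40a3307010536078d0a9802260c0308ee0ef70e8508d80e3b06ba0d9b03510a3d08900aa605f60c00067303c209c90703001501860b2204f406ee00e50a5009ae05f10d3f0658074e0abc0e1204990542041408000722047b031d0e3802c10b330fa10dc00850047d0bbd03e005470c4304e403a1073308d00bcb01c903cb09e207230c910bd3041005100bfd04e608ff0bbc0b3903cd00ec0db904ae0aa7017e009e03c506dc0b98033a063e026e0eab0cc100520c8f073402ff010201bc02ec0d5e074a07060d08025e02ce055604d10b110c4f0a05052e073f062301c5077c0f4b086109f501800367099d06c308c5061b076607cc07b60e2104980f5a018905a40be60416031a064400260b1804c3080209d80d240bac05e8091400af051f011300fe09540d4308950d15092c0a090f1f0ef60ddd05c703580209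0fb10d200959078403a00d78045903e306e00c69003a01ec0773064603f6081a00d5001c0c92064102d2012d06850e760dea077f0d140bb105570905096c0f6c080506630a61051d0ed70eb60a0709f60381069906370199016300ca0fc60c510118001405830adc0664069a075f044205a9093f0b600bc10896050a0d0a083c04860e9b0d610a8d0484073b02440b34039b01b908230d130f270e56057c05d40be30f3d04f00ede0ee40ed605fe09b10d98046b03ad042c0d2d047a0e32055209300b8e0f740f1d07250631057608c20f0f04730a6b06b1088508910a0b0d050c390c4c01fc00d303880e8e08840e4009910b800f340d8500bf09660d6004f307070c5301e10460014b0f94041f0b6504e30aa5078f08630b59034f04130cc601f5021406510ec605d800db03a902600097038d062b079a07d907fb059a024e011a00fb02e10b27045c0be5064f02d103c40aff027e0ea9087d00c703e505b30ce2050605870eb402ed063d0e700eaf02d304510ca5095f023003bc074804ea0c8d0d630b73004408f4034b075a066f0421065a084d0f5902c50346044e0f4e0ee90c6301fb0e140bab06de0666083601820c0607ba05c102630c7e003f01d306f80efd0f50058906ad0d250ece0c8102860bb80dda038f0f4f0524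066900920edc003408c4057b00240be209250bb3094003ff00ea0b10006008750126016702b20c2d060b06c5052f0f640c8a01a309030fb20b3c05dc08510a560dd005e40374043101490bff0cba02c4073e0bed01d40fb50e7d04a60cfc023a05d0046e004f0a850c220b3a06f40ac409010be0088f000f08c000100d8e087802a807e405390a2f04710ea0057800770ef90b3d04e70a030e1e00a901ae09e30c84067901d60fbb09a60438029c0b8d06e306e70eb205f305c0012508820066024a08710c740e1900030b4a0e200b880a9f0e880491071d05a20dbd09f10aeb02580e930a1a0af40e72099c0c73002e0d7409670f90011404ac005d01540461033e0349042d071609d9090e004c0b0e082708ce0979018f09880c0505af0eef032808fd0c47065c01f0087a0f9d02c2035a069f006205860efc0f4801a20bd40dac0d420fc9046907d70a2608210fab06fc0826050206cc079407b40325093e0711027402a6035607e20cea046706390aea050c002907d3083e0e970fa80e4504c20ae60b3e089b025709860f4c016c020e021a01d705920d5a03c1028f063a098c0a660cca007803720b9001100c3106d30545072704770a4101ab0926085a02790d880e3500f40e94099b073a0a900c400cd80df00f960ba500ba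0cc204650b83061307350b15060806f900e7052c042a0c6e09a700bd004b009001fe02400913098e0242053e013504f20f630264079708a60f0809e80c2b04080ce40d700a4c063b00940b9906d702ad03c800630b630df606520ebd0f8e0d8604950f5f0c130e730e30007d004506f20ef402e303d60a950b2d092409440152052a0d6b01ad06ed0379081906500a12003e094b07f808e401740f3e0daa09ef099a006802040db10519044f01b805300c9a04190b7e04cf0c2306fd02950ebe0d710e7b06620aba0e6e0dfa029b025307a105ce0d1101d5042409330a7e0436040c0049058e0ae0090c08690a000b410e0e0505076e0d8a04c40c200c0808cb0dca00e407790e3900f70e5d094f0a8306760ac30dd70cc9069c02730bc50aa107c70dfe07da026b06fb01e309d50bc00f7e099f07bd080d0e3d0cdc0b8406e50a540b570a0a0ef3086c0dab0d320a310330062a022207dc0bb502a0014f07500e230801004109e0045804070cff0b6f0c6c0f060340048b06830f7205c60c7a0a7b0cfd07a00648039c0a820b710e1a03b90567011e024707960cf707f106100293032605140ed1053804490ab6028d0d580f3c08b2081e02fe05fb07bf01ba02e506ab0c0c0572034409190da109b304290a020acd0f730788014e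0ad90af3050402d002b90ce00fcf01450c9005ed02830b45049208b50f0a052d04830b310b97010100320b770a2c0710030c0a520b720dbe0d5c0adb0cd40f650c680177077708fe0456027b06d60cb50ca70e0b008608f10fd202e2033f0be9064c04d40a0d0f090f1b02d40c4a0a2800f60d090e9a03910ace0785022d00070fd603ca09a3068e06b600d9066b03550fc40efa02fa0cfb0fc20d5508a4018e0c930fba096e05220f43064e0f80099400470ba80289096d0bad02f70817062f04e508df09fb0abd02db01be0c2104ab0a76059b0e16068909b402ef0c88058a0b2907a7002d02b602b300ab00d40e2b0d790e84091106090a160252078b08dc0e8a078a02a70708023f0db402c601aa0f180cb0061f09be0bcc073109c307c00dc8079d06590ec903500aec0bb70e1b0e2707e000e80dfd0811022c047808af0f2906260cd609ac08c70e6f0955093a062c09b80b01008d0f0302780a53042f02e707b3005701c1040f08550b5c029a0b200e9e076a023d09f00db008280afb09bf018c0602084f09e10f79067103b709f80588077d0ba70da2017d007103d004c5060d089a0cf2086b0e89057a08a004200e2604960042094e059901d80f6b0a94010806f7004d082d0694045304ee01f70261030f00b8063200b10dad0ca804e20ccb08740a800b9d0a55074901fa0c6d04350e3a0256089c00560739067c0d570f3505e702c904ba05610532017608a7041b0984099001460a4e0e74088c0c07045a08f0075208cc03cc095203f304930add0ec506ce0a96055f0ab40a5c018b]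

private theorem TL_eq : NL.map tabN = TL := by decide +kernel

private noncomputable def evalT (w : List ℕ) (i : ℕ) : ℕ :=
  List.rec (motive := fun _ => ℕ) i
    (fun a _ ih => forceN ih fun c => Nat.mod (Nat.shiftRight (nthT TL a) (Nat.mul 16 c)) 4096) w

private theorem evalT_eq {i : ℕ} (hi : i < 4096) : ∀ w, evalT w i = evalK w i ∧ evalK w i < 4096
  | [] => ⟨rfl, hi⟩
  | a :: w => by
    obtain ⟨h1, h2⟩ := evalT_eq hi w
    have h3 : evalK (a :: w) i = app (nthL NL a) (evalK w i) := (forceN_eq _ _).trans (appK_eq _ _)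
    have h4 : evalT (a :: w) i = Nat.mod (Nat.shiftRight (nthT TL a) (Nat.mul 16 (evalT w i))) 4096 :=
      forceN_eq (evalT w i) fun c => Nat.mod (Nat.shiftRight (nthT TL a) (Nat.mul 16 c)) 4096
    refine ⟨?_, h3 ▸ (in_nthL NL in_NL a).app_lt h2⟩
    rw [h4, h3, h1, ← TL_eq, nthT_map, tabN_eq (in_nthL NL in_NL a) h2]

private noncomputable def evalX (w : List ℕ) (i : ℕ) : ℕ :=
  Bool.rec (motive := fun _ => ℕ) (evalT w i) (evalK w i) (Nat.ble 4096 i)

private theorem evalX_eq : evalK = evalX := funext fun w => funext fun i => by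
  show _ = Bool.rec (motive := fun _ => ℕ) (evalT w i) (evalK w i) (Nat.ble 4096 i)
  cases h : Nat.ble 4096 i
  · exact (evalT_eq (Nat.lt_of_not_le fun e => Bool.false_ne_true (h.symm.trans (Nat.ble_eq_true_of_le e))) w).1.symm
  · rfl

private noncomputable def chkRelF (rels : List (List ℕ)) : Bool :=
  allL (fun r => allL (fun b => Nat.beq (evalX r b) b) [0, 29, 580, 577]) rels

private theorem chkRel_eq : chkRel = chkRelF :=
  congrArg (fun (e : List ℕ → ℕ → ℕ) (rels : List (List ℕ)) =>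
    allL (fun r => allL (fun b => Nat.beq (e r b) b) [0, 29, 580, 577]) rels) evalX_eq

end fast

end Cfsg.Agent.RuFast
end


-- part: KFacts/Ru/Cents
section
/-!
# Three centralisers in the Rudvalis group

`z = W`; `q`, `q'`, `w` conjugates of `z` with `q, q'` commuting with `z` (orbits of size 640 and 480 under the
centraliser of `z`) and `z w` of order 4 (orbit of size 5120).
-/

set_option autoImplicit false
set_option maxRecDepth 100000
set_option exponentiation.threshold 5000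

namespace Cfsg.Agent.KFacts.Ru.Cents

open Cfsg.Agent.Lib Cfsg.Agent.Lib.BitNet Cfsg.Agent.SporadicB Cfsg.Agent.SporadicB.RuData Cfsg.Agent.SporadicB.RuOrder
open Cfsg.Agent.RuD.Data Cfsg.Agent.SporRec.TCUpperCert Cfsg.Agent.SporRec.R3.Kernel Cfsg.Agent.RuD.Letters
open Cfsg.Agent.KFacts.Ru.CentEng

/-- words -/
def csA : List (List ℕ) := [
  [2],
  [7, 5, 3, 8, 0, 5, 3, 2, 7, 5, 0, 4, 7, 5, 3],
  [1, 3, 6, 7, 2, 6, 7, 0, 4, 0],
  [0, 8, 3, 1, 7, 2, 1, 7, 6, 0],
  [6, 8, 5, 3, 1, 2, 6, 7, 5, 4, 1],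
  [6, 5, 8, 7, 1, 2, 6, 3, 4, 5, 1],
  [0, 7, 8, 7, 5, 3, 5, 3, 5, 3, 4, 5, 3],
  [3, 5, 0, 3, 3, 5, 7, 5, 3, 3, 0, 5, 3],
  [3, 5, 8, 3, 5, 3, 5, 3, 5, 4, 3, 3, 0],
  [6, 2, 0, 7, 6, 3, 5, 7, 6, 3, 5, 7, 1, 3, 0, 5, 7, 6, 3, 8, 2, 1],
  [6, 2, 5, 0, 7, 6, 3, 5, 7, 6, 3, 0, 4, 2, 1]]

/-- the cell -/
def ceA : List (Bool × ℕ) := [(true, 9), (true, 10)]

/-- the steps -/
def stA : List (ℕ × Stp) := [
  (2879, .im 0 0),
  (714, .im 1 0),
  (3554, .im 3 0),
  (1350, .im 4 0),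
  (1820, .im 5 0),
  (3963, .im 8 0),
  (2327, .im 1 1),
  (3271, .im 3 1),
  (3124, .im 6 1),
  (2523, .im 4 2),
  (2929, .im 4 3),
  (0, .im 7 3),
  (3073, .im 2 4),
  (534, .im 3 4),
  (2875, .im 9 5),
  (511, .im 7 6),
  (2543, .im 2 7),
  (1720, .im 7 8),
  (3895, .im 3 9),
  (3852, .im 8 10),
  (139, .im 3 11),
  (3167, .cap [(true, 12), (true, 21), (true, 15), (true, 18), (true, 20), (true, 10), (true, 14), (false, 13)])]

theorem cellA : chkC csA ceA 329 4 = true := by decide +kernel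

theorem baseA : chkB csA 329 stA [0, 5, 4, 3, 5, 3, 5, 0, 4, 3, 0, 5] = true := by decide +kernel

theorem cardA : Nat.card (Cen csA) ≤ 4 := card_le_of cellA baseA

/-- words -/
def csB : List (List ℕ) := [
  [2],
  [6, 3, 5, 3, 1, 2, 6, 7, 5, 7, 1],
  [6, 2, 7, 6, 3, 2, 1],
  [6, 3, 1, 2, 6, 7, 1],
  [6, 7, 1, 2, 6, 3, 1],
  [6, 8, 3, 1, 2, 6, 7, 4, 1],
  [6, 2, 8, 0, 4, 1, 3, 1, 7, 2, 1],
  [6, 2, 7, 5, 0, 3, 1, 7, 5, 3, 2, 1],
  [6, 2, 0, 5, 7, 1, 1, 3, 5, 1, 2, 1],
  [6, 2, 4, 7, 6, 3, 1, 4, 3, 5, 3, 1, 7, 0, 5, 4, 3, 4, 2, 1],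
  [6, 2, 6, 8, 7, 8, 5, 0, 3, 6, 7, 5, 7, 8, 7, 6, 3, 8, 1, 0, 2, 1]]

/-- the cell -/
def ceB : List (Bool × ℕ) := [(true, 9), (true, 10), (false, 0)]

/-- the steps -/
def stB : List (ℕ × Stp) := [
  (1801, .im 0 0),
  (3531, .im 1 0),
  (2243, .im 3 0),
  (1703, .im 6 1),
  (2791, .im 7 1),
  (4022, .im 2 2),
  (2159, .im 5 3),
  (3135, .im 8 4),
  (2447, .im 2 5),
  (590, .im 4 6),
  (1104, .im 8 7)]

theorem cellB : chkC csB ceB 226 8 = true := by decide +kernel

theorem baseB : chkB csB 226 stB [2, 5, 6, 7, 1, 3, 5, 3, 6, 3, 5, 0] = true := by decide +kernel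

theorem cardB : Nat.card (Cen csB) ≤ 8 := card_le_of cellB baseB

/-- words -/
def csC : List (List ℕ) := [
  [2],
  [3, 5, 3, 5, 7, 2, 3, 5, 7, 5, 7],
  [6, 5, 8, 0, 5, 8, 7, 2, 1, 7, 2, 1, 0],
  [0, 6, 2, 3, 6, 7, 4, 5, 0, 4, 5, 2, 1],
  [0, 6, 2, 5, 8, 7, 1, 3, 0, 5, 2, 1, 2, 0],
  [0, 2, 3, 5, 1, 3, 3, 6, 3, 2, 6, 5, 3, 0]]

/-- the cell -/
def ceC : List (Bool × ℕ) := [(true, 4), (true, 0)]

/-- the steps -/
def stC : List (ℕ × Stp) := [
  (791, .im 1 0),
  (861, .im 2 0),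
  (613, .im 0 1),
  (2612, .im 2 1),
  (2137, .im 2 2),
  (3533, .im 4 2),
  (3723, .im 5 2),
  (3175, .im 3 3),
  (1152, .im 2 4),
  (704, .im 4 5),
  (3673, .cap [(true, 10), (true, 0), (true, 7), (true, 5), (true, 9), (false, 3), (true, 1), (true, 2), (true, 6)])]

theorem cellC : chkC csC ceC 1763 2 = true := by decide +kernel

theorem baseC : chkB csC 1763 stC [3, 5, 6, 7, 1, 7, 6, 5, 7, 1, 3, 2] = true := by decide +kernel

theorem cardC : Nat.card (Cen csC) ≤ 2 := card_le_of cellC baseC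

end Cfsg.Agent.KFacts.Ru.Cents
end

-- part: KFacts/Ru/EndFacts
section
/-!
# ODD half, D8, K = Ru: all facts `RuEnd.Facts` hold in the model `RuOrder.H`
-/

set_option autoImplicit false
set_option maxRecDepth 100000
set_option exponentiation.threshold 5000

namespace Cfsg.Agent.KFacts.Ru.EndFacts

open Cfsg.Agent.SporadicB Cfsg.Agent.RuD.Letters Cfsg.Agent.SporRec.TCUpperCert Cfsg.Agent.SporRec.R3.Kernel
open Cfsg.Agent.KFacts.Ru.ConjWord Cfsg.Agent.KFacts.Ru.EndWords Cfsg.Agent.KFacts.Ru.Cents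
open Cfsg.Agent.KFacts.Ru.CentEng Cfsg.Agent.OddHalf.D8.Phi.RuEnd

/-- the words of `as` commute with the words of `bs` -/
def comL (as bs : List (List ℕ)) : List (List ℕ) := as.flatMap fun a => bs.map fun b => eqr (a ++ b) (b ++ a)

theorem comm_of {as bs : List (List ℕ)} (h : chkRel (comL as bs) = true) {a b : List ℕ} (ha : a ∈ as) (hb : b ∈ bs) :
    (wprod ml a : RuOrder.H) * wprod ml b = wprod ml b * wprod ml a := by
  have h1 := eq_of (rel_of_chk h _ (List.mem_flatMap.2 ⟨a, ha, List.mem_map.2 ⟨b, hb, rfl⟩⟩))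
  rwa [wprod_append, wprod_append] at h1

/-! ### (A) -/

theorem comA : chkRel (comL csA [zw, qw]) = true := by
  rw [RuFast.chkRel_eq]
  decide +kernel
theorem comA' : chkRel (comL [[], zw, qw, zw ++ qw] csA) = true := by
  rw [RuFast.chkRel_eq]
  decide +kernel
theorem ndA : ([[], zw, qw, zw ++ qw].map fun z => evalK z 329).Nodup := by
  rw [RuFast.evalX_eq]
  decide +kernel

theorem cenq (k : RuOrder.H)
    (h : ∀ c : RuOrder.H, c * hw zw = hw zw * c → c * hw qw = hw qw * c → c * k = k * c) :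
    k = 1 ∨ k = hw zw ∨ k = hw qw ∨ k = hw zw * hw qw := by
  have hk : k ∈ Cen csA := fun w hw' =>
    (h _ (comm_of comA hw' (by simp)) (comm_of comA hw' (by simp))).symm
  obtain ⟨z, hz, rfl⟩ := mem_of_comm cardA (zs := [[], zw, qw, zw ++ qw]) (by simp)
    (fun z hz w hw' => comm_of comA' hz hw') (b := 329) (by norm_num) ndA hk
  simp only [List.mem_cons, List.not_mem_nil, or_false] at hz
  rcases hz with rfl | rfl | rfl | rfl
  · exact Or.inl rfl
  · exact Or.inr (Or.inl rfl)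
  · exact Or.inr (Or.inr (Or.inl rfl))
  · exact Or.inr (Or.inr (Or.inr (hw_append _ _)))

/-! ### (B) -/

/-- the eight elements -/
def zsB : List (List ℕ) := [[], zw, q2w, zw ++ q2w, yw, zw ++ yw, q2w ++ yw, zw ++ q2w ++ yw]

theorem comB : chkRel (comL csB [zw, q2w]) = true := by
  rw [RuFast.chkRel_eq]
  decide +kernel
theorem comB' : chkRel (comL zsB csB) = true := by
  rw [RuFast.chkRel_eq]
  decide +kernel
theorem ndB : (zsB.map fun z => evalK z 226).Nodup := by
  rw [RuFast.evalX_eq]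
  decide +kernel

theorem cenq' (k : RuOrder.H)
    (h : ∀ c : RuOrder.H, c * hw zw = hw zw * c → c * hw q2w = hw q2w * c → c * k = k * c) :
    ∃ m : RuOrder.H, (m = 1 ∨ m = hw zw ∨ m = hw q2w ∨ m = hw zw * hw q2w) ∧ (k = m ∨ k = m * hw yw) := by
  have hk : k ∈ Cen csB := fun w hw' =>
    (h _ (comm_of comB hw' (by simp)) (comm_of comB hw' (by simp))).symm
  obtain ⟨z, hz, rfl⟩ := mem_of_comm cardB (zs := zsB) (by simp [zsB])
    (fun z hz w hw' => comm_of comB' hz hw') (b := 226) (by norm_num) ndB hk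
  simp only [zsB, List.mem_cons, List.not_mem_nil, or_false] at hz
  rcases hz with rfl | rfl | rfl | rfl | rfl | rfl | rfl | rfl
  · exact ⟨1, Or.inl rfl, Or.inl rfl⟩
  · exact ⟨_, Or.inr (Or.inl rfl), Or.inl rfl⟩
  · exact ⟨_, Or.inr (Or.inr (Or.inl rfl)), Or.inl rfl⟩
  · exact ⟨_, Or.inr (Or.inr (Or.inr rfl)), Or.inl (hw_append _ _)⟩
  · exact ⟨1, Or.inl rfl, Or.inr (one_mul _).symm⟩
  · exact ⟨_, Or.inr (Or.inl rfl), Or.inr (hw_append _ _)⟩
  · exact ⟨_, Or.inr (Or.inr (Or.inl rfl)), Or.inr (hw_append _ _)⟩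
  · refine ⟨_, Or.inr (Or.inr (Or.inr rfl)), Or.inr ?_⟩
    rw [← hw_append, ← hw_append]
    rfl

/-! ### (C) -/

theorem comC : chkRel (comL (csC.drop 2) [zw, ww]) = true := by
  rw [RuFast.chkRel_eq]
  decide +kernel
theorem comC' : chkRel (comL [[], xw] csC) = true := by
  rw [RuFast.chkRel_eq]
  decide +kernel
theorem ndC : ([[], xw].map fun z => evalK z 1763).Nodup := by
  rw [RuFast.evalX_eq]
  decide +kernel

theorem cenw (k : RuOrder.H) (_ : k * k = 1) (h1 : k * hw zw = hw zw * k) (h2 : k * hw ww = hw ww * k)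
    (h : ∀ c : RuOrder.H, c * hw zw = hw zw * c → c * hw ww = hw ww * c → c * k = k * c) :
    k = 1 ∨ k = hw zw * hw ww * (hw zw * hw ww) := by
  have hk : k ∈ Cen csC := by
    intro w hw'
    have e : csC = zw :: ww :: csC.drop 2 := rfl
    rw [e, List.mem_cons, List.mem_cons] at hw'
    rcases hw' with rfl | rfl | hw'
    · exact h1
    · exact h2
    · exact (h _ (comm_of comC hw' (by simp)) (comm_of comC hw' (by simp))).symm
  obtain ⟨z, hz, rfl⟩ := mem_of_comm cardC (zs := [[], xw]) (by simp)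
    (fun z hz w hw' => comm_of comC' hz hw') (b := 1763) (by norm_num) ndC hk
  simp only [List.mem_cons, List.not_mem_nil, or_false] at hz
  rcases hz with rfl | rfl
  · exact Or.inl rfl
  · refine Or.inr ?_
    rw [← hw_append, ← hw_append]
    rfl

/-! ### the centre -/

theorem cen (k : RuOrder.H) (h : ∀ c, k * c = c * k) : k = 1 := by
  have h0 : ∀ g : RuOrder.H, g * k * g⁻¹ = k := fun g => by rw [← h g, mul_inv_cancel_right]
  have hz : hw zw * hw qw = hw qw * hw zw := by rw [← hw_append, ← hw_append]; exact eqt chk_qz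
  have r1 := cjt chk_r1
  have r2 := (cjt chk_r2).trans (hw_append _ _)
  rcases cenq k (fun c _ _ => (h c).symm) with e | e | e | e
  · exact e
  · exfalso
    rw [← e, h0 (hw rw_)] at r1
    exact ne_zq (e.symm.trans r1)
  · exfalso
    rw [← e, h0 (hw rw_)] at r2
    exact ne_z1 (mul_eq_right.1 r2.symm)
  · exfalso
    -- `g q g⁻¹ = z q = k` central
    have h1 : hw qw = hw zw * hw qw := by
      calc hw qw = (hw rw_)⁻¹ * (hw rw_ * hw qw * (hw rw_)⁻¹) * hw rw_ := by group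
        _ = (hw rw_)⁻¹ * k * hw rw_ := by rw [r2, e]
        _ = k := by
          have := h0 (hw rw_)⁻¹
          rwa [inv_inv] at this
        _ = _ := e
    exact ne_z1 (mul_eq_right.1 h1.symm)

/-- **all facts on the Rudvalis group used in the odd half** -/
theorem facts_model : Facts (⊤ : Subgroup RuOrder.H) D (hw zw) (hw qw) (hw rw_) (hw v1w) (hw q2w) (hw r2w) (hw yw)
    (hw y2w) (hw v2w) (hw ww) (hw sw) (hw ww) (hw u3w) (hw u4w) :=
  facts cenq cenq' cenw cen

end Cfsg.Agent.KFacts.Ru.EndFacts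
end

private theorem dce_3146c224d6f2 : _root_.True := by
  try have : _root_.True := by simp only [_root_.Cfsg.Agent.KFacts.Ru.EndFacts.zsB.eq_1]
  exact _root_.True.intro
end

-- part: OddHalf/D3/EvSwN
section
prune_inst 0x400307024512202000018001220003c42ca000192006b8001f1a00f42078e7f62ad432721cca01c101812a24420340040001000500210000000000400011901a080aa52040340a10426008f803007180c00000000000000000000000000041000000000000
set_option linter.all false
open scoped Cfsg.Agent.FastGrp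

/-!
# ODD D3 (iii), even centre, `n ≥ 3`: 2-elements of the members do not permute another class (text of helper230, bb ODD 12170, with the end of helper245 / helper691)

`normE`: if the classes have at least three members, an involution `v` centralising a member of `c` and stabilising
`d ≠ c` normalises all the members of `d` (even centre version of `NormOne.norm`).
`sw_three`: if `c ≠ d` are adjacent, a 2-element of a member of `c` stabilising `d` normalises all members of `d`.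
-/

set_option autoImplicit false

namespace Cfsg.Agent.OddHalf.D3.EvSwN

open Cfsg Cfsg.Agent.OddHalf.D3.ThreeDefs Cfsg.Agent.OddHalf.D3.ThreeFam Cfsg.Agent.OddHalf.D3.ThreeMain
open Cfsg.Agent.OddHalf.D3.FamTerm Cfsg.Agent.OddHalf.D3.NormOne Cfsg.Agent.OddHalf.D3.Swap
open Cfsg.Agent.OddHalf.D3.TwoCfg Cfsg.Agent.OddHalf.D3.EvDefs

universe u

variable {G : Type u} [Group G]

theorem isPGroup_zpowers' {s : G} {n : ℕ} (hs : s ^ 2 ^ n = 1) : IsPGroup 2 (Subgroup.zpowers s) := by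
  rintro ⟨x, hx⟩
  obtain ⟨k, rfl⟩ := Subgroup.mem_zpowers_iff.mp hx
  refine ⟨n, Subtype.ext ?_⟩
  change (s ^ k) ^ 2 ^ n = 1
  rw [← zpow_natCast, ← zpow_mul, mul_comm, zpow_mul, zpow_natCast, hs, one_zpow]

/-! ### a fixed point in a coset -/

/-- a 2-element `α` normalising a subgroup `O` of odd order, with `[α, r] ∈ O`, commutes with an element of `O r` -/
theorem exists_comm_coset [Finite G] {O : Subgroup G} (hO : ¬ 2 ∣ Nat.card O) {α r : G} {k : ℕ} (hα : α ^ 2 ^ k = 1)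
    (hαO : cj α O = O) (hr : α * r * α⁻¹ * r⁻¹ ∈ O) : ∃ o ∈ O, α * (o * r) = o * r * α := by
  have hαO' : cj α⁻¹ O = O := cj_inv_eq hαO
  let σ : Equiv.Perm O :=
    { toFun := fun o => ⟨α * o * α⁻¹ * (α * r * α⁻¹ * r⁻¹), mul_mem (conj_mem_of_cj hαO o.2) hr⟩
      invFun := fun o => ⟨α⁻¹ * (o * (α * r * α⁻¹ * r⁻¹)⁻¹) * α⁻¹⁻¹,
        conj_mem_of_cj hαO' (mul_mem o.2 (inv_mem hr))⟩
      left_inv := by
        intro o
        apply Subtype.ext
        change α⁻¹ * (α * (o : G) * α⁻¹ * (α * r * α⁻¹ * r⁻¹) * (α * r * α⁻¹ * r⁻¹)⁻¹) * α⁻¹⁻¹ = o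
        group
      right_inv := by
        intro o
        apply Subtype.ext
        change α * (α⁻¹ * ((o : G) * (α * r * α⁻¹ * r⁻¹)⁻¹) * α⁻¹⁻¹) * α⁻¹ * (α * r * α⁻¹ * r⁻¹) = o
        group }
  have key : ∀ (j : ℕ) (o : O), (((σ ^ j) o : O) : G) * r = α ^ j * (o * r) * (α ^ j)⁻¹ := by
    intro j
    induction j with
    | zero => intro o; simp
    | succ j ih =>
      intro o
      rw [pow_succ, Equiv.Perm.mul_apply, ih]
      change α ^ j * (α * (o : G) * α⁻¹ * (α * r * α⁻¹ * r⁻¹) * r) * (α ^ j)⁻¹ = _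
      rw [pow_succ]
      group
  have hσ : σ ^ 2 ^ k = 1 := by
    apply Equiv.ext
    intro o
    apply Subtype.ext
    have h1 := key (2 ^ k) o
    rw [hα] at h1
    simpa using h1
  have : Fact (Nat.Prime 2) := ⟨Nat.prime_two⟩
  have : Fintype O := Fintype.ofFinite _
  obtain ⟨o, ho⟩ := Equiv.Perm.exists_fixed_point_of_prime (p := 2) (n := k)
    (by rwa [← Nat.card_eq_fintype_card]) hσ
  refine ⟨o, o.2, ?_⟩
  have h1 := key 1 o
  rw [pow_one, pow_one, ho] at h1
  calc α * (o * r) = (α * (o * r) * α⁻¹) * α := by group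
    _ = _ := by rw [← h1]

/-! ### the even centre version of `norm` -/

/-- **(1)** of helper133's text, even centre -/
theorem normE [Finite G] (hev : EvQ G) (hbal : Bal G) {K : Subgroup G} (h : KH K)
    (F : EFam (Fm K)) (three : ∀ Λ ∈ Fm K, ∀ A B, ∃ D ∈ Λ, D ≠ A ∧ D ≠ B)
    {Λ Λ' : Set (Subgroup G)} (hΛ : Λ ∈ Fm K) (hΛ' : Λ' ∈ Fm K) (hne : Λ ≠ Λ') {v : G} (hv : InU Λ v)
    (hvS : v ∈ St Λ') {B : Subgroup G} (hB : B ∈ Λ') : cj v B = B := by
  have hCj : ∀ Λ ∈ Fm K, ∀ A ∈ Λ, A ∈ Cj K := by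
    rintro _ ⟨A, hA, rfl⟩ D hD
    exact hD.1
  have hmem : ∀ {Λ : Set (Subgroup G)} {g : G} {A : Subgroup G}, g ∈ St Λ → A ∈ Λ → cj g A ∈ Λ :=
    fun hg hA => cj_mem_of_St hg hA
  by_contra hcon
  obtain ⟨hv2, hv1, A, hA, hvA⟩ := id hv
  have hB'Λ : cj v B ∈ Λ' := hmem hvS hB
  -- the product of the other members
  set Xs : Subgroup G := sSup {A | A ∈ Λ' ∧ A ≠ B ∧ A ≠ cj v B} with hXs
  have hvX : cj v Xs = Xs := by
    have h1 : cj v Xs ≤ Xs := by
      rw [cj_le_iff, hXs]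
      refine sSup_le ?_
      rintro D ⟨hD, hD1, hD2⟩
      rw [← cj_le_iff]
      refine le_sSup ⟨hmem hvS hD, ?_, ?_⟩
      · intro h2
        apply hD2
        rw [← h2, ← cj_mul, hv2, cj_one]
      · intro h2
        exact hD1 (cj_injective v h2)
    refine le_antisymm h1 ?_
    have h2 := cj_mono (g := v) h1
    rwa [← cj_mul, hv2, cj_one] at h2
  obtain ⟨B3, hB3, hB31, hB32⟩ := three Λ' hΛ' B (cj v B)
  have hB3X : B3 ≤ Xs := le_sSup ⟨hB3, hB31, hB32⟩
  obtain ⟨y, hyX, hy2, hy1, hvy⟩ := exists_fixed_inv hv2 hvX (by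
    obtain ⟨x, hx, hx2, hx1, -⟩ := F.ec Λ' hΛ' B3 hB3
    exact ⟨x, hB3X hx, hx2, hx1⟩)
  have hXc : ∀ D ∈ Λ', D = B → ∀ x ∈ Xs, ∀ a ∈ D, x * a = a * x := by
    intro D hD hDB
    have h1 : Xs ≤ Subgroup.centralizer (D : Set G) := by
      rw [hXs]
      refine sSup_le ?_
      rintro A' ⟨hA', h2, h3⟩ a ha
      rw [Subgroup.mem_centralizer_iff]
      intro b hb
      refine (F.comm Λ' hΛ' A' hA' D hD ?_ a ha b hb).symm
      rintro rfl
      exact h2 hDB
    intro x hx a ha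
    exact (Subgroup.mem_centralizer_iff.mp (h1 hx) a ha).symm
  have hyB : CompOf y B := (h.conj (hCj Λ' hΛ' B hB)).term.of_comm hy2 hy1 (hXc B hB rfl y hyX)
  obtain ⟨D, hDv, hDy, hDB, hDq, hDc, -⟩ := EvDiag.exists_J hyB hv2 hvy hcon
  obtain ⟨FF, hFF, hDF⟩ := pump hev hbal (orderOf_two hv2 hv1) (orderOf_two hy2 hy1) hvy hDc
  have hyS : y ∈ St Λ := F.cen hΛ hv hvy
  have hyy : ∀ X : Subgroup G, cj y (cj y X) = X := fun X => by rw [← cj_mul, hy2, cj_one]
  have hFF' : CompOf v (cj y FF) := by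
    have h1 := hFF.conj y
    have e : y * v * y⁻¹ = v := by rw [← hvy]; group
    rwa [e] at h1
  have hAv : CompOf v A := (h.conj (hCj Λ hΛ A hA)).term.of_comm hv2 hv1 hvA
  obtain ⟨Lk, hLk, hc1, hc2⟩ : ∃ Lk ∈ Λ, (∀ x ∈ Lk, ∀ w ∈ FF, x * w = w * x) ∧
      (∀ x ∈ Lk, ∀ w ∈ cj y FF, x * w = w * x) := by
    by_cases hFΛ : FF ∈ Λ
    · obtain ⟨Lk, hLk, h1, h2⟩ := three Λ hΛ FF (cj y FF)
      exact ⟨Lk, hLk, F.comm Λ hΛ Lk hLk FF hFΛ h1, F.comm Λ hΛ Lk hLk _ (hmem hyS hFΛ) h2⟩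
    · refine ⟨A, hA, ?_, ?_⟩
      · rcases hAv.eq_or_comm hFF with h1 | h1
        · exact absurd (h1 ▸ hA) hFΛ
        · exact h1
      · rcases hAv.eq_or_comm hFF' with h1 | h1
        · exfalso
          apply hFΛ
          have h2 := hmem hyS hA
          rw [h1, hyy] at h2
          exact h2
        · exact h1
  obtain ⟨d, hd, hd2, hd1⟩ := ZStar.exists_inv (hev D hDq)
  have hsup : ∀ (X Y Z : Subgroup G), (∀ x ∈ Z, ∀ w ∈ X, x * w = w * x) → (∀ x ∈ Z, ∀ w ∈ Y, x * w = w * x) →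
      ∀ d ∈ X ⊔ Y, ∀ a ∈ Z, d * a = a * d := by
    intro X Y Z h1 h2 d hd a ha
    have h3 : X ⊔ Y ≤ Subgroup.centralizer (Z : Set G) := by
      refine sup_le ?_ ?_
      · intro x hx; exact Subgroup.mem_centralizer_iff.mpr fun b hb => h1 b hb x hx
      · intro x hx; exact Subgroup.mem_centralizer_iff.mpr fun b hb => h2 b hb x hx
    exact (Subgroup.mem_centralizer_iff.mp (h3 hd) a ha).symm
  refine hne (F.uniq Λ hΛ Λ' hΛ' d ⟨hd2, hd1, Lk, hLk, hsup FF (cj y FF) Lk hc1 hc2 d (hDF hd)⟩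
    ⟨hd2, hd1, B3, hB3, hsup B (cj v B) B3 (F.comm Λ' hΛ' B3 hB3 B hB hB31)
      (F.comm Λ' hΛ' B3 hB3 _ hB'Λ hB32) d (hDB hd)⟩)

/-! ### the abstract argument -/

/-- the hypotheses of the argument: three members, and (1) -/
structure TFam (𝓒 : Set (Set (Subgroup G))) : Prop extends EFam 𝓒 where
  three : ∀ c ∈ 𝓒, ∀ A B : Subgroup G, ∃ D ∈ c, D ≠ A ∧ D ≠ B
  norm : ∀ c ∈ 𝓒, ∀ d ∈ 𝓒, c ≠ d → ∀ v, InU c v → v ∈ St d → ∀ B ∈ d, cj v B = B

section
variable {𝓒 : Set (Set (Subgroup G))} {c d : Set (Subgroup G)} {L M : Subgroup G} {s : G}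

/-- an involution of a member of `d` stabilising `c` is in `Nm c` -/
theorem TFam.norm_mem (F : TFam 𝓒) (hc : c ∈ 𝓒) (hd : d ∈ 𝓒) (hcd : c ≠ d) (hM : M ∈ d) {w : G} (hw : w ∈ M)
    (hw2 : w * w = 1) (hwc : w ∈ St c) (hL : L ∈ c) : cj w L = L := by
  by_cases h1 : w = 1
  · rw [h1, cj_one]
  · exact F.norm d hd c hc (Ne.symm hcd) w (F.inU_of_mem hd hM hw hw2 h1) hwc L hL

/-- (a) -/
theorem TFam.fixed (F : TFam 𝓒) (hc : c ∈ 𝓒) (hd : d ∈ 𝓒) (hcd : c ≠ d) (hL : L ∈ c) (hM : M ∈ d) (hs : s ∈ L)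
    (hsd : s ∈ St d) (hsM : cj s M ≠ M) {w : G} (hw : w ∈ M) (hw2 : w * w = 1) (hwc : w ∈ St c) :
    s * w * s⁻¹ = w ∧ ∀ m ∈ M, w * m = m * w := by
  have hsMd : cj s M ∈ d := cj_mem_of_St hsd hM
  have hw' : s * w * s⁻¹ ∈ cj s M := conj_mem_cj hw
  have hcomm : w * (s * w * s⁻¹) = (s * w * s⁻¹) * w := F.comm d hd M hM _ hsMd (Ne.symm hsM) w hw _ hw'
  have hwi : w⁻¹ = w := inv_of_sq hw2
  have hwL : cj w L = L := F.norm_mem hc hd hcd hM hw hw2 hwc hL
  have hkL : s * w * s⁻¹ * w ∈ L := by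
    have h1 : w * s⁻¹ * w⁻¹ ∈ L := conj_mem_of_cj hwL (inv_mem hs)
    rw [hwi] at h1
    have h2 := mul_mem hs h1
    have e : s * (w * s⁻¹ * w) = s * w * s⁻¹ * w := by group
    rwa [e] at h2
  have hw'2 : s * w * s⁻¹ * (s * w * s⁻¹) = 1 := by
    calc s * w * s⁻¹ * (s * w * s⁻¹) = s * (w * w) * s⁻¹ := by group
      _ = 1 := by rw [hw2]; group
  have hk2 : s * w * s⁻¹ * w * (s * w * s⁻¹ * w) = 1 := by
    calc s * w * s⁻¹ * w * (s * w * s⁻¹ * w) = s * w * s⁻¹ * (w * (s * w * s⁻¹)) * w := by group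
      _ = s * w * s⁻¹ * ((s * w * s⁻¹) * w) * w := by rw [hcomm]
      _ = (s * w * s⁻¹ * (s * w * s⁻¹)) * (w * w) := by group
      _ = 1 := by rw [hw'2, hw2, mul_one]
  have hk : s * w * s⁻¹ * w = 1 := by
    by_contra hk1
    obtain ⟨M3, hM3, h31, h32⟩ := F.three d hd M (cj s M)
    refine F.not_both hc hd hcd (F.inU_of_mem hc hL hkL hk2 hk1) ⟨hk2, hk1, M3, hM3, fun m hm => ?_⟩
    have h1 := F.comm d hd M hM M3 hM3 (Ne.symm h31) w hw m hm
    have h2 := F.comm d hd _ hsMd M3 hM3 (Ne.symm h32) _ hw' m hm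
    calc s * w * s⁻¹ * w * m = s * w * s⁻¹ * (w * m) := by group
      _ = (s * w * s⁻¹ * m) * w := by rw [h1]; group
      _ = m * (s * w * s⁻¹ * w) := by rw [h2]; group
  have hsw : s * w * s⁻¹ = w := by
    have h1 := mul_eq_one_iff_eq_inv.mp hk
    rwa [hwi] at h1
  refine ⟨hsw, fun m hm => ?_⟩
  have h1 := F.comm d hd M hM _ hsMd (Ne.symm hsM) m hm _ hw'
  rw [hsw] at h1
  exact h1.symm

/-- (b) no element `r` of `M` has `a r a⁻¹ = r e` with an involution `e ∈ M` -/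
theorem TFam.no_comm [Finite G] (F : TFam 𝓒) (hc : c ∈ 𝓒) (hd : d ∈ 𝓒) (hcd : c ≠ d) (hL : L ∈ c) (hM : M ∈ d)
    (hs : s ∈ L) {n : ℕ} (hsn : s ^ 2 ^ n = 1) (hs2 : s * s ≠ 1) (hsd : s ∈ St d) (hsM : cj s M ≠ M)
    (hssM : cj (s * s) M = M)
    {a : G} (haL : a ∈ L) (ha2 : a * a = 1) (ha1 : a ≠ 1) (hac : ∀ x ∈ L, a * x = x * a) (had : a ∈ St d)
    {r e : G} (hr : r ∈ M) (he : e ∈ M) (he2 : e * e = 1) (hare : a * r * a⁻¹ = r * e) : e = 1 := by
  by_contra he1
  have hsMd : cj s M ∈ d := cj_mem_of_St hsd hM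
  have hUa : InU c a := F.inU_of_mem hc hL haL ha2 ha1
  have hai : a⁻¹ = a := inv_of_sq ha2
  -- `e` commutes with `a`
  have hae : a * e = e * a := by
    have h1 : a * (r * e) * a⁻¹ = r := by
      rw [← hare]
      calc a * (a * r * a⁻¹) * a⁻¹ = (a * a) * r * (a * a)⁻¹ := by group
        _ = r := by rw [ha2]; group
    have h2 : a * (r * e) * a⁻¹ = (r * e) * (a * e * a⁻¹) := by
      calc a * (r * e) * a⁻¹ = (a * r * a⁻¹) * (a * e * a⁻¹) := by group
        _ = _ := by rw [hare]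
    rw [h1] at h2
    have h3 : e * (a * e * a⁻¹) = 1 := by
      calc e * (a * e * a⁻¹) = r⁻¹ * (r * e * (a * e * a⁻¹)) := by group
        _ = 1 := by rw [← h2]; group
    have h4 : a * e * a⁻¹ = e := by
      have h5 := mul_eq_one_iff_inv_eq.mp h3
      rw [inv_of_sq he2] at h5
      exact h5.symm
    calc a * e = (a * e * a⁻¹) * a := by group
      _ = e * a := by rw [h4]
  have heSt : e ∈ St c := F.cen hc hUa hae
  have hse : s * e * s⁻¹ = e := (F.fixed hc hd hcd hL hM hs hsd hsM he he2 heSt).1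
  set r' : G := s * r * s⁻¹ with hr'
  have hr'M : r' ∈ cj s M := conj_mem_cj hr
  have her' : e * r' = r' * e := F.comm d hd M hM _ hsMd (Ne.symm hsM) e he _ hr'M
  have has : a * s = s * a := hac s hs
  have har' : a * r' * a⁻¹ = r' * e := by
    calc a * r' * a⁻¹ = (a * s) * r * (a * s)⁻¹ := by rw [hr']; group
      _ = s * (a * r * a⁻¹) * s⁻¹ := by rw [has]; group
      _ = s * r * s⁻¹ * (s * e * s⁻¹) := by rw [hare]; group
      _ = r' * e := by rw [hse]
  set g : G := r * r' with hg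
  have hag : a * g = g * a := by
    have h1 : a * (r * r') * a⁻¹ = r * r' := by
      calc a * (r * r') * a⁻¹ = (a * r * a⁻¹) * (a * r' * a⁻¹) := by group
        _ = r * (e * r') * e := by rw [hare, har']; group
        _ = r * r' * (e * e) := by rw [her']; group
        _ = _ := by rw [he2, mul_one]
    calc a * g = (a * (r * r') * a⁻¹) * a := by rw [hg]; group
      _ = _ := by rw [h1]
  have hgS : g ∈ St c := F.cen hc hUa hag
  -- `[g, s]`
  set α : G := s * s with hα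
  set r2 : G := α * r * α⁻¹ with hr2
  have hr2M : r2 ∈ M := by
    rw [← hssM]; exact conj_mem_cj hr
  have hr'r2 : r' * r2 = r2 * r' := (F.comm d hd M hM _ hsMd (Ne.symm hsM) _ hr2M _ hr'M).symm
  have hδ : s * (g * s⁻¹ * g⁻¹) = r2 * r⁻¹ := by
    have e1 : s * (g * s⁻¹ * g⁻¹) = r' * r2 * r'⁻¹ * r⁻¹ := by
      rw [hg, hr', hr2, hα]; group
    rw [e1, hr'r2]; group
  have hδM : r2 * r⁻¹ ∈ M := mul_mem hr2M (inv_mem hr)
  have hgL : g * s⁻¹ * g⁻¹ ∈ cj g L := conj_mem_cj (inv_mem hs)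
  -- 2-elements
  have hTs : IsPGroup 2 (Subgroup.zpowers s) := isPGroup_zpowers' hsn
  have hαT : α ∈ Subgroup.zpowers s := mul_mem (Subgroup.mem_zpowers s) (Subgroup.mem_zpowers s)
  obtain ⟨m, hm2, hm1⟩ := exists_pow_inv hTs hαT hs2
  have hUm : InU c (α ^ m) := F.inU_of_mem hc hL (pow_mem (mul_mem hs hs) m) hm2 hm1
  -- an element of `M` congruent to `r` commuting with `α` gives the contradiction
  have key : ∀ o ∈ L, α * (o * r) = o * r * α → False := by
    intro o ho hoc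
    have horS : o * r ∈ St c := F.cen hc hUm ((Commute.pow_left (show Commute α (o * r) from hoc) m).eq)
    have hrS : r ∈ St c := by
      have h1 : o ∈ St c := F.mem_le_St hc hL ho
      have e : r = o⁻¹ * (o * r) := by group
      rw [e]
      exact mul_mem (inv_mem h1) horS
    -- `r` commutes with `a`
    have haM : cj a M = M := F.norm c hc d hd hcd a hUa had M hM
    have haZ : a ∈ Zc c := mem_Zc_of_mem (F.comm c hc) hL haL ha2 hac
    have h1 : r * a * r⁻¹ * a⁻¹ ∈ Zc c := mul_mem (Zc_norm hrS haZ) (inv_mem haZ)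
    have h2 : r * a * r⁻¹ * a⁻¹ ∈ M := by
      have h3 : a * r⁻¹ * a⁻¹ ∈ M := conj_mem_of_cj haM (inv_mem hr)
      have h4 := mul_mem hr h3
      have e : r * (a * r⁻¹ * a⁻¹) = r * a * r⁻¹ * a⁻¹ := by group
      rwa [e] at h4
    have h3 := F.Zc_inter_mem hd hc (Ne.symm hcd) hM h2 h1
    have h4 : a * r * a⁻¹ = r := by
      calc a * r * a⁻¹ = (r * a * r⁻¹ * a⁻¹)⁻¹ * r := by group
        _ = r := by rw [h3]; group
    rw [h4] at hare
    exact he1 (mul_eq_left.mp hare.symm)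
  by_cases hcase : cj g L = L
  · -- Frattini
    have hδL : r2 * r⁻¹ ∈ L := by
      rw [hcase] at hgL
      rw [← hδ]
      exact mul_mem hs hgL
    have hO : ¬ 2 ∣ Nat.card (M ⊓ L : Subgroup G) := by
      intro h1
      obtain ⟨x, hx, hx2, hx1⟩ := ZStar.exists_inv h1
      rw [Subgroup.mem_inf] at hx
      exact hx1 (F.inter_inv hd hc (Ne.symm hcd) hM hL hx.1 hx.2 hx2)
    have hαO : cj α (M ⊓ L) = M ⊓ L := by
      have hαL : cj α L = L := cj_eq_of_mem (mul_mem hs hs)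
      ext x
      rw [mem_cj, Subgroup.mem_inf, Subgroup.mem_inf, ← mem_cj, ← mem_cj, hssM, hαL]
    have hαn : α ^ 2 ^ n = 1 := by
      rw [hα, ← pow_two, ← pow_mul, mul_comm, pow_mul, hsn, one_pow]
    obtain ⟨o, ho, hoc⟩ := exists_comm_coset hO hαn hαO (r := r) (by
      have e : α * r * α⁻¹ * r⁻¹ = r2 * r⁻¹ := by rw [hr2]
      rw [e]
      exact Subgroup.mem_inf.mpr ⟨hδM, hδL⟩)
    exact key o (Subgroup.mem_inf.mp ho).2 hoc
  · -- `δ` is a 2-element centralising third members of both classes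
    have hgLc : cj g L ∈ c := cj_mem_of_St hgS hL
    have hss : s * (g * s⁻¹ * g⁻¹) = (g * s⁻¹ * g⁻¹) * s := F.comm c hc L hL _ hgLc (Ne.symm hcase) s hs _ hgL
    have hδn : (r2 * r⁻¹) ^ 2 ^ n = 1 := by
      rw [← hδ, Commute.mul_pow hss, hsn, one_mul, conj_pow, inv_pow, hsn]
      group
    have hδ1 : r2 * r⁻¹ = 1 := by
      by_contra hδ1
      obtain ⟨k, hk2, hk1⟩ := exists_pow_inv (isPGroup_zpowers' hδn) (Subgroup.mem_zpowers _) hδ1
      obtain ⟨L3, hL3, h31, h32⟩ := F.three c hc L (cj g L)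
      refine F.not_both hc hd hcd ⟨hk2, hk1, L3, hL3, fun y hy => ?_⟩
        (F.inU_of_mem hd hM (pow_mem hδM k) hk2 hk1)
      have h1 := F.comm c hc L hL L3 hL3 (Ne.symm h31) s hs y hy
      have h2 := F.comm c hc _ hgLc L3 hL3 (Ne.symm h32) _ hgL y hy
      have h3 : Commute (s * (g * s⁻¹ * g⁻¹)) y := Commute.mul_left h1 h2
      rw [hδ] at h3
      exact (h3.pow_left k).eq
    refine key 1 (one_mem L) ?_
    rw [one_mul]
    calc α * r = (r2 * r⁻¹) * r * α := by rw [hr2]; group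
      _ = r * α := by rw [hδ1, one_mul]

/-- `d` is not permuted by 2-elements of `L ∈ c` -/
theorem TFam.false_of_moved [Finite G] (F : TFam 𝓒) (hc : c ∈ 𝓒) (hd : d ∈ 𝓒) (hcd : c ≠ d) (hL : L ∈ c) (hM : M ∈ d)
    (hs : s ∈ L) {n : ℕ} (hsn : s ^ 2 ^ n = 1) (hsd : s ∈ St d) (hsM : cj s M ≠ M)
    {a : G} (haL : a ∈ L) (ha2 : a * a = 1) (ha1 : a ≠ 1) (hac : ∀ x ∈ L, a * x = x * a) (had : a ∈ St d) : False := by
  classical
  have hUa : InU c a := F.inU_of_mem hc hL haL ha2 ha1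
  have hai : a⁻¹ = a := inv_of_sq ha2
  have haM : cj a M = M := F.norm c hc d hd hcd a hUa had M hM
  -- we may assume that `s²` normalises `M`
  obtain ⟨t, htL, htn, htd, htM, httM⟩ : ∃ t ∈ L, t ^ 2 ^ n = 1 ∧ t ∈ St d ∧ cj t M ≠ M ∧ cj (t * t) M = M := by
    have hex : ∃ j : ℕ, cj (s ^ 2 ^ j) M = M := ⟨n, by rw [hsn, cj_one]⟩
    obtain ⟨j, hj⟩ : ∃ j, Nat.find hex = j + 1 := by
      refine ⟨Nat.find hex - 1, ?_⟩
      have : Nat.find hex ≠ 0 := by
        intro h0
        have h1 := Nat.find_spec hex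
        rw [h0, pow_zero, pow_one] at h1
        exact hsM h1
      omega
    refine ⟨s ^ 2 ^ j, pow_mem hs _, ?_, pow_mem hsd _, Nat.find_min hex (by omega), ?_⟩
    · rw [← pow_mul, mul_comm, pow_mul, hsn, one_pow]
    · have h1 := Nat.find_spec hex
      rw [hj] at h1
      have e : s ^ 2 ^ j * s ^ 2 ^ j = s ^ 2 ^ (j + 1) := by rw [← pow_add, ← two_mul, ← pow_succ']
      rwa [e]
  have ht2 : t * t ≠ 1 := by
    intro h1
    have ht1 : t ≠ 1 := by
      rintro rfl
      exact htM (cj_one M)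
    exact htM (F.norm c hc d hd hcd t (F.inU_of_mem hc hL htL h1 ht1) htd M hM)
  -- Z*
  have hev : 2 ∣ Nat.card M := by
    obtain ⟨x, hx, hx2, hx1, -⟩ := F.ec d hd M hM
    have h1 : orderOf (⟨x, hx⟩ : M) = 2 :=
      orderOf_eq_prime (by rw [pow_two]; exact Subtype.ext hx2) (fun h => hx1 (congrArg Subtype.val h))
    rw [← h1]
    exact orderOf_dvd_natCard _
  obtain ⟨l, hl, hl1, hl2⟩ := ZStar.zst (F.qs d hd M hM) hev ha2 haM (by
    by_contra hcon
    push Not at hcon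
    exact F.not_both hc hd hcd hUa ⟨ha2, ha1, M, hM, hcon⟩)
  have heM : l⁻¹ * (a * l * a⁻¹) ∈ M := mul_mem (inv_mem hl) (conj_mem_of_cj haM hl)
  have h3 : (l⁻¹ * a * l) * a = a * (l⁻¹ * a * l) := by
    calc (l⁻¹ * a * l) * a = l⁻¹ * (a * (l * a * l⁻¹)) * l := by group
      _ = l⁻¹ * ((l * a * l⁻¹) * a) * l := by rw [hl2]
      _ = _ := by group
  have he2 : l⁻¹ * (a * l * a⁻¹) * (l⁻¹ * (a * l * a⁻¹)) = 1 := by
    rw [hai]
    calc l⁻¹ * (a * l * a) * (l⁻¹ * (a * l * a)) = ((l⁻¹ * a * l) * a) * ((l⁻¹ * a * l) * a) := by group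
      _ = (a * (l⁻¹ * a * l)) * ((l⁻¹ * a * l) * a) := by rw [h3]
      _ = a * (l⁻¹ * (a * a) * l) * a := by group
      _ = a * (l⁻¹ * 1 * l) * a := by rw [ha2]
      _ = a * a := by group
      _ = 1 := ha2
  have he := F.no_comm hc hd hcd hL hM htL htn ht2 htd htM httM haL ha2 ha1 hac had hl heM he2 (by group)
  apply hl1
  have h4 : l = a * l * a⁻¹ := by
    calc l = l * (l⁻¹ * (a * l * a⁻¹)) := by rw [he, mul_one]
      _ = _ := by group
  calc l * a * l⁻¹ = (a * l * a⁻¹) * a * l⁻¹ := by rw [← h4]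
    _ = a := by group

end

/-! ### the result -/

/-- **(sw), `n ≥ 3`**: if `c ≠ d` are adjacent, a 2-element of a member of `c` stabilising `d` normalises the members
of `d`. -/
theorem sw_three [Finite G] (hev : EvQ G) (hbal : Bal G) {K : Subgroup G} (h : KH K) (F : EFam (Fm K))
    (three : ∀ Λ ∈ Fm K, ∀ A B : Subgroup G, ∃ D ∈ Λ, D ≠ A ∧ D ≠ B)
    {c d : Set (Subgroup G)} (hc : c ∈ Fm K) (hd : d ∈ Fm K) (hcd : c ≠ d) (had : EvDefs.Ad c d) {L : Subgroup G} (hL : L ∈ c)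
    {s : G} (hs : s ∈ L) (hs2 : ∃ n : ℕ, s ^ 2 ^ n = 1) (hsd : s ∈ St d) : s ∈ Nm d := by
  have T : TFam (Fm K) := { toEFam := F
                            three := three
                            norm := fun c hc d hd hcd v hv hvS B hB => normE hev hbal h F three hc hd hcd hv hvS hB }
  obtain ⟨n, hsn⟩ := hs2
  intro M hM
  by_contra hsM
  obtain ⟨e, he, he1, heS⟩ := had
  have heL : cj e L = L := T.norm d hd c hc (Ne.symm hcd) e (F.inU_of_Zc hd he he1) heS L hL
  -- a central involution of `L` commuting with `e`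
  have hX : cj e (L ⊓ Subgroup.centralizer (L : Set G)) = L ⊓ Subgroup.centralizer (L : Set G) := by
    have key : ∀ g : G, cj g L = L → cj g (L ⊓ Subgroup.centralizer (L : Set G)) ≤ L ⊓ Subgroup.centralizer (L : Set G) := by
      intro g hg x hx
      rw [mem_cj, Subgroup.mem_inf] at hx
      have hx1 : x ∈ L := by
        have := hx.1
        rw [← mem_cj, hg] at this
        exact this
      refine Subgroup.mem_inf.mpr ⟨hx1, Subgroup.mem_centralizer_iff.mpr fun y hy => ?_⟩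
      have hy' : g⁻¹ * y * g ∈ L := by
        rw [← mem_cj, hg]; exact hy
      have h1 := Subgroup.mem_centralizer_iff.mp hx.2 _ hy'
      calc y * x = g * (g⁻¹ * y * g * (g⁻¹ * x * g)) * g⁻¹ := by group
        _ = x * y := by rw [h1]; group
    refine le_antisymm (key e heL) ?_
    have h1 := cj_mono (g := e) (key e⁻¹ (cj_inv_eq heL))
    rwa [cj_cj_inv] at h1
  obtain ⟨a, haX, ha2, ha1, hea⟩ := exists_fixed_inv (Zc_sq he) hX (by
    obtain ⟨x, hx, hx2, hx1, hxc⟩ := F.ec c hc L hL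
    exact ⟨x, Subgroup.mem_inf.mpr ⟨hx, Subgroup.mem_centralizer_iff.mpr fun y hy => (hxc y hy).symm⟩, hx2, hx1⟩)
  rw [Subgroup.mem_inf] at haX
  have hac : ∀ x ∈ L, a * x = x * a := fun x hx => (Subgroup.mem_centralizer_iff.mp haX.2 x hx).symm
  have haSt : a ∈ St d := F.cen hd (F.inU_of_Zc hd he he1) hea
  exact T.false_of_moved hc hd hcd hL hM hs hsn hsd hsM haX.1 ha2 ha1 hac haSt

end Cfsg.Agent.OddHalf.D3.EvSwN
end

-- part: KFacts/F4Aut
section
prune_inst 0x430307524042202000000000220003c42ea000092006b8000d160034006c63f430d0007205c201a101002a204003c004000980059423800000a0086004119008084aa52069248a10426008f00f804000000000000000000000000000000041000000000000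
set_option linter.all false
open scoped Cfsg.Agent.FastGrp

/-!
`F₄(q)`, `q` even: automorphisms (K-group facts for S1765, node D10; F4).

* `inner_of_fix_X` : an automorphism of `F₄(q)` acting trivially on one root group is inner, induced by an element of
  the centraliser of the root group.
-/

set_option autoImplicit false
set_option Elab.async false

namespace Cfsg.Agent.KFacts.F4Aut

open CoxeterSystem Cfsg.Agent.ChevalleyStructure.CoxeterGeom Cfsg.Agent.Tits.Roots Cfsg.Agent.Tits.Core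
open Cfsg.Lie Cfsg.Agent.ChevalleyStructure Cfsg.Agent.ChevalleyStructure.Elts
  Cfsg.Agent.ChevalleyStructure.RootVec Cfsg.Agent.ChevalleyStructure.CoxeterGeomTypes
open Cfsg.Agent.Nodes Cfsg.Agent.Nodes.Reps Cfsg.Agent.Nodes.BNOf Cfsg.Agent.Nodes.RGDChev Cfsg.Agent.Nodes.Coroot
  Cfsg.Agent.Nodes.KindF Cfsg.Agent.Nodes.Bruhat Cfsg.Agent.Nodes.OppDec Cfsg.Agent.Nodes.LeviDec
  Cfsg.Agent.Nodes.NormalForm Cfsg.Agent.KFacts.ChevTwo Cfsg.Agent.KFacts.ChevTwoTab
  Cfsg.Agent.KFacts.ChevTwoInst Cfsg.Agent.KFacts.RgdTI Cfsg.Agent.KFacts.RgdAut Cfsg.Agent.KFacts.RgdDiag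
  Cfsg.Agent.KFacts.RgdRigid Cfsg.Agent.KFacts.RgdField Cfsg.Agent.KFacts.RgdTau Cfsg.Agent.KFacts.RgdSys
  Cfsg.Agent.KFacts.RgdAutFacts Cfsg.Agent.KFacts.RgdGraphF4
  Cfsg.Agent.KFacts.F4Star Cfsg.Agent.KFacts.F4Cent Cfsg.Agent.KFacts.F4Pair Cfsg.Agent.KFacts.F4Torus
  Cfsg.Agent.KFacts.F4Perf

universe u

/-- The symmetries of the diagram `F₄`. -/
theorem perm_F4 (σ : Equiv.Perm (Fin 4)) (hσ : ∀ i j, CoxeterMatrix.F₄ (σ i) (σ j) = CoxeterMatrix.F₄ i j) :
    σ = 1 ∨ (σ 0 = 3 ∧ σ 1 = 2 ∧ σ 2 = 1 ∧ σ 3 = 0) := by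
  have key : ∀ a b c d : Fin 4, mF4 a b = 3 → mF4 b c = 4 → mF4 c d = 3 →
      (a = 0 ∧ b = 1 ∧ c = 2 ∧ d = 3) ∨ (a = 3 ∧ b = 2 ∧ c = 1 ∧ d = 0) := by decide +kernel
  have h01 : mF4 (σ 0) (σ 1) = 3 := (hσ 0 1).trans (show mF4 0 1 = 3 by decide +kernel)
  have h12 : mF4 (σ 1) (σ 2) = 4 := (hσ 1 2).trans (show mF4 1 2 = 4 by decide +kernel)
  have h23 : mF4 (σ 2) (σ 3) = 3 := (hσ 2 3).trans (show mF4 2 3 = 3 by decide +kernel)
  rcases key _ _ _ _ h01 h12 h23 with ⟨h0, h1, h2, h3⟩ | ⟨h0, h1, h2, h3⟩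
  · left
    ext i
    fin_cases i
    · exact congrArg Fin.val h0
    · exact congrArg Fin.val h1
    · exact congrArg Fin.val h2
    · exact congrArg Fin.val h3
  · exact Or.inr ⟨h0, h1, h2, h3⟩

variable {W : Type*} [Group W] (cs : CoxeterSystem CoxeterMatrix.F₄ W)

theorem sh_sr0 : Sh cs (sr 0) := by rw [← v33]; exact (testBit_short cs (by norm_num)).1 (by decide +kernel)
theorem sh_sr1 : Sh cs (sr 1) := by rw [← v27]; exact (testBit_short cs (by norm_num)).1 (by decide +kernel)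
theorem lg_sr2 : Lg cs (sr 2) := by rw [← v25]; exact (testBit_long cs (by norm_num)).1 (by decide +kernel)
theorem lg_sr3 : Lg cs (sr 3) := by rw [← v24]; exact (testBit_long cs (by norm_num)).1 (by decide +kernel)

/-- The graph symmetry interchanges the lengths. -/
theorem lg_swap {σ : Equiv.Perm (Fin 4)} (hσ : σ 0 = 3 ∧ σ 1 = 2 ∧ σ 2 = 1 ∧ σ 3 = 0) (i : Fin 4) :
    Lg cs (sr (σ i)) ↔ ¬ Lg cs (sr i) := by
  obtain ⟨h0, h1, h2, h3⟩ := hσ
  have i0 := sh_sr0 cs
  have i1 := sh_sr1 cs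
  have i2 := lg_sr2 cs
  have i3 := lg_sr3 cs
  fin_cases i
  · show Lg cs (sr (σ 0)) ↔ ¬ Lg cs (sr 0)
    rw [h0]; exact iff_of_true i3 i0.2
  · show Lg cs (sr (σ 1)) ↔ ¬ Lg cs (sr 1)
    rw [h1]; exact iff_of_true i2 i1.2
  · show Lg cs (sr (σ 2)) ↔ ¬ Lg cs (sr 2)
    rw [h2]; exact iff_of_false i1.2 (not_not.2 i2)
  · show Lg cs (sr (σ 3)) ↔ ¬ Lg cs (sr 3)
    rw [h3]; exact iff_of_false i0.2 (not_not.2 i3)

theorem pos_ge {a : ℕ} (ha : a < 48) (h : (starM (2 ^ 48 - 2 ^ 24)).testBit a = true) {x : Fin 4 → ℤ}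
    (hx : x ∈ RGD.Pos cs isType.isCartan) : x ∈ Ge cs isType.isCartan (v a) := by
  have hW : Finite W := finite_W isType cs
  obtain ⟨r, hr, rfl⟩ := exists_v cs hx.1
  rw [testBit_starM] at h
  have h1 := h.2 r hr ((testBit_posM hr).2 ((mem_pos_iff cs hr).1 hx))
  rw [testBit_nn cs hr ha, cpr_nonneg_comm cs (isRoot_v cs ha) (isRoot_v cs hr)] at h1
  exact ⟨isRoot_v cs hr, h1⟩

variable {K : Type u} [Field K] [Finite K] [CharP K 2]

omit [Finite K] [CharP K 2] in
theorem GG_top : GG cs isType.isCartan (TF K) (XF K) = ⊤ := GG_eq_top (G1_eq_top isType cs)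

theorem noCent : RgdCent.NoCent cs isType.isCartan (TF K) (XF K) := fun _ _ h1 =>
  eq_one_of_comm cs fun x hx u => h1 x hx _ ((mem_XF_iff cs hx).2 ⟨u, rfl⟩)

theorem fix_conj {Y : Type*} [Group Y] {H : Subgroup Y} {t : Y} (ht : t ∈ Subgroup.normalizer (H : Set Y)) :
    Fix (MulAut.conj t) H := fun x => (Subgroup.mem_normalizer_iff.1 ht x).symm

/-- Automorphisms trivial on the root group of a dominant root: the base case. -/
theorem base {a : Fin 4 → ℤ} (ha : IsRoot cs isType.isCartan a)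
    (hdom : ∀ x ∈ RGD.Pos cs isType.isCartan, x ∈ Ge cs isType.isCartan a)
    {α : MulAut ↥(chevF4.group K)} (hα : ∀ z ∈ XF K a, α z = z) : ∃ g : ↥(chevF4.group K), α = MulAut.conj g := by
  have hW : Finite W := finite_W isType cs
  have : Fact (Nat.Prime 2) := ⟨Nat.prime_two⟩
  have hG1 := G1_eq_top (K := K) isType cs
  have hG := GG_top (K := K) cs
  obtain ⟨R, hR⟩ : ∃ R, R = rgd (K := K) isType cs 2 := ⟨_, rfl⟩
  have S : Sys R (eF K) := hR ▸ sysF (K := K) cs
  obtain ⟨z, hz, hz1⟩ : ∃ z ∈ XF K a, z ≠ 1 := by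
    have h1 := X_ne_bot R ha
    rw [ne_eq, Subgroup.eq_bot_iff_forall] at h1
    push Not at h1
    exact h1
  have hPU : RGD.Sup (XF K) (RGD.Pos cs isType.isCartan) ≤ PF cs K a := RGD.Sup_mono hdom
  have hPc : ∀ g ∈ PF cs K a, ∀ y ∈ XF K a, g * y = y * g := by
    intro g hg y hy
    exact (S.lr ha).comm' hg hy
  have hαP : ∀ g ∈ PF cs K a, α g ∈ PF cs K a := by
    intro g hg
    apply cent_X cs ha hz hz1
    rw [← hα z hz, ← map_mul, ← map_mul, hPc g hg z hz]
  -- the Sylow group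
  obtain ⟨Q, hQ⟩ := exists_sylow R hG
  obtain ⟨Q', hQ'⟩ : ∃ Q' : Sylow 2 ↥(chevF4.group K),
      (Q' : Subgroup ↥(chevF4.group K)) = (RGD.Sup (XF K) (RGD.Pos cs isType.isCartan)).map α.toMonoidHom :=
    ⟨α • Q, by rw [← hQ]; rfl⟩
  have hle : (Q : Subgroup ↥(chevF4.group K)) ≤ PF cs K a := by rw [hQ]; exact hPU
  have hle' : (Q' : Subgroup ↥(chevF4.group K)) ≤ PF cs K a := by
    rw [hQ']
    rintro _ ⟨y, hy, rfl⟩
    exact hαP y (hPU hy)
  obtain ⟨q, hq⟩ := MulAction.exists_smul_eq ↥(PF cs K a) (Q'.subtype hle') (Q.subtype hle)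
  have hqU : ∀ x ∈ RGD.Sup (XF K) (RGD.Pos cs isType.isCartan),
      (q : ↥(chevF4.group K)) * α x * (q : ↥(chevF4.group K))⁻¹ ∈ RGD.Sup (XF K) (RGD.Pos cs isType.isCartan) := by
    intro x hx
    have h1 : q * ⟨α x, hαP x (hPU hx)⟩ * q⁻¹ ∈ (Q.subtype hle : Subgroup ↥(PF cs K a)) := by
      rw [← hq, Sylow.coe_subgroup_smul, Subgroup.mem_pointwise_smul_iff_inv_smul_mem]
      have h2 : (MulAut.conj q)⁻¹ • (q * ⟨α x, hαP x (hPU hx)⟩ * q⁻¹) = ⟨α x, hαP x (hPU hx)⟩ := by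
        rw [← map_inv]
        show q⁻¹ * (q * ⟨α x, hαP x (hPU hx)⟩ * q⁻¹) * q⁻¹⁻¹ = _
        group
      rw [h2, Sylow.coe_subtype, Subgroup.mem_subgroupOf, hQ']
      exact ⟨x, hx, rfl⟩
    rw [Sylow.coe_subtype, Subgroup.mem_subgroupOf, hQ] at h1
    exact h1
  have hfix : Fix (MulAut.conj (q : ↥(chevF4.group K)) * α) (RGD.Sup (XF K) (RGD.Pos cs isType.isCartan)) := by
    rw [fix_iff]
    refine Subgroup.eq_of_le_of_card_ge ?_ ?_
    · rintro _ ⟨y, hy, rfl⟩
      exact hqU y hy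
    · rw [Subgroup.card_map_of_injective (MulEquiv.injective _)]
  obtain ⟨u, hu, hU, hB, hUN, hBN, hT⟩ := exists_frame R hG hfix
  obtain ⟨β, hβ⟩ : ∃ β, β = MulAut.conj u * (MulAut.conj (q : ↥(chevF4.group K)) * α) := ⟨_, rfl⟩
  rw [← hβ] at hU hB hUN hBN hT
  have hβz : ∀ y ∈ XF K a, β y = y := by
    intro y hy
    rw [hβ]
    show u * ((q : ↥(chevF4.group K)) * α y * (q : ↥(chevF4.group K))⁻¹) * u⁻¹ = y
    rw [hα y hy, hPc _ q.2 y hy, mul_inv_cancel_right, hPc u (hPU hu) y hy, mul_inv_cancel_right]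
  -- no graph part
  obtain ⟨σ, D⟩ := exists_diag R hG hU hUN
  have hσ1 : σ = 1 := by
    rcases perm_F4 σ (D.matrix R) with h1 | h1
    · exact h1
    exfalso
    obtain ⟨w, i, rfl⟩ := ha
    have h2 := (D.root R (D.matrix R) w i z).2 hz
    rw [hβz z hz] at h2
    have h3 : rep cs isType.isCartan (hat cs σ (D.matrix R) w) (sr (σ i)) = rep cs isType.isCartan w (sr i) := by
      by_contra hne
      have h4 := X_inf_X R (⟨_, _, rfl⟩ : IsRoot cs isType.isCartan
        (rep cs isType.isCartan (hat cs σ (D.matrix R) w) (sr (σ i)))) ⟨w, i, rfl⟩ hne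
      rw [Subgroup.eq_bot_iff_forall] at h4
      exact hz1 (h4 z ⟨h2, hz⟩)
    have h4 : Lg cs (sr (σ i)) ↔ Lg cs (sr i) := by
      rw [← lg_rep_iff cs (hat cs σ (D.matrix R) w), h3, lg_rep_iff cs w]
    have h5 := lg_swap cs h1 i
    tauto
  subst hσ1
  -- no field part
  have C := coords S hG1
  have H := coroots S hG1 (noCent cs)
  obtain ⟨τ, B⟩ := exists_tau R C H hconn_F4 D fun _ _ => rfl
  have hτ : τ = 1 := by
    obtain ⟨c, hc, e⟩ := Tau.root R C B ha
    have e' : ∀ b, c * τ b = b := by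
      intro b
      have h1 := e b
      rw [hβz _ ((mem_XF_iff cs ha).2 ⟨b, rfl⟩)] at h1
      exact (S.data.injective ha h1).symm
    have h1 := e' 1
    rw [map_one, mul_one] at h1
    ext b
    have h2 := e' b
    rw [h1, one_mul] at h2
    exact h2
  subst hτ
  -- the torus part
  have hc : ∀ i, ∃ c : Kˣ, ∀ b, β (eF K (sr i) b) = eF K (sr i) (c * b) := by
    intro i
    obtain ⟨c, hc, e⟩ := Tau.root R C B (isRoot_sr cs isType.isCartan i)
    exact ⟨Units.mk0 c hc, e⟩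
  choose c hc using hc
  obtain ⟨χ, hχ⟩ : ∃ χ : (Fin 4 → ℤ) →+ Additive Kˣ, ∀ i, χ (sr i) = Additive.ofMul (c i) := by
    refine ⟨∑ i, (zmultiplesHom _ (Additive.ofMul (c i))).comp (Pi.evalAddMonoidHom (fun _ => ℤ) i), fun i => ?_⟩
    rw [AddMonoidHom.finsetSum_apply, Finset.sum_eq_single i]
    · simp [sr_self]
    · intro j _ hj
      simp [sr_ne hj]
    · intro h; exact absurd (Finset.mem_univ i) h
  obtain ⟨t, ht, het⟩ := exists_torus (K := K) cs χ
  have hsup : ∀ Ω : Set (Fin 4 → ℤ), (∀ x ∈ Ω, IsRoot cs isType.isCartan x) →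
      t⁻¹ ∈ Subgroup.normalizer (RGD.Sup (XF K) Ω : Set ↥(chevF4.group K)) := by
    intro Ω hΩ
    rw [mem_normalizer_iff_cj, RGD.cj_Sup]
    exact iSup_congr fun z => R.tor z.1 (hΩ z.1 z.2) _ (inv_mem ht)
  have h1 : MulAut.conj t⁻¹ * β = 1 := by
    refine eq_one_of_fix R hG1 ((fix_conj (hsup _ fun x hx => hx.1)).mul hU)
      ((fix_conj (hsup _ fun x hx => hx.1)).mul hUN) fun i y hy => ?_
    obtain ⟨b, rfl⟩ := (mem_XF_iff cs (isRoot_sr cs isType.isCartan i)).1 hy
    show t⁻¹ * β (eF K (sr i) b) * t⁻¹⁻¹ = _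
    have h2 := het (sr i) (isRoot_sr cs isType.isCartan i) b
    rw [hχ, toMul_ofMul, ← hc] at h2
    rw [← h2]; group
  refine ⟨(q : ↥(chevF4.group K))⁻¹ * u⁻¹ * t, ?_⟩
  have h2 : α = (MulAut.conj (q : ↥(chevF4.group K)))⁻¹ * (MulAut.conj u)⁻¹ * MulAut.conj t *
      (MulAut.conj t⁻¹ * β) := by
    rw [hβ, map_inv]; group
  rw [h2, h1, mul_one, map_mul, map_mul, map_inv, map_inv]

/-- **Rigidity (R)**: an automorphism of `F₄(q)` trivial on a root group is conjugation by an element of the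
centraliser of the root group. -/
theorem inner_of_fix_X {a : Fin 4 → ℤ} (ha : IsRoot cs isType.isCartan a)
    {α : MulAut ↥(chevF4.group K)} (hα : ∀ z ∈ XF K a, α z = z) :
    ∃ g ∈ PF cs K a, α = MulAut.conj g := by
  have hW : Finite W := finite_W isType cs
  have h0 : ∃ g : ↥(chevF4.group K), α = MulAut.conj g := by
    obtain ⟨w, hw⟩ := exists_dom cs ha
    obtain ⟨m, hm⟩ := exists_rep (K := K) cs w
    have h1 : ∀ z ∈ XF K (rep cs isType.isCartan w a), (MulAut.conj m * α * (MulAut.conj m)⁻¹) z = z := by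
      intro z hz
      obtain ⟨u, rfl⟩ := (mem_XF_iff cs (ha.act w)).1 hz
      rw [← hm a ha u, ← map_inv]
      show m * α (m⁻¹ * (m * eF K a u * m⁻¹) * m⁻¹⁻¹) * m⁻¹ = _
      have e : m⁻¹ * (m * eF K a u * m⁻¹) * m⁻¹⁻¹ = eF K a u := by group
      rw [e, hα _ ((mem_XF_iff cs ha).2 ⟨u, rfl⟩)]
    have h2 : ∀ x ∈ RGD.Pos cs isType.isCartan,
        x ∈ Ge cs isType.isCartan (rep cs isType.isCartan w a) := by
      intro x hx
      rcases hw with hw | hw
      · rw [hw]; exact pos_ge cs (by norm_num) (by decide +kernel) hx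
      · rw [hw]; exact pos_ge cs (by norm_num) (by decide +kernel) hx
    obtain ⟨g, hg⟩ := base cs (ha.act w) h2 h1
    refine ⟨m⁻¹ * g * m, ?_⟩
    rw [map_mul, map_mul, map_inv, ← hg]; group
  obtain ⟨g, rfl⟩ := h0
  refine ⟨g, ?_, rfl⟩
  have h1 := X_ne_bot (rgd (K := K) isType cs 2) ha
  rw [ne_eq, Subgroup.eq_bot_iff_forall] at h1
  push Not at h1
  obtain ⟨z, hz, hz1⟩ := h1
  refine cent_X cs ha hz hz1 ?_
  have h2 := hα z hz
  rw [MulAut.conj_apply] at h2
  calc g * z = g * z * g⁻¹ * g := by group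
    _ = z * g := by rw [h2]

end Cfsg.Agent.KFacts.F4Aut
end

-- part: KFacts/F4AutPair
section
set_option linter.all false
open scoped Cfsg.Agent.FastGrp

/-!
`F₄(q)`, `q` even: automorphisms centralising many root groups (K-group facts for S1765, nodes D4, D7; F4).

An automorphism `α` of `F₄(q)` trivial on `X_c` for all `c ∈ Ψ(a, b)` is conjugation by an element of
`⟨X_c : c ∈ Cone a b⟩`: `aut_pair`, `aut_pairL`, `aut_pairS`; `aut_P`, `aut_Q`, `aut_pos`.
-/

set_option autoImplicit false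
set_option Elab.async false

namespace Cfsg.Agent.KFacts.F4AutPair

open CoxeterSystem Cfsg.Agent.ChevalleyStructure.CoxeterGeom Cfsg.Agent.Tits.Roots Cfsg.Agent.Tits.Core
open Cfsg.Lie Cfsg.Agent.ChevalleyStructure Cfsg.Agent.ChevalleyStructure.Elts
  Cfsg.Agent.ChevalleyStructure.RootVec Cfsg.Agent.ChevalleyStructure.CoxeterGeomTypes
open Cfsg.Agent.Nodes Cfsg.Agent.Nodes.Reps Cfsg.Agent.Nodes.BNOf Cfsg.Agent.Nodes.RGDChev Cfsg.Agent.Nodes.Coroot
  Cfsg.Agent.Nodes.KindF Cfsg.Agent.Nodes.Bruhat Cfsg.Agent.Nodes.OppDec Cfsg.Agent.Nodes.LeviDec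
  Cfsg.Agent.KFacts.ChevTwo Cfsg.Agent.KFacts.ChevTwoTab
  Cfsg.Agent.KFacts.ChevTwoInst Cfsg.Agent.KFacts.RgdTI
  Cfsg.Agent.KFacts.F4Star Cfsg.Agent.KFacts.F4Cent Cfsg.Agent.KFacts.F4Pair Cfsg.Agent.KFacts.F4Torus
  Cfsg.Agent.KFacts.F4Perf Cfsg.Agent.KFacts.F4Aut

universe u

theorem neChk : ([33, 27, 25, 24].all fun a => (List.range 48).all fun b => Nat.beq (a + b) 47 ||
    (((List.range 48).any fun c => (psi0 a b).testBit c) && ((List.range 48).any fun c => (psiL a b).testBit c) &&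
      (List.range 48).any fun c => (psiS a b).testBit c)) = true := by decide +kernel

variable {W : Type*} [Group W] (cs : CoxeterSystem CoxeterMatrix.F₄ W)

theorem psi_ne {a b : Fin 4 → ℤ} (ha : IsRoot cs isType.isCartan a) (hb : IsRoot cs isType.isCartan b)
    (hab : b ≠ -a) : (Psi cs 0 0 a b).Nonempty ∧ (Psi cs 0 1 a b).Nonempty ∧ (Psi cs 1 0 a b).Nonempty := by
  have hW : Finite W := finite_W isType cs
  obtain ⟨w, i, rfl⟩ := ha
  obtain ⟨b', rfl⟩ : ∃ b', rep cs isType.isCartan w b' = b := ⟨_, rep_apply_inv _ _ _ _⟩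
  rw [isRoot_rep_iff] at hb
  have hsr := isRoot_sr cs isType.isCartan i
  have hab' : b' ≠ -sr i := fun h => hab (by rw [h, map_neg])
  have key : ∀ {L S : ℤ}, (Psi cs L S (sr i) b').Nonempty →
      (Psi cs L S (rep cs isType.isCartan w (sr i)) (rep cs isType.isCartan w b')).Nonempty := by
    rintro L S ⟨c, hc⟩
    exact ⟨_, (rep_mem_psi cs hsr hb w).2 hc⟩
  obtain ⟨a, ha, ha', ha''⟩ := simple_mem i
  obtain ⟨r, hr, rfl⟩ := exists_v cs hb
  rw [← ha''] at hab' key ⊢
  have h1 := List.all_eq_true.1 (List.all_eq_true.1 neChk a ha') r (List.mem_range.2 hr)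
  rw [Bool.or_eq_true, Bool.and_eq_true, Bool.and_eq_true] at h1
  rcases h1 with h1 | ⟨⟨h1, h2⟩, h3⟩
  · exact absurd (eq_neg_of_add ha h1) hab'
  · obtain ⟨c1, hc1, e1⟩ := List.any_eq_true.1 h1
    obtain ⟨c2, hc2, e2⟩ := List.any_eq_true.1 h2
    obtain ⟨c3, hc3, e3⟩ := List.any_eq_true.1 h3
    refine ⟨key ⟨v c1, ?_⟩, key ⟨v c2, ?_⟩, key ⟨v c3, ?_⟩⟩
    · rw [← SetOf_psi0 cs ha hr]; exact (mem_SetOf (List.mem_range.1 hc1)).2 e1
    · rw [← SetOf_psiL cs ha hr]; exact (mem_SetOf (List.mem_range.1 hc2)).2 e2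
    · rw [← SetOf_psiS cs ha hr]; exact (mem_SetOf (List.mem_range.1 hc3)).2 e3

variable {K : Type u} [Field K] [Finite K] [CharP K 2]

/-- An automorphism trivial on all `X_c`, `c ∈ Ψ`, is conjugation by an element commuting with `X_c`, `c ∈ Ψ`. -/
theorem exists_conj {Ψ : Set (Fin 4 → ℤ)} (hΨ : Ψ.Nonempty) (hr : ∀ c ∈ Ψ, IsRoot cs isType.isCartan c)
    {α : MulAut ↥(chevF4.group K)} (hα : ∀ c ∈ Ψ, ∀ z ∈ XF K c, α z = z) :
    ∃ g : ↥(chevF4.group K), α = MulAut.conj g ∧ Cm g Ψ := by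
  have hW : Finite W := finite_W isType cs
  obtain ⟨c, hc⟩ := hΨ
  obtain ⟨g, -, rfl⟩ := inner_of_fix_X cs (hr c hc) (hα c hc)
  refine ⟨g, rfl, fun d hd => ?_⟩
  have h1 := X_ne_bot (rgd (K := K) isType cs 2) (hr d hd)
  rw [ne_eq, Subgroup.eq_bot_iff_forall] at h1
  push Not at h1
  obtain ⟨z, hz, hz1⟩ := h1
  refine ⟨z, hz, hz1, ?_⟩
  have h2 := hα d hd z hz
  rw [MulAut.conj_apply] at h2
  calc g * z = g * z * g⁻¹ * g := by group
    _ = z * g := by rw [h2]

theorem aut_pairL {a b : Fin 4 → ℤ} (ha : IsRoot cs isType.isCartan a) (hb : IsRoot cs isType.isCartan b)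
    (hab : b ≠ -a) (h1 : Lg cs a → Lg cs b → cpr cs isType.isCartan b a = 0)
    (h2 : (Lg cs a ↔ Sh cs b) → cpr cs isType.isCartan b a ≠ 0)
    {α : MulAut ↥(chevF4.group K)} (hα : ∀ c ∈ Psi cs 0 1 a b, ∀ z ∈ XF K c, α z = z) :
    ∃ g ∈ RGD.Sup (XF K) (Cone cs a b), α = MulAut.conj g := by
  obtain ⟨g, hg, hg'⟩ := exists_conj cs (psi_ne cs ha hb hab).2.1 (fun c hc => hc.1) hα
  exact ⟨g, cent_pairL cs ha hb hab h1 h2 hg', hg⟩

theorem aut_pairS {a b : Fin 4 → ℤ} (ha : IsRoot cs isType.isCartan a) (hb : IsRoot cs isType.isCartan b)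
    (hab : b ≠ -a) (h1 : Sh cs a → Sh cs b → cpr cs isType.isCartan b a = 0)
    (h2 : (Lg cs a ↔ Sh cs b) → cpr cs isType.isCartan b a ≠ 0)
    {α : MulAut ↥(chevF4.group K)} (hα : ∀ c ∈ Psi cs 1 0 a b, ∀ z ∈ XF K c, α z = z) :
    ∃ g ∈ RGD.Sup (XF K) (Cone cs a b), α = MulAut.conj g := by
  obtain ⟨g, hg, hg'⟩ := exists_conj cs (psi_ne cs ha hb hab).2.2 (fun c hc => hc.1) hα
  exact ⟨g, cent_pairS cs ha hb hab h1 h2 hg', hg⟩

theorem aut_pos {α : MulAut ↥(chevF4.group K)}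
    (hα : ∀ c ∈ RGD.Pos cs isType.isCartan, ∀ z ∈ XF K c, α z = z) :
    ∃ g ∈ RGD.Sup (XF K) {v 47, v 44}, α = MulAut.conj g := by
  obtain ⟨g, hg, hg'⟩ := exists_conj cs
    (Ψ := RGD.Pos cs isType.isCartan) ⟨v 47, (mem_pos_iff cs (by norm_num)).2 (by norm_num)⟩ (fun c hc => hc.1) hα
  exact ⟨g, cent_pos cs hg', hg⟩

end Cfsg.Agent.KFacts.F4AutPair
end

-- part: OddHalf/Quat/RowHex
section
set_option linter.all false
open scoped Cfsg.Agent.FastGrp

/-!
# Node Q: `G₂(q)` and `³D₄(q)`, `q` even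

For a hexagonal system `HexTwo σ x` in a finite group `K` with `AA σ x = ⊤` and a Sylow 2-subgroup `P`:
`exists_sylow`: after conjugation `P = UU σ x`; then `Ω₁(Z(P)) = X₄`, `N_K(P) = P H`, transitive on `X₄#` with abelian
image.
-/

set_option autoImplicit false
set_option maxHeartbeats 400000

namespace Cfsg.Agent.OddHalf.Quat.RowHex

open Subgroup Cfsg.Agent.StdRank2.Hex Cfsg.Agent.StdRank2.Hex.HexTwo

variable {E : Type*} [Field E] {σ : E ≃+* E} {K : Type*} [Group K] {x : ZMod 12 → E → K}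

/-- every Sylow 2-subgroup is `UU` of a conjugate system -/
theorem exists_sylow [Finite E] [Finite K] (h : HexTwo σ x) (htop : AA σ x = ⊤) (P : Sylow 2 K) :
    ∃ y : ZMod 12 → E → K, HexTwo σ y ∧ AA σ y = ⊤ ∧ (P : Subgroup K) = UU σ y := by
  obtain ⟨p, -, hp⟩ := h.sylow_conj (S := ⊤) le_top (by rw [htop]) P.isPGroup' le_top
  have h1 : (P : Subgroup K) ≤ UU σ (cj p⁻¹ x) := fun y hy => by
    rw [UU, mem_gen_cj, inv_inv]
    exact hp y hy
  refine ⟨cj p⁻¹ x, h.conj p⁻¹, ?_, ?_⟩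
  · refine eq_top_iff.2 fun y _ => ?_
    rw [AA, mem_gen_cj, inv_inv]
    have : p * y * p⁻¹ ∈ AA σ x := by rw [htop]; exact mem_top _
    exact this
  · exact (P.3 (h.conj p⁻¹).isPGroup_U h1).symm

variable (h : HexTwo σ x)
include h

theorem XZ_eq : XZ (UU σ x) = (gen σ x {4} : Set K) := by
  ext y
  constructor
  · rintro ⟨h1, -, h3⟩
    exact h.mem_X4_of_U h1 fun v hv => (h3 v hv).symm
  · intro hy
    obtain ⟨t, ht, rfl⟩ := h.mem_gen_singleton.1 hy
    refine ⟨x_mem_gen (show (4 - 1 : ZMod 12).val < 6 by decide) ht, h.x_sq ht, fun u hu => ?_⟩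
    exact (h.comm_gen_long (by decide) ht (gen_mono (fun l hl => by
      have : ∀ l : ZMod 12, (l - 1).val < 6 → (l - (4 - 3)).val < 7 := by decide
      exact this l hl) hu)).symm

theorem mem_normalizer_H [Finite E] {t : K} (ht : t ∈ h.H) : t ∈ normalizer (UU σ x : Set K) := by
  rw [mem_normalizer_iff]
  intro y
  refine ⟨fun hy => h.H_conj_gen ht _ hy, fun hy => ?_⟩
  have h1 : t⁻¹ * (t * y * t⁻¹) * t⁻¹⁻¹ ∈ UU σ x := h.H_conj_gen (h.H.inv_mem ht) _ hy
  have h2 : t⁻¹ * (t * y * t⁻¹) * t⁻¹⁻¹ = y := by group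
  rwa [h2] at h1

theorem trans [Finite E] {y z : K} (hy : y ∈ XZ (UU σ x)) (hz : z ∈ XZ (UU σ x)) (hy1 : y ≠ 1) (hz1 : z ≠ 1) :
    ∃ r ∈ normalizer (UU σ x : Set K), r * y * r⁻¹ = z := by
  rw [XZ_eq h] at hy hz
  obtain ⟨a, ha, rfl⟩ := h.mem_gen_singleton.1 hy
  obtain ⟨b, hb, rfl⟩ := h.mem_gen_singleton.1 hz
  have ha0 : a ≠ 0 := fun e => hy1 (by rw [e, h.x_zero])
  have hb0 : b ≠ 0 := fun e => hz1 (by rw [e, h.x_zero])
  obtain ⟨s, hs⟩ := h.exists_sqrt (b * a⁻¹)
  have hs0 : s ≠ 0 := by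
    rintro rfl
    rw [zero_mul] at hs
    exact mul_ne_zero hb0 (inv_ne_zero ha0) hs.symm
  have hsf : σ s = s := h.sqrt_fix hs (by
    rw [map_mul, map_inv₀, ha (by decide), hb (by decide)])
  refine ⟨hh x 4 s, mem_normalizer_H h (h.hh_mem_H 4 hs0 (ok_of_fix 4 hsf)), ?_⟩
  rw [h.tor 4 4 hs0 (ok_of_fix 4 hsf) ha, sub_self, ch_zero_right, pow_two, hs, mul_assoc, inv_mul_cancel₀ ha0, mul_one]

theorem comm_XZ [Finite E] [Finite K] (htop : AA σ x = ⊤) {r s y : K} (hr : r ∈ normalizer (UU σ x : Set K))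
    (hs : s ∈ normalizer (UU σ x : Set K)) (hy : y ∈ XZ (UU σ x)) :
    (r * s) * y * (r * s)⁻¹ = (s * r) * y * (s * r)⁻¹ := by
  rw [XZ_eq h] at hy
  obtain ⟨a, ha, rfl⟩ := h.mem_gen_singleton.1 hy
  have key : ∀ g ∈ normalizer (UU σ x : Set K), ∃ c : E, Ok σ 4 c ∧ ∀ a, Ok σ 4 a → g * x 4 a * g⁻¹ = x 4 (c * a) := by
    intro g hg
    obtain ⟨u, hu, t, ht, rfl⟩ := h.mem_normalizer_U (g := g) (by rw [htop]; exact mem_top _)
      (fun u hu => (mem_normalizer_iff.1 hg u).1 hu)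
    obtain ⟨c, -, hc, hc'⟩ := h.H_diag ht 4
    refine ⟨c, hc, fun a ha => ?_⟩
    have h1 : Commute (x 4 (c * a)) u := h.comm_gen_long (by decide) (hc.mul ha) (gen_mono (fun l hl => by
      have : ∀ l : ZMod 12, (l - 1).val < 6 → (l - (4 - 3)).val < 7 := by decide
      exact this l hl) hu)
    rw [mul_inv_rev, show u * t * x 4 a * (t⁻¹ * u⁻¹) = u * (t * x 4 a * t⁻¹) * u⁻¹ by group, hc' a ha, ← h1.eq]
    group
  obtain ⟨c, hc, hc'⟩ := key r hr
  obtain ⟨d, hd, hd'⟩ := key s hs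
  rw [mul_inv_rev, mul_inv_rev, show r * s * x 4 a * (s⁻¹ * r⁻¹) = r * (s * x 4 a * s⁻¹) * r⁻¹ by group,
    show s * r * x 4 a * (r⁻¹ * s⁻¹) = s * (r * x 4 a * r⁻¹) * s⁻¹ by group, hd' a ha, hc' a ha,
    hc' _ (hd.mul ha), hd' _ (hc.mul ha)]
  congr 1
  ring

theorem card_XZ [Finite E] : Nat.card (XZ (UU σ x)) = Nat.card {a : E // σ a = a} := by
  rw [XZ_eq h]
  refine Nat.card_congr (Equiv.ofBijective (fun a : {a : E // σ a = a} =>
    (⟨x 4 a.1, x_mem_gen (Set.mem_singleton _) (ok_of_fix 4 a.2)⟩ : gen σ x {4})) ⟨?_, ?_⟩).symm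
  · rintro ⟨a, ha⟩ ⟨b, hb⟩ e
    exact Subtype.ext ((h.x_inj (ok_of_fix 4 ha) (ok_of_fix 4 hb)).1 (congrArg Subtype.val e))
  · rintro ⟨y, hy⟩
    obtain ⟨t, ht, rfl⟩ := h.mem_gen_singleton.1 hy
    exact ⟨⟨t, ht (by decide)⟩, rfl⟩

end Cfsg.Agent.OddHalf.Quat.RowHex

private theorem dce_48e01d804ff0 : _root_.True := by
  try have : _root_.True := by simp only [_root_.Cfsg.Agent.StdRank2.Hex.HexTwo.AA.eq_1]
  exact _root_.True.intro
end
end
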